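import Groth.Agent.H46.DvrScheme
import Mathlib.AlgebraicGeometry.Morphisms.UniversallyOpen

/-!
# Universal openness: pointwise versus global; criteria through discrete valuation rings
-/

universe u

open CategoryTheory AlgebraicGeometry Limits Topology

namespace Groth.Agent.H46.UnivOpen

variable {X Y : Scheme.{u}}

theorem isUnivOpenAt_of_universallyOpen (f : X ⟶ Y) [UniversallyOpen f] (x : X) :
    EGA43.IsUnivOpenAt f x := fun _ g x' _ =>
  Groth.Agent.H46.OpenAt.isOpenAt_of_isOpenMap (pullback.snd f g).isOpenMap x'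

theorem universallyOpen_of_forall (f : X ⟶ Y) (h : ∀ x, EGA43.IsUnivOpenAt f x) :
    UniversallyOpen f := by
  refine ⟨fun P T fst g snd sq => ?_⟩
  show IsOpenMap snd.base
  intro U hU
  rw [isOpen_iff_mem_nhds]
  rintro _ ⟨p, hp, rfl⟩
  exact Groth.Agent.H46.OpenAt.isOpenAt_of_isPullback (h _) sq.flip p rfl U (hU.mem_nhds hp)

theorem universallyOpen_iff (f : X ⟶ Y) : UniversallyOpen f ↔ ∀ x, EGA43.IsUnivOpenAt f x :=
  ⟨fun _ x => isUnivOpenAt_of_universallyOpen f x, universallyOpen_of_forall f⟩

section dvr

variable (A : Type u) [CommRing A] [IsDomain A] [IsDiscreteValuationRing A]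

theorem eq_closed_or_generic (p : Spec (CommRingCat.of A)) :
    p = IsLocalRing.closedPoint A ∨ p = genericPoint (Spec (CommRingCat.of A)) := by
  let P : PrimeSpectrum A := p
  by_cases h : P.asIdeal = ⊥
  · right
    exact ((genericPoint_spec _).eq (isGenericPoint_iff_specializes.2 fun y =>
      ⟨fun _ => trivial, fun _ => (PrimeSpectrum.le_iff_specializes P y).1 (by
        show P.asIdeal ≤ _
        rw [h]; exact bot_le)⟩)).symm
  · left
    exact PrimeSpectrum.ext (x := P) (IsLocalRing.eq_maximalIdeal
      (Ideal.IsPrime.isMaximal P.2 h))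

theorem generic_ne_closed :
    genericPoint (Spec (CommRingCat.of A)) ≠ IsLocalRing.closedPoint A := by
  intro h
  apply IsDiscreteValuationRing.not_a_field A
  have h1 : (⟨⊥, Ideal.isPrime_bot⟩ : PrimeSpectrum A) = IsLocalRing.closedPoint A := by
    rw [← h]
    exact ((genericPoint_spec _).eq (isGenericPoint_iff_specializes.2 fun y =>
      ⟨fun _ => trivial, fun _ => Lib.Subtrusive.Valuation.genPt_specializes y⟩)).symm
  exact congrArg PrimeSpectrum.asIdeal h1.symm

variable {A}

theorem dense_image_iff {P : Scheme.{u}} (π : P ⟶ Spec (CommRingCat.of A)) (η : P) :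
    Dense (π.base '' closure {η}) ↔ π.base η = genericPoint (Spec (CommRingCat.of A)) := by
  constructor
  · intro hd
    refine (eq_closed_or_generic A _).resolve_left fun hc => ?_
    have hsub : π.base '' closure {η} ⊆ {IsLocalRing.closedPoint A} := by
      refine (image_closure_subset_closure_image π.continuous).trans ?_
      rw [Set.image_singleton, hc]
      exact (IsLocalRing.isClosed_singleton_closedPoint A).closure_eq.le
    have := hd.mono hsub (genericPoint (Spec (CommRingCat.of A)))
    exact generic_ne_closed A ((IsLocalRing.isClosed_singleton_closedPoint A).closure_eq.le this)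
  · intro h
    refine dense_iff_closure_eq.2 (Set.eq_univ_of_univ_subset ?_)
    rw [← genericPoint_closure (α := Spec (CommRingCat.of A))]
    exact closure_mono (Set.singleton_subset_iff.2 ⟨η, subset_closure rfl, h⟩)

end dvr

theorem components_dominate_of_lift [IsLocallyNoetherian Y] (f : X ⟶ Y) [LocallyOfFiniteType f]
    (A : Type u) [CommRing A] [IsDomain A] [IsDiscreteValuationRing A]
    (g : Spec (CommRingCat.of A) ⟶ Y)
    (h : ∀ x, f.base x = g.base (IsLocalRing.closedPoint A) → EGA43.IsUnivOpenAt f x) :
    ∀ Z ∈ irreducibleComponents (↥(pullback f g) : Type u), Dense ((pullback.snd f g).base '' Z) := by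
  intro Z hZ
  obtain ⟨η, hη⟩ := QuasiSober.sober hZ.1 (isClosed_of_mem_irreducibleComponents Z hZ)
  rw [← hη.def, dense_image_iff]
  refine (eq_closed_or_generic A _).resolve_left fun hc => ?_
  have hfx : f.base ((pullback.fst f g).base η) = g.base (IsLocalRing.closedPoint A) := by
    rw [← Scheme.Hom.comp_apply, pullback.condition, Scheme.Hom.comp_apply, hc]
  obtain ⟨z, hz, hzg⟩ :=
    (Groth.Agent.H46.DvrScheme.isUnivOpenAt_iff_dvr f _).1 (h _ hfx) A g hfx.symm η rfl hc
  have hZz : Z ⊆ closure {z} := by
    rw [← hη.def]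
    exact closure_minimal (Set.singleton_subset_iff.2 hz.mem_closure) isClosed_closure
  have hzZ : closure {z} = Z := (hZ.2 isIrreducible_singleton.closure hZz).antisymm hZz
  have hzeq : z = η := IsGenericPoint.eq (S := Z) hzZ hη
  rw [hzeq, hc] at hzg
  exact generic_ne_closed A hzg.symm

theorem isUnivOpenAt_of_components_dominate [IsLocallyNoetherian Y] (f : X ⟶ Y)
    [LocallyOfFiniteType f] (x : X)
    (h : ∀ (A : Type u) [CommRing A] [IsDomain A] [IsDiscreteValuationRing A]
      (g : Spec (CommRingCat.of A) ⟶ Y), g.base (IsLocalRing.closedPoint A) = f.base x →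
      ∀ Z ∈ irreducibleComponents (↥(pullback f g) : Type u),
        Dense ((pullback.snd f g).base '' Z)) : EGA43.IsUnivOpenAt f x := by
  refine (Groth.Agent.H46.DvrScheme.isUnivOpenAt_iff_dvr f x).2 ?_
  intro A _ _ _ g hg p _ _
  have hZ := irreducibleComponent_mem_irreducibleComponents p
  obtain ⟨η, hη⟩ := QuasiSober.sober hZ.1 (isClosed_of_mem_irreducibleComponents _ hZ)
  refine ⟨η, hη.specializes mem_irreducibleComponent, ?_⟩
  have := h A g hg _ hZ
  rwa [← hη.def, dense_image_iff] at this

end Groth.Agent.H46.UnivOpen
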