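import Groth.Prelude.Def_EGA43
import Mathlib.AlgebraicGeometry.PullbackCarrier
import Mathlib.Topology.LocallyFinite
import Mathlib.Topology.Maps.Basic

universe u

open CategoryTheory AlgebraicGeometry Topology Filter

namespace Groth.Agent.H46.OpenAt

section top

variable {α β γ : Type*} [TopologicalSpace α] [TopologicalSpace β] [TopologicalSpace γ]

theorem isOpenAt_restrictPreimage (ψ : α → β) (x : α) (h : EGA43.IsOpenAt ψ x) (Y' : Set β)
    (hx : ψ x ∈ Y') : EGA43.IsOpenAt (Y'.restrictPreimage ψ) ⟨x, hx⟩ := by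
  intro U hU
  rw [nhds_subtype_eq_comap, mem_comap] at hU
  obtain ⟨V, hV, hVU⟩ := hU
  rw [nhds_subtype_eq_comap, mem_comap]
  refine ⟨ψ '' V, h V hV, ?_⟩
  rintro ⟨y, hy⟩ ⟨a, ha, rfl⟩
  exact ⟨⟨a, hy⟩, hVU ha, rfl⟩

theorem isOpenAt_comp {φ : α → β} {ψ : β → γ} {x : α} (h1 : EGA43.IsOpenAt φ x)
    (h2 : EGA43.IsOpenAt ψ (φ x)) : EGA43.IsOpenAt (ψ ∘ φ) x := by
  intro U hU
  rw [Set.image_comp]
  exact h2 _ (h1 U hU)

theorem isOpenAt_of_comp {φ : α → β} {ψ : β → γ} (hφ : Continuous φ) {x : α}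
    (h : EGA43.IsOpenAt (ψ ∘ φ) x) : EGA43.IsOpenAt ψ (φ x) := by
  intro U hU
  refine mem_of_superset (h _ (hφ.continuousAt.preimage_mem_nhds hU)) ?_
  rintro _ ⟨a, ha, rfl⟩
  exact ⟨φ a, ha, rfl⟩

theorem isOpenAt_homeomorph (e : α ≃ₜ β) (x : α) : EGA43.IsOpenAt e x :=
  fun _ hU => e.isOpenMap.image_mem_nhds hU

theorem isOpenAt_of_isOpenMap {f : α → β} (h : IsOpenMap f) (x : α) : EGA43.IsOpenAt f x :=
  fun _ hU => h.image_mem_nhds hU

end top

section sch

open Limits

variable {X Y P T : Scheme.{u}}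

/-- universal openness at a point, for an arbitrary cartesian square -/
theorem isOpenAt_of_isPullback {f : X ⟶ Y} {x : X} (h : EGA43.IsUnivOpenAt f x)
    {fst : P ⟶ X} {snd : P ⟶ T} {g : T ⟶ Y} (sq : IsPullback fst snd f g) (p : P)
    (hp : fst.base p = x) : EGA43.IsOpenAt snd.base p := by
  have h1 : EGA43.IsOpenAt (pullback.snd f g).base (sq.isoPullback.hom.base p) := by
    refine h T g _ ?_
    rw [← Scheme.Hom.comp_apply, sq.isoPullback_hom_fst, hp]
  have e : ⇑snd.base = (pullback.snd f g).base ∘ sq.isoPullback.hom.base := by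
    funext a
    rw [Function.comp_apply, ← Scheme.Hom.comp_apply, sq.isoPullback_hom_snd]
  rw [e]
  exact isOpenAt_comp (isOpenAt_homeomorph (Scheme.homeoOfIso sq.isoPullback) p) h1

theorem isUnivOpenAt_baseChange {f : X ⟶ Y} {x : X} (h : EGA43.IsUnivOpenAt f x)
    {fst : P ⟶ X} {snd : P ⟶ T} {g : T ⟶ Y} (sq : IsPullback fst snd f g) (p : P)
    (hp : fst.base p = x) : EGA43.IsUnivOpenAt snd p := by
  intro T' g' p' hp'
  exact isOpenAt_of_isPullback h ((IsPullback.of_hasPullback snd g').paste_horiz sq) p'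
    (by rw [Scheme.Hom.comp_apply, hp', hp])

theorem isUnivOpenAt_comp {Z : Scheme.{u}} (f : X ⟶ Y) (g : Y ⟶ Z) (x : X)
    (hf : EGA43.IsUnivOpenAt f x) (hg : EGA43.IsUnivOpenAt g (f.base x)) :
    EGA43.IsUnivOpenAt (f ≫ g) x := by
  intro Z' g' p hp
  let φ : pullback (f ≫ g) g' ⟶ pullback g g' :=
    pullback.lift (pullback.fst _ _ ≫ f) (pullback.snd _ _)
      (by rw [Category.assoc]; exact pullback.condition)
  have sq : IsPullback (pullback.fst (f ≫ g) g') φ f (pullback.fst g g') := by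
    refine IsPullback.of_bot ?_ ?_ (IsPullback.of_hasPullback g g')
    · rw [pullback.lift_snd]; exact IsPullback.of_hasPullback (f ≫ g) g'
    · exact (pullback.lift_fst _ _ _).symm
  have h1 : EGA43.IsOpenAt φ.base p := isOpenAt_of_isPullback hf sq p hp
  have h2 : EGA43.IsOpenAt (pullback.snd g g').base (φ.base p) := by
    refine hg Z' g' _ ?_
    rw [← Scheme.Hom.comp_apply, pullback.lift_fst, Scheme.Hom.comp_apply, hp]
  have e : ⇑(pullback.snd (f ≫ g) g').base = (pullback.snd g g').base ∘ φ.base := by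
    rw [← pullback.lift_snd (pullback.fst (f ≫ g) g' ≫ f) (pullback.snd (f ≫ g) g')
      (by rw [Category.assoc]; exact pullback.condition)]
    rfl
  rw [e]
  exact isOpenAt_comp h1 h2

theorem isUnivOpenAt_of_comp {Z : Scheme.{u}} (f : X ⟶ Y) (g : Y ⟶ Z) (x : X)
    (h : EGA43.IsUnivOpenAt (f ≫ g) x) : EGA43.IsUnivOpenAt g (f.base x) := by
  intro Z' g' q hq
  let φ : pullback (f ≫ g) g' ⟶ pullback g g' :=
    pullback.lift (pullback.fst _ _ ≫ f) (pullback.snd _ _)
      (by rw [Category.assoc]; exact pullback.condition)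
  have sq : IsPullback (pullback.fst (f ≫ g) g') φ f (pullback.fst g g') := by
    refine IsPullback.of_bot ?_ ?_ (IsPullback.of_hasPullback g g')
    · rw [pullback.lift_snd]; exact IsPullback.of_hasPullback (f ≫ g) g'
    · exact (pullback.lift_fst _ _ _).symm
  obtain ⟨p, hp1, hp2⟩ := Scheme.Pullback.exists_preimage_pullback
    (f := f) (g := pullback.fst g g') x q hq.symm
  have hp1' : (pullback.fst (f ≫ g) g').base (sq.isoPullback.inv.base p) = x := by
    rw [← Scheme.Hom.comp_apply, sq.isoPullback_inv_fst]; exact hp1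
  have hp2' : φ.base (sq.isoPullback.inv.base p) = q := by
    rw [← Scheme.Hom.comp_apply, sq.isoPullback_inv_snd]; exact hp2
  have h1 : EGA43.IsOpenAt (pullback.snd (f ≫ g) g').base (sq.isoPullback.inv.base p) :=
    h Z' g' _ hp1'
  rw [← hp2']
  refine isOpenAt_of_comp φ.continuous ?_
  have e : (pullback.snd g g').base ∘ φ.base = ⇑(pullback.snd (f ≫ g) g').base := by
    rw [← pullback.lift_snd (pullback.fst (f ≫ g) g' ≫ f) (pullback.snd (f ≫ g) g')
      (by rw [Category.assoc]; exact pullback.condition)]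
    rfl
  exact e.symm ▸ h1

/-- If the base changes along a jointly surjective finite family of closed maps are open at the
points over `x`, so is `f`. -/
theorem isOpenAt_of_family {ι : Type*} [Finite ι] {P T : ι → Scheme.{u}} {fst : ∀ i, P i ⟶ X}
    {snd : ∀ i, P i ⟶ T i} {f : X ⟶ Y} {v : ∀ i, T i ⟶ Y}
    (sq : ∀ i, IsPullback (fst i) (snd i) f (v i)) (hv : ∀ i, IsClosedMap (v i).base)
    (hs : ∀ y : Y, ∃ i t, (v i).base t = y) (x : X)
    (h : ∀ i, ∀ p : P i, (fst i).base p = x → EGA43.IsOpenAt (snd i).base p) :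
    EGA43.IsOpenAt f.base x := by
  intro U hU
  have key : ∀ i, ∀ t : T i, (v i).base t = f.base x → (v i).base ⁻¹' (f.base '' U) ∈ nhds t := by
    intro i t ht
    obtain ⟨q, hq1, hq2⟩ := Scheme.Pullback.exists_preimage_pullback (f := f) (g := v i) x t ht.symm
    have hp1 : (fst i).base ((sq i).isoPullback.inv.base q) = x := by
      rw [← Scheme.Hom.comp_apply, (sq i).isoPullback_inv_fst]; exact hq1
    have hp2 : (snd i).base ((sq i).isoPullback.inv.base q) = t := by
      rw [← Scheme.Hom.comp_apply, (sq i).isoPullback_inv_snd]; exact hq2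
    have hU' : (fst i).base ⁻¹' U ∈ nhds ((sq i).isoPullback.inv.base q) :=
      (fst i).continuous.continuousAt.preimage_mem_nhds (hp1.symm ▸ hU)
    have := h i _ hp1 _ hU'
    rw [hp2] at this
    refine mem_of_superset this ?_
    rintro _ ⟨b, hb, rfl⟩
    refine ⟨(fst i).base b, hb, ?_⟩
    rw [← Scheme.Hom.comp_apply, ← Scheme.Hom.comp_apply, (sq i).w]
  have hc : IsClosed (⋃ i, (v i).base '' (interior ((v i).base ⁻¹' (f.base '' U)))ᶜ) :=
    isClosed_iUnion_of_finite fun i => hv i _ isOpen_interior.isClosed_compl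
  refine mem_of_superset (hc.isOpen_compl.mem_nhds ?_) ?_
  · intro hm
    obtain ⟨i, t, ht, hty⟩ := Set.mem_iUnion.1 hm
    exact ht (mem_interior_iff_mem_nhds.2 (key i t hty))
  · intro y hy
    obtain ⟨i, t, rfl⟩ := hs y
    by_contra hne
    exact hy (Set.mem_iUnion.2
      ⟨i, t, fun hW => hne (interior_subset (s := (v i).base ⁻¹' (f.base '' U)) hW), rfl⟩)

/-- If the base change along a closed surjection is open at the points over `x`, so is `f`. -/
theorem isOpenAt_of_isClosedMap_surjective {fst : P ⟶ X} {snd : P ⟶ T} {f : X ⟶ Y} {v : T ⟶ Y}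
    (sq : IsPullback fst snd f v) (hv : IsClosedMap v.base) (hs : Function.Surjective v.base) (x : X)
    (h : ∀ p : P, fst.base p = x → EGA43.IsOpenAt snd.base p) : EGA43.IsOpenAt f.base x :=
  isOpenAt_of_family (ι := Unit) (fun _ => sq) (fun _ => hv) (fun y => ⟨(), hs y⟩) x (fun _ => h)

end sch

end Groth.Agent.H46.OpenAt
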