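import Groth.Agent.S0554
import Groth.Agent.S0555
import Groth.Agent.Lib.Cyc.InducedDimFun
import Groth.Agent.Lib.Cyc.FieldDim

/-!
# The dimension inequality for morphisms locally of finite type

For a specialization `ξ ⤳ x` in `X`:
`dim O_{cl ξ, x} + trdeg_{κ(f x)} κ(x) ≤ dim O_{cl (f ξ), f x} + trdeg_{κ(f ξ)} κ(ξ)`
(the proof follows `Lib.Cyc.InducedDimFun.ringKrullDim_locQuot_eq`, with the inequality S0554).
-/

universe u

namespace Groth.Agent.H46.DimIneq

open AlgebraicGeometry CategoryTheory IsLocalRing Groth.Agent.Lib.Cyc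
open Groth.Agent.Lib.Cyc.InducedDimFun

variable {X Y : Scheme.{u}} (f : X ⟶ Y)

theorem exists_trdegAt_nat [LocallyOfFiniteType f] (x : X) :
    ∃ a : ℕ, Residue.trdegAt f x = (a : Cardinal) := by
  obtain ⟨z, hz⟩ := FieldDim.exists_fiberι_eq f x (f x) rfl
  have : LocallyOfFiniteType (X := f.fiber (f x)) (Y := Spec (CommRingCat.of (Y.residueField (f x))))
      (f.fiberToSpecResidueField (f x)) := MorphismProperty.pullback_snd _ _ ‹_›
  have h1 := FieldDim.trdegAt_fiber f _ z
  rw [hz] at h1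
  exact ⟨_, h1.symm.trans
    (FieldDim.trdegAt_eq_fdelta (K := Y.residueField (f x)) (f.fiberToSpecResidueField (f x)) z)⟩

theorem trdeg_ineq_and_eq [LocallyOfFiniteType f] [IsLocallyNoetherian Y] (x y : X) (h : x ⤳ y) :
    ∃ m n a b : ℕ, ringKrullDim (Cyc.LocQuot y x h) = (m : WithBot ℕ∞) ∧
      ringKrullDim (Cyc.LocQuot (f y) (f x) (h.map f.continuous)) = (n : WithBot ℕ∞) ∧
      Residue.trdegAt f y = (a : Cardinal) ∧ Residue.trdegAt f x = (b : Cardinal) ∧
      m + a ≤ n + b ∧
        (CAlg.IsUniversallyCatenary (Y.presheaf.stalk (f y)) → m + a = n + b) := by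
  classical
  let R := Cyc.LocQuot (f y) (f x) (h.map f.continuous)
  let T := Cyc.LocQuot y x h
  let := (locQuotMap f x y h).toAlgebra
  obtain ⟨_, ⟨V, hV, rfl⟩, hyV, -⟩ :=
    Y.isBasis_affineOpens.exists_subset_of_mem_open (Set.mem_univ (f y)) isOpen_univ
  obtain ⟨_, ⟨U, hU, rfl⟩, hyU, hUV⟩ :=
    X.isBasis_affineOpens.exists_subset_of_mem_open (show y ∈ (f ⁻¹ᵁ V : X.Opens) from hyV)
      (f ⁻¹ᵁ V).2
  have hft : (f.appLE V U hUV).hom.FiniteType :=
    HasRingHomProperty.appLE @LocallyOfFiniteType f ‹_› ⟨V, hV⟩ ⟨U, hU⟩ hUV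
  let := (f.appLE V U hUV).hom.toAlgebra
  obtain ⟨G, hG⟩ := (hft : Algebra.FiniteType Γ(Y, V) Γ(X, U)).out
  let g : Γ(X, U) →+* T :=
    (Ideal.Quotient.mk (RingHom.ker (Cyc.specMap y x h))).comp (X.presheaf.germ U y hyU).hom
  let S : Subalgebra R T := Algebra.adjoin R (g '' ↑G)
  have hSft : Algebra.FiniteType R S :=
    S.fg_iff_finiteType.mp (Subalgebra.fg_def.mpr ⟨g '' ↑G, G.finite_toSet.image g, rfl⟩)
  have hmem : ∀ b, g b ∈ S := by
    intro b
    have hb : b ∈ Algebra.adjoin Γ(Y, V) (G : Set Γ(X, U)) := by rw [hG]; trivial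
    induction hb using Algebra.adjoin_induction with
    | mem b hb => exact Algebra.subset_adjoin ⟨b, hb, rfl⟩
    | algebraMap a =>
      convert S.algebraMap_mem (Ideal.Quotient.mk _ (Y.presheaf.germ V (f y) hyV a)) using 1
      show Ideal.Quotient.mk _ (X.presheaf.germ U y hyU (f.appLE V U hUV a)) =
        locQuotMap f x y h (Ideal.Quotient.mk _ (Y.presheaf.germ V (f y) hyV a))
      rw [locQuotMap_mk]
      congr 1
      rw [Scheme.Hom.germ_stalkMap_apply, Scheme.Hom.appLE, CommRingCat.comp_apply,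
        TopCat.Presheaf.germ_res_apply]
    | add a b _ _ ha hb => rw [map_add]; exact S.add_mem ha hb
    | mul a b _ _ ha hb => rw [map_mul]; exact S.mul_mem ha hb
  let q : Ideal S := (maximalIdeal T).comap S.val.toRingHom
  have hq : q.IsPrime := Ideal.IsPrime.comap _
  -- elements of the local ring are fractions of `S`
  have hfrac : ∀ z : T, ∃ a b : S, b ∉ q ∧ z * b = a := by
    intro z
    obtain ⟨w, rfl⟩ := Ideal.Quotient.mk_surjective z
    let := (X.presheaf.germ U y hyU).hom.toAlgebra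
    have := hU.isLocalization_stalk ⟨y, hyU⟩
    obtain ⟨⟨a, b⟩, hab⟩ := IsLocalization.surj (hU.primeIdealOf ⟨y, hyU⟩).asIdeal.primeCompl w
    refine ⟨⟨g a, hmem a⟩, ⟨g b, hmem b⟩, fun hb => ?_,
      (map_mul _ _ _).symm.trans (congrArg _ hab)⟩
    exact hb ((IsLocalization.map_units (X.presheaf.stalk y) b).map
      (Ideal.Quotient.mk (RingHom.ker (Cyc.specMap y x h))))
  have : IsLocalization.AtPrime T q :=
    { map_units := fun b => notMem_maximalIdeal.mp b.2
      surj := fun z => by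
        obtain ⟨a, b, hb, hab⟩ := hfrac z
        exact ⟨⟨a, ⟨b, hb⟩⟩, hab⟩
      exists_of_eq := fun {a b} hab => ⟨1, by rw [Subtype.ext hab]⟩ }
  -- fields
  let φx : T →+* X.residueField x := algebraMap T (X.residueField x)
  let := (φx.comp (locQuotMap f x y h)).toAlgebra
  let := (f.residueFieldMap x).hom.toAlgebra
  have : IsScalarTower R (Y.residueField (f x)) (X.residueField x) := by
    refine IsScalarTower.of_algebraMap_eq fun r => ?_
    obtain ⟨a, rfl⟩ := Ideal.Quotient.mk_surjective r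
    exact specMap_stalkMap f x y h a
  have : IsScalarTower R T (X.residueField x) := IsScalarTower.of_algebraMap_eq fun _ => rfl
  have : FaithfulSMul R T := by
    refine (faithfulSMul_iff_algebraMap_injective R T).mpr fun a b hab => ?_
    refine (Ord.algebraMap_injective (f y) (f x) (h.map f.continuous)) ((f.residueFieldMap x).hom.injective ?_)
    obtain ⟨a, rfl⟩ := Ideal.Quotient.mk_surjective a
    obtain ⟨b, rfl⟩ := Ideal.Quotient.mk_surjective b
    have := congrArg φx hab
    exact (specMap_stalkMap f x y h a).symm.trans (this.trans (specMap_stalkMap f x y h b))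
  have : FaithfulSMul R S := by
    refine (faithfulSMul_iff_algebraMap_injective R S).mpr fun a b hab => ?_
    exact FaithfulSMul.algebraMap_injective R T (congrArg Subtype.val hab)
  have : FaithfulSMul S T :=
    (faithfulSMul_iff_algebraMap_injective S T).mpr Subtype.val_injective
  have : Algebra.IsAlgebraic S T := IsLocalization.isAlgebraic T q.primeCompl
  have : Algebra.IsAlgebraic T (X.residueField x) :=
    IsLocalization.isAlgebraic _ (nonZeroDivisors T)
  have : Algebra.IsAlgebraic R (Y.residueField (f x)) :=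
    IsLocalization.isAlgebraic _ (nonZeroDivisors R)
  have hS : Algebra.trdeg R S = Residue.trdegAt f x := by
    have h1 := trdeg_add_eq R S (A := T)
    have h2 := trdeg_add_eq R T (A := X.residueField x)
    have h3 := trdeg_add_eq R (Y.residueField (f x)) (A := X.residueField x)
    rw [trdeg_eq_zero (R := S), add_zero] at h1
    rw [trdeg_eq_zero (R := T), add_zero] at h2
    rw [trdeg_eq_zero (R := R), zero_add] at h3
    exact h1.trans (h2.trans h3.symm)
  -- residue fields of the closed point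
  let p : Ideal R := maximalIdeal R
  have hloc : ∀ r : R, algebraMap R T r ∈ maximalIdeal T ↔ r ∈ p := by
    intro r
    obtain ⟨a, rfl⟩ := Ideal.Quotient.mk_surjective r
    have h1 : ∀ (Z : Scheme.{u}) (z w : Z) (hw : w ⤳ z) (b : Z.presheaf.stalk z),
        Ideal.Quotient.mk (RingHom.ker (Cyc.specMap z w hw)) b ∈ maximalIdeal _ ↔
          b ∈ maximalIdeal _ := fun Z z w hw b => by
      rw [← Ideal.mem_comap, IsLocalRing.maximalIdeal_comap]
    show locQuotMap f x y h (Ideal.Quotient.mk _ a) ∈ maximalIdeal _ ↔ _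
    rw [locQuotMap_mk, h1, h1, mem_maximalIdeal, mem_maximalIdeal, mem_nonunits_iff,
      mem_nonunits_iff, isUnit_map_iff]
  have : q.LiesOver p := ⟨Ideal.ext fun r => (hloc r).symm⟩
  let ρy : T →+* X.residueField y := Ideal.Quotient.lift _ (X.residue y).hom fun a ha => by
    refine IsLocalRing.residue_eq_zero_iff _ |>.mpr ?_
    exact le_maximalIdeal (RingHom.ker_isPrime (Cyc.specMap y x h)).ne_top ha
  let ρt : R →+* Y.residueField (f y) := Ideal.Quotient.lift _ (Y.residue (f y)).hom fun a ha => by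
    refine IsLocalRing.residue_eq_zero_iff _ |>.mpr ?_
    exact le_maximalIdeal (RingHom.ker_isPrime (Cyc.specMap (f y) (f x) (h.map f.continuous))).ne_top ha
  let ψS : (S ⧸ q) →+* X.residueField y := Ideal.Quotient.lift q (ρy.comp S.val.toRingHom) (by
    rintro ⟨a, ha'⟩ ha
    obtain ⟨b, rfl⟩ := Ideal.Quotient.mk_surjective a
    refine IsLocalRing.residue_eq_zero_iff _ |>.mpr ?_
    rw [← IsLocalRing.maximalIdeal_comap (Ideal.Quotient.mk (RingHom.ker (Cyc.specMap y x h)))]
    exact ha)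
  let ψR : (R ⧸ p) →+* Y.residueField (f y) := Ideal.Quotient.lift p ρt (by
    intro a ha
    obtain ⟨b, rfl⟩ := Ideal.Quotient.mk_surjective a
    refine IsLocalRing.residue_eq_zero_iff _ |>.mpr ?_
    rw [← IsLocalRing.maximalIdeal_comap
      (Ideal.Quotient.mk (RingHom.ker (Cyc.specMap (f y) (f x) (h.map f.continuous))))]
    exact ha)
  let := RingHom.toAlgebra (R := S ⧸ q) (S := X.residueField y) ψS
  let := RingHom.toAlgebra (R := R ⧸ p) (S := Y.residueField (f y)) ψR
  let := (f.residueFieldMap y).hom.toAlgebra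
  let := ((f.residueFieldMap y).hom.comp ψR).toAlgebra
  have : IsScalarTower (R ⧸ p) (Y.residueField (f y)) (X.residueField y) :=
    IsScalarTower.of_algebraMap_eq (R := R ⧸ p) (S := Y.residueField (f y))
      (A := X.residueField y) fun _ => rfl
  have : IsScalarTower (R ⧸ p) (S ⧸ q) (X.residueField y) := by
    refine IsScalarTower.of_algebraMap_eq (R := R ⧸ p) (S := S ⧸ q)
      (A := X.residueField y) fun r => ?_
    obtain ⟨r, rfl⟩ := Ideal.Quotient.mk_surjective r
    obtain ⟨a, rfl⟩ := Ideal.Quotient.mk_surjective r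
    exact ConcreteCategory.congr_hom (Scheme.residue_residueFieldMap f y) a
  have : Algebra.IsAlgebraic (R ⧸ p) (Y.residueField (f y)) := by
    have : Module.Finite (R ⧸ p) (Y.residueField (f y)) := RingHom.Finite.of_surjective ψR fun a => by
      obtain ⟨b, rfl⟩ := Y.residue_surjective _ a
      exact ⟨Ideal.Quotient.mk p (Ideal.Quotient.mk _ b), rfl⟩
    exact Algebra.IsAlgebraic.of_finite _ _
  have hψS : Function.Injective ψS := by
    rw [injective_iff_map_eq_zero]
    intro a ha
    obtain ⟨⟨a, ha'⟩, rfl⟩ := Ideal.Quotient.mk_surjective a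
    obtain ⟨b, rfl⟩ := Ideal.Quotient.mk_surjective a
    refine Ideal.Quotient.eq_zero_iff_mem.mpr ?_
    show Ideal.Quotient.mk _ b ∈ maximalIdeal T
    rw [← Ideal.mem_comap, IsLocalRing.maximalIdeal_comap]
    exact IsLocalRing.residue_eq_zero_iff _ |>.mp ha
  have : FaithfulSMul (S ⧸ q) (X.residueField y) :=
    (faithfulSMul_iff_algebraMap_injective _ _).mpr hψS
  have : FaithfulSMul (R ⧸ p) (S ⧸ q) := by
    refine (faithfulSMul_iff_algebraMap_injective _ _).mpr ((injective_iff_map_eq_zero _).mpr ?_)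
    intro a ha
    obtain ⟨a, rfl⟩ := Ideal.Quotient.mk_surjective a
    exact Ideal.Quotient.eq_zero_iff_mem.mpr ((hloc a).mp
      (show algebraMap R S a ∈ q from Ideal.Quotient.eq_zero_iff_mem.mp ha))
  have : FaithfulSMul (R ⧸ p) (Y.residueField (f y)) :=
    (faithfulSMul_iff_algebraMap_injective _ _).mpr ((injective_iff_map_eq_zero ψR).mpr fun a ha => by
      obtain ⟨a, rfl⟩ := Ideal.Quotient.mk_surjective a
      obtain ⟨b, rfl⟩ := Ideal.Quotient.mk_surjective a
      refine Ideal.Quotient.eq_zero_iff_mem.mpr ?_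
      show Ideal.Quotient.mk _ b ∈ maximalIdeal R
      rw [← Ideal.mem_comap, IsLocalRing.maximalIdeal_comap]
      exact IsLocalRing.residue_eq_zero_iff _ |>.mp ha)
  have : Algebra.IsAlgebraic (S ⧸ q) (X.residueField y) := by
    refine ⟨fun z => ?_⟩
    obtain ⟨w, rfl⟩ := X.residue_surjective y z
    obtain ⟨a, b, hb, hab⟩ := hfrac (Ideal.Quotient.mk _ w)
    refine ⟨Polynomial.C (Ideal.Quotient.mk q b) * Polynomial.X -
      Polynomial.C (Ideal.Quotient.mk q a), ?_, ?_⟩
    · intro h0
      have h1 := congrArg (fun p => Polynomial.coeff p 1) h0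
      simp at h1
      exact hb (Ideal.Quotient.eq_zero_iff_mem.mp h1)
    · simp only [map_sub, map_mul, Polynomial.aeval_C, Polynomial.aeval_X]
      show ρy (b : T) * ρy (Ideal.Quotient.mk _ w) - ρy (a : T) = 0
      rw [← map_mul, mul_comm, hab, sub_self]
  have hSq : Algebra.trdeg (R ⧸ p) (S ⧸ q) = Residue.trdegAt f y := by
    have h1 := trdeg_add_eq (R ⧸ p) (S ⧸ q) (A := X.residueField y)
    have h2 := trdeg_add_eq (R ⧸ p) (Y.residueField (f y)) (A := X.residueField y)
    rw [trdeg_eq_zero (R := S ⧸ q), add_zero] at h1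
    rw [trdeg_eq_zero (R := R ⧸ p), zero_add] at h2
    exact h1.trans h2.symm
  obtain ⟨a, ha⟩ := exists_trdegAt_nat f y
  obtain ⟨b, hb⟩ := exists_trdegAt_nat f x
  have : IsNoetherianRing S := Algebra.FiniteType.isNoetherianRing R S
  have key := Groth.Agent.S0554.result R S p q
  rw [hS, hSq, ha, hb] at key
  obtain ⟨n, hn⟩ := ENat.ne_top_iff_exists.mp (Ideal.height_ne_top (I := p) (maximalIdeal.isMaximal R).ne_top)
  obtain ⟨m, hm⟩ := ENat.ne_top_iff_exists.mp (Ideal.height_ne_top (I := q) hq.ne_top)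
  refine ⟨m, n, a, b, ?_, ?_, ha, hb, ?_, fun hcat => ?_⟩
  · rw [IsLocalization.AtPrime.ringKrullDim_eq_height q T, ← hm]
    rfl
  · rw [← IsLocalRing.maximalIdeal_height_eq_ringKrullDim (R := R)]
    show ((p.height : ℕ∞) : WithBot ℕ∞) = _
    rw [← hn]
    rfl
  · rw [← hn, ← hm] at key
    simp only [Cardinal.ofENat_nat] at key
    exact_mod_cast key
  · have key2 := Groth.Agent.S0555.result R (isUniversallyCatenary_quotient hcat _) S p q
    rw [hS, hSq, ha, hb, ← hn, ← hm] at key2
    simp only [Cardinal.ofENat_nat] at key2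
    exact_mod_cast key2

/-- The dimension inequality. -/
theorem trdeg_ineq [LocallyOfFiniteType f] [IsLocallyNoetherian Y] (x y : X) (h : x ⤳ y) :
    ∃ m n a b : ℕ, ringKrullDim (Cyc.LocQuot y x h) = (m : WithBot ℕ∞) ∧
      ringKrullDim (Cyc.LocQuot (f y) (f x) (h.map f.continuous)) = (n : WithBot ℕ∞) ∧
      Residue.trdegAt f y = (a : Cardinal) ∧ Residue.trdegAt f x = (b : Cardinal) ∧
      m + a ≤ n + b := by
  obtain ⟨m, n, a, b, h1, h2, h3, h4, h5, -⟩ := trdeg_ineq_and_eq f x y h
  exact ⟨m, n, a, b, h1, h2, h3, h4, h5⟩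

/-- The dimension formula over a universally catenary local ring. -/
theorem trdeg_eq [LocallyOfFiniteType f] [IsLocallyNoetherian Y] (x y : X) (h : x ⤳ y)
    (hcat : CAlg.IsUniversallyCatenary (Y.presheaf.stalk (f y))) :
    ∃ m n a b : ℕ, ringKrullDim (Cyc.LocQuot y x h) = (m : WithBot ℕ∞) ∧
      ringKrullDim (Cyc.LocQuot (f y) (f x) (h.map f.continuous)) = (n : WithBot ℕ∞) ∧
      Residue.trdegAt f y = (a : Cardinal) ∧ Residue.trdegAt f x = (b : Cardinal) ∧
      m + a = n + b := by
  obtain ⟨m, n, a, b, h1, h2, h3, h4, -, h5⟩ := trdeg_ineq_and_eq f x y h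
  exact ⟨m, n, a, b, h1, h2, h3, h4, h5 hcat⟩

end Groth.Agent.H46.DimIneq
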