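import Groth.Agent.Lib.Cyc.LocalDim
import Groth.Agent.Lib.FibreDim.Global

/-!
# Fibre dimensions through transcendence degrees
-/

universe u

open CategoryTheory AlgebraicGeometry Topology TopologicalSpace IsLocalRing
open Groth.Agent.Lib.Cyc

namespace Groth.Agent.H46.FibreTrdeg

variable {X Y W : Scheme.{u}} (f : X ⟶ Y)

/-- `trdeg_{κ(f x)} κ(x)` as a natural number. -/
noncomputable def trd (x : X) : ℕ := (Residue.trdegAt f x).toNat

/-- `x` is a maximal point of the fibre through it. -/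
def IsMaxFib (x : X) : Prop := ∀ x' : X, f x' = f x → x' ⤳ x → x' = x

section lft

variable [LocallyOfFiniteType f]

instance locallyOfFiniteType_fiberTo' (y : Y) :
    LocallyOfFiniteType (X := f.fiber y) (Y := Spec (CommRingCat.of (Y.residueField y)))
      (f.fiberToSpecResidueField y) := MorphismProperty.pullback_snd _ _ ‹_›

theorem trdegAt_eq (x : X) : Residue.trdegAt f x = (trd f x : Cardinal) := by
  obtain ⟨z, hz⟩ := FieldDim.exists_fiberι_eq f x (f x) rfl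
  have h1 := FieldDim.trdegAt_fiber f _ z
  rw [hz, FieldDim.trdegAt_eq_fdelta (K := Y.residueField (f x)) (f.fiberToSpecResidueField (f x)) z]
    at h1
  rw [trd, ← h1, Cardinal.toNat_natCast]

theorem fdelta_fiber (y : Y) (z : f.fiber y) :
    FieldDim.fdelta (K := Y.residueField y) (f.fiberToSpecResidueField y) z =
      (trd f (f.fiberι y z) : ℤ) := by
  have h1 := FieldDim.trdegAt_eq_fdelta (K := Y.residueField y) (f.fiberToSpecResidueField y) z
  rw [FieldDim.trdegAt_fiber, trdegAt_eq f, Nat.cast_inj] at h1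
  have := FieldDim.fdelta_nonneg (K := Y.residueField y) (f.fiberToSpecResidueField y) z
  omega

theorem trd_lt {x x' : X} (h : x' ⤳ x) (he : f x' = f x) (hne : x' ≠ x) : trd f x < trd f x' := by
  obtain ⟨z, hz⟩ := FieldDim.exists_fiberι_eq f x (f x) rfl
  obtain ⟨z', hz'⟩ := FieldDim.exists_fiberι_eq f x' (f x) he
  have hs : z' ⤳ z := (FieldDim.fiber_specializes_iff f _ z' z).2 (by rw [hz, hz']; exact h)
  have := DimFun.lt_of_specializes
    (FieldDim.isDimFun_fdelta (K := Y.residueField (f x)) (f.fiberToSpecResidueField (f x))) hs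
    (fun e => hne (by rw [← hz, ← hz', e]))
  rw [fdelta_fiber, fdelta_fiber, hz, hz'] at this
  exact_mod_cast this

theorem trd_le {x x' : X} (h : x' ⤳ x) (he : f x' = f x) : trd f x ≤ trd f x' := by
  rcases eq_or_ne x' x with rfl | hne
  · exact le_rfl
  · exact (trd_lt f h he hne).le

theorem fibreDimAt_le_iff (x : X) (n : ℕ) :
    FlatMor.fibreDimAt f x ≤ (n : WithBot ℕ∞) ↔ ∀ ξ, f ξ = f x → ξ ⤳ x → trd f ξ ≤ n := by
  rw [LocalDim.fibreDimAt_le_iff]
  refine forall_congr' fun ξ => ?_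
  rw [trdegAt_eq f, Nat.cast_le]

theorem fibreDimAt_eq_iff (x : X) (n : ℕ) :
    FlatMor.fibreDimAt f x = (n : WithBot ℕ∞) ↔
      (∀ ξ, f ξ = f x → ξ ⤳ x → trd f ξ ≤ n) ∧ ∃ ξ, f ξ = f x ∧ ξ ⤳ x ∧ trd f ξ = n := by
  obtain ⟨e, he⟩ := Groth.Agent.Lib.FibreDim.Chart.exists_fibreDimAt_eq f x
  have h1 := fun m => fibreDimAt_le_iff f x m
  simp only [he, Nat.cast_le] at h1
  rw [he, Nat.cast_inj]
  constructor
  · rintro rfl
    refine ⟨(h1 e).1 le_rfl, ?_⟩
    by_contra hc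
    push Not at hc
    cases e with
    | zero => exact hc x rfl specializes_rfl (Nat.le_zero.1 ((h1 0).1 le_rfl x rfl specializes_rfl))
    | succ m =>
      have : m + 1 ≤ m := (h1 m).2 fun ξ hξ hs =>
        Nat.lt_succ_iff.1 (lt_of_le_of_ne ((h1 (m + 1)).1 le_rfl ξ hξ hs) (hc ξ hξ hs))
      omega
  · rintro ⟨hle, ξ, hξ, hs, rfl⟩
    exact le_antisymm ((h1 _).2 hle) ((h1 e).1 le_rfl ξ hξ hs)

theorem fibreDimAt_of_isMaxFib {x : X} (h : IsMaxFib f x) :
    FlatMor.fibreDimAt f x = (trd f x : WithBot ℕ∞) :=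
  (fibreDimAt_eq_iff f x _).2 ⟨fun ξ hξ hs => (h ξ hξ hs) ▸ le_rfl, x, rfl, specializes_rfl, rfl⟩

theorem trd_le_fibreDimAt (x : X) : (trd f x : WithBot ℕ∞) ≤ FlatMor.fibreDimAt f x := by
  obtain ⟨e, he⟩ := Groth.Agent.Lib.FibreDim.Chart.exists_fibreDimAt_eq f x
  rw [he, Nat.cast_le]
  exact ((fibreDimAt_eq_iff f x e).1 he).1 x rfl specializes_rfl

theorem exists_isMaxFib_specializes (x : X) :
    ∃ ξ, f ξ = f x ∧ ξ ⤳ x ∧ IsMaxFib f ξ := by
  obtain ⟨z, hz⟩ := FieldDim.exists_fiberι_eq f x (f x) rfl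
  obtain ⟨w, hw, hmax⟩ := DimFun.exists_isMaxPt_specializes z
  refine ⟨f.fiberι (f x) w, FieldDim.apply_fiberι f _ w, ?_,
    (FieldDim.isMaxFib_iff f (f x) w).2 hmax⟩
  exact ((FieldDim.fiber_specializes_iff f _ w z).1 hw).trans (specializes_of_eq hz)

/-- A maximal point of the fibre computing the local fibre dimension. -/
theorem exists_isMaxFib_trd_eq (x : X) :
    ∃ ξ, f ξ = f x ∧ ξ ⤳ x ∧ IsMaxFib f ξ ∧
      FlatMor.fibreDimAt f x = (trd f ξ : WithBot ℕ∞) := by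
  obtain ⟨e, he⟩ := Groth.Agent.Lib.FibreDim.Chart.exists_fibreDimAt_eq f x
  obtain ⟨hle, ξ, hξ, hs, hξe⟩ := (fibreDimAt_eq_iff f x e).1 he
  refine ⟨ξ, hξ, hs, fun x' hx' hs' => ?_, by rw [he, hξe]⟩
  by_contra hne
  have := trd_lt f hs' hx' hne
  have := hle x' (hx'.trans hξ) (hs'.trans hs)
  omega

theorem eq_of_trd_le {x x' : X} (h : x' ⤳ x) (he : f x' = f x) (hle : trd f x' ≤ trd f x) :
    x' = x := by
  by_contra hne
  have := trd_lt f h he hne
  omega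

theorem isMaxFib_of_fibreDimAt_le {x : X} (h : FlatMor.fibreDimAt f x ≤ (trd f x : WithBot ℕ∞)) :
    IsMaxFib f x := fun x' hx' hs =>
  eq_of_trd_le f hs hx' ((fibreDimAt_le_iff f x _).1 h x' hx' hs)

/-- Upper semicontinuity along generizations. -/
theorem fibreDimAt_le_of_specializes {x x' : X} (h : x' ⤳ x) :
    FlatMor.fibreDimAt f x' ≤ FlatMor.fibreDimAt f x :=
  (h.mem_open (Groth.Agent.Lib.FibreDim.Semicont.isOpen_setOf_fibreDimAt_le f _)
    (show FlatMor.fibreDimAt f x ≤ FlatMor.fibreDimAt f x from le_rfl) :)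

theorem trd_le_of_specializes {x x' : X} (h : x' ⤳ x) (hx : IsMaxFib f x) :
    trd f x' ≤ trd f x := by
  have := (trd_le_fibreDimAt f x').trans ((fibreDimAt_le_of_specializes f h).trans
    (fibreDimAt_of_isMaxFib f hx).le)
  exact_mod_cast this

end lft

theorem trd_comp (i : W ⟶ X) [IsPreimmersion i] (w : W) : trd (i ≫ f) w = trd f (i w) := by
  rw [trd, trd, Residue.trdegAt_comp,
    FieldDim.trdegAt_eq_zero_of_surjective i w (FieldDim.residueFieldMap_surjective _ _), add_zero]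

/-- The fibre of a preimmersion composed with `f`, as a subset of `X`. -/
noncomputable def fiberRangeHomeo (i : W ⟶ X) [IsPreimmersion i] (y : Y) :
    (i ≫ f).fiber y ≃ₜ ↥(Set.range i ∩ f ⁻¹' {y}) :=
  (((i ≫ f).fiberHomeo y).trans (i.isEmbedding.homeomorphImage _)).trans (Homeomorph.setCongr (by
    ext a
    constructor
    · rintro ⟨w, hw, rfl⟩; exact ⟨⟨w, rfl⟩, hw⟩
    · rintro ⟨⟨w, rfl⟩, hw⟩; exact ⟨w, hw, rfl⟩))

theorem fiberRangeHomeo_apply (i : W ⟶ X) [IsPreimmersion i] (y : Y) (z : (i ≫ f).fiber y) :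
    (fiberRangeHomeo f i y z).1 = i ((i ≫ f).fiberι y z) := rfl

theorem dim_range_inter_le_iff (i : W ⟶ X) [IsPreimmersion i] [LocallyOfFiniteType (i ≫ f)] (y : Y)
    (n : ℕ) :
    topologicalKrullDim ↥(Set.range i ∩ f ⁻¹' {y}) ≤ (n : WithBot ℕ∞) ↔
      ∀ ξ ∈ Set.range i, f ξ = y → trd f ξ ≤ n := by
  rw [← (fiberRangeHomeo f i y).isHomeomorph.topologicalKrullDim_eq _,
    LocalDim.topologicalKrullDim_le_iff (K := Y.residueField y) ((i ≫ f).fiberToSpecResidueField y)]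
  simp only [fdelta_fiber, Nat.cast_le, trd_comp]
  constructor
  · rintro h _ ⟨w, rfl⟩ hw
    obtain ⟨z, hz⟩ := FieldDim.exists_fiberι_eq (i ≫ f) w y hw
    exact hz ▸ h z
  · exact fun h z => h _ ⟨_, rfl⟩ (FieldDim.apply_fiberι (i ≫ f) y z)

theorem fiberRangeHomeo_asFiber (i : W ⟶ X) [IsPreimmersion i] (w : W) :
    fiberRangeHomeo f i (f (i w)) ((i ≫ f).asFiber w) = ⟨i w, ⟨w, rfl⟩, rfl⟩ :=
  Subtype.ext ((fiberRangeHomeo_apply f i _ _).trans (congrArg i ((i ≫ f).fiberι_asFiber w)))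

theorem localDim_range_inter (i : W ⟶ X) [IsPreimmersion i] (w : W) :
    FlatMor.localDim ↥(Set.range i ∩ f ⁻¹' {f (i w)}) ⟨i w, ⟨w, rfl⟩, rfl⟩ =
      FlatMor.fibreDimAt (i ≫ f) w := by
  rw [← fiberRangeHomeo_asFiber f i w]
  exact Groth.Agent.Lib.FibreDim.Basic.localDim_eq_of_homeomorph (fiberRangeHomeo f i _) _

theorem fibreDimAt_comp_le_iff (i : W ⟶ X) [IsPreimmersion i] [LocallyOfFiniteType (i ≫ f)] (w : W)
    (n : ℕ) :
    FlatMor.fibreDimAt (i ≫ f) w ≤ (n : WithBot ℕ∞) ↔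
      ∀ ξ ∈ Set.range i, f ξ = f (i w) → ξ ⤳ i w → trd f ξ ≤ n := by
  rw [fibreDimAt_le_iff]
  simp only [trd_comp, Scheme.Hom.comp_apply]
  constructor
  · rintro h _ ⟨v, rfl⟩ hv hs
    exact h v hv (i.isEmbedding.isInducing.specializes_iff.1 hs)
  · exact fun h v hv hs => h _ ⟨v, rfl⟩ hv (hs.map i.continuous)

theorem isMaxFib_comp_iff (i : W ⟶ X) [IsPreimmersion i] (w : W) :
    IsMaxFib (i ≫ f) w ↔ ∀ ξ ∈ Set.range i, f ξ = f (i w) → ξ ⤳ i w → ξ = i w := by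
  constructor
  · rintro h _ ⟨v, rfl⟩ hv hs
    rw [h v hv (i.isEmbedding.isInducing.specializes_iff.1 hs)]
  · exact fun h v hv hs => i.isEmbedding.injective (h _ ⟨v, rfl⟩ hv (hs.map i.continuous))

/-! ### Open and closed subsets -/

variable [LocallyOfFiniteType f]

theorem dim_open_inter_le_iff (U : X.Opens) (y : Y) (n : ℕ) :
    topologicalKrullDim ↥((U : Set X) ∩ f ⁻¹' {y}) ≤ (n : WithBot ℕ∞) ↔
      ∀ ξ ∈ U, f ξ = y → trd f ξ ≤ n := by
  have h := dim_range_inter_le_iff f U.ι y n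
  rw [Scheme.Opens.range_ι] at h
  exact h

theorem dim_fiber_le_iff (y : Y) (n : ℕ) :
    topologicalKrullDim ↥(f.fiber y) ≤ (n : WithBot ℕ∞) ↔ ∀ ξ, f ξ = y → trd f ξ ≤ n := by
  rw [LocalDim.topologicalKrullDim_le_iff (K := Y.residueField y) (f.fiberToSpecResidueField y)]
  simp only [fdelta_fiber, Nat.cast_le]
  constructor
  · intro h ξ hξ
    obtain ⟨z, hz⟩ := FieldDim.exists_fiberι_eq f ξ y hξ
    exact hz ▸ h z
  · exact fun h z => h _ (FieldDim.apply_fiberι f y z)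

theorem dim_closed_inter_le_iff {Z : Set X} (hZ : IsClosed Z) (y : Y) (n : ℕ) :
    topologicalKrullDim ↥(Z ∩ f ⁻¹' {y}) ≤ (n : WithBot ℕ∞) ↔
      ∀ ξ ∈ Z, f ξ = y → trd f ξ ≤ n := by
  have h := dim_range_inter_le_iff f
    (Scheme.IdealSheafData.vanishingIdeal ⟨Z, hZ⟩).subschemeι y n
  rw [Scheme.IdealSheafData.range_subschemeι, Scheme.IdealSheafData.coe_support_vanishingIdeal] at h
  exact h

omit [LocallyOfFiniteType f] in
theorem localDim_congr {A B : Set X} (e : A = B) (a : X) (ha : a ∈ A) (hb : a ∈ B) :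
    FlatMor.localDim ↥A ⟨a, ha⟩ = FlatMor.localDim ↥B ⟨a, hb⟩ := by subst e; rfl

theorem localDim_closed_inter_le_iff {Z : Set X} (hZ : IsClosed Z) {x : X} (hx : x ∈ Z) (n : ℕ) :
    FlatMor.localDim ↥(Z ∩ f ⁻¹' {f x}) ⟨x, hx, rfl⟩ ≤ (n : WithBot ℕ∞) ↔
      ∀ ξ ∈ Z, f ξ = f x → ξ ⤳ x → trd f ξ ≤ n := by
  let i := (Scheme.IdealSheafData.vanishingIdeal ⟨Z, hZ⟩).subschemeι
  have hr : Set.range i = Z := by
    rw [Scheme.IdealSheafData.range_subschemeι, Scheme.IdealSheafData.coe_support_vanishingIdeal]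
    rfl
  obtain ⟨w, rfl⟩ : x ∈ Set.range i := hr.symm ▸ hx
  have h := fibreDimAt_comp_le_iff f i w n
  rw [← localDim_range_inter] at h
  rw [localDim_congr (congrArg (· ∩ f ⁻¹' {f (i w)}) hr) _ _ ⟨hx, rfl⟩] at h
  simp only [hr] at h
  exact h

omit [LocallyOfFiniteType f] in
theorem eq_natCast_of_le_iff {a : WithBot ℕ∞} {n : ℕ} (hne : a ≠ ⊥)
    (h : ∀ m : ℕ, a ≤ (m : WithBot ℕ∞) ↔ n ≤ m) : a = (n : WithBot ℕ∞) := by
  cases a with
  | bot => exact absurd rfl hne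
  | coe c =>
    induction c using ENat.recTopCoe with
    | top =>
      have := (h n).2 le_rfl
      exact absurd (top_le_iff.1 (WithBot.coe_le_coe.1
        (this : ((⊤ : ℕ∞) : WithBot ℕ∞) ≤ ((n : ℕ∞) : WithBot ℕ∞)))) (ENat.natCast_ne_top n)
    | coe k =>
      have h1 : k ≤ n := by exact_mod_cast (h n).2 le_rfl
      have h2 : n ≤ k := (h k).1 le_rfl
      rw [le_antisymm h1 h2]
      rfl

omit [LocallyOfFiniteType f] in
theorem topologicalKrullDim_ne_bot {α : Type*} [TopologicalSpace α] [Nonempty α] :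
    topologicalKrullDim α ≠ ⊥ := by
  obtain ⟨a⟩ := ‹Nonempty α›
  have : Nonempty (IrreducibleCloseds α) :=
    ⟨⟨closure {a}, isIrreducible_singleton.closure, isClosed_closure⟩⟩
  exact Order.krullDim_ne_bot_iff.2 this

/-- Dimension of `closure {ξ} ∩ f⁻¹(f ξ)`. -/
theorem dim_closure_inter (ξ : X) :
    topologicalKrullDim ↥(closure ({ξ} : Set X) ∩ f ⁻¹' {f ξ}) = (trd f ξ : WithBot ℕ∞) := by
  have : Nonempty ↥(closure ({ξ} : Set X) ∩ f ⁻¹' {f ξ}) := ⟨⟨ξ, subset_closure rfl, rfl⟩⟩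
  refine eq_natCast_of_le_iff topologicalKrullDim_ne_bot fun m => ?_
  rw [dim_closed_inter_le_iff f isClosed_closure]
  exact ⟨fun h => h ξ (subset_closure rfl) rfl,
    fun h a ha hfa => (trd_le f (specializes_iff_mem_closure.2 ha) hfa.symm).trans h⟩

theorem trd_le_dim_fiber (ξ : X) (y : Y) (h : f ξ = y) :
    (trd f ξ : WithBot ℕ∞) ≤ topologicalKrullDim ↥(f.fiber y) :=
  (trd_le_fibreDimAt f ξ).trans
    (Groth.Agent.Lib.FibreDim.Basic.fibreDimAt_le_topologicalKrullDim f h)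

end Groth.Agent.H46.FibreTrdeg
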