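import Groth.Agent.H46.DimFormula
import Groth.Agent.H46.DimIneq
import Groth.Agent.H46.FibreTrdeg
import Mathlib.AlgebraicGeometry.Morphisms.FiniteType

/-!
# Openness at a maximal point of a fibre and fibre dimensions (noetherian base)

EGA IV 14.2: if `f` is open at a maximal point `ζ` of its fibre, every generization `y'` of `f ζ`
is the image of a generization `ξ` of `ζ` with `trdeg κ(ξ) = trdeg κ(ζ)`.
-/

universe u

open CategoryTheory AlgebraicGeometry Topology IsLocalRing
open Groth.Agent.Lib.Cyc Groth.Agent.H46.FibreTrdeg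

namespace Groth.Agent.H46.OpenDim

variable {X Y : Scheme.{u}}

theorem ker_specMap_eq (x : X) (P : PrimeSpectrum (X.presheaf.stalk x)) :
    RingHom.ker (Cyc.specMap x (X.fromSpecStalk x P)
      (DimFun.fromSpecStalk_specializes_self x P)) = P.asIdeal :=
  (congrArg PrimeSpectrum.asIdeal (DimFun.eq_genPrime x P)).symm

theorem ringKrullDim_quotient_succ_le {R : Type u} [CommRing R] [IsNoetherianRing R]
    {p p' : Ideal R} [p.IsPrime] [p'.IsPrime] (h : p < p') :
    ringKrullDim (R ⧸ p') + 1 ≤ ringKrullDim (R ⧸ p) := by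
  obtain ⟨a, ha', ha⟩ := SetLike.exists_of_lt h
  refine ringKrullDim_succ_le_of_surjective (Ideal.Quotient.factor h.le)
    (Ideal.Quotient.factor_surjective h.le) (r := Ideal.Quotient.mk p a)
    (mem_nonZeroDivisors_of_ne_zero fun e => ha (Ideal.Quotient.eq_zero_iff_mem.1 e)) ?_
  rw [Ideal.Quotient.factor_mk]
  exact Ideal.Quotient.eq_zero_iff_mem.2 ha'

theorem exists_minimalPrime_dim_eq {R : Type u} [CommRing R] [IsNoetherianRing R] [IsLocalRing R]
    (I : Ideal R) (hI : I ≤ maximalIdeal R) :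
    ∃ P ∈ I.minimalPrimes, ringKrullDim (R ⧸ I) ≤ ringKrullDim (R ⧸ P) := by
  haveI : Nontrivial (R ⧸ I) := Ideal.Quotient.nontrivial_iff.2
    fun e => (maximalIdeal.isMaximal R).ne_top (top_le_iff.1 (e ▸ hI))
  haveI : IsLocalRing (R ⧸ I) :=
    .of_surjective' (Ideal.Quotient.mk I) Ideal.Quotient.mk_surjective
  haveI : FiniteDimensionalOrder (PrimeSpectrum.zeroLocus (R := R) I) := by
    refine Order.finiteDimensionalOrder_iff_krullDim_ne_bot_and_top.2 ?_
    rw [← ringKrullDim_quotient]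
    exact ⟨ringKrullDim_ne_bot, ringKrullDim_ne_top⟩
  let l := LTSeries.longestOf (PrimeSpectrum.zeroLocus (R := R) I)
  obtain ⟨P, hP, hle⟩ := Ideal.exists_minimalPrimes_le (J := l.head.1.asIdeal) l.head.2
  refine ⟨P, hP, ?_⟩
  rw [ringKrullDim_quotient, ringKrullDim_quotient,
    Order.krullDim_eq_length_of_finiteDimensionalOrder]
  have hmem : ∀ i, P ≤ (l i).1.asIdeal := fun i => hle.trans (l.monotone (Fin.zero_le i))
  exact le_iSup (fun m : LTSeries (PrimeSpectrum.zeroLocus (R := R) P) =>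
    (m.length : WithBot ℕ∞)) ⟨l.length, fun i => ⟨(l i).1, hmem i⟩, fun i => l.step i⟩

/-- Openness at a maximal point of the fibre lifts generizations keeping the transcendence
degree. -/
theorem exists_trd_eq [IsLocallyNoetherian Y] (f : X ⟶ Y) [LocallyOfFiniteType f] (ζ : X)
    (hmax : IsMaxFib f ζ) (h : EGA43.IsOpenAt f.base ζ) (y' : Y) (hy : y' ⤳ f ζ) :
    ∃ ξ : X, ξ ⤳ ζ ∧ f ξ = y' ∧ trd f ξ = trd f ζ := by
  haveI := LocallyOfFiniteType.isLocallyNoetherian f
  set φ := (f.stalkMap ζ).hom with hφ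
  set q := RingHom.ker (Cyc.specMap (f ζ) y' hy) with hq
  haveI : q.IsPrime := RingHom.ker_isPrime _
  have hqle : q ≤ maximalIdeal _ := le_maximalIdeal (Ideal.IsPrime.ne_top')
  set I := q.map φ with hI
  have hIle : I ≤ maximalIdeal _ :=
    Ideal.map_le_iff_le_comap.2 (hqle.trans (IsLocalRing.maximalIdeal_comap φ).ge)
  have hsp : ∀ Q : Spec (X.presheaf.stalk ζ), f (X.fromSpecStalk ζ Q) =
      Y.fromSpecStalk (f ζ) (Spec.map (f.stalkMap ζ) Q) := fun Q => by
    rw [← Scheme.Hom.comp_apply, ← Scheme.SpecMap_stalkMap_fromSpecStalk, Scheme.Hom.comp_apply]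
  have hlift : ∀ p : PrimeSpectrum (Y.presheaf.stalk (f ζ)),
      ∃ Q : PrimeSpectrum (X.presheaf.stalk ζ), Q.asIdeal.comap φ = p.asIdeal := fun p => by
    have hp : Y.fromSpecStalk (f ζ) p ⤳ f ζ := DimFun.fromSpecStalk_specializes_self (f ζ) p
    obtain ⟨w, hw, hfw⟩ := DimFormula.exists_generization f ζ (Y.fromSpecStalk (f ζ) p)
      fun O hO => Lift.generizations_of_isOpenAt h O hO _ hp
    refine ⟨DimFun.genPrime ζ w hw, ?_⟩
    have : Spec.map (f.stalkMap ζ) (DimFun.genPrime ζ w hw) = p :=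
      DimFun.fromSpecStalk_injective (f ζ) (by
        rw [← hsp, DimFun.fromSpecStalk_genPrime]; exact hfw)
    exact congrArg PrimeSpectrum.asIdeal this
  -- `dim A/q ≤ dim B/I`
  haveI : Nontrivial (X.presheaf.stalk ζ ⧸ I) := Ideal.Quotient.nontrivial_iff.2
    fun e => (maximalIdeal.isMaximal _).ne_top (top_le_iff.1 (e ▸ hIle))
  haveI : IsLocalRing (X.presheaf.stalk ζ ⧸ I) :=
    .of_surjective' (Ideal.Quotient.mk I) Ideal.Quotient.mk_surjective
  haveI : IsLocalRing (Y.presheaf.stalk (f ζ) ⧸ q) :=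
    .of_surjective' (Ideal.Quotient.mk q) Ideal.Quotient.mk_surjective
  let ψ : Y.presheaf.stalk (f ζ) ⧸ q →+* X.presheaf.stalk ζ ⧸ I :=
    Ideal.quotientMap I φ Ideal.le_comap_map
  obtain ⟨n, hn⟩ : ∃ n : ℕ, ringKrullDim (X.presheaf.stalk ζ ⧸ I) = n := by
    rw [← IsLocalRing.maximalIdeal_height_eq_ringKrullDim (R := X.presheaf.stalk ζ ⧸ I)]
    obtain ⟨n, hn⟩ := ENat.ne_top_iff_exists.1 (Ideal.height_ne_top
      (maximalIdeal.isMaximal (X.presheaf.stalk ζ ⧸ I)).ne_top)
    exact ⟨n, by rw [← hn]; rfl⟩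
  have hdim : ringKrullDim (Y.presheaf.stalk (f ζ) ⧸ q) ≤ n := by
    refine DimFormula.ringKrullDim_le_of_surjective_comap n _ _ ψ (fun p => ?_) (fun Q hQ => ?_)
      hn.le
    · obtain ⟨Q, hQ⟩ := hlift ⟨p.asIdeal.comap (Ideal.Quotient.mk q), inferInstance⟩
      have hqQ : I ≤ Q.asIdeal := Ideal.map_le_iff_le_comap.2 (by
        rw [hQ]
        intro a ha
        show Ideal.Quotient.mk q a ∈ p.asIdeal
        rw [Ideal.Quotient.eq_zero_iff_mem.2 ha]
        exact zero_mem _)
      refine ⟨⟨Q.asIdeal.map (Ideal.Quotient.mk I),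
        Ideal.isPrime_map_quotientMk_of_isPrime hqQ⟩, ?_⟩
      refine Ideal.comap_injective_of_surjective _ Ideal.Quotient.mk_surjective ?_
      show ((Q.asIdeal.map (Ideal.Quotient.mk I)).comap ψ).comap (Ideal.Quotient.mk q) = _
      rw [Ideal.comap_comap, show ψ.comp (Ideal.Quotient.mk q) = (Ideal.Quotient.mk I).comp φ from
        rfl, ← Ideal.comap_comap, Ideal.comap_map_of_surjective _ Ideal.Quotient.mk_surjective,
        ← RingHom.ker_eq_comap_bot, Ideal.mk_ker, sup_eq_left.2 hqQ]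
      exact hQ
    · let Q' : Spec (X.presheaf.stalk ζ) := ⟨Q.asIdeal.comap (Ideal.Quotient.mk I), inferInstance⟩
      have hm : maximalIdeal _ ≤ (PrimeSpectrum.asIdeal Q').comap φ := fun a ha => by
        haveI : IsLocalHom (Ideal.Quotient.mk q) :=
          .of_surjective _ Ideal.Quotient.mk_surjective
        exact hQ (show Ideal.Quotient.mk q a ∈ maximalIdeal _ from
          fun hu => ha (hu.of_map (Ideal.Quotient.mk q) a))
      have hfQ : f (X.fromSpecStalk ζ Q') = f ζ := by
        rw [hsp, show Spec.map (f.stalkMap ζ) Q' = closedPoint _ from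
          PrimeSpectrum.ext (le_antisymm (le_maximalIdeal Ideal.IsPrime.ne_top') hm),
          Scheme.fromSpecStalk_closedPoint]
      have := hmax _ hfQ (DimFun.fromSpecStalk_specializes_self ζ Q')
      have hQ' : Q' = closedPoint _ := DimFun.fromSpecStalk_injective ζ
        (this.trans Scheme.fromSpecStalk_closedPoint.symm)
      haveI : IsLocalHom (Ideal.Quotient.mk I) := .of_surjective _ Ideal.Quotient.mk_surjective
      exact Ideal.comap_injective_of_surjective _ Ideal.Quotient.mk_surjective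
        ((congrArg PrimeSpectrum.asIdeal hQ').trans
          (IsLocalRing.maximalIdeal_comap (Ideal.Quotient.mk I)).symm)
  -- a component of maximal dimension
  obtain ⟨P, hP, hPdim⟩ := exists_minimalPrime_dim_eq I hIle
  haveI := hP.1.1
  let P' : PrimeSpectrum (X.presheaf.stalk ζ) := ⟨P, hP.1.1⟩
  set ξ := X.fromSpecStalk ζ P' with hξdef
  have hξ : ξ ⤳ ζ := DimFun.fromSpecStalk_specializes_self ζ P'
  obtain ⟨m, k, a, b, hm, hk, ha, hb, hineq⟩ := DimIneq.trdeg_ineq f ξ ζ hξ
  rw [trdegAt_eq f, Nat.cast_inj] at ha hb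
  subst ha hb
  have hmle : n ≤ m := by
    have h1 := hn.ge.trans hPdim
    have h2 : ringKrullDim (X.presheaf.stalk ζ ⧸ P) = (m : WithBot ℕ∞) := by
      rw [← hm]
      exact ringKrullDim_eq_of_ringEquiv (Ideal.quotEquivOfEq (ker_specMap_eq ζ P').symm)
    rw [h2] at h1
    exact_mod_cast h1
  have hab : trd f ξ ≤ trd f ζ := trd_le_of_specializes f hξ hmax
  have hy' : y' ⤳ f ξ := by
    have h1 : DimFun.genPrime (f ζ) y' hy ≤ (Spec.map (f.stalkMap ζ) P' :) :=
      (Ideal.map_le_iff_le_comap.1 hP.1.2 :)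
    have := (DimFun.fromSpecStalk_specializes_iff (f ζ) _ _).2 h1
    rw [DimFun.fromSpecStalk_genPrime, ← hsp] at this
    exact this
  by_cases hne : f ξ = y'
  · refine ⟨ξ, hξ, hne, le_antisymm hab ?_⟩
    have hkle : k ≤ n := by
      have h1 : ringKrullDim (Cyc.LocQuot (f ζ) (f ξ) (hξ.map f.continuous)) ≤ n := by
        refine le_of_eq_of_le ?_ hdim
        refine ringKrullDim_eq_of_ringEquiv (Ideal.quotEquivOfEq ?_)
        exact congrArg PrimeSpectrum.asIdeal (DimFun.fromSpecStalk_injective (f ζ)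
          (a₁ := DimFun.genPrime (f ζ) (f ξ) (hξ.map f.continuous))
          (a₂ := DimFun.genPrime (f ζ) y' hy)
          (by rw [DimFun.fromSpecStalk_genPrime, DimFun.fromSpecStalk_genPrime, hne]))
      rw [hk] at h1
      exact_mod_cast h1
    omega
  · exfalso
    have hlt : q < RingHom.ker (Cyc.specMap (f ζ) (f ξ) (hξ.map f.continuous)) := by
      have h1 : DimFun.genPrime (f ζ) y' hy < DimFun.genPrime (f ζ) (f ξ) (hξ.map f.continuous) :=
        lt_of_le_of_ne ((DimFun.genPrime_le_iff _ _ _ _ _).2 hy') fun e => hne (by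
          have := congrArg (Y.fromSpecStalk (f ζ)) e
          rw [DimFun.fromSpecStalk_genPrime, DimFun.fromSpecStalk_genPrime] at this
          exact this.symm)
      exact h1
    haveI : (RingHom.ker (Cyc.specMap (f ζ) (f ξ) (hξ.map f.continuous))).IsPrime :=
      RingHom.ker_isPrime _
    have h1 := (ringKrullDim_quotient_succ_le hlt).trans hdim
    rw [hk] at h1
    have : k + 1 ≤ n := by exact_mod_cast h1
    omega

end Groth.Agent.H46.OpenDim
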