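import Groth.Agent.H46.DimJac

/-!
# Dimensions of closed and open subsets of Jacobson universally catenary schemes with equidimensional
components
-/

universe u

open CategoryTheory AlgebraicGeometry IsLocalRing
open Groth.Agent.Lib.Cyc Groth.Agent.Lib.TopDim.Catenary

namespace Groth.Agent.H46.DimEquiJac

variable {X : Scheme.{u}} [IsLocallyNoetherian X] [JacobsonSpace X]

/-- The standing hypotheses. -/
structure Good (X : Scheme.{u}) : Prop where
  cat : ∀ x : X, CAlg.IsUniversallyCatenary (X.presheaf.stalk x)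
  equi : ∀ X' ∈ irreducibleComponents (X : Type u), ∀ x ∈ X', IsClosed ({x} : Set X) →
      topologicalKrullDim (↥X' : Type u) = topologicalKrullDim ↥{t : X | t ∈ X' ∧ t ⤳ x}

/-- The dimension of the closure of a point. -/
noncomputable def cdim (ξ : X) : ℕ := DimData.qd (DimJac.exists_closed_point ξ).choose_spec.1

theorem qd_eq_cdim (hX : Good X) {ξ s : X} (h : ξ ⤳ s) (hs : IsClosed ({s} : Set X)) :
    DimData.qd h = cdim ξ := by
  unfold cdim
  generalize hh : (DimJac.exists_closed_point ξ).choose_spec.1 = h₀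
  have hc := (DimJac.exists_closed_point ξ).choose_spec.2
  obtain ⟨θ, hθξ, hθ⟩ := DimFun.exists_isMaxPt_specializes ξ
  have a1 := DimJac.qd_add h hθξ (DimJac.isCatenary_of_univ (hX.cat _))
  have a2 := DimJac.qd_add h₀ hθξ (DimJac.isCatenary_of_univ (hX.cat _))
  have hmem := FieldDim.closure_mem_irreducibleComponents θ hθ
  have b1 := hX.equi _ hmem _ (hθξ.trans h).mem_closure hs
  have b2 := hX.equi _ hmem _ (hθξ.trans h₀).mem_closure hc
  rw [DimJac.dim_generizations (hθξ.trans h)] at b1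
  rw [b1, DimJac.dim_generizations (hθξ.trans h₀), Nat.cast_inj] at b2
  omega

theorem cdim_add (hX : Good X) {ξ θ : X} (h : θ ⤳ ξ) : cdim θ = DimData.qd h + cdim ξ := by
  obtain ⟨s, hs, hc⟩ := DimJac.exists_closed_point ξ
  rw [← qd_eq_cdim hX (h.trans hs) hc, ← qd_eq_cdim hX hs hc,
    DimJac.qd_add hs h (DimJac.isCatenary_of_univ (hX.cat _))]

theorem cdim_le (hX : Good X) {ξ θ : X} (h : θ ⤳ ξ) : cdim ξ ≤ cdim θ := by
  rw [cdim_add hX h]; omega

open TopologicalSpace in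
/-- Upper bound for the dimension of a closed set. -/
theorem dim_le_of_forall (hX : Good X) {T : Set X} (hT : IsClosed T) (N : ℕ)
    (h : ∀ w ∈ T, cdim w ≤ N) : topologicalKrullDim ↥T ≤ (N : WithBot ℕ∞) := by
  have : QuasiSober T := hT.isClosedEmbedding_subtypeVal.quasiSober
  refine iSup_le fun l => ?_
  let g : IrreducibleCloseds T → X := fun C => C.2.genericPoint.1
  have hg : ∀ C : IrreducibleCloseds T, IsGenericPoint C.2.genericPoint (C : Set T) := fun C => by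
    have := C.2.isGenericPoint_genericPoint_closure
    rwa [C.3.closure_eq] at this
  have hle : ∀ C C', C ≤ C' → g C' ⤳ g C := fun C C' hCC =>
    ((hg C').specializes (hCC (hg C).mem)).map continuous_subtype_val
  obtain ⟨z, hz, hzc⟩ := DimJac.exists_closed_point (g l.head)
  have hs : ∀ i, g (l i) ⤳ z := fun i => (hle _ _ (l.monotone (Fin.zero_le i))).trans hz
  let l' : LTSeries (PrimeSpectrum (X.presheaf.stalk z)) :=
    LTSeries.mk l.length (fun i => DimFun.genPrime z (g (l i.rev)) (hs _)) (by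
      intro i j hij
      refine lt_of_le_of_ne ((DimFun.genPrime_le_iff z _ _ _ _).2
        (hle _ _ (l.monotone (Fin.rev_le_rev.2 hij.le)))) fun he => ?_
      have e := congrArg (X.fromSpecStalk z) he
      rw [DimFun.fromSpecStalk_genPrime, DimFun.fromSpecStalk_genPrime] at e
      exact (l.strictMono (Fin.rev_lt_rev.2 hij)).ne (IrreducibleCloseds.ext
        ((hg _).def.symm.trans ((congrArg (fun a : T => closure {a}) (Subtype.ext e.symm)).trans (hg _).def))))
  have h1 := length_le_cd (s := l') (a := DimFun.genPrime z (g (l (Fin.rev 0))) (hs _))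
    (b := closedPoint _) rfl (le_maximalIdeal (Ideal.IsPrime.ne_top (PrimeSpectrum.isPrime _)))
  have h2 := DimJac.qd_eq_cd (hs (Fin.rev 0))
  rw [qd_eq_cdim hX _ hzc] at h2
  have h3 : ((l'.length : ℕ∞) : WithBot ℕ∞) ≤ (cdim (g (l (Fin.rev 0))) : WithBot ℕ∞) := by
    rw [h2]; exact WithBot.coe_le_coe.2 h1
  refine le_trans ?_ (Nat.cast_le.2 (h _ ((l (Fin.rev 0)).2.genericPoint).2))
  exact h3

theorem qd_le_dim {ξ s : X} (h : ξ ⤳ s) {T : Set X}
    (hT : ∀ t, ξ ⤳ t → t ⤳ s → t ∈ T) : (DimData.qd h : WithBot ℕ∞) ≤ topologicalKrullDim ↥T := by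
  rw [← DimJac.dim_generizations h]
  exact (Topology.IsEmbedding.inclusion
    (fun t ht => hT t (specializes_iff_mem_closure.2 ht.1) ht.2)).isInducing.topologicalKrullDim_le

theorem dim_closure (hX : Good X) (ξ : X) :
    topologicalKrullDim ↥(closure ({ξ} : Set X)) = (cdim ξ : WithBot ℕ∞) := by
  refine le_antisymm (dim_le_of_forall hX isClosed_closure _
    fun w hw => cdim_le hX (specializes_iff_mem_closure.2 hw)) ?_
  obtain ⟨s, hs, hc⟩ := DimJac.exists_closed_point ξ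
  rw [← qd_eq_cdim hX hs hc]
  exact qd_le_dim hs fun t ht _ => ht.mem_closure

/-- An open set sees the full dimension of the closure of each of its points. -/
theorem cdim_le_dim_open_inter (hX : Good X) {U T : Set X} (hU : IsOpen U) {ξ : X} (hξU : ξ ∈ U)
    (hT : closure ({ξ} : Set X) ⊆ T) :
    (cdim ξ : WithBot ℕ∞) ≤ topologicalKrullDim ↥(U ∩ T) := by
  obtain ⟨s, ⟨hsU, hsξ⟩, hc⟩ := nonempty_inter_closedPoints
    (Z := U ∩ closure ({ξ} : Set X)) ⟨ξ, hξU, subset_closure rfl⟩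
    (hU.isLocallyClosed.inter isClosed_closure.isLocallyClosed)
  have hs : ξ ⤳ s := specializes_iff_mem_closure.2 hsξ
  rw [← qd_eq_cdim hX hs hc]
  exact qd_le_dim hs fun t h1 h2 => ⟨h2.mem_open hU hsU, hT h1.mem_closure⟩

/-- Maximal points of a closed set. -/
def IsMaxIn (T : Set X) (θ : X) : Prop := θ ∈ T ∧ ∀ y ∈ T, y ⤳ θ → y = θ

omit [IsLocallyNoetherian X] [JacobsonSpace X] in
theorem exists_isMaxIn {T : Set X} (hT : IsClosed T) {w : X} (hw : w ∈ T) :
    ∃ θ, IsMaxIn T θ ∧ θ ⤳ w := by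
  haveI : QuasiSober T := hT.isClosedEmbedding_subtypeVal.quasiSober
  let C : Set T := irreducibleComponent ⟨w, hw⟩
  have hC := isIrreducible_irreducibleComponent (x := (⟨w, hw⟩ : T))
  have hCc : IsClosed C := isClosed_irreducibleComponent
  have hg : IsGenericPoint hC.genericPoint C := by
    have := hC.isGenericPoint_genericPoint_closure
    rwa [hCc.closure_eq] at this
  refine ⟨hC.genericPoint.1, ⟨hC.genericPoint.2, fun y hy hyθ => ?_⟩,
    (hg.specializes mem_irreducibleComponent).map continuous_subtype_val⟩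
  have h' : (⟨y, hy⟩ : T) ⤳ hC.genericPoint := (subtype_specializes_iff _ _).2 hyθ
  have he : closure {(⟨y, hy⟩ : T)} = C := by
    refine (irreducibleComponent_property (⟨w, hw⟩ : T)).2.2 _ isIrreducible_singleton.closure.isPreirreducible ?_
    exact fun a ha => ((h'.trans (hg.specializes ha))).mem_closure
  have hyC : (⟨y, hy⟩ : T) ∈ C := by rw [← he]; exact subset_closure rfl
  exact (((hg.specializes hyC).map continuous_subtype_val).antisymm hyθ).eq.symm

theorem finite_maxIn_through {T : Set X} (hT : IsClosed T) (x : X) :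
    {θ | IsMaxIn T θ ∧ θ ⤳ x}.Finite := by
  obtain ⟨U, hU, hxU, hfin⟩ := DimFun.exists_open_finite_maxPts hT x
  exact hfin.subset fun θ hθ => ⟨hθ.2.mem_open hU hxU, hθ.1⟩

theorem exists_nhd {T : Set X} (hT : IsClosed T) (x : X) :
    ∃ U : Set X, IsOpen U ∧ x ∈ U ∧ ∀ θ, IsMaxIn T θ → ∀ u ∈ U, θ ⤳ u → θ ⤳ x := by
  obtain ⟨V, hV, hxV, hfin⟩ := DimFun.exists_open_finite_maxPts hT x
  let B : Set X := ⋃ θ ∈ {θ | θ ∈ V ∧ IsMaxIn T θ ∧ ¬ θ ⤳ x}, closure {θ}
  have hB : IsClosed B := Set.Finite.isClosed_biUnion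
    (hfin.subset fun η hη => ⟨hη.1, hη.2.1⟩) fun η _ => isClosed_closure
  refine ⟨V ∩ Bᶜ, hV.inter hB.isOpen_compl, ⟨hxV, ?_⟩, fun θ hθ u hu hθu => ?_⟩
  · simp only [B, Set.mem_compl_iff, Set.mem_iUnion, not_exists]
    exact fun η hη hc => hη.2.2 (specializes_iff_mem_closure.mpr hc)
  · by_contra hc
    exact hu.2 (Set.mem_biUnion (⟨hθu.mem_open hV hu.1, hθ, hc⟩ :
      θ ∈ {θ | θ ∈ V ∧ IsMaxIn T θ ∧ ¬ θ ⤳ x}) hθu.mem_closure)

end Groth.Agent.H46.DimEquiJac

namespace Groth.Agent.H46.DimEquiJac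

variable {X : Scheme.{u}} [IsLocallyNoetherian X]

theorem exists_ideal {T : Set X} (hT : IsClosed T) (x : X) :
    ∃ I : Ideal (X.presheaf.stalk x),
      (∀ P : PrimeSpectrum (X.presheaf.stalk x), I ≤ P.asIdeal ↔ X.fromSpecStalk x P ∈ T) ∧
      topologicalKrullDim ↥{t : X | t ∈ T ∧ t ⤳ x} = ringKrullDim (X.presheaf.stalk x ⧸ I) := by
  let R := X.presheaf.stalk x
  let Z : Set (PrimeSpectrum R) := (X.fromSpecStalk x) ⁻¹' T
  have hZ : IsClosed Z := hT.preimage (X.fromSpecStalk x).continuous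
  let I := PrimeSpectrum.vanishingIdeal Z
  have hI : PrimeSpectrum.zeroLocus (I : Set R) = Z := by
    rw [PrimeSpectrum.zeroLocus_vanishingIdeal_eq_closure, hZ.closure_eq]
  have hmem : ∀ P : PrimeSpectrum R, I ≤ P.asIdeal ↔ X.fromSpecStalk x P ∈ T := fun P => by
    show P ∈ PrimeSpectrum.zeroLocus (I : Set R) ↔ _
    rw [hI]
    rfl
  refine ⟨I, hmem, ?_⟩
  let g : PrimeSpectrum (R ⧸ I) → X :=
    X.fromSpecStalk x ∘ PrimeSpectrum.comap (Ideal.Quotient.mk I)
  have hg : Topology.IsEmbedding g :=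
    (X.fromSpecStalk x).isEmbedding.comp
      (PrimeSpectrum.isClosedEmbedding_comap_of_surjective _ _ Ideal.Quotient.mk_surjective).isEmbedding
  have hr : Set.range g = {t : X | t ∈ T ∧ t ⤳ x} := by
    have hc := range_comap_of_surjective _ _ (Ideal.Quotient.mk_surjective (I := I))
    rw [Ideal.mk_ker] at hc
    refine (Set.range_comp _ _).trans ((congrArg (fun A => X.fromSpecStalk x '' A) hc).trans ?_)
    ext t
    constructor
    · rintro ⟨p, hp, rfl⟩
      exact ⟨(hmem p).1 hp, DimFun.fromSpecStalk_specializes_self x p⟩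
    · rintro ⟨h1, h2⟩
      refine ⟨DimFun.genPrime x t h2, (hmem _).2 ?_, DimFun.fromSpecStalk_genPrime _ _ _⟩
      rw [DimFun.fromSpecStalk_genPrime]; exact h1
  rw [← PrimeSpectrum.topologicalKrullDim_eq_ringKrullDim,
    IsHomeomorph.topologicalKrullDim_eq _ (hg.toHomeomorph.trans (Homeomorph.setCongr hr)).isHomeomorph]

theorem dim_gen_le {T : Set X} (hT : IsClosed T) (x : X) (K : ℕ)
    (h : ∀ (w : X) (hw : w ⤳ x), w ∈ T → DimData.qd hw ≤ K) :
    topologicalKrullDim ↥{t : X | t ∈ T ∧ t ⤳ x} ≤ (K : WithBot ℕ∞) := by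
  obtain ⟨I, hI, hdim⟩ := exists_ideal hT x
  rw [hdim]
  by_cases hne : I = ⊤
  · have : Subsingleton (X.presheaf.stalk x ⧸ I) := Ideal.Quotient.subsingleton_iff.2 hne
    rw [ringKrullDim_eq_bot_of_subsingleton]
    exact bot_le
  obtain ⟨P, hP, heq⟩ := OpenDim.exists_minimalPrime_dim_eq I
    (le_maximalIdeal hne)
  let P' : PrimeSpectrum (X.presheaf.stalk x) := ⟨P, hP.1.1⟩
  have h1 := h _ (DimFun.fromSpecStalk_specializes_self x P') ((hI P').1 hP.1.2)
  have e : ringKrullDim (X.presheaf.stalk x ⧸ P) =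
      ringKrullDim (Cyc.LocQuot x _ (DimFun.fromSpecStalk_specializes_self x P')) :=
    ringKrullDim_eq_of_ringEquiv (Ideal.quotEquivOfEq (OpenDim.ker_specMap_eq x P').symm)
  refine heq.trans ?_
  rw [e, DimData.ringKrullDim_locQuot (DimFun.fromSpecStalk_specializes_self x P'), Nat.cast_le]
  exact h1

variable [JacobsonSpace X]

/-- The local dimension of a closed subset at a point, computed by the components through it. -/
theorem localDim_data (hX : Good X) {Y : Set X} (hY : IsClosed Y) {x : X} (hx : x ∈ Y) :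
    ∃ θ₀, IsMaxIn Y θ₀ ∧ θ₀ ⤳ x ∧ (∀ θ, IsMaxIn Y θ → θ ⤳ x → cdim θ ≤ cdim θ₀) ∧
      FlatMor.localDim ↥Y ⟨x, hx⟩ = (cdim θ₀ : WithBot ℕ∞) ∧
      ∀ U : Set X, IsOpen U → x ∈ U → (∀ θ, IsMaxIn Y θ → ∀ u ∈ U, θ ⤳ u → θ ⤳ x) →
        topologicalKrullDim ↥(U ∩ Y) = (cdim θ₀ : WithBot ℕ∞) := by
  obtain ⟨θ₀, hθ₀, hmax⟩ := Set.Finite.exists_maximalFor cdim _ (finite_maxIn_through hY x)
    (by obtain ⟨θ, h1, h2⟩ := exists_isMaxIn hY hx; exact ⟨θ, h1, h2⟩)
  have hM : ∀ θ, IsMaxIn Y θ → θ ⤳ x → cdim θ ≤ cdim θ₀ := fun θ h1 h2 =>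
    (le_total (cdim θ) (cdim θ₀)).elim id (hmax ⟨h1, h2⟩)
  have hsub : closure ({θ₀} : Set X) ⊆ Y := closure_minimal (Set.singleton_subset_iff.2 hθ₀.1.1) hY
  have hle : ∀ U : Set X, IsOpen U → x ∈ U → (∀ θ, IsMaxIn Y θ → ∀ u ∈ U, θ ⤳ u → θ ⤳ x) →
      topologicalKrullDim ↥(U ∩ Y) = (cdim θ₀ : WithBot ℕ∞) := by
    intro U hU hxU hgood
    refine le_antisymm ?_ (cdim_le_dim_open_inter hX hU (hθ₀.2.mem_open hU hxU) hsub)
    let T : Set X := ⋃ θ ∈ {θ | IsMaxIn Y θ ∧ θ ⤳ x}, closure {θ}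
    have hTc : IsClosed T :=
      Set.Finite.isClosed_biUnion (finite_maxIn_through hY x) fun _ _ => isClosed_closure
    refine le_trans (Topology.IsEmbedding.inclusion (t := T) fun u hu => ?_).isInducing.topologicalKrullDim_le
      (dim_le_of_forall hX hTc _ fun w hw => ?_)
    · obtain ⟨θ, hθ, hθu⟩ := exists_isMaxIn hY hu.2
      exact Set.mem_biUnion (⟨hθ, hgood θ hθ u hu.1 hθu⟩ : θ ∈ {θ | IsMaxIn Y θ ∧ θ ⤳ x})
        hθu.mem_closure
    · simp only [T, Set.mem_iUnion] at hw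
      obtain ⟨θ, hθ, hw⟩ := hw
      exact (cdim_le hX (specializes_iff_mem_closure.2 hw)).trans (hM θ hθ.1 hθ.2)
  refine ⟨θ₀, hθ₀.1, hθ₀.2, hM, le_antisymm ?_ (le_iInf fun V => ?_), hle⟩
  · obtain ⟨U, hU, hxU, hgood⟩ := exists_nhd hY x
    refine iInf_le_of_le ⟨⟨Subtype.val ⁻¹' U, hU.preimage continuous_subtype_val⟩, hxU⟩ ?_
    rw [← hle U hU hxU hgood]
    let i : (Subtype.val ⁻¹' U : Set ↥Y) → ↥(U ∩ Y) := fun v => ⟨v.1.1, v.2, v.1.2⟩
    have hi : Topology.IsInducing i := by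
      refine (Topology.IsInducing.subtypeVal.of_comp_iff).1 ?_
      have e1 := (Topology.IsInducing.subtypeVal (t := Y)).comp
        (Topology.IsInducing.subtypeVal (t := (Subtype.val ⁻¹' U : Set ↥Y)))
      exact e1
    exact hi.topologicalKrullDim_le
  · obtain ⟨O, hO, hOV⟩ := isOpen_induced_iff.1 V.1.2
    have hxO : x ∈ O := by
      have : (⟨x, hx⟩ : ↥Y) ∈ Subtype.val ⁻¹' O := hOV ▸ V.2
      exact this
    refine (cdim_le_dim_open_inter hX hO (hθ₀.2.mem_open hO hxO) hsub).trans ?_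
    let i : ↥(O ∩ Y) → (V.1 : Set ↥Y) := fun v =>
      ⟨⟨v.1, v.2.2⟩, (Set.ext_iff.1 hOV ⟨v.1, v.2.2⟩).1 v.2.1⟩
    have hi : Topology.IsInducing i := by
      refine (Topology.IsInducing.subtypeVal.of_comp_iff).1
        ((Topology.IsInducing.subtypeVal.of_comp_iff).1 ?_)
      exact Topology.IsInducing.subtypeVal
    exact hi.topologicalKrullDim_le

theorem dim_gen_eq (hX : Good X) {Y : Set X} (hY : IsClosed Y) {x θ₀ : X} (hθ₀ : IsMaxIn Y θ₀)
    (hs : θ₀ ⤳ x) (hM : ∀ θ, IsMaxIn Y θ → θ ⤳ x → cdim θ ≤ cdim θ₀) :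
    topologicalKrullDim ↥{t : X | t ∈ Y ∧ t ⤳ x} = (DimData.qd hs : WithBot ℕ∞) := by
  refine le_antisymm (dim_gen_le hY x _ fun w hw hwY => ?_)
    (qd_le_dim hs fun t h1 h2 => ⟨h1.mem_closed hY hθ₀.1, h2⟩)
  obtain ⟨θ, hθ, hθw⟩ := exists_isMaxIn hY hwY
  have h1 := cdim_add hX hs
  have h2 := cdim_add hX hw
  have h3 := (cdim_le hX hθw).trans (hM θ hθ (hθw.trans hw))
  omega

end Groth.Agent.H46.DimEquiJac
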