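import Mathlib.AlgebraicGeometry.Morphisms.QuasiFinite
import Mathlib.AlgebraicGeometry.Morphisms.UniversallyOpen
import Mathlib.AlgebraicGeometry.Morphisms.Finite
import Mathlib.AlgebraicGeometry.Morphisms.Separated
import Mathlib.AlgebraicGeometry.Noetherian
import Mathlib.AlgebraicGeometry.Fiber
import Mathlib.AlgebraicGeometry.Properties

universe u

open CategoryTheory AlgebraicGeometry Limits Topology

namespace Groth.Agent.H46.QFin

variable {X S : Scheme.{u}}

/-- An algebraic point of a `K`-scheme is closed. -/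
theorem isClosed_range_of_isIntegral {K L : CommRingCat.{u}} [Subsingleton (Spec L)] (φ : K ⟶ L)
    (hφ : φ.hom.IsIntegral) {F : Scheme.{u}} (g : Spec L ⟶ F) (h : F ⟶ Spec K)
    (e : g ≫ h = Spec.map φ) : IsClosed (Set.range g.base) := by
  apply isClosed_of_closure_subset
  intro z hz
  obtain ⟨U, hU, hzU, -⟩ := AlgebraicGeometry.exists_isAffineOpen_mem_and_subset (x := z) (U := ⊤) trivial
  obtain ⟨_, hyU, a, rfl⟩ := mem_closure_iff.1 hz U U.2 hzU
  have hr : Set.range g.base ⊆ Set.range U.ι.base := by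
    rintro _ ⟨b, rfl⟩; rw [Subsingleton.elim b a, Scheme.Opens.range_ι]; exact hyU
  let g' := IsOpenImmersion.lift U.ι g hr
  have hg : g' ≫ U.ι = g := IsOpenImmersion.lift_fac U.ι g hr
  have : IsAffine (U : Scheme.{u}) := hU
  have e' : g' ≫ U.ι ≫ h = Spec.map φ := by rw [← Category.assoc, hg, e]
  have : IsIntegralHom (g' ≫ U.ι ≫ h) := e' ▸ IsIntegralHom.SpecMap_iff.2 hφ
  have hint : IsIntegralHom g' := IsIntegralHom.of_comp g' (U.ι ≫ h)
  have hcl : IsClosed (Set.range g'.base) := g'.isClosedMap.isClosed_range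
  have hpre : U.ι.base ⁻¹' Set.range g.base = Set.range g'.base := by
    ext b
    constructor
    · rintro ⟨c, hc⟩
      refine ⟨c, U.ι.isOpenEmbedding.injective ?_⟩
      rw [← Scheme.Hom.comp_apply, hg, hc]
    · rintro ⟨c, rfl⟩
      exact ⟨c, by rw [← Scheme.Hom.comp_apply, hg]⟩
  obtain ⟨w, rfl⟩ : z ∈ Set.range U.ι.base := by rw [Scheme.Opens.range_ι]; exact hzU
  have hw : w ∈ closure (U.ι.base ⁻¹' Set.range g.base) := by
    rw [← U.ι.isOpenEmbedding.isOpenMap.preimage_closure_eq_closure_preimage U.ι.continuous]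
    exact hz
  rw [hpre, hcl.closure_eq, ← hpre] at hw
  exact hw

theorem isClosed_asFiber_of_isIntegral (f : X ⟶ S) (x : X)
    (h : (f.residueFieldMap x).hom.IsIntegral) :
    IsClosed ({f.asFiber x} : Set ↑(f.fiber (f.base x))) := by
  rw [← f.range_asFiberHom x]
  exact isClosed_range_of_isIntegral _ h _ _ (f.asFiberHom_fiberToSpecResidueField x)

instance locallyOfFiniteType_fiberTo (f : X ⟶ S) [LocallyOfFiniteType f] (s : S) :
    LocallyOfFiniteType (f.fiberToSpecResidueField s) :=
  MorphismProperty.pullback_snd _ _ inferInstance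

theorem isLocallyNoetherian_fiber (f : X ⟶ S) [LocallyOfFiniteType f] (s : S) :
    IsLocallyNoetherian (f.fiber s) :=
  LocallyOfFiniteType.isLocallyNoetherian (f.fiberToSpecResidueField s)

theorem isClosedImmersion_asFiberHom (f : X ⟶ S) (x : X)
    (h : IsClosed ({f.asFiber x} : Set ↑(f.fiber (f.base x)))) :
    IsClosedImmersion (f.asFiberHom x) :=
  .of_isPreimmersion _ (by rw [f.range_asFiberHom x]; exact h)

theorem finite_residueFieldMap (f : X ⟶ S) [LocallyOfFiniteType f] (x : X)
    (h : IsClosed ({f.asFiber x} : Set ↑(f.fiber (f.base x)))) :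
    (f.residueFieldMap x).hom.Finite := by
  have := isClosedImmersion_asFiberHom f x h
  have : LocallyOfFiniteType (Spec.map (f.residueFieldMap x)) := by
    rw [← f.asFiberHom_fiberToSpecResidueField x]; infer_instance
  exact (IsFinite.SpecMap_iff _).1 (isFinite_iff_locallyOfFiniteType_of_jacobsonSpace.2 this)

theorem isOpen_singleton_of_no_generization {F : Scheme.{u}} [IsLocallyNoetherian F] (x : F)
    (hc : IsClosed ({x} : Set F)) (hg : ∀ x' : F, x' ⤳ x → x' = x) : IsOpen ({x} : Set F) := by
  obtain ⟨U, hU, hxU, -⟩ := AlgebraicGeometry.exists_isAffineOpen_mem_and_subset (x := x) (U := ⊤) trivial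
  have := IsLocallyNoetherian.component_noetherian ⟨U, hU⟩
  have : TopologicalSpace.NoetherianSpace U := noetherianSpace_of_isAffineOpen U hU
  have hqs : QuasiSober (U : Type u) := U.2.isOpenEmbedding_subtypeVal.quasiSober
  let w : (U : Type u) := ⟨x, hxU⟩
  have hgw : ∀ w' : (U : Type u), w' ⤳ w → w' = w := fun w' h' =>
    Subtype.ext (hg _ (h'.map continuous_subtype_val))
  have hfin := TopologicalSpace.NoetherianSpace.finite_irreducibleComponents (α := (U : Type u))
  have hcl : IsClosed ({w}ᶜ : Set U) := by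
    have e : ({w}ᶜ : Set U) = ⋃₀ {Z ∈ irreducibleComponents (U : Type u) | w ∉ Z} := by
      ext v
      constructor
      · intro hv
        obtain ⟨Z, hZ, hvZ⟩ : ∃ Z ∈ irreducibleComponents (U : Type u), v ∈ Z :=
          ⟨_, irreducibleComponent_mem_irreducibleComponents v, mem_irreducibleComponent⟩
        refine ⟨Z, ⟨hZ, fun hwZ => hv ?_⟩, hvZ⟩
        obtain ⟨η, hη⟩ := QuasiSober.sober hZ.1 (isClosed_of_mem_irreducibleComponents Z hZ)
        have hw' : η = w := hgw η (hη.specializes hwZ)
        have hwc : IsClosed ({w} : Set U) := by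
          have := hc.preimage (continuous_subtype_val (p := fun a => a ∈ U))
          have e : ({w} : Set U) = Subtype.val ⁻¹' {x} := by
            ext a; exact ⟨fun h => congrArg Subtype.val h, fun h => Subtype.ext h⟩
          rw [e]; exact this
        have hZw : Z = {w} := by rw [← hη.def, hw', hwc.closure_eq]
        rw [hZw] at hvZ; exact hvZ
      · rintro ⟨Z, ⟨-, hwZ⟩, hvZ⟩ hv
        exact hwZ (hv ▸ hvZ)
    rw [e]
    rw [Set.sUnion_eq_biUnion]
    exact (hfin.subset fun Z hZ => hZ.1).isClosed_biUnion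
      (fun Z hZ => isClosed_of_mem_irreducibleComponents Z hZ.1)
  have := U.2.isOpenEmbedding_subtypeVal.isOpenMap _ hcl.isOpen_compl
  rw [compl_compl] at this
  convert this using 1
  exact (Set.image_singleton (f := Subtype.val) (a := w)).symm

theorem quasiFiniteAt_iff (f : X ⟶ S) [LocallyOfFiniteType f] (x : X) :
    f.QuasiFiniteAt x ↔
      (IsClosed ({f.asFiber x} : Set ↑(f.fiber (f.base x))) ∧
        ∀ x' : ↑(f.fiber (f.base x)), x' ⤳ f.asFiber x → x' = f.asFiber x) := by
  constructor
  · intro h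
    exact ⟨h.isClopen_singleton_asFiber.1,
      fun x' hx' => hx'.mem_open h.isClopen_singleton_asFiber.2 rfl⟩
  · rintro ⟨h1, h2⟩
    have := isLocallyNoetherian_fiber f (f.base x)
    exact Scheme.Hom.quasiFiniteAt_iff_isOpen_singleton_asFiber.2
      (isOpen_singleton_of_no_generization _ h1 h2)

section BaseChange

variable {X' S' : Scheme.{u}} {f : X ⟶ S} {g : S' ⟶ S} {g' : X' ⟶ X} {f' : X' ⟶ S'}

theorem asFiber_mem {s : S} (z : f.fiber s) : f.base ((f.fiberι s).base z) = s := by
  have : (f.fiberι s).base z ∈ f.base ⁻¹' {s} := f.range_fiberι s ▸ ⟨z, rfl⟩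
  exact this

theorem eq_asFiber (x : X) (z : f.fiber (f.base x)) (h : (f.fiberι _).base z = x) :
    z = f.asFiber x :=
  (f.fiberι _).isEmbedding.injective (by rw [h, f.fiberι_asFiber])

/-- Over a closed point of a fibre, all points of the base changed fibre are closed and isolated
in the preimage. -/
theorem isClosed_preimage_discrete {T : Scheme.{u}} {F : Scheme.{u}} (f : X ⟶ S)
    [LocallyOfFiniteType f] (x : X) (hx : IsClosed ({f.asFiber x} : Set ↑(f.fiber (f.base x))))
    {π : F ⟶ f.fiber (f.base x)} {h : F ⟶ T} {q : T ⟶ Spec (S.residueField (f.base x))}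
    [Subsingleton T] (sq : IsPullback π h (f.fiberToSpecResidueField (f.base x)) q) :
    IsClosed (π.base ⁻¹' {f.asFiber x}) ∧
      ∀ p ∈ π.base ⁻¹' {f.asFiber x}, IsClosed ({p} : Set F) ∧
        ∃ O : Set F, IsOpen O ∧ O ∩ π.base ⁻¹' {f.asFiber x} = {p} := by
  have := isClosedImmersion_asFiberHom f x hx
  let i := pullback.snd (f.asFiberHom x) π
  have hfinite : IsFinite (i ≫ h) := by
    have sq' := (IsPullback.of_hasPullback (f.asFiberHom x) π).paste_vert sq
    have : IsFinite (f.asFiberHom x ≫ f.fiberToSpecResidueField (f.base x)) := by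
      rw [f.asFiberHom_fiberToSpecResidueField x]
      exact (IsFinite.SpecMap_iff _).2 (finite_residueFieldMap f x hx)
    exact MorphismProperty.of_isPullback sq' this
  have : DiscreteTopology ↥(pullback (f.asFiberHom x) π) := by
    rw [← isDiscrete_univ_iff]
    have huniv : (Set.univ : Set ↥(pullback (f.asFiberHom x) π)) = (i ≫ h).base ⁻¹' Set.univ :=
      rfl
    rw [huniv]
    exact (i ≫ h).isDiscrete_preimage (Set.subsingleton_univ.isDiscrete)
  have hrange : Set.range i.base = π.base ⁻¹' {f.asFiber x} := by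
    rw [Scheme.Pullback.range_snd, f.range_asFiberHom x]
  refine ⟨hrange ▸ i.isClosedEmbedding.isClosed_range, fun p hp => ?_⟩
  obtain ⟨a, rfl⟩ := hrange.symm ▸ hp
  refine ⟨by simpa using i.isClosedEmbedding.isClosedMap _ (isClosed_discrete {a}), ?_⟩
  obtain ⟨O, hO, hOa⟩ := i.isClosedEmbedding.isInducing.isOpen_iff.1 (isOpen_discrete {a})
  refine ⟨O, hO, ?_⟩
  rw [← hrange, ← Set.image_preimage_eq_inter_range, hOa, Set.image_singleton]

theorem baseChange_fibre (f : X ⟶ S) [LocallyOfFiniteType f] (g : S' ⟶ S) (g' : X' ⟶ X)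
    (f' : X' ⟶ S') (hsq : IsPullback g' f' f g) (x' : X') :
    ∃ π : f'.fiber (f'.base x') ⟶ f.fiber (f.base (g'.base x')),
      π.base (f'.asFiber x') = f.asFiber (g'.base x') ∧ Function.Surjective π.base ∧
      IsOpenMap π.base ∧
      (IsClosed ({f.asFiber (g'.base x')} : Set ↑(f.fiber (f.base (g'.base x')))) →
        IsClosed ({f'.asFiber x'} : Set ↑(f'.fiber (f'.base x'))) ∧
        ∃ O : Set ↑(f'.fiber (f'.base x')), IsOpen O ∧
          O ∩ π.base ⁻¹' {f.asFiber (g'.base x')} = {f'.asFiber x'}) := by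
  have h0 := isPullback_fiberToSpecResidueField_of_isPullback hsq (f'.base x')
  have es : g.base (f'.base x') = f.base (g'.base x') := by
    rw [← Scheme.Hom.comp_apply, ← Scheme.Hom.comp_apply, hsq.w]
  have key : ∀ (s : S) (hs : s = f.base (g'.base x'))
      (q : Spec (S'.residueField (f'.base x')) ⟶ Spec (S.residueField s))
      (π : f'.fiber (f'.base x') ⟶ f.fiber s),
      IsPullback π (f'.fiberToSpecResidueField (f'.base x')) (f.fiberToSpecResidueField s) q →
      π ≫ f.fiberι s = f'.fiberι _ ≫ g' →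
      ∃ π : f'.fiber (f'.base x') ⟶ f.fiber (f.base (g'.base x')),
      π.base (f'.asFiber x') = f.asFiber (g'.base x') ∧ Function.Surjective π.base ∧
      IsOpenMap π.base ∧
      (IsClosed ({f.asFiber (g'.base x')} : Set ↑(f.fiber (f.base (g'.base x')))) →
        IsClosed ({f'.asFiber x'} : Set ↑(f'.fiber (f'.base x'))) ∧
        ∃ O : Set ↑(f'.fiber (f'.base x')), IsOpen O ∧
          O ∩ π.base ⁻¹' {f.asFiber (g'.base x')} = {f'.asFiber x'}) := by
    rintro s rfl q π sq hπ
    have hpt : π.base (f'.asFiber x') = f.asFiber (g'.base x') := by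
      refine eq_asFiber _ _ ?_
      rw [← Scheme.Hom.comp_apply, hπ, Scheme.Hom.comp_apply, f'.fiberι_asFiber]
    have : Surjective q := ⟨fun a => ⟨IsLocalRing.closedPoint _, Subsingleton.elim _ _⟩⟩
    have hs : Surjective π := MorphismProperty.of_isPullback sq.flip this
    have hopen : UniversallyOpen π := MorphismProperty.of_isPullback sq.flip inferInstance
    refine ⟨π, hpt, hs.surj, π.isOpenMap, fun hc => ?_⟩
    exact (isClosed_preimage_discrete f (g'.base x') hc sq).2 _ hpt
  exact key _ es _ _ h0 (pullback.lift_fst _ _ _)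

end BaseChange

end Groth.Agent.H46.QFin
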