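import Groth.Prelude.Def_EGA43
import Groth.Agent.H46.OpenAt
import Groth.Agent.H46.QFin
import Groth.Agent.Lib.Subtrusive.Valuation
import Mathlib.AlgebraicGeometry.Morphisms.FinitePresentation
import Mathlib.RingTheory.Spectrum.Prime.ConstructibleSet
import Mathlib.RingTheory.Adjoin.FGBaseChange

/-!
# Openness at a point and lifting of generizations
-/

universe u

open CategoryTheory AlgebraicGeometry Limits Topology

namespace Groth.Agent.H46.Lift

variable {X Y : Scheme.{u}}

/-- If every neighbourhood of `x` meets the fibre over the generization `y'` of `f x`, then some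
generization of `x` lies over `y'`. -/
theorem exists_generization (f : X ⟶ Y) [LocallyOfFiniteType f] (x : X) (y' : Y)
    (hy : y' ⤳ f.base x) (h : ∀ O : X.Opens, x ∈ O → y' ∈ f.base '' (O : Set X)) :
    ∃ x' : X, x' ⤳ x ∧ f.base x' = y' := by
  obtain ⟨V, hV, hxV, -⟩ :=
    AlgebraicGeometry.exists_isAffineOpen_mem_and_subset (x := f.base x) (U := ⊤) trivial
  obtain ⟨U, hU, hxU, hUV⟩ :=
    AlgebraicGeometry.exists_isAffineOpen_mem_and_subset (x := x) (U := f ⁻¹ᵁ V) hxV
  have : IsAffine (U : Scheme.{u}) := hU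
  have : IsAffine (V : Scheme.{u}) := hV
  let g := f.resLE V U hUV
  have hgι : g ≫ V.ι = U.ι ≫ f := f.resLE_comp_ι hUV
  have : LocallyOfFiniteType g := by
    have : LocallyOfFiniteType (g ≫ V.ι) := by rw [hgι]; infer_instance
    exact locallyOfFiniteType_of_comp g V.ι
  let v' : (V : Scheme.{u}) := ⟨y', hy.mem_open V.2 hxV⟩
  let F := g.fiber v'
  have := Groth.Agent.H46.QFin.isLocallyNoetherian_fiber g v'
  have : IsNoetherian F := {}
  have hfin : (irreducibleComponents (F : Type u)).Finite :=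
    TopologicalSpace.NoetherianSpace.finite_irreducibleComponents
  let T : Set X := (g.fiberι v' ≫ U.ι).base ''
    {η : F | closure {η} ∈ irreducibleComponents (F : Type u)}
  have hT : T.Finite := by
    refine Set.Finite.image _ (Set.Finite.of_finite_image
      (hfin.subset ?_) (f := fun η : F => closure ({η} : Set F)) ?_)
    · rintro _ ⟨η, hη, rfl⟩; exact hη
    · intro a _ b _ hab
      exact (specializes_iff_closure_subset.2 hab.ge).antisymm
        (specializes_iff_closure_subset.2 hab.le) |>.eq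
  have hTy : ∀ t ∈ T, f.base t = y' := by
    rintro _ ⟨η, -, rfl⟩
    rw [← Scheme.Hom.comp_apply, Category.assoc, ← hgι, Scheme.Hom.comp_apply,
      Scheme.Hom.comp_apply, Groth.Agent.H46.QFin.asFiber_mem (f := g) η]
    rfl
  by_contra hcon
  push Not at hcon
  let O : X.Opens := ⟨(U : Set X) ∩ (⋃ t ∈ T, closure {t})ᶜ,
    U.2.inter (hT.isClosed_biUnion fun t _ => isClosed_closure).isOpen_compl⟩
  have hxO : x ∈ O := by
    refine ⟨hxU, fun hx => ?_⟩
    obtain ⟨t, ht, htx⟩ := Set.mem_iUnion₂.1 hx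
    exact hcon t (specializes_iff_mem_closure.2 htx) (hTy t ht)
  obtain ⟨u, ⟨huU, huT⟩, hu⟩ := h O hxO
  have hgu : g.base (⟨u, huU⟩ : (U : Scheme.{u})) = v' := by
    apply V.ι.isOpenEmbedding.injective
    rw [← Scheme.Hom.comp_apply, hgι, Scheme.Hom.comp_apply]
    exact hu
  obtain ⟨z, hz⟩ : (⟨u, huU⟩ : (U : Scheme.{u})) ∈ Set.range (g.fiberι v').base := by
    rw [g.range_fiberι]; exact hgu
  obtain ⟨η, hη⟩ := QuasiSober.sober (isIrreducible_irreducibleComponent (x := z))
    isClosed_irreducibleComponent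
  refine huT (Set.mem_iUnion₂.2 ⟨(g.fiberι v' ≫ U.ι).base η, ⟨η, ?_, rfl⟩, ?_⟩)
  · show closure {η} ∈ irreducibleComponents (F : Type u)
    rw [hη.def]; exact irreducibleComponent_mem_irreducibleComponents z
  · have hs : η ⤳ z := hη.specializes mem_irreducibleComponent
    have := (hs.map (g.fiberι v' ≫ U.ι).continuous).mem_closure
    rw [Scheme.Hom.comp_apply _ _ z, hz] at this
    exact this

/-- A constructible subset of an affine scheme containing all generizations of a point is a
neighbourhood of it. -/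
theorem mem_nhds_of_isConstructible {R : Type u} [CommRing R] {s : Set (PrimeSpectrum R)}
    (hs : IsConstructible s) (p : PrimeSpectrum R) (h : ∀ q, q ⤳ p → q ∈ s) : s ∈ nhds p := by
  obtain ⟨S, _, φ, hφ⟩ := PrimeSpectrum.exists_range_eq_of_isConstructible hs.compl
  by_contra hn
  have hp : p ∈ closure sᶜ := by
    rwa [closure_compl, Set.mem_compl_iff, mem_interior_iff_mem_nhds]
  rw [← hφ, PrimeSpectrum.closure_range_comap, PrimeSpectrum.mem_zeroLocus,
    SetLike.coe_subset_coe] at hp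
  obtain ⟨q, hq, hqp⟩ := Ideal.exists_minimalPrimes_le (J := p.asIdeal) hp
  obtain ⟨P, hP, -, hPq⟩ := Ideal.exists_comap_eq_of_mem_minimalPrimes φ (I := ⊥) q
    (by rwa [← RingHom.ker_eq_comap_bot])
  have hmem : PrimeSpectrum.comap φ ⟨P, hP⟩ ∈ sᶜ := hφ ▸ ⟨_, rfl⟩
  refine hmem (h _ ((PrimeSpectrum.le_iff_specializes _ _).1 ?_))
  show P.comap φ ≤ p.asIdeal
  rw [hPq]; exact hqp

/-- Openness at a point for morphisms locally of finite presentation. -/
theorem isOpenAt_of_forall (f : X ⟶ Y) [LocallyOfFinitePresentation f] (x : X)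
    (h : ∀ O : X.Opens, x ∈ O → ∀ y', y' ⤳ f.base x → y' ∈ f.base '' (O : Set X)) :
    EGA43.IsOpenAt f.base x := by
  intro N hN
  obtain ⟨N', hN'N, hN', hxN'⟩ := mem_nhds_iff.1 hN
  obtain ⟨V, hV, hxV, -⟩ :=
    AlgebraicGeometry.exists_isAffineOpen_mem_and_subset (x := f.base x) (U := ⊤) trivial
  obtain ⟨U, hU, hxU, hUV⟩ := AlgebraicGeometry.exists_isAffineOpen_mem_and_subset (x := x)
    (U := f ⁻¹ᵁ V ⊓ ⟨N', hN'⟩) ⟨hxV, hxN'⟩
  have : IsAffine (U : Scheme.{u}) := hU
  have : IsAffine (V : Scheme.{u}) := hV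
  have hUV' : U ≤ f ⁻¹ᵁ V := le_trans hUV inf_le_left
  have hUN : (U : Set X) ⊆ N := fun a ha => hN'N (hUV ha).2
  let g := f.resLE V U hUV'
  have hgι : g ≫ V.ι = U.ι ≫ f := f.resLE_comp_ι hUV'
  have : LocallyOfFinitePresentation g :=
    MorphismProperty.comp_mem @LocallyOfFinitePresentation (X.homOfLE hUV') (f ∣_ V) inferInstance
      (IsZariskiLocalAtTarget.restrict ‹LocallyOfFinitePresentation f› V)
  let e := (V : Scheme.{u}).isoSpec
  have hc : IsConstructible ((g ≫ e.hom).base '' Set.univ) :=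
    (g ≫ e.hom).isConstructible_image .univ
  have hnb := mem_nhds_of_isConstructible hc (e.hom.base ⟨f.base x, hxV⟩) ?_
  · have h1 : e.hom.base ⁻¹' ((g ≫ e.hom).base '' Set.univ) ∈
        nhds (⟨f.base x, hxV⟩ : (V : Scheme.{u})) :=
      e.hom.continuous.continuousAt.preimage_mem_nhds hnb
    refine Filter.mem_of_superset (V.ι.isOpenEmbedding.isOpenMap.image_mem_nhds h1) ?_
    rintro _ ⟨v, ⟨u, -, hu⟩, rfl⟩
    rw [Scheme.Hom.comp_apply] at hu
    have := e.hom.isOpenEmbedding.injective hu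
    refine ⟨U.ι.base u, hUN u.2, ?_⟩
    rw [← Scheme.Hom.comp_apply, ← hgι, Scheme.Hom.comp_apply, this]
  · intro q hq
    obtain ⟨v, rfl⟩ := e.hom.surjective q
    have hv : v ⤳ (⟨f.base x, hxV⟩ : (V : Scheme.{u})) :=
      e.hom.isOpenEmbedding.isInducing.specializes_iff.1 hq
    obtain ⟨u, hu, huv⟩ := h U hxU _ (hv.map V.ι.continuous)
    refine ⟨⟨u, hu⟩, trivial, ?_⟩
    rw [Scheme.Hom.comp_apply]
    congr 1
    apply V.ι.isOpenEmbedding.injective
    rw [← Scheme.Hom.comp_apply, hgι, Scheme.Hom.comp_apply]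
    exact huv

theorem generizations_of_isOpenAt {f : X ⟶ Y} {x : X} (h : EGA43.IsOpenAt f.base x) (O : X.Opens)
    (hO : x ∈ O) (y' : Y) (hy : y' ⤳ f.base x) : y' ∈ f.base '' (O : Set X) :=
  mem_of_mem_nhds (hy (h _ (O.2.mem_nhds hO)))

/-- Openness at a point = lifting of generizations. -/
theorem isOpenAt_iff (f : X ⟶ Y) [LocallyOfFinitePresentation f] (x : X) :
    EGA43.IsOpenAt f.base x ↔ ∀ y', y' ⤳ f.base x → ∃ x', x' ⤳ x ∧ f.base x' = y' := by
  refine ⟨fun h y' hy => exists_generization f x y' hy fun O hO =>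
    generizations_of_isOpenAt h O hO y' hy, fun h => isOpenAt_of_forall f x fun O hO y' hy => ?_⟩
  obtain ⟨x', hx', hfx'⟩ := h y' hy
  exact ⟨x', hx'.mem_open O.2 hO, hfx'⟩

/-- Universal openness at a point through valuation rings. -/
theorem isUnivOpenAt_of_valuationRing (f : X ⟶ Y) [LocallyOfFinitePresentation f] (x : X)
    (H : ∀ (V : Type u) [CommRing V] [IsDomain V] [ValuationRing V]
      (g : Spec (CommRingCat.of V) ⟶ Y) (p : ↥(pullback f g)),
      g.base (IsLocalRing.closedPoint V) = f.base x →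
      (pullback.fst f g).base p = x → (pullback.snd f g).base p = IsLocalRing.closedPoint V →
      ∃ z, z ⤳ p ∧ (pullback.snd f g).base z = genericPoint (Spec (CommRingCat.of V))) :
    EGA43.IsUnivOpenAt f x := by
  intro T g p hp
  refine (isOpenAt_iff _ p).2 fun t' ht' => ?_
  obtain ⟨V, _, _, _, w, hw', hw⟩ :=
    Lib.Subtrusive.Valuation.exists_valuationRing_of_specializes ht'
  obtain ⟨q, hq1, hq2⟩ := Scheme.Pullback.exists_preimage_pullback
    (f := pullback.snd f g) (g := w) p (IsLocalRing.closedPoint V) hw.symm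
  have hgw : g.base (w.base (IsLocalRing.closedPoint V)) = f.base x := by
    rw [show w.base (IsLocalRing.closedPoint V) = (pullback.snd f g).base p from hw,
      ← Scheme.Hom.comp_apply, ← pullback.condition, Scheme.Hom.comp_apply, hp]
  let r := (pullbackLeftPullbackSndIso f g w).hom
  obtain ⟨z, hz, hzg⟩ := H V (w ≫ g) (r.base q) hgw (by
      rw [← Scheme.Hom.comp_apply, pullbackLeftPullbackSndIso_hom_fst, Scheme.Hom.comp_apply,
        hq1, hp])
    (by rw [← Scheme.Hom.comp_apply, pullbackLeftPullbackSndIso_hom_snd, hq2])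
  let r' := (pullbackLeftPullbackSndIso f g w).inv
  have hrq : r'.base (r.base q) = q := by
    rw [← Scheme.Hom.comp_apply, Iso.hom_inv_id]; rfl
  refine ⟨(pullback.fst _ w).base (r'.base z), ?_, ?_⟩
  · have := (hz.map r'.continuous).map (pullback.fst (pullback.snd f g) w).continuous
    rwa [hrq, hq1] at this
  · rw [← Scheme.Hom.comp_apply, pullback.condition, Scheme.Hom.comp_apply,
      ← Scheme.Hom.comp_apply r', pullbackLeftPullbackSndIso_inv_snd_snd, hzg]
    refine Eq.trans (congrArg w.base ?_) hw'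
    exact (genericPoint_spec _).eq (isGenericPoint_iff_specializes.2 fun y =>
      ⟨fun _ => trivial, fun _ => Lib.Subtrusive.Valuation.genPt_specializes y⟩)

end Groth.Agent.H46.Lift
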