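import Groth.Prelude.Def_EGA43
import Groth.Agent.H46.FibreTrdeg
import Groth.Agent.H46.Lift
import Mathlib.FieldTheory.IsAlgClosed.AlgebraicClosure
import Mathlib.RingTheory.AlgebraicIndependent.AlgebraicClosure
import Mathlib.RingTheory.AlgebraicIndependent.Adjoin

/-!
# Universally open morphisms do not lower fibre dimensions along generizations

EGA IV 14.3: if `f` is universally open at `x`, every generization of `f x` lifts to a generization
`ξ` of `x` with `trdeg κ(x) ≤ trdeg κ(ξ)` (residue field extensions of `f`).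
-/

universe u

open CategoryTheory AlgebraicGeometry Limits IsLocalRing
open Groth.Agent.Lib.Cyc Groth.Agent.Lib.Subtrusive.Valuation

namespace Groth.Agent.H46.UnivOpenTrdeg

open Groth.Agent.H46.FibreTrdeg

variable {X Y : Scheme.{u}}

/-- A common extension of two residue field extensions keeping a transcendence basis independent. -/
theorem exists_compositum {k E K₁ : Type u} [Field k] [Field E] [Field K₁] (i : k →+* E)
    (j : k →+* K₁) {ι : Type u} (t : ι → E)
    (ht : letI := i.toAlgebra; IsTranscendenceBasis k t) :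
    ∃ (L : Type u) (_ : Field L) (α : E →+* L) (β : K₁ →+* L), α.comp i = β.comp j ∧
      Function.Injective (MvPolynomial.eval₂Hom β (fun a => α (t a))) := by
  letI := i.toAlgebra
  let R₀ := MvPolynomial ι k
  let R₁ := MvPolynomial ι K₁
  let L := AlgebraicClosure (FractionRing R₁)
  let g₀ : R₁ →+* L := (algebraMap (FractionRing R₁) L).comp (algebraMap R₁ (FractionRing R₁))
  have hg₀ : Function.Injective g₀ := fun a b hab =>
    IsFractionRing.injective R₁ (FractionRing R₁) ((algebraMap (FractionRing R₁) L).injective hab)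
  let aE : R₀ →ₐ[k] E := MvPolynomial.aeval t
  letI : Algebra R₀ E := aE.toRingHom.toAlgebra
  letI : Algebra R₀ L := (g₀.comp (MvPolynomial.map j)).toAlgebra
  have : FaithfulSMul R₀ E := (faithfulSMul_iff_algebraMap_injective _ _).2 ht.1
  have : FaithfulSMul R₀ L := (faithfulSMul_iff_algebraMap_injective _ _).2
    (hg₀.comp (MvPolynomial.map_injective j j.injective))
  have : Module.IsTorsionFree R₀ L := inferInstance
  have : Algebra.IsAlgebraic R₀ E := by
    have := ht.isAlgebraic
    refine ⟨fun a => ?_⟩
    obtain ⟨p, hp, hpa⟩ := this.1 a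
    have hsurj : Function.Surjective (aE.codRestrict (Algebra.adjoin k (Set.range t))
        fun q => (Algebra.adjoin_range_eq_range_aeval k t).ge ⟨q, rfl⟩) := by
      rintro ⟨b, hb⟩
      obtain ⟨q, rfl⟩ := (Algebra.adjoin_range_eq_range_aeval k t).le hb
      exact ⟨q, rfl⟩
    obtain ⟨P, rfl⟩ := Polynomial.map_surjective
      (aE.codRestrict (Algebra.adjoin k (Set.range t))
        fun q => (Algebra.adjoin_range_eq_range_aeval k t).ge ⟨q, rfl⟩).toRingHom hsurj p
    refine ⟨P, fun h0 => hp (by rw [h0, Polynomial.map_zero]), ?_⟩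
    rw [Polynomial.aeval_def] at hpa ⊢
    rwa [Polynomial.eval₂_map] at hpa
  let α : E →ₐ[R₀] L := IsAlgClosed.lift
  refine ⟨L, inferInstance, α.toRingHom, g₀.comp MvPolynomial.C, ?_, ?_⟩
  · ext c
    have : algebraMap R₀ E (MvPolynomial.C c) = i c := MvPolynomial.aeval_C t c
    show α (i c) = g₀ (MvPolynomial.C (j c))
    rw [← this, α.commutes]
    show g₀ (MvPolynomial.map j (MvPolynomial.C c)) = _
    rw [MvPolynomial.map_C]
  · have : MvPolynomial.eval₂Hom (g₀.comp MvPolynomial.C) (fun a => α.toRingHom (t a)) = g₀ := by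
      refine MvPolynomial.ringHom_ext (fun c => ?_) fun a => ?_
      · simp
      · have h1 : algebraMap R₀ E (MvPolynomial.X a) = t a := MvPolynomial.aeval_X t a
        rw [MvPolynomial.eval₂Hom_X']
        show α (t a) = _
        rw [← h1, α.commutes]
        show g₀ (MvPolynomial.map j (MvPolynomial.X a)) = _
        rw [MvPolynomial.map_X]
    rw [this]
    exact hg₀

/-- In a valuation ring a nonzero polynomial is a scalar times one with a unit coefficient. -/
theorem exists_C_mul {V : Type u} [CommRing V] [IsDomain V] [ValuationRing V] {ι : Type u}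
    (F : MvPolynomial ι V) (hF : F ≠ 0) :
    ∃ (c : V) (G : MvPolynomial ι V), c ≠ 0 ∧ F = MvPolynomial.C c * G ∧
      ∃ m, IsUnit (MvPolynomial.coeff m G) := by
  classical
  have : ∀ s : Finset (ι →₀ ℕ), s.Nonempty →
      ∃ m ∈ s, ∀ n ∈ s, MvPolynomial.coeff m F ∣ MvPolynomial.coeff n F := by
    intro s hs
    induction hs using Finset.Nonempty.cons_induction with
    | singleton a => exact ⟨a, by simp, by simp⟩
    | cons a s ha hs ih =>
      obtain ⟨m, hm, hdiv⟩ := ih
      rcases ValuationRing.dvd_total (MvPolynomial.coeff a F) (MvPolynomial.coeff m F) with h | h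
      · refine ⟨a, Finset.mem_cons_self a s, fun n hn => ?_⟩
        rcases Finset.mem_cons.1 hn with rfl | hn
        · exact dvd_rfl
        · exact h.trans (hdiv n hn)
      · refine ⟨m, Finset.mem_cons_of_mem hm, fun n hn => ?_⟩
        rcases Finset.mem_cons.1 hn with rfl | hn
        · exact h
        · exact hdiv n hn
  obtain ⟨m, hm, hdiv⟩ := this F.support (MvPolynomial.support_nonempty.2 hF)
  have hc : MvPolynomial.coeff m F ≠ 0 := MvPolynomial.mem_support_iff.1 hm
  obtain ⟨G, hG⟩ : MvPolynomial.C (MvPolynomial.coeff m F) ∣ F := by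
    rw [MvPolynomial.C_dvd_iff_dvd_coeff]
    intro n
    by_cases hn : n ∈ F.support
    · exact hdiv n hn
    · rw [MvPolynomial.notMem_support_iff.1 hn]; exact dvd_zero _
  refine ⟨_, G, hc, hG, m, ?_⟩
  have := congrArg (MvPolynomial.coeff m) hG
  rw [MvPolynomial.coeff_C_mul] at this
  exact isUnit_iff_exists_inv.2 ⟨1, by rw [mul_one]; exact mul_left_cancel₀ hc (this.symm.trans (mul_one _).symm)⟩

/-- The stalk factorisation of a local ring valued point. -/
theorem exists_local_factor {R : CommRingCat.{u}} [IsLocalRing R] (g : Spec R ⟶ X) (p : X)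
    (hp : g (closedPoint R) = p) :
    ∃ γ : X.presheaf.stalk p ⟶ R, IsLocalHom γ.hom ∧ Spec.map γ ≫ X.fromSpecStalk p = g := by
  subst hp
  exact ⟨Scheme.stalkClosedPointTo g, inferInstance, Scheme.Spec_stalkClosedPointTo_fromSpecStalk g⟩

theorem exists_residue_factor {K : Type u} [Field K] (g : Spec (CommRingCat.of K) ⟶ X) (p : X)
    (hp : g (closedPoint K) = p) :
    ∃ ρ : X.residueField p ⟶ CommRingCat.of K, Spec.map ρ ≫ X.fromSpecResidueField p = g := by
  subst hp
  exact ⟨_, Scheme.descResidueField_stalkClosedPointTo_fromSpecResidueField K X g⟩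

theorem exists_fraction_map {V W : Type u} [CommRing V] [IsDomain V] [CommRing W] [IsDomain W]
    (φ : V →+* W) (hφ : Function.Injective φ) (K L : Type u) [Field K] [Field L] [Algebra V K]
    [IsFractionRing V K] [Algebra W L] [IsFractionRing W L] :
    ∃ σ : K →+* L, σ.comp (algebraMap V K) = (algebraMap W L).comp φ := by
  have h : Function.Injective ((algebraMap W L).comp φ) :=
    (IsFractionRing.injective W L).comp hφ
  exact ⟨IsFractionRing.lift h, RingHom.ext fun v => IsFractionRing.lift_algebraMap h v⟩

/-- Lifting of generizations does not lower residual transcendence degrees. -/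
theorem exists_trd_le_of_valuation (f : X ⟶ Y) [LocallyOfFiniteType f] (x : X) (y' : Y)
    (V : Type u) [CommRing V] [IsDomain V] [ValuationRing V]
    (w : Spec (CommRingCat.of V) ⟶ Y) (hw' : w (genPt V) = y') (hw : w (clPt V) = f x)
    (hlift : ∀ p, pullback.fst f w p = x → pullback.snd f w p = closedPoint V →
      ∃ z, z ⤳ p ∧ pullback.snd f w z = genPt V) :
    ∃ ξ : X, ξ ⤳ x ∧ f ξ = y' ∧ trd f x ≤ trd f ξ := by
  classical
  letI : Algebra (Y.residueField (f x)) (X.residueField x) := (f.residueFieldMap x).hom.toAlgebra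
  have : FaithfulSMul (Y.residueField (f x)) (X.residueField x) :=
    (faithfulSMul_iff_algebraMap_injective _ _).2 (RingHom.injective _)
  obtain ⟨ι, t, ht⟩ := exists_isTranscendenceBasis' (Y.residueField (f x)) (X.residueField x)
  let kV := IsLocalRing.ResidueField V
  let res : CommRingCat.of V ⟶ CommRingCat.of kV := CommRingCat.ofHom (IsLocalRing.residue V)
  have hres : Spec.map res (closedPoint kV) = closedPoint V :=
    comap_closedPoint (IsLocalRing.residue V)
  obtain ⟨ρ, hρ⟩ := exists_residue_factor (Spec.map res ≫ w) (f x)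
    (by rw [Scheme.Hom.comp_apply, hres]; exact hw)
  obtain ⟨L, _, α, β, hαβ, hinj⟩ := exists_compositum (f.residueFieldMap x).hom ρ.hom t ht
  let αc : X.residueField x ⟶ CommRingCat.of L := CommRingCat.ofHom α
  let βc : CommRingCat.of kV ⟶ CommRingCat.of L := CommRingCat.ofHom β
  have hαβc : f.residueFieldMap x ≫ αc = ρ ≫ βc := CommRingCat.hom_ext hαβ
  let q : Spec (CommRingCat.of L) ⟶ pullback f w :=
    pullback.lift (Spec.map αc ≫ X.fromSpecResidueField x) (Spec.map (res ≫ βc)) (by
      rw [Category.assoc, ← Scheme.Hom.SpecMap_residueFieldMap_fromSpecResidueField,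
        ← Spec.map_comp_assoc, hαβc, Spec.map_comp_assoc, hρ, ← Spec.map_comp_assoc])
  let p := q (closedPoint L)
  have hpX : pullback.fst f w p = x := by
    rw [← Scheme.Hom.comp_apply, pullback.lift_fst, Scheme.Hom.comp_apply,
      Scheme.fromSpecResidueField_apply]
  have hpV : pullback.snd f w p = closedPoint V := by
    rw [← Scheme.Hom.comp_apply, pullback.lift_snd]
    exact comap_closedPoint (β.comp (IsLocalRing.residue V))
  -- lift and dominate
  obtain ⟨z, hz, hzg⟩ := hlift p hpX hpV
  obtain ⟨W, _, _, _, ω, hω', hω⟩ := exists_valuationRing_of_specializes hz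
  obtain ⟨φV, hφinj, hφloc, hφ⟩ := exists_ringHom_of_endpoints (ω ≫ pullback.snd f w)
    (by rw [Scheme.Hom.comp_apply, hω']; exact hzg)
    (by rw [Scheme.Hom.comp_apply, hω]; exact hpV)
  obtain ⟨γW, hγW, hγW'⟩ := exists_local_factor (R := CommRingCat.of W) ω p hω
  obtain ⟨γL, hγL, hγL'⟩ := exists_local_factor (R := CommRingCat.of L) q p rfl
  let b : CommRingCat.of V ⟶ (pullback f w).presheaf.stalk p :=
    Spec.preimage ((pullback f w).fromSpecStalk p ≫ pullback.snd f w)
  let a : X.presheaf.stalk x ⟶ (pullback f w).presheaf.stalk p :=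
    X.presheaf.stalkSpecializes (specializes_of_eq hpX) ≫ (pullback.fst f w).stalkMap p
  have ha : Spec.map a ≫ X.fromSpecStalk x = (pullback f w).fromSpecStalk p ≫ pullback.fst f w := by
    simp only [a, Spec.map_comp, Category.assoc, Scheme.SpecMap_stalkSpecializes_fromSpecStalk,
      Scheme.SpecMap_stalkMap_fromSpecStalk]
  have hbW : b ≫ γW = CommRingCat.ofHom φV := by
    apply Spec.map_injective
    rw [Spec.map_comp, Spec.map_preimage, reassoc_of% hγW', ← hφ]
  have hbL : b ≫ γL = res ≫ βc := by
    apply Spec.map_injective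
    rw [Spec.map_comp, Spec.map_preimage, reassoc_of% hγL', pullback.lift_snd]
  have haL : a ≫ γL = X.residue x ≫ αc := by
    apply Spec.map_injective
    rw [← cancel_mono (X.fromSpecStalk x), Spec.map_comp, Category.assoc, ha,
      reassoc_of% hγL', pullback.lift_fst, Spec.map_comp, Category.assoc]
    rfl
  choose τ hτ using fun i => X.residue_surjective x (t i)
  -- independence in `W`
  let ψ : ι → W := fun i => γW.hom (a.hom (τ i))
  have hindW : Function.Injective (MvPolynomial.eval₂Hom φV ψ) := by
    rw [injective_iff_map_eq_zero]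
    intro F hF
    by_contra hF0
    obtain ⟨c, G, hc, rfl, m, hm⟩ := exists_C_mul F hF0
    have key : IsUnit (MvPolynomial.eval₂Hom b.hom (fun i => a.hom (τ i)) G) := by
      by_contra hnu
      have h0 : γL.hom (MvPolynomial.eval₂Hom b.hom (fun i => a.hom (τ i)) G) = 0 := by
        by_contra hne
        exact hnu (hγL.map_nonunit _ (isUnit_iff_ne_zero.2 hne))
      have e : γL.hom.comp (MvPolynomial.eval₂Hom b.hom (fun i => a.hom (τ i))) =
          (MvPolynomial.eval₂Hom β fun i => α (t i)).comp
            (MvPolynomial.map (IsLocalRing.residue V)) := by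
        refine MvPolynomial.ringHom_ext (fun v => ?_) fun i => ?_
        · simp only [RingHom.comp_apply, MvPolynomial.eval₂Hom_C, MvPolynomial.map_C]
          exact congrArg (fun φ : CommRingCat.of V ⟶ CommRingCat.of L => φ.hom v) hbL
        · simp only [RingHom.comp_apply, MvPolynomial.eval₂Hom_X', MvPolynomial.map_X]
          rw [← hτ i]
          exact congrArg (fun φ : X.presheaf.stalk x ⟶ CommRingCat.of L => φ.hom (τ i)) haL
      have := DFunLike.congr_fun e G
      rw [RingHom.comp_apply, h0, RingHom.comp_apply] at this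
      have h1 := congrArg (MvPolynomial.coeff m) (hinj (this.symm.trans (map_zero _).symm))
      rw [MvPolynomial.coeff_map, MvPolynomial.coeff_zero] at h1
      exact (hm.map (IsLocalRing.residue V)).ne_zero h1
    have e2 : γW.hom.comp (MvPolynomial.eval₂Hom b.hom (fun i => a.hom (τ i))) =
        MvPolynomial.eval₂Hom φV ψ := by
      refine MvPolynomial.ringHom_ext (fun v => ?_) fun i => ?_
      · simp only [RingHom.comp_apply, MvPolynomial.eval₂Hom_C]
        exact congrArg (fun φ : CommRingCat.of V ⟶ CommRingCat.of W => φ.hom v) hbW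
      · simp [ψ]
    rw [map_mul, MvPolynomial.eval₂Hom_C, mul_eq_zero] at hF
    rcases hF with hF | hF
    · exact hc ((map_eq_zero_iff _ hφinj).1 hF)
    · rw [← e2, RingHom.comp_apply] at hF
      exact (key.map γW.hom).ne_zero hF
  -- generic points
  let ξ := pullback.fst f w z
  have hξy : f ξ = y' := by
    rw [← Scheme.Hom.comp_apply, pullback.condition, Scheme.Hom.comp_apply, hzg, hw']
  have hξx : ξ ⤳ x := hpX ▸ hz.map (pullback.fst f w).continuous
  refine ⟨ξ, hξx, hξy, ?_⟩
  let KW := FractionRing W
  let KV := FractionRing V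
  let incW : CommRingCat.of W ⟶ CommRingCat.of KW := CommRingCat.ofHom (algebraMap W KW)
  let incV : CommRingCat.of V ⟶ CommRingCat.of KV := CommRingCat.ofHom (algebraMap V KV)
  obtain ⟨σ, hσ'⟩ := exists_fraction_map φV hφinj KV KW
  have hσ : incV ≫ CommRingCat.ofHom σ = CommRingCat.ofHom φV ≫ incW := CommRingCat.hom_ext hσ'
  have hgenW : Spec.map incW (closedPoint KW) = genPt W := by
    rw [← specMap_genPt (algebraMap W KW) (IsFractionRing.injective W KW)]
    exact congrArg (Spec.map incW) (Subsingleton.elim (α := PrimeSpectrum KW) _ _)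
  have hgenV : Spec.map incV (closedPoint KV) = genPt V := by
    rw [← specMap_genPt (algebraMap V KV) (IsFractionRing.injective V KV)]
    exact congrArg (Spec.map incV) (Subsingleton.elim (α := PrimeSpectrum KV) _ _)
  obtain ⟨ρξ, hρξ⟩ := exists_residue_factor (Spec.map incW ≫ ω ≫ pullback.fst f w) ξ
    (by rw [Scheme.Hom.comp_apply, hgenW, Scheme.Hom.comp_apply, hω'])
  obtain ⟨ρy, hρy⟩ := exists_residue_factor (Spec.map incV ≫ w) (f ξ)
    (by rw [Scheme.Hom.comp_apply, hgenV, hw', hξy])
  have hcomm : f.residueFieldMap ξ ≫ ρξ = ρy ≫ CommRingCat.ofHom σ := by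
    apply Spec.map_injective
    rw [← cancel_mono (Y.fromSpecResidueField (f ξ)), Spec.map_comp, Category.assoc,
      Scheme.Hom.SpecMap_residueFieldMap_fromSpecResidueField, reassoc_of% hρξ, Spec.map_comp,
      Category.assoc, hρy, ← Spec.map_comp_assoc, hσ, Spec.map_comp_assoc, ← hφ]
    simp [pullback.condition]
  let s : ι → X.residueField ξ := fun i => (X.presheaf.stalkSpecializes hξx ≫ X.residue ξ).hom (τ i)
  have hspec : X.presheaf.stalkSpecializes hξx ≫ X.residue ξ ≫ ρξ = a ≫ γW ≫ incW := by
    apply Spec.map_injective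
    rw [← cancel_mono (X.fromSpecStalk x)]
    simp only [Spec.map_comp, Category.assoc, Scheme.SpecMap_stalkSpecializes_fromSpecStalk, ha,
      reassoc_of% hγW']
    exact hρξ
  letI : Algebra V KW := ((algebraMap W KW).comp φV).toAlgebra
  letI : Algebra KV KW := σ.toAlgebra
  have : IsScalarTower V KV KW :=
    IsScalarTower.of_algebraMap_eq fun v => (RingHom.congr_fun hσ' v).symm
  have h1 : AlgebraicIndependent V (fun i => algebraMap W KW (ψ i)) := by
    rw [algebraicIndependent_iff_injective_aeval]
    have : (MvPolynomial.aeval (R := V) fun i => algebraMap W KW (ψ i)).toRingHom =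
        (algebraMap W KW).comp (MvPolynomial.eval₂Hom φV ψ) := by
      refine MvPolynomial.ringHom_ext (fun v => ?_) fun i => ?_
      · simp [RingHom.algebraMap_toAlgebra]
      · simp
    show Function.Injective (MvPolynomial.aeval (R := V) fun i => algebraMap W KW (ψ i)).toRingHom
    rw [this]
    exact (IsFractionRing.injective W KW).comp hindW
  have : Algebra.IsAlgebraic V KV := IsLocalization.isAlgebraic KV (nonZeroDivisors V)
  have h2 : AlgebraicIndependent KV (fun i => algebraMap W KW (ψ i)) := h1.extendScalars KV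
  letI : Algebra (Y.residueField (f ξ)) (X.residueField ξ) := (f.residueFieldMap ξ).hom.toAlgebra
  have h3 : AlgebraicIndependent (Y.residueField (f ξ)) s := by
    have : (fun i => algebraMap W KW (ψ i)) = ρξ.hom ∘ s := by
      funext i
      exact (congrArg (fun φ : X.presheaf.stalk x ⟶ CommRingCat.of KW => φ.hom (τ i)) hspec).symm
    rw [this] at h2
    exact h2.of_ringHom_of_comp_eq ρy.hom ρξ.hom ρy.hom.injective
      (congrArg CommRingCat.Hom.hom hcomm).symm
  have h4 := h3.cardinalMk_le_trdeg
  have h5 : Cardinal.mk ι = Residue.trdegAt f x := ht.cardinalMk_eq_trdeg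
  rw [h5, trdegAt_eq f] at h4
  change _ ≤ Residue.trdegAt f ξ at h4
  rw [trdegAt_eq f, Nat.cast_le] at h4
  exact h4

/-- Universal openness at `x` does not lower residual transcendence degrees. -/
theorem exists_trd_le (f : X ⟶ Y) [LocallyOfFiniteType f] (x : X) (hx : EGA43.IsUnivOpenAt f x)
    (y' : Y) (hy : y' ⤳ f x) : ∃ ξ : X, ξ ⤳ x ∧ f ξ = y' ∧ trd f x ≤ trd f ξ := by
  obtain ⟨V, _, _, _, w, hw', hw⟩ := exists_valuationRing_of_specializes hy
  exact exists_trd_le_of_valuation f x y' V w hw' hw fun p hp _ =>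
    Lift.exists_generization (pullback.snd f w) p (genPt V) (genPt_specializes _)
      fun O hO => Lift.generizations_of_isOpenAt (hx _ w p hp) O hO _ (genPt_specializes _)

/-- Over a valuation ring, generizations over the generic point do not lower the transcendence
degree. -/
theorem trd_le_over_valuationRing (V : Type u) [CommRing V] [IsDomain V] [ValuationRing V]
    (f : X ⟶ Spec (CommRingCat.of V)) [LocallyOfFiniteType f] (x ξ : X) (hξ : ξ ⤳ x)
    (hx : f x = clPt V) (hg : f ξ = genPt V) :
    ∃ a : X, a ⤳ x ∧ f a = genPt V ∧ trd f x ≤ trd f a := by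
  refine exists_trd_le_of_valuation f x (genPt V) V (𝟙 _) rfl hx.symm fun p hp _ => ?_
  have hinv : ∀ v, pullback.fst f (𝟙 _) ((inv (pullback.fst f (𝟙 _))) v) = v := fun v => by
    rw [← Scheme.Hom.comp_apply, IsIso.inv_hom_id]; rfl
  refine ⟨inv (pullback.fst f (𝟙 _)) ξ, ?_, ?_⟩
  · refine (pullback.fst f (𝟙 _)).isEmbedding.isInducing.specializes_iff.1 ?_
    rw [hinv, hp]
    exact hξ
  · have h1 : (pullback.snd f (𝟙 _)) = pullback.fst f (𝟙 _) ≫ f := by
      rw [pullback.condition, Category.comp_id]
    rw [h1, Scheme.Hom.comp_apply, hinv, hg]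

end Groth.Agent.H46.UnivOpenTrdeg
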