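import Groth.Prelude.Def_EGA43
import Groth.Agent.H46.FibreTrdeg
import Groth.Agent.H46.UnivOpenTrdeg
import Groth.Agent.H46.OpenDim
import Groth.Agent.H46.UnivOpen

/-!
# Equidimensionality at a point through maximal points and transcendence degrees
-/

universe u

open CategoryTheory AlgebraicGeometry Topology TopologicalSpace
open Groth.Agent.Lib.Cyc Groth.Agent.H46.FibreTrdeg

namespace Groth.Agent.H46.Equidim

variable {X Y : Scheme.{u}}

section top

variable {α : Type*} [TopologicalSpace α] [T0Space α] [QuasiSober α]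

theorem exists_generic_of_mem_irreducibleComponents {Z : Set α}
    (hZ : Z ∈ irreducibleComponents α) : ∃ ξ, DimFun.IsMaxPt ξ ∧ closure {ξ} = Z := by
  obtain ⟨ξ, hξ⟩ := QuasiSober.sober hZ.1 (isClosed_of_mem_irreducibleComponents Z hZ)
  refine ⟨ξ, fun y hy => ?_, hξ.def⟩
  have hle : Z ⊆ closure {y} := hξ.def ▸ specializes_iff_closure_subset.1 hy
  have h1 : closure ({y} : Set α) ⊆ Z := hZ.2 isIrreducible_singleton.closure hle
  exact (hy.antisymm (hξ.specializes (h1 (subset_closure rfl)))).eq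

theorem closure_singleton_inj {a b : α} (h : closure ({a} : Set α) = closure {b}) : a = b :=
  ((specializes_iff_closure_subset.2 h.ge).antisymm (specializes_iff_closure_subset.2 h.le)).eq

theorem isMaxPt_of_closure_mem {a : α} (h : closure {a} ∈ irreducibleComponents α) :
    DimFun.IsMaxPt a := by
  obtain ⟨ξ, hξ, he⟩ := exists_generic_of_mem_irreducibleComponents h
  rwa [← closure_singleton_inj he]

theorem isMaxPt_iff_closure_mem {a : α} :
    DimFun.IsMaxPt a ↔ closure {a} ∈ irreducibleComponents α :=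
  ⟨fun h => FieldDim.closure_mem_irreducibleComponents a h, isMaxPt_of_closure_mem⟩

end top

theorem closure_image_closure' (f : X ⟶ Y) (ξ : X) :
    closure (f.base '' closure {ξ}) = closure {f ξ} := by
  rw [_root_.closure_image_closure f.continuous, Set.image_singleton]

theorem isMaxFib_of_isMaxPt (f : X ⟶ Y) {x : X} (h : DimFun.IsMaxPt x) : IsMaxFib f x :=
  fun x' _ hs => h x' hs

variable (f : X ⟶ Y) [LocallyOfFiniteType f]

/-- Criterion for equidimensionality at a point. -/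
theorem isEquidimAt_of (x : X) (e : ℕ) (U : X.Opens) (hx : x ∈ U)
    (hdom : ∀ ξ ∈ U, DimFun.IsMaxPt ξ → DimFun.IsMaxPt (f ξ) ∧ f ξ ⤳ f x)
    (hdim : ∀ u ∈ U, IsMaxFib f u → trd f u = e) : EGA43.IsEquidimAt f x := by
  refine ⟨e, U, hx, fun Z hZ => ?_, fun x' Z hZ => ?_⟩
  · obtain ⟨w, hw, rfl⟩ : ∃ w : (U : Scheme.{u}), DimFun.IsMaxPt w ∧ closure {w} = Z :=
      exists_generic_of_mem_irreducibleComponents hZ
    have hmax : DimFun.IsMaxPt (U.ι w) := fun y hy => by
      obtain ⟨v, rfl⟩ : y ∈ Set.range U.ι := by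
        rw [Scheme.Opens.range_ι]; exact hy.mem_open U.2 w.2
      rw [hw v (U.ι.isEmbedding.isInducing.specializes_iff.1 hy)]
    obtain ⟨h1, h2⟩ := hdom _ w.2 hmax
    refine ⟨closure {f (U.ι w)}, FieldDim.closure_mem_irreducibleComponents _ h1, h2.mem_closure, ?_⟩
    exact closure_image_closure' (U.ι ≫ f) w
  · let x'' : (U : Scheme.{u}) := x'
    obtain ⟨z, hz, rfl⟩ :=
      exists_generic_of_mem_irreducibleComponents (α := (U.ι ≫ f).fiber ((U.ι ≫ f) x'')) hZ
    let g := U.ι ≫ f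
    show topologicalKrullDim ↥(closure ({z} : Set (g.fiber (g x'')))) = _
    rw [FieldDim.topologicalKrullDim_closure (K := Y.residueField (g x''))
      (g.fiberToSpecResidueField (g x'')) z, fdelta_fiber, Int.toNat_natCast, trd_comp]
    congr 1
    refine hdim _ (g.fiberι (g x'') z).2 ?_
    have hzmax : IsMaxFib g (g.fiberι (g x'') z) :=
      (FieldDim.isMaxFib_iff g (g x'') z).2 hz
    rw [isMaxFib_comp_iff] at hzmax
    intro a ha hs
    exact hzmax a (by rw [Scheme.Opens.range_ι]; exact hs.mem_open U.2 (g.fiberι (g x'') z).2) ha hs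

/-- The data of equidimensionality at a point. -/
theorem exists_of_isEquidimAt {x : X} (h : EGA43.IsEquidimAt f x) :
    ∃ (e : ℕ) (U : X.Opens), x ∈ U ∧
      (∀ ξ ∈ U, DimFun.IsMaxPt ξ → DimFun.IsMaxPt (f ξ) ∧ f ξ ⤳ f x) ∧
      (∀ u ∈ U, IsMaxFib f u → trd f u = e) := by
  obtain ⟨e, U, hx, hdom, hdim⟩ := h
  refine ⟨e, U, hx, fun ξ hξ hmax => ?_, fun u hu hmax => ?_⟩
  · let w : (U : Scheme.{u}) := ⟨ξ, hξ⟩
    have hw : DimFun.IsMaxPt w := fun v hv =>
      U.ι.isEmbedding.injective (hmax _ (hv.map U.ι.continuous))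
    obtain ⟨W, hW, hxW, hcl⟩ := hdom _ (FieldDim.closure_mem_irreducibleComponents w hw)
    replace hcl : closure {f ξ} = W := (closure_image_closure' (U.ι ≫ f) w).symm.trans hcl
    subst hcl
    exact ⟨isMaxPt_of_closure_mem hW, specializes_iff_mem_closure.2 hxW⟩
  · let w : (U : Scheme.{u}) := ⟨u, hu⟩
    set g := U.ι ≫ f
    obtain ⟨z, hz⟩ := FieldDim.exists_fiberι_eq g w (g w) rfl
    have hzmax : DimFun.IsMaxPt z := by
      refine (FieldDim.isMaxFib_iff g (g w) z).1 ?_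
      rw [hz]
      exact (isMaxFib_comp_iff f U.ι w).2 fun a _ ha hs => hmax a ha hs
    have h1 := hdim w _ (FieldDim.closure_mem_irreducibleComponents z hzmax)
    rw [FieldDim.topologicalKrullDim_closure (K := Y.residueField (g w))
      (g.fiberToSpecResidueField (g w)) z, fdelta_fiber, Int.toNat_natCast, trd_comp, hz] at h1
    exact_mod_cast h1

theorem fibreDimAt_eq_of_data {e : ℕ} {U : X.Opens}
    (h : ∀ u ∈ U, IsMaxFib f u → trd f u = e) {x : X} (hx : x ∈ U) :
    FlatMor.fibreDimAt f x = (e : WithBot ℕ∞) := by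
  obtain ⟨ζ, hζ, hs, hmax, he⟩ := exists_isMaxFib_trd_eq f x
  rw [he, h ζ (hs.mem_open U.2 hx) hmax]

/-- A component through `x` whose generic fibre has dimension `≥ dim_x` of the fibre is
equidimensional at `x`. -/
theorem exists_component_isEquidimAt (x ξ : X) (hξ : DimFun.IsMaxPt ξ) (hξx : ξ ⤳ x)
    (hfξ : DimFun.IsMaxPt (f ξ)) (hle : FlatMor.fibreDimAt f x ≤ (trd f ξ : WithBot ℕ∞)) :
    ∃ W : TopologicalSpace.Closeds X, (W : Set X) ∈ irreducibleComponents (X : Type u) ∧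
      ∃ w : ↥((Scheme.IdealSheafData.vanishingIdeal W).subscheme),
        (Scheme.IdealSheafData.vanishingIdeal W).subschemeι.base w = x ∧
        EGA43.IsEquidimAt ((Scheme.IdealSheafData.vanishingIdeal W).subschemeι ≫ f) w := by
  let W : TopologicalSpace.Closeds X := ⟨closure {ξ}, isClosed_closure⟩
  let i := (Scheme.IdealSheafData.vanishingIdeal W).subschemeι
  have hr : Set.range i = closure {ξ} := by
    rw [Scheme.IdealSheafData.range_subschemeι, Scheme.IdealSheafData.coe_support_vanishingIdeal]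
    rfl
  obtain ⟨w, rfl⟩ : x ∈ Set.range i := hr ▸ hξx.mem_closure
  obtain ⟨w₀, hw₀⟩ : ξ ∈ Set.range i := hr ▸ subset_closure rfl
  refine ⟨W, FieldDim.closure_mem_irreducibleComponents ξ hξ, w, rfl, ?_⟩
  have hgen : ∀ v, w₀ ⤳ v := fun v => by
    rw [← i.isEmbedding.isInducing.specializes_iff, hw₀, specializes_iff_mem_closure, ← hr]
    exact ⟨v, rfl⟩
  let O : X.Opens :=
    ⟨_, Groth.Agent.Lib.FibreDim.Semicont.isOpen_setOf_fibreDimAt_le f (trd f ξ : WithBot ℕ∞)⟩
  refine isEquidimAt_of (i ≫ f) w (trd f ξ) (i ⁻¹ᵁ O) hle (fun v _ hv => ?_) fun u hu hu' => ?_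
  · obtain rfl := hv w₀ (hgen v)
    rw [Scheme.Hom.comp_apply, hw₀, Scheme.Hom.comp_apply]
    exact ⟨hfξ, hξx.map f.continuous⟩
  · rw [trd_comp]
    refine le_antisymm ?_ ?_
    · have : (trd f (i u) : WithBot ℕ∞) ≤ trd f ξ :=
        (trd_le_fibreDimAt f (i u)).trans hu
      exact_mod_cast this
    · have := trd_le_of_specializes (i ≫ f) (hgen u) hu'
      rwa [trd_comp, trd_comp, hw₀] at this

/-- For an equidimensional morphism the generic points of components through `x` work. -/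
theorem exists_component_of_isEquidimAt (x : X) (h : EGA43.IsEquidimAt f x) :
    ∃ ξ, DimFun.IsMaxPt ξ ∧ ξ ⤳ x ∧ DimFun.IsMaxPt (f ξ) ∧
      FlatMor.fibreDimAt f x ≤ (trd f ξ : WithBot ℕ∞) := by
  obtain ⟨e, U, hx, hdom, hdim⟩ := exists_of_isEquidimAt f h
  obtain ⟨ξ, hξx, hξ⟩ := DimFun.exists_isMaxPt_specializes x
  have hξU := hξx.mem_open U.2 hx
  refine ⟨ξ, hξ, hξx, (hdom ξ hξU hξ).1, ?_⟩
  rw [hdim ξ hξU (isMaxFib_of_isMaxPt f hξ), fibreDimAt_eq_of_data f hdim hx]

/-- For a universally open morphism, a component through `x` works. -/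
theorem exists_component_of_universallyOpen [UniversallyOpen f] (x : X) :
    ∃ ξ, DimFun.IsMaxPt ξ ∧ ξ ⤳ x ∧ DimFun.IsMaxPt (f ξ) ∧
      FlatMor.fibreDimAt f x ≤ (trd f ξ : WithBot ℕ∞) := by
  obtain ⟨ζ, hζ, hζx, hmax, he⟩ := exists_isMaxFib_trd_eq f x
  obtain ⟨η, hη, hηmax⟩ := DimFun.exists_isMaxPt_specializes (f ζ)
  obtain ⟨ξ', hξ', hfξ', hle⟩ := UnivOpenTrdeg.exists_trd_le f ζ
    ((UnivOpen.universallyOpen_iff f).1 ‹_› ζ) η hη
  obtain ⟨ξ, hξξ', hξ⟩ := DimFun.exists_isMaxPt_specializes ξ'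
  have hfξ : f ξ = η := hηmax _ (hfξ' ▸ hξξ'.map f.continuous)
  refine ⟨ξ, hξ, hξξ'.trans (hξ'.trans hζx), hfξ ▸ hηmax, ?_⟩
  rw [he, Nat.cast_le]
  exact hle.trans (trd_le f hξξ' (hfξ.trans hfξ'.symm))

/-- The local dimension of a component in the fibre is at least the dimension of its generic fibre. -/
theorem trd_le_localDim_closure_inter (x ξ : X) (hξ : ξ ⤳ x) :
    (trd f ξ : WithBot ℕ∞) ≤
      FlatMor.localDim ↥(closure ({ξ} : Set X) ∩ f ⁻¹' {f x}) ⟨x, hξ.mem_closure, rfl⟩ := by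
  let i := (Scheme.IdealSheafData.vanishingIdeal
    (⟨closure {ξ}, isClosed_closure⟩ : TopologicalSpace.Closeds X)).subschemeι
  have hr : Set.range i = closure {ξ} := by
    rw [Scheme.IdealSheafData.range_subschemeι, Scheme.IdealSheafData.coe_support_vanishingIdeal]
    rfl
  obtain ⟨w, rfl⟩ : x ∈ Set.range i := by rw [hr]; exact hξ.mem_closure
  obtain ⟨w₀, hw₀⟩ : ξ ∈ Set.range i := by rw [hr]; exact subset_closure rfl
  have hgen : w₀ ⤳ w := by rwa [← i.isEmbedding.isInducing.specializes_iff, hw₀]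
  have h := localDim_range_inter f i w
  rw [localDim_congr (congrArg (· ∩ f ⁻¹' {f (i w)}) hr) _ _ ⟨hξ.mem_closure, rfl⟩] at h
  rw [h]
  have := (trd_le_fibreDimAt (i ≫ f) w₀).trans (fibreDimAt_le_of_specializes (i ≫ f) hgen)
  rwa [trd_comp, hw₀] at this

omit [LocallyOfFiniteType f] in
theorem ringKrullDim_locQuot_of_forall {x ξ : X} (h : ξ ⤳ x) (hall : ∀ y, y ⤳ x → ξ ⤳ y) :
    ringKrullDim (Cyc.LocQuot x ξ h) = ringKrullDim (X.presheaf.stalk x) := by
  rw [ringKrullDim_quotient]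
  have : PrimeSpectrum.zeroLocus (R := X.presheaf.stalk x)
      (RingHom.ker (Cyc.specMap x ξ h) : Set (X.presheaf.stalk x)) = Set.univ := by
    refine Set.eq_univ_of_forall fun p => ?_
    show DimFun.genPrime x ξ h ≤ p
    rw [← DimFun.fromSpecStalk_specializes_iff, DimFun.fromSpecStalk_genPrime]
    exact hall _ (DimFun.fromSpecStalk_specializes_self x p)
  rw [this]
  exact Order.krullDim_eq_of_orderIso OrderIso.Set.univ

/-- `trdeg κ(ζ) ≤ dim O_{F,x} + trdeg κ(x)` for `ζ ⤳ x` in a fibre `F`. -/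
theorem trd_le_ringKrullDim_add (x ζ : X) (hζ : f ζ = f x) (hs : ζ ⤳ x) :
    (trd f ζ : WithBot ℕ∞) ≤
      ringKrullDim ((f.fiber (f x)).presheaf.stalk (f.asFiber x)) + (trd f x : WithBot ℕ∞) := by
  obtain ⟨a, ha⟩ := FieldDim.exists_fiberι_eq f ζ (f x) hζ
  have hsp : a ⤳ f.asFiber x := by
    rw [FieldDim.fiber_specializes_iff, f.fiberι_asFiber, ha]; exact hs
  have h := DimFun.ringKrullDim_locQuot
    (FieldDim.isDimFun_fdelta (K := Y.residueField (f x)) (f.fiberToSpecResidueField (f x)))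
    (f.asFiber x) a hsp
  rw [fdelta_fiber, fdelta_fiber, f.fiberι_asFiber, ha] at h
  refine le_trans ?_ (add_le_add (h ▸ ringKrullDim_quotient_le _) le_rfl)
  have h1 : ((trd f ζ : ℤ) - trd f x).toNat + trd f x = trd f ζ := by
    have := trd_le f hs hζ
    omega
  rw [← Nat.cast_add, h1]

end Groth.Agent.H46.Equidim
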