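import Groth.Agent.H46.UnibranchSch
import Groth.Agent.H46.Equidim
import Groth.Agent.H46.DimEquiJac

/-!
# Consequences of Chevalley's criterion
-/

universe u

open CategoryTheory AlgebraicGeometry Topology
open Groth.Agent.H46.FibreTrdeg Groth.Agent.Lib.Cyc

namespace Groth.Agent.H46.UnibranchCrit

variable {X Y : Scheme.{u}}

/-- A unibranch point lies on one irreducible component only. -/
theorem eq_of_isUnibranch {y : Y} (hy : CAlg2.IsUnibranch (Y.presheaf.stalk y)) {η η' : Y}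
    (hη : DimFun.IsMaxPt η) (h : η ⤳ y) (hη' : DimFun.IsMaxPt η') (h' : η' ⤳ y) : η = η' := by
  haveI := hy.1
  have hN : (nilradical (Y.presheaf.stalk y)).IsPrime :=
    (Ideal.Quotient.isDomain_iff_prime _).1 hy.1
  let P : PrimeSpectrum (Y.presheaf.stalk y) := ⟨nilradical _, hN⟩
  have key : ∀ z, DimFun.IsMaxPt z → ∀ hz : z ⤳ y, z = Y.fromSpecStalk y P := by
    intro z hz hzy
    have h1 : P ≤ DimFun.genPrime y z hzy := nilradical_le_prime _
    refine (hz _ ?_).symm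
    have h2 := (DimFun.fromSpecStalk_specializes_iff y _ _).2 h1
    rwa [DimFun.fromSpecStalk_genPrime] at h2
  exact (key η hη h).trans (key η' hη' h').symm

theorem nhd_of_finite {η y : Y} (hy : CAlg2.IsUnibranch (Y.presheaf.stalk y))
    (hη : DimFun.IsMaxPt η) (h : η ⤳ y) {U : Set Y} (hU : IsOpen U) (hyU : y ∈ U)
    (hfin : {z ∈ U | DimFun.IsMaxPt z}.Finite) : closure ({η} : Set Y) ∈ 𝓝 y := by
  let B : Set Y := ⋃ z ∈ {z ∈ U | DimFun.IsMaxPt z ∧ z ≠ η}, closure {z}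
  have hB : IsClosed B := Set.Finite.isClosed_biUnion
    (hfin.subset fun z hz => ⟨hz.1, hz.2.1⟩) fun z _ => isClosed_closure
  refine Filter.mem_of_superset ((hU.inter hB.isOpen_compl).mem_nhds ⟨hyU, ?_⟩) ?_
  · simp only [B, Set.mem_compl_iff, Set.mem_iUnion, not_exists]
    exact fun z hz hc => hz.2.2
      (eq_of_isUnibranch hy hz.2.1 (specializes_iff_mem_closure.2 hc) hη h)
  · rintro u ⟨huU, huB⟩
    obtain ⟨z, hzu, hz⟩ := DimFun.exists_isMaxPt_specializes u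
    by_cases e : z = η
    · exact e ▸ hzu.mem_closure
    · have hz' : z ∈ {z ∈ U | DimFun.IsMaxPt z ∧ z ≠ η} := ⟨hzu.mem_open hU huU, hz, e⟩
      exact absurd (Set.mem_biUnion (t := fun a => closure ({a} : Set Y)) hz' hzu.mem_closure) huB

theorem nhd_of_noetherian [IsLocallyNoetherian Y] {η y : Y}
    (hy : CAlg2.IsUnibranch (Y.presheaf.stalk y)) (hη : DimFun.IsMaxPt η) (h : η ⤳ y) :
    closure ({η} : Set Y) ∈ 𝓝 y := by
  obtain ⟨U, hU, hyU, hfin⟩ := DimFun.exists_open_finite_maxPts (isClosed_univ (X := Y)) y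
  exact nhd_of_finite hy hη h hU hyU (hfin.subset fun z hz =>
    ⟨hz.1, trivial, fun w _ hw => hz.2 w hw⟩)

theorem nhd_of_irreducible [IrreducibleSpace Y] {η : Y} (hη : DimFun.IsMaxPt η) (y : Y) :
    closure ({η} : Set Y) ∈ 𝓝 y := by
  obtain rfl : genericPoint Y = η := hη _ (genericPoint_specializes η)
  rw [genericPoint_closure]
  exact Filter.univ_mem

theorem nhd_of_finite_components (hfin : (irreducibleComponents (Y : Type u)).Finite) {η y : Y}
    (hy : CAlg2.IsUnibranch (Y.presheaf.stalk y)) (hη : DimFun.IsMaxPt η) (h : η ⤳ y) :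
    closure ({η} : Set Y) ∈ 𝓝 y := by
  refine nhd_of_finite hy hη h isOpen_univ trivial
    (Set.Finite.of_finite_image (f := fun z => closure ({z} : Set Y)) (hfin.subset ?_) ?_)
  · rintro _ ⟨z, hz, rfl⟩
    exact Equidim.isMaxPt_iff_closure_mem.1 hz.2
  · exact fun a _ b _ e => Equidim.closure_singleton_inj e

theorem isMaxPt_genericPoint [IrreducibleSpace Y] : DimFun.IsMaxPt (genericPoint Y) :=
  fun _ hy => (hy.antisymm (genericPoint_specializes _)).eq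

variable (f : X ⟶ Y) [LocallyOfFiniteType f]

/-- `trdeg κ(ξ) ≥ dim_x` of the fibre suffices. -/
theorem isUnivOpenAt_of_le {x ξ : X} (hs : ξ ⤳ x)
    (hnhd : closure ({f ξ} : Set Y) ∈ 𝓝 (f x))
    (hy : CAlg2.IsGeomUnibranch (Y.presheaf.stalk (f x)))
    (hle : FlatMor.fibreDimAt f x ≤ (trd f ξ : WithBot ℕ∞)) : EGA43.IsUnivOpenAt f x :=
  UnibranchSch.isUnivOpenAt_of_trd f hs hnhd hy fun ζ _ hζx hfζ =>
    (fibreDimAt_le_iff f x _).1 hle ζ hfζ hζx

theorem isUnivOpenAt_of_component [IsLocallyNoetherian Y] {x ξ : X} (hs : ξ ⤳ x)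
    (hfξ : DimFun.IsMaxPt (f ξ)) (hy : CAlg2.IsGeomUnibranch (Y.presheaf.stalk (f x)))
    (hle : FlatMor.fibreDimAt f x ≤ (trd f ξ : WithBot ℕ∞)) : EGA43.IsUnivOpenAt f x :=
  isUnivOpenAt_of_le f hs (nhd_of_noetherian hy.1 hfξ (hs.map f.continuous)) hy hle

/-- A component computing the local fibre dimension, from openness at a maximal point of the
fibre. -/
theorem exists_component_of_isOpenAt [IsLocallyNoetherian Y] {x ζ : X} (hζ : f ζ = f x)
    (hζx : ζ ⤳ x) (hmax : IsMaxFib f ζ) (hopen : EGA43.IsOpenAt f.base ζ) (η : Y)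
    (hη : DimFun.IsMaxPt η) (hηy : η ⤳ f x) :
    ∃ ξ, DimFun.IsMaxPt ξ ∧ ξ ⤳ ζ ∧ ξ ⤳ x ∧ f ξ = η ∧ trd f ζ ≤ trd f ξ := by
  obtain ⟨ξ', hξ', hfξ', he⟩ := OpenDim.exists_trd_eq f ζ hmax hopen η (hζ ▸ hηy)
  obtain ⟨ξ, hξξ', hξ⟩ := DimFun.exists_isMaxPt_specializes ξ'
  have hfξ : f ξ = η := hη _ (hfξ' ▸ hξξ'.map f.continuous)
  exact ⟨ξ, hξ, hξξ'.trans hξ', (hξξ'.trans hξ').trans hζx, hfξ,
    he ▸ trd_le f hξξ' (hfξ.trans hfξ'.symm)⟩

theorem isUnivOpenAt_of_isOpenAt [IsLocallyNoetherian Y] {x ζ : X} (hζ : f ζ = f x) (hζx : ζ ⤳ x)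
    (hmax : IsMaxFib f ζ) (he : FlatMor.fibreDimAt f x = (trd f ζ : WithBot ℕ∞))
    (hopen : EGA43.IsOpenAt f.base ζ) (hy : CAlg2.IsGeomUnibranch (Y.presheaf.stalk (f x))) :
    EGA43.IsUnivOpenAt f x := by
  obtain ⟨η, hηy, hη⟩ := DimFun.exists_isMaxPt_specializes (f x)
  obtain ⟨ξ, -, -, hξx, hfξ, hle⟩ := exists_component_of_isOpenAt f hζ hζx hmax hopen η hη hηy
  exact isUnivOpenAt_of_component f hξx (hfξ.symm ▸ hη) hy
    (he ▸ (by exact_mod_cast hle))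

theorem isUnivOpenAt_of_quasiFinite [IsLocallyNoetherian Y] [LocallyQuasiFinite f] {x ξ : X}
    (hs : ξ ⤳ x) (hfξ : DimFun.IsMaxPt (f ξ))
    (hy : CAlg2.IsGeomUnibranch (Y.presheaf.stalk (f x))) : EGA43.IsUnivOpenAt f x := by
  refine UnibranchSch.isUnivOpenAt_of_trd f hs (nhd_of_noetherian hy.1 hfξ (hs.map f.continuous))
    hy fun ζ _ _ _ => ?_
  rw [AffineFib.trd_eq_zero_of_locallyQuasiFinite f ζ]
  exact Nat.zero_le _

theorem trd_eq_zero_of_isolated {x : X} (h : nhdsWithin x (f.base ⁻¹' {f.base x}) = pure x) :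
    IsMaxFib f x ∧ trd f x = 0 := by
  obtain ⟨U, hU, hxU, hsub⟩ :=
    mem_nhdsWithin.1 (h ▸ (Filter.mem_pure.2 rfl : ({x} : Set X) ∈ (pure x : Filter X)))
  refine ⟨fun x' hx' hs => hsub ⟨hs.mem_open hU hxU, hx'⟩, Nat.le_zero.1 ?_⟩
  refine (dim_open_inter_le_iff f ⟨U, hU⟩ (f x) 0).1 ?_ x hxU rfl
  haveI : Subsingleton ↥(U ∩ f.base ⁻¹' {f.base x}) :=
    ⟨fun a b => Subtype.ext ((hsub a.2).trans (hsub b.2).symm)⟩
  haveI : DiscreteTopology ↥(U ∩ f.base ⁻¹' {f.base x}) := Subsingleton.discreteTopology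
  rw [Nat.cast_zero]
  exact topologicalKrullDim_zero_of_discreteTopology _

end Groth.Agent.H46.UnibranchCrit
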