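import Groth.Agent.H46.UnibranchTFAE
import Groth.Agent.Lib.Regular.UFD
import Groth.Agent.Lib.Regular.Quotient

/-!
# Components dominating a regular curve
-/

universe u

open CategoryTheory AlgebraicGeometry Topology
open Groth.Agent.H46.FibreTrdeg Groth.Agent.Lib.Cyc Groth.Agent.H46.DimData

namespace Groth.Agent.H46.UnibranchDim1

/-- Normal local domains are geometrically unibranch. -/
theorem isGeomUnibranch_of_isIntegrallyClosed (O : Type u) [CommRing O] [IsLocalRing O] [IsDomain O]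
    [IsIntegrallyClosed O] : CAlg2.IsGeomUnibranch O := by
  have hnil : nilradical O = ⊥ := nilradical_eq_zero O
  let A := CAlg2.red O
  let e : A ≃+* O := (Ideal.quotEquivOfEq hnil).trans (RingEquiv.quotientBot O)
  haveI : IsDomain A := e.toMulEquiv.isDomain O
  haveI : IsIntegrallyClosed A := IsIntegrallyClosed.of_equiv e.symm
  haveI : IsLocalRing A := e.symm.isLocalRing
  have hsurj : Function.Surjective (algebraMap A (CAlg2.normRed O)) := fun x => by
    obtain ⟨a, ha⟩ := IsIntegrallyClosed.isIntegral_iff.1 x.2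
    exact ⟨a, Subtype.ext ha⟩
  have hinj : Function.Injective (algebraMap A (CAlg2.normRed O)) := fun a b h =>
    IsFractionRing.injective A (FractionRing A) (congrArg Subtype.val h)
  refine ⟨⟨inferInstanceAs (IsDomain A), (RingEquiv.ofBijective _ ⟨hinj, hsurj⟩).isLocalRing⟩,
    fun m' _ x => ⟨0, ?_⟩⟩
  obtain ⟨x, rfl⟩ := Ideal.Quotient.mk_surjective x
  obtain ⟨a, rfl⟩ := hsurj x
  obtain ⟨o, rfl⟩ := Ideal.Quotient.mk_surjective a
  rw [pow_zero, pow_one]
  exact ⟨o, rfl⟩

variable {X Y : Scheme.{u}}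

theorem isGeomUnibranch_of_regular {y : Y} (h : IsRegularLocalRing (Y.presheaf.stalk y)) :
    CAlg2.IsGeomUnibranch (Y.presheaf.stalk y) := by
  haveI := h
  haveI := Groth.Agent.Lib.Regular.Quotient.isDomain (Y.presheaf.stalk y)
  haveI := Groth.Agent.Lib.Regular.UFD.isIntegrallyClosed (Y.presheaf.stalk y)
  exact isGeomUnibranch_of_isIntegrallyClosed _

variable [IsLocallyNoetherian Y] [IrreducibleSpace Y] (f : X ⟶ Y) [LocallyOfFiniteType f]

/-- Over a curve a dominant component has generic fibre of dimension at least the dimension of its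
closed fibres. -/
theorem trd_le_of_dominant (hY : ∀ y : Y, ringKrullDim (Y.presheaf.stalk y) ≤ 1) {ξ a : X}
    (h : ξ ⤳ a) (hfξ : f ξ = genericPoint Y) : trd f a ≤ trd f ξ := by
  haveI := LocallyOfFiniteType.isLocallyNoetherian f
  by_cases he : f ξ = f a
  · exact trd_le f h he
  have h1 := qd_ineq f h
  have h2 : qd (h.map f.continuous) ≤ 1 := by
    have := (qd_le_sd (h.map f.continuous))
    have h3 := hY (f a)
    rw [ringKrullDim_stalk] at h3
    have : sd (f a) ≤ 1 := by exact_mod_cast h3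
    omega
  have h4 : qd (specializes_rfl : a ⤳ a) < qd h := qd_lt specializes_rfl h h fun e => he (by rw [e])
  omega

variable (hY : ∀ y : Y, IsRegularLocalRing (Y.presheaf.stalk y) ∧ ringKrullDim (Y.presheaf.stalk y) ≤ 1)
include hY

theorem isUnivOpenAt_of_dominant {x : X}
    (h : ∀ ξ, DimFun.IsMaxPt ξ → ξ ⤳ x → f ξ = genericPoint Y) : EGA43.IsUnivOpenAt f x := by
  obtain ⟨ζ, hζ, hζx, -, he⟩ := exists_isMaxFib_trd_eq f x
  obtain ⟨ξ, hξζ, hξ⟩ := DimFun.exists_isMaxPt_specializes ζ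
  have hfξ := h ξ hξ (hξζ.trans hζx)
  refine UnibranchCrit.isUnivOpenAt_of_component f (hξζ.trans hζx)
    (hfξ.symm ▸ UnibranchCrit.isMaxPt_genericPoint) (isGeomUnibranch_of_regular (hY _).1) ?_
  rw [he, Nat.cast_le]
  exact trd_le_of_dominant f (fun y => (hY y).2) hξζ hfξ

/-- Closed subset made of the components not dominating `Y`. -/
theorem exists_open_dominant (y : Y)
    (h : ∀ Z ∈ irreducibleComponents (X : Type u), (Z ∩ f.base ⁻¹' {y}).Nonempty →
      Dense (f.base '' Z)) :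
    ∃ U : X.Opens, f.base ⁻¹' {y} ⊆ (U : Set X) ∧
      ∀ ξ, DimFun.IsMaxPt ξ → ξ ∈ U → f ξ = genericPoint Y := by
  haveI := LocallyOfFiniteType.isLocallyNoetherian f
  refine ⟨⟨⋃ V ∈ {V : X.Opens | ∀ ξ, DimFun.IsMaxPt ξ → ξ ∈ V → f ξ = genericPoint Y}, (V : Set X),
    isOpen_biUnion fun V _ => V.2⟩, fun x hx => ?_, fun ξ hξ hξU => ?_⟩
  · obtain ⟨V, hxV, hV⟩ := UnibranchTFAE.exists_nhd_max x
    refine Set.mem_biUnion (t := fun V : X.Opens => (V : Set X)) (x := V) ?_ hxV
    intro ξ hξ hξV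
    have hd := h _ (Equidim.isMaxPt_iff_closure_mem.1 hξ) ⟨x, (hV ξ hξV hξ).mem_closure, hx⟩
    rw [dense_iff_closure_eq, Equidim.closure_image_closure', ← genericPoint_closure] at hd
    exact Equidim.closure_singleton_inj hd
  · obtain ⟨V, hV, hξV⟩ := Set.mem_iUnion₂.1 hξU
    exact hV ξ hξ hξV

end Groth.Agent.H46.UnibranchDim1
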