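import Groth.Agent.H46.UnibranchSch
import Groth.Agent.H46.UnibranchCrit
import Groth.Agent.H46.UnibranchDim1
import Groth.Agent.H46.OpenDim
import Groth.Agent.H46.UnivOpen
import Groth.Agent.S0385

/-!
# Universal openness through finite base changes
-/

universe u

open CategoryTheory AlgebraicGeometry Limits Topology TensorProduct
open Groth.Agent.H46.FibreTrdeg Groth.Agent.Lib.Cyc

namespace Groth.Agent.H46.UnivOpenFinite

section algebra

variable {R A B C : Type u} [CommRing R] [CommRing A] [CommRing B] [CommRing C] [Algebra R A]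
  [Algebra R B] [Algebra R C]

theorem exists_prime_over (j : B →ₐ[R] C) (X : PrimeSpectrum (B ⊗[R] A)) (c : PrimeSpectrum C)
    (h : c.asIdeal.comap j.toRingHom = X.asIdeal.comap (algebraMap B (B ⊗[R] A))) :
    ∃ P : PrimeSpectrum (C ⊗[R] A),
      P.asIdeal.comap (Algebra.TensorProduct.map j (AlgHom.id R A)).toRingHom = X.asIdeal ∧
        P.asIdeal.comap (algebraMap C (C ⊗[R] A)) = c.asIdeal := by
  let b : PrimeSpectrum B := ⟨X.asIdeal.comap (algebraMap B (B ⊗[R] A)), inferInstance⟩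
  obtain ⟨L, _, j₁, j₂, hj⟩ := UnibranchLift.exists_common_field
    (Ideal.ResidueField.map b.asIdeal c.asIdeal j.toRingHom h.symm)
    (Ideal.ResidueField.map b.asIdeal X.asIdeal (algebraMap B (B ⊗[R] A)) rfl)
  let f₁ : C →+* L := j₁.comp (algebraMap C c.asIdeal.ResidueField)
  let f₂ : B ⊗[R] A →+* L := j₂.comp (algebraMap _ X.asIdeal.ResidueField)
  have hagree : ∀ z, f₁ (j z) = f₂ (algebraMap B (B ⊗[R] A) z) := fun z => by
    have := RingHom.congr_fun hj (algebraMap _ b.asIdeal.ResidueField z)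
    rw [RingHom.comp_apply, RingHom.comp_apply, Ideal.ResidueField.map_algebraMap,
      Ideal.ResidueField.map_algebraMap] at this
    exact this
  letI : Algebra R L := (f₁.comp (algebraMap R C)).toAlgebra
  let g₁ : C →ₐ[R] L := { f₁ with commutes' := fun r => rfl }
  let ir : A →ₐ[R] B ⊗[R] A := Algebra.TensorProduct.includeRight
  let g₂ : A →ₐ[R] L :=
    { f₂.comp ir.toRingHom with
      commutes' := fun r => by
        show f₂ (ir (algebraMap R A r)) = f₁ (algebraMap R C r)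
        rw [ir.commutes, IsScalarTower.algebraMap_apply R B (B ⊗[R] A), ← hagree, j.commutes] }
  let Φ : C ⊗[R] A →ₐ[R] L := Algebra.TensorProduct.lift g₁ g₂ fun _ _ => Commute.all _ _
  have hΦ : ∀ z, Φ (Algebra.TensorProduct.map j (AlgHom.id R A) z) = f₂ z := by
    intro z
    induction z with
    | zero => simp
    | tmul b a =>
      rw [Algebra.TensorProduct.map_tmul, Algebra.TensorProduct.lift_tmul,
        show b ⊗ₜ[R] a = algebraMap B (B ⊗[R] A) b * ir a by
          simp [ir, Algebra.TensorProduct.algebraMap_apply], map_mul, ← hagree]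
      rfl
    | add x y hx hy => simp only [map_add, hx, hy]
  refine ⟨⟨RingHom.ker Φ.toRingHom, RingHom.ker_isPrime _⟩, Ideal.ext fun z => ?_,
    Ideal.ext fun z => ?_⟩
  · show Φ (Algebra.TensorProduct.map j (AlgHom.id R A) z) = 0 ↔ _
    rw [hΦ]
    simp [f₂]
  · show Φ (algebraMap C (C ⊗[R] A) z) = 0 ↔ _
    simp [Φ, g₁, f₁, Algebra.TensorProduct.algebraMap_apply]

theorem isIntegral_map (j : B →ₐ[R] C) [Algebra.IsIntegral R C] :
    (Algebra.TensorProduct.map j (AlgHom.id R A)).toRingHom.IsIntegral := by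
  intro z
  induction z with
  | zero => exact RingHom.isIntegralElem_zero _
  | tmul c a =>
    rw [show c ⊗ₜ[R] a = (c ⊗ₜ[R] (1 : A)) * ((1 : C) ⊗ₜ[R] a) by
      rw [Algebra.TensorProduct.tmul_mul_tmul, mul_one, one_mul]]
    refine RingHom.IsIntegralElem.mul _ ?_ ?_
    · obtain ⟨P, hP, hPc⟩ := Algebra.IsIntegral.isIntegral (R := R) c
      refine ⟨P.map (algebraMap R (B ⊗[R] A)), hP.map _, ?_⟩
      rw [Polynomial.eval₂_map,
        show (Algebra.TensorProduct.map j (AlgHom.id R A)).toRingHom.comp (algebraMap R (B ⊗[R] A)) =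
          (Algebra.TensorProduct.includeLeftRingHom : C →+* C ⊗[R] A).comp (algebraMap R C) from
          RingHom.ext fun r => ((Algebra.TensorProduct.map j (AlgHom.id R A)).commutes r).trans
            (Algebra.TensorProduct.algebraMap_apply r),
        show c ⊗ₜ[R] (1 : A) = (Algebra.TensorProduct.includeLeftRingHom : C →+* C ⊗[R] A) c from rfl,
        ← Polynomial.hom_eval₂, hPc, map_zero]
    · have : Algebra.TensorProduct.map j (AlgHom.id R A) ((1 : B) ⊗ₜ[R] a) = (1 : C) ⊗ₜ[R] a := by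
        simp
      rw [← this]
      exact RingHom.isIntegralElem_map _
  | add x y hx hy => exact RingHom.IsIntegralElem.add _ hx hy

theorem exists_fg_map_range (z : C ⊗[R] A) : ∃ D : Subalgebra R C, D.FG ∧
    z ∈ Set.range (Algebra.TensorProduct.map D.val (AlgHom.id R A)) := by
  induction z with
  | zero => exact ⟨⊥, Subalgebra.fg_bot, 0, map_zero _⟩
  | tmul c a =>
    exact ⟨Algebra.adjoin R {c}, ⟨{c}, by simp⟩,
      (⟨c, Algebra.subset_adjoin rfl⟩ : Algebra.adjoin R {c}) ⊗ₜ[R] a, by simp⟩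
  | add x y hx hy =>
    obtain ⟨D, hD, a, rfl⟩ := hx
    obtain ⟨E, hE, b, rfl⟩ := hy
    refine ⟨D ⊔ E, hD.sup hE,
      Algebra.TensorProduct.map (Subalgebra.inclusion (le_sup_left : D ≤ D ⊔ E)) (AlgHom.id R A) a +
        Algebra.TensorProduct.map (Subalgebra.inclusion (le_sup_right : E ≤ D ⊔ E)) (AlgHom.id R A) b,
      ?_⟩
    rw [map_add, ← AlgHom.comp_apply, ← AlgHom.comp_apply, ← Algebra.TensorProduct.map_comp,
      ← Algebra.TensorProduct.map_comp]
    rfl

/-- Integral maps have algebraic residue field extensions. -/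
theorem trdegAt_eq_zero_of_isIntegral (φ : A →+* B) (hφ : φ.IsIntegral)
    (x : ↥(Spec (CommRingCat.of B))) :
    Residue.trdegAt (Spec.map (CommRingCat.ofHom φ)) x = 0 := by
  let x₀ : PrimeSpectrum B := x
  let y₀ : PrimeSpectrum A := PrimeSpectrum.comap φ x₀
  let K' := y₀.asIdeal.ResidueField
  let L' := x₀.asIdeal.ResidueField
  let K := (Spec (CommRingCat.of A)).residueField ((Spec.map (CommRingCat.ofHom φ)) x)
  let L := (Spec (CommRingCat.of B)).residueField x
  let eK : K' ≃+* K :=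
    (Scheme.Spec.residueFieldIso (CommRingCat.of A) y₀).symm.commRingCatIsoToRingEquiv
  let eL : L' ≃+* L :=
    (Scheme.Spec.residueFieldIso (CommRingCat.of B) x₀).symm.commRingCatIsoToRingEquiv
  let ρ : K →+* L := ((Spec.map (CommRingCat.ofHom φ)).residueFieldMap x).hom
  have hsq : ρ.comp eK.toRingHom =
      eL.toRingHom.comp (Ideal.ResidueField.map y₀.asIdeal x₀.asIdeal φ rfl) :=
    congrArg CommRingCat.Hom.hom (Groth.Agent.Lib.EtaPt.SpecResidue.residueFieldIso_square φ x₀)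
  letI : Algebra K L := ρ.toAlgebra
  have halg : ∀ b : B, IsIntegral K (eL (algebraMap B L' b)) := by
    intro b
    obtain ⟨P, hP, hPb⟩ := hφ b
    refine ⟨P.map (eK.toRingHom.comp (algebraMap A K')), hP.map _, ?_⟩
    rw [Polynomial.eval₂_map]
    have hc : (algebraMap K L).comp (eK.toRingHom.comp (algebraMap A K')) =
        (eL.toRingHom.comp (algebraMap B L')).comp φ := by
      rw [← RingHom.comp_assoc]
      show (ρ.comp eK.toRingHom).comp _ = _
      rw [hsq]
      exact RingHom.ext fun a =>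
        congrArg eL (Ideal.ResidueField.map_algebraMap y₀.asIdeal x₀.asIdeal φ rfl a)
    rw [hc, show eL (algebraMap B L' b) = (eL.toRingHom.comp (algebraMap B L')) b from rfl,
      ← Polynomial.hom_eval₂, hPb, map_zero]
  haveI : Algebra.IsAlgebraic K L := by
    refine Algebra.isAlgebraic_iff_isIntegral.mpr ⟨fun c => ?_⟩
    obtain ⟨r, a, hr, hra⟩ := UnibranchQF.exists_fraction x₀.asIdeal (eL.symm c)
    have h := congrArg eL hra
    rw [map_mul, RingEquiv.apply_symm_apply] at h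
    have : c = (eL (algebraMap B L' r))⁻¹ * eL (algebraMap B L' a) := by
      rw [eq_inv_mul_iff_mul_eq₀ ((map_ne_zero_iff _ eL.injective).2 hr)]
      exact h
    rw [this]
    exact (halg r).inv.mul (halg a)
  exact trdeg_eq_zero

end algebra

section spec

variable {R₀ A : Type u} [CommRing R₀] [CommRing A] [Algebra R₀ A]

/-- The morphism `Spec A → Spec R₀`. -/
noncomputable abbrev sm (R₀ A : Type u) [CommRing R₀] [CommRing A] [Algebra R₀ A] :
    Spec (CommRingCat.of A) ⟶ Spec (CommRingCat.of R₀) :=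
  Spec.map (CommRingCat.ofHom (algebraMap R₀ A))

/-- Spec `C ⊗ A → Spec A`. -/
noncomputable abbrev pr (R₀ C A : Type u) [CommRing R₀] [CommRing C] [CommRing A] [Algebra R₀ A]
    [Algebra R₀ C] : Spec (CommRingCat.of (C ⊗[R₀] A)) ⟶ Spec (CommRingCat.of A) :=
  Spec.map (CommRingCat.ofHom
    (Algebra.TensorProduct.includeRight : A →ₐ[R₀] C ⊗[R₀] A).toRingHom)

theorem isPullback_pr (C : Type u) [CommRing C] [Algebra R₀ C] :
    IsPullback (pr R₀ C A) (sm C (C ⊗[R₀] A)) (sm R₀ A) (sm R₀ C) :=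
  isPullback_SpecMap_of_isPushout _ _ _ _ (CommRingCat.isPushout_tensorProduct R₀ C A).flip

/-- Residue transcendence degrees are unchanged by integral base change. -/
theorem trdegAt_baseChange (C : Type u) [CommRing C] [Algebra R₀ C] [Algebra.IsIntegral R₀ C]
    (P : ↥(Spec (CommRingCat.of (C ⊗[R₀] A)))) :
    Residue.trdegAt (sm C (C ⊗[R₀] A)) P = Residue.trdegAt (sm R₀ A) (pr R₀ C A P) := by
  have hint : ((Algebra.TensorProduct.includeRight : A →ₐ[R₀] C ⊗[R₀] A).toRingHom).IsIntegral := by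
    intro z
    induction z with
    | zero => exact RingHom.isIntegralElem_zero _
    | tmul c a =>
      rw [show c ⊗ₜ[R₀] a = (c ⊗ₜ[R₀] (1 : A)) * ((1 : C) ⊗ₜ[R₀] a) by
        rw [Algebra.TensorProduct.tmul_mul_tmul, mul_one, one_mul]]
      refine RingHom.IsIntegralElem.mul _ ?_ (RingHom.isIntegralElem_map _)
      obtain ⟨P, hP, hPc⟩ := Algebra.IsIntegral.isIntegral (R := R₀) c
      refine ⟨P.map (algebraMap R₀ A), hP.map _, ?_⟩
      rw [Polynomial.eval₂_map,
        show (Algebra.TensorProduct.includeRight : A →ₐ[R₀] C ⊗[R₀] A).toRingHom.comp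
            (algebraMap R₀ A) =
          (Algebra.TensorProduct.includeLeftRingHom : C →+* C ⊗[R₀] A).comp (algebraMap R₀ C) from
          RingHom.ext fun r =>
            ((Algebra.TensorProduct.includeRight : A →ₐ[R₀] C ⊗[R₀] A).commutes r).trans
            (Algebra.TensorProduct.algebraMap_apply r),
        show c ⊗ₜ[R₀] (1 : A) = (Algebra.TensorProduct.includeLeftRingHom : C →+* C ⊗[R₀] A) c from rfl,
        ← Polynomial.hom_eval₂, hPc, map_zero]
    | add x y hx hy => exact RingHom.IsIntegralElem.add _ hx hy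
  have h := FieldDim.trdegAt_congr (isPullback_pr (A := A) C).w P
  rw [Residue.trdegAt_comp, Residue.trdegAt_comp, trdegAt_eq_zero_of_isIntegral _ hint,
    trdegAt_eq_zero_of_isIntegral _ (algebraMap_isIntegral_iff.2 ‹Algebra.IsIntegral R₀ C›),
    add_zero, zero_add] at h
  exact h.symm

theorem trd_baseChange (C : Type u) [CommRing C] [Algebra R₀ C] [Algebra.IsIntegral R₀ C]
    (P : ↥(Spec (CommRingCat.of (C ⊗[R₀] A)))) :
    trd (sm C (C ⊗[R₀] A)) P = trd (sm R₀ A) (pr R₀ C A P) := by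
  rw [trd, trd, trdegAt_baseChange]

variable [IsNoetherianRing R₀] [Algebra.FiniteType R₀ A]

omit [IsNoetherianRing R₀] in
theorem lft_sm (C B : Type u) [CommRing C] [CommRing B] [Algebra C B] [Algebra.FiniteType C B] :
    LocallyOfFiniteType (sm C B) :=
  (HasRingHomProperty.Spec_iff (P := @LocallyOfFiniteType)).2
    (RingHom.finiteType_algebraMap.2 ‹_›)

/-- The main step: over the normalization of a component, the base change is universally open. -/
theorem isUnivOpenAt_normalization (Q : ↥(Spec (CommRingCat.of A)))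
    (hmax : IsMaxFib (sm R₀ A) Q)
    (H : ∀ (B : Type u) [CommRing B] [IsDomain B] [Algebra R₀ B] [Module.Finite R₀ B]
      (P : ↥(Spec (CommRingCat.of (B ⊗[R₀] A)))), pr R₀ B A P = Q →
        EGA43.IsOpenAt (sm B (B ⊗[R₀] A)).base P)
    (C : Type u) [CommRing C] [IsDomain C] [IsIntegrallyClosed C] [Algebra R₀ C]
    [Algebra.IsIntegral R₀ C] (P₁ : ↥(Spec (CommRingCat.of (C ⊗[R₀] A))))
    (hP₁ : pr R₀ C A P₁ = Q) : EGA43.IsUnivOpenAt (sm C (C ⊗[R₀] A)) P₁ := by
  classical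
  haveI := lft_sm (C := R₀) (B := A)
  haveI : Algebra.FiniteType C (C ⊗[R₀] A) := inferInstance
  haveI := lft_sm C (C ⊗[R₀] A)
  let f₁ := sm C (C ⊗[R₀] A)
  let η₁ : ↥(Spec (CommRingCat.of C)) := (⟨⊥, Ideal.isPrime_bot⟩ : PrimeSpectrum C)
  have hη₁ : ∀ z : ↥(Spec (CommRingCat.of C)), η₁ ⤳ z :=
    fun z => (PrimeSpectrum.le_iff_specializes _ z).1 bot_le
  haveI := QFin.isLocallyNoetherian_fiber f₁ η₁
  haveI : CompactSpace ↥(f₁.fiber η₁) := inferInstance
  haveI : IsNoetherian (f₁.fiber η₁) := ⟨⟩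
  let Pm : Set ↥(Spec (CommRingCat.of (C ⊗[R₀] A))) := f₁.fiberι η₁ ''
    {z ∈ Set.univ | ∀ w ∈ Set.univ, w ⤳ z → w = z}
  have hPm : Pm.Finite := (DimFun.finite_maxPts isClosed_univ).image _
  suffices ∃ P ∈ Pm, P ⤳ P₁ ∧ trd (sm R₀ A) Q ≤ trd f₁ P by
    obtain ⟨P, ⟨z, -, rfl⟩, hs, hle⟩ := this
    have hfP : f₁ (f₁.fiberι η₁ z) = η₁ := FieldDim.apply_fiberι f₁ η₁ z
    refine UnibranchSch.isUnivOpenAt_of_trd f₁ hs ?_ ?_ fun ζ _ hζ hfζ => ?_
    · rw [show f₁ (f₁.fiberι η₁ z) = η₁ from hfP]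
      exact Filter.mem_of_superset Filter.univ_mem fun a _ => (hη₁ a).mem_closure
    · let p : PrimeSpectrum C := f₁ P₁
      haveI : IsLocalization.AtPrime
          ((Spec.structureSheaf (CommRingCat.of C)).presheaf.stalk p) p.asIdeal := inferInstance
      haveI : IsDomain ((Spec.structureSheaf (CommRingCat.of C)).presheaf.stalk p) :=
        IsLocalization.isDomain_of_le_nonZeroDivisors _ p.asIdeal.primeCompl_le_nonZeroDivisors
      haveI : IsIntegrallyClosed ((Spec.structureSheaf (CommRingCat.of C)).presheaf.stalk p) :=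
        isIntegrallyClosed_of_isLocalization _ p.asIdeal.primeCompl
          p.asIdeal.primeCompl_le_nonZeroDivisors
      haveI : IsLocalRing ((Spec.structureSheaf (CommRingCat.of C)).presheaf.stalk p) :=
        IsLocalization.AtPrime.isLocalRing _ p.asIdeal
      exact UnibranchDim1.isGeomUnibranch_of_isIntegrallyClosed
        ((Spec.structureSheaf (CommRingCat.of C)).presheaf.stalk p)
    · have h1 : pr R₀ C A ζ = Q := by
        refine hmax _ ?_ (hP₁ ▸ hζ.map (pr R₀ C A).continuous)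
        rw [← hP₁, ← Scheme.Hom.comp_apply, ← Scheme.Hom.comp_apply,
          (isPullback_pr (A := A) C).w, Scheme.Hom.comp_apply, Scheme.Hom.comp_apply]
        exact congrArg _ hfζ
      rw [trd_baseChange, h1]
      exact hle
  by_contra hcon
  push Not at hcon
  let Qm := {P ∈ Pm | trd (sm R₀ A) Q ≤ trd f₁ P}
  have hsep : ∀ P ∈ Qm, ∃ z : C ⊗[R₀] A,
      z ∈ PrimeSpectrum.asIdeal P ∧ z ∉ PrimeSpectrum.asIdeal P₁ := fun P hP => by
    by_contra hc
    push Not at hc
    exact absurd hP.2 (not_le.2 (hcon P hP.1 ((PrimeSpectrum.le_iff_specializes _ _).1 hc)))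
  choose z hzP hzP₁ using hsep
  obtain ⟨B, hBfg, hB⟩ : ∃ B : Subalgebra R₀ C, B.FG ∧ ∀ P (hP : P ∈ Qm), z P hP ∈
      Set.range (Algebra.TensorProduct.map B.val (AlgHom.id R₀ A)) := by
    have hQm : Qm.Finite := hPm.subset fun P hP => hP.1
    have := hQm.fintype
    choose D hD hzD using fun P : Qm => exists_fg_map_range (z P.1 P.2)
    refine ⟨⨆ P : Qm, D P, ?_, fun P hP => ?_⟩
    · rw [← Finset.sup_univ_eq_iSup]
      exact Finset.sup_induction Subalgebra.fg_bot (fun _ ha _ hb => ha.sup hb) fun P _ => hD P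
    · obtain ⟨w, hw⟩ := hzD ⟨P, hP⟩
      refine ⟨Algebra.TensorProduct.map (Subalgebra.inclusion (le_iSup D ⟨P, hP⟩))
        (AlgHom.id R₀ A) w, ?_⟩
      rw [← hw, ← AlgHom.comp_apply, ← Algebra.TensorProduct.map_comp]
      rfl
  haveI : Algebra.IsIntegral R₀ B :=
    Algebra.IsIntegral.of_injective B.val Subtype.val_injective
  haveI : Algebra.FiniteType R₀ B := ⟨B.fg_top.2 hBfg⟩
  haveI : Module.Finite R₀ B := Algebra.IsIntegral.finite
  haveI : IsNoetherianRing B := IsNoetherianRing.of_finite R₀ B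
  haveI := lft_sm B (B ⊗[R₀] A)
  let ι : B ⊗[R₀] A →+* C ⊗[R₀] A := (Algebra.TensorProduct.map B.val (AlgHom.id R₀ A)).toRingHom
  let Q'' : ↥(Spec (CommRingCat.of (B ⊗[R₀] A))) :=
    (Spec.map (CommRingCat.ofHom ι)) P₁
  have hir : ι.comp (Algebra.TensorProduct.includeRight : A →ₐ[R₀] B ⊗[R₀] A).toRingHom =
      (Algebra.TensorProduct.includeRight : A →ₐ[R₀] C ⊗[R₀] A).toRingHom :=
    RingHom.ext fun a => by simp [ι]
  have hpr : ∀ P, pr R₀ B A ((Spec.map (CommRingCat.ofHom ι)) P) = pr R₀ C A P := fun P => by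
    rw [← Scheme.Hom.comp_apply, ← Spec.map_comp, ← CommRingCat.ofHom_comp, hir]
  have hQ'' : pr R₀ B A Q'' = Q := (hpr P₁).trans hP₁
  have hmax'' : IsMaxFib (sm B (B ⊗[R₀] A)) Q'' := fun w hw hws => by
    have h1 : pr R₀ B A w = Q := by
      refine hmax _ ?_ (hQ'' ▸ hws.map (pr R₀ B A).continuous)
      rw [← hQ'', ← Scheme.Hom.comp_apply, ← Scheme.Hom.comp_apply,
        (isPullback_pr (A := A) B).w, Scheme.Hom.comp_apply, Scheme.Hom.comp_apply]
      exact congrArg _ hw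
    exact eq_of_trd_le _ hws hw (by rw [trd_baseChange, trd_baseChange, h1, hQ''])
  obtain ⟨ξ, hξs, hξη, hξe⟩ := OpenDim.exists_trd_eq (sm B (B ⊗[R₀] A)) Q'' hmax''
    (H B Q'' hQ'') (⟨⊥, Ideal.isPrime_bot⟩ : PrimeSpectrum B)
    ((PrimeSpectrum.le_iff_specializes _ _).1 bot_le)
  obtain ⟨P, hPξ, hPη⟩ := exists_prime_over B.val ξ ⟨⊥, Ideal.isPrime_bot⟩ (by
    refine (Ideal.comap_bot_of_injective _ Subtype.val_injective).trans ?_
    exact (congrArg PrimeSpectrum.asIdeal hξη).symm)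
  let P' : ↥(Spec (CommRingCat.of (C ⊗[R₀] A))) := P
  have hP'ξ : (Spec.map (CommRingCat.ofHom ι)) P' = ξ := PrimeSpectrum.ext hPξ
  have hP'η : f₁ P' = η₁ := PrimeSpectrum.ext hPη
  have he : trd (sm R₀ A) Q ≤ trd f₁ P' := by
    rw [trd_baseChange, ← hpr, hP'ξ, ← trd_baseChange, hξe, trd_baseChange, hQ'']
  obtain ⟨w, hw⟩ := FieldDim.exists_fiberι_eq f₁ P' η₁ hP'η
  obtain ⟨w₀, hw₀, hw₀max⟩ := DimFun.exists_isMaxPt_specializes w
  have hs₀ : f₁.fiberι η₁ w₀ ⤳ P' := hw ▸ hw₀.map (f₁.fiberι η₁).continuous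
  have hP₀ : f₁.fiberι η₁ w₀ ∈ Qm :=
    ⟨⟨w₀, ⟨trivial, fun v _ hv => hw₀max v hv⟩, rfl⟩,
      he.trans (trd_le f₁ hs₀ ((FieldDim.apply_fiberι f₁ η₁ w₀).trans hP'η.symm))⟩
  obtain ⟨b, hb⟩ := hB _ hP₀
  refine hzP₁ _ hP₀ ?_
  rw [← hb]
  show b ∈ P₁.asIdeal.comap ι
  refine (PrimeSpectrum.le_iff_specializes _ _).2
    (show ξ ⤳ Q'' from hξs) ?_
  rw [← hP'ξ]
  show ι b ∈ PrimeSpectrum.asIdeal P'
  have := (PrimeSpectrum.le_iff_specializes _ _).2 hs₀ (hzP _ hP₀)
  rw [← hb] at this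
  exact this

/-- Ring-level form: openness over finite domains gives universal openness at a fibre-maximal
point. -/
theorem isUnivOpenAt_sm (Q : ↥(Spec (CommRingCat.of A)))
    (hmax : IsMaxFib (sm R₀ A) Q)
    (H : ∀ (B : Type u) [CommRing B] [IsDomain B] [Algebra R₀ B] [Module.Finite R₀ B]
      (P : ↥(Spec (CommRingCat.of (B ⊗[R₀] A)))), pr R₀ B A P = Q →
        EGA43.IsOpenAt (sm B (B ⊗[R₀] A)).base P) :
    EGA43.IsUnivOpenAt (sm R₀ A) Q := by
  intro T g p hp
  let C : minimalPrimes R₀ → Type u := fun q =>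
    integralClosure (R₀ ⧸ q.1) (FractionRing (R₀ ⧸ q.1))
  haveI : ∀ q : minimalPrimes R₀, q.1.IsPrime := fun q => q.2.1.1
  haveI : Finite (minimalPrimes R₀) := (minimalPrimes.finite_of_isNoetherianRing R₀).to_subtype
  letI : ∀ q, CommRing (C q) := fun q =>
    inferInstanceAs (CommRing (integralClosure (R₀ ⧸ q.1) (FractionRing (R₀ ⧸ q.1))))
  haveI : ∀ q, IsDomain (C q) := fun q =>
    inferInstanceAs (IsDomain (integralClosure (R₀ ⧸ q.1) (FractionRing (R₀ ⧸ q.1))))
  haveI : ∀ q, IsIntegrallyClosed (C q) := fun q =>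
    integralClosure.isIntegrallyClosedOfFiniteExtension (R := R₀ ⧸ q.1) (FractionRing (R₀ ⧸ q.1))
  letI : ∀ q, Algebra R₀ (C q) := fun q =>
    ((algebraMap (R₀ ⧸ q.1) (integralClosure (R₀ ⧸ q.1) (FractionRing (R₀ ⧸ q.1)))).comp
      (Ideal.Quotient.mk q.1)).toAlgebra
  haveI : ∀ q, Algebra.IsIntegral R₀ (C q) := fun q =>
    algebraMap_isIntegral_iff.1 (RingHom.IsIntegral.trans _ _
      (RingHom.isIntegral_of_surjective _ Ideal.Quotient.mk_surjective)
      (algebraMap_isIntegral_iff.2 inferInstance))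
  have hint : ∀ q, IsIntegralHom (sm R₀ (C q)) := fun q =>
    IsIntegralHom.SpecMap_iff.2 (algebraMap_isIntegral_iff.2 inferInstance)
  refine OpenAt.isOpenAt_of_family (fst := fun q => pullback.fst _ (pullback.fst g (sm R₀ (C q))))
    (snd := fun q => pullback.snd (pullback.snd (sm R₀ A) g) (pullback.fst g (sm R₀ (C q))))
    (fun q => IsPullback.of_hasPullback _ _) (fun q => ?_) (fun t => ?_) p fun q p' hp' => ?_
  · haveI := hint q
    exact (pullback.fst g (sm R₀ (C q))).isClosedMap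
  · let r₀ : PrimeSpectrum R₀ := g t
    obtain ⟨q, hq, hqt⟩ := Ideal.exists_minimalPrimes_le
      (bot_le : (⊥ : Ideal R₀) ≤ r₀.asIdeal)
    obtain ⟨J, -, hJp, hJ⟩ := Ideal.exists_ideal_over_prime_of_isIntegral
      r₀.asIdeal (⊥ : Ideal (C ⟨q, hq⟩)) (by
        intro r hr
        refine hqt (Ideal.Quotient.eq_zero_iff_mem.1 ?_)
        have hr' : algebraMap (R₀ ⧸ q) (FractionRing (R₀ ⧸ q)) (Ideal.Quotient.mk q r) = 0 :=
          congrArg Subtype.val (Ideal.mem_bot.1 hr)
        exact (map_eq_zero_iff _ (IsFractionRing.injective _ _)).1 hr')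
    obtain ⟨a, ha, -⟩ := Scheme.Pullback.exists_preimage_pullback (f := g)
      (g := sm R₀ (C ⟨q, hq⟩)) t (⟨J, hJp⟩ : PrimeSpectrum (C ⟨q, hq⟩)) (PrimeSpectrum.ext hJ.symm)
    exact ⟨⟨q, hq⟩, a, ha⟩
  · let l := (isPullback_pr (A := A) (C q)).lift
      (pullback.fst (pullback.snd (sm R₀ A) g) (pullback.fst g (sm R₀ (C q))) ≫ pullback.fst _ _)
      (pullback.snd _ _ ≫ pullback.snd g (sm R₀ (C q))) (by
        rw [Category.assoc, pullback.condition, ← Category.assoc, pullback.condition,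
          Category.assoc, Category.assoc, pullback.condition])
    have sq : IsPullback l (pullback.snd (pullback.snd (sm R₀ A) g) (pullback.fst g (sm R₀ (C q))))
        (sm (C q) (C q ⊗[R₀] A)) (pullback.snd g (sm R₀ (C q))) := by
      refine IsPullback.of_right ?_ (IsPullback.lift_snd _ _ _ _) (isPullback_pr (A := A) (C q))
      rw [IsPullback.lift_fst, ← pullback.condition (f := g) (g := sm R₀ (C q))]
      exact (IsPullback.of_hasPullback _ _).paste_horiz (IsPullback.of_hasPullback _ _)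
    refine OpenAt.isOpenAt_of_isPullback
      (isUnivOpenAt_normalization Q hmax H (C q) (l p') ?_) sq p' rfl
    rw [← Scheme.Hom.comp_apply, IsPullback.lift_fst, Scheme.Hom.comp_apply, hp', hp]

end spec

section global

theorem isUnivOpenAt_of_finite {X Y : Scheme.{u}} [IsNoetherian Y] (f : X ⟶ Y)
    [LocallyOfFiniteType f] (x : X) (hmax : IsMaxFib f x)
    (H : ∀ (Y' : Scheme.{u}) (g : Y' ⟶ Y) [IsFinite g], ∀ x' : ↥(pullback f g),
      pullback.fst f g x' = x → EGA43.IsOpenAt (pullback.snd f g).base x') :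
    EGA43.IsUnivOpenAt f x := by
  obtain ⟨V, hV, hxV, -⟩ := exists_isAffineOpen_mem_and_subset (x := f x) (U := ⊤) trivial
  obtain ⟨U, hU, hxU, e⟩ := exists_isAffineOpen_mem_and_subset (x := x) (U := f ⁻¹ᵁ V) hxV
  letI : Algebra Γ(Y, V) Γ(X, U) := (f.appLE V U e).hom.toAlgebra
  haveI : Algebra.FiniteType Γ(Y, V) Γ(X, U) :=
    LocallyOfFiniteType.finiteType_appLE f hV hU e
  haveI : IsNoetherianRing Γ(Y, V) := IsLocallyNoetherian.component_noetherian ⟨V, hV⟩
  let jX : Spec (CommRingCat.of Γ(X, U)) ⟶ X := hU.fromSpec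
  let jY : Spec (CommRingCat.of Γ(Y, V)) ⟶ Y := hV.fromSpec
  have hj : sm Γ(Y, V) Γ(X, U) ≫ jY = jX ≫ f := hV.SpecMap_appLE_fromSpec f hU e
  obtain ⟨Q, hQ⟩ : x ∈ Set.range jX := hU.range_fromSpec.ge hxU
  have hmax' : IsMaxFib (sm Γ(Y, V) Γ(X, U)) Q := fun w hw hws => by
    refine jX.isOpenEmbedding.injective ((hmax (jX w) ?_ (hQ ▸ hws.map jX.continuous)).trans hQ.symm)
    rw [← hQ, ← Scheme.Hom.comp_apply, ← Scheme.Hom.comp_apply, ← hj, Scheme.Hom.comp_apply,
      Scheme.Hom.comp_apply]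
    exact congrArg jY hw
  have key : EGA43.IsUnivOpenAt (sm Γ(Y, V) Γ(X, U)) Q := by
    refine isUnivOpenAt_sm Q hmax' fun B _ _ _ _ P hP => ?_
    haveI : IsFinite (sm Γ(Y, V) B) :=
      (IsFinite.SpecMap_iff _).2 (RingHom.finite_algebraMap.2 ‹_›)
    let h := sm Γ(Y, V) B ≫ jY
    haveI : IsOpenImmersion jY := inferInstanceAs (IsOpenImmersion hV.fromSpec)
    haveI : IsOpenImmersion jX := inferInstanceAs (IsOpenImmersion hU.fromSpec)
    haveI : QuasiCompact jY := inferInstance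
    haveI : LocallyQuasiFinite h := inferInstance
    haveI : LocallyOfFiniteType h := inferInstance
    haveI : IsSeparated h := inferInstance
    haveI : QuasiCompact h := inferInstance
    obtain ⟨T, j, π, _, -, _, hjπ⟩ := Groth.Agent.S0385.result h
    let φ := (isPullback_pr (A := Γ(X, U)) B).isoPullback.hom ≫
      pullback.map (sm Γ(Y, V) Γ(X, U)) (sm Γ(Y, V) B) f π jX j jY hj.symm.symm hjπ.symm
    have h1 : φ ≫ pullback.fst f π = pr Γ(Y, V) B Γ(X, U) ≫ jX := by
      show (_ ≫ pullback.map _ _ _ _ _ _ _ _ _) ≫ _ = _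
      rw [Category.assoc, pullback.map, pullback.lift_fst, IsPullback.isoPullback_hom_fst_assoc]
    have h2 : φ ≫ pullback.snd f π = sm B (B ⊗[Γ(Y, V)] Γ(X, U)) ≫ j := by
      show (_ ≫ pullback.map _ _ _ _ _ _ _ _ _) ≫ _ = _
      rw [Category.assoc, pullback.map, pullback.lift_snd, IsPullback.isoPullback_hom_snd_assoc]
    have ho := H T π (φ P) (by
      rw [← Scheme.Hom.comp_apply, h1, Scheme.Hom.comp_apply, hP, hQ])
    intro W hW
    have := ho _ (φ.isOpenEmbedding.isOpenMap.image_mem_nhds hW)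
    have e2 : ∀ w, pullback.snd f π (φ w) = j (sm B (B ⊗[Γ(Y, V)] Γ(X, U)) w) := fun w => by
      rw [← Scheme.Hom.comp_apply, h2, Scheme.Hom.comp_apply]
    rw [e2, ← Set.image_comp] at this
    refine Filter.mem_of_superset (j.continuous.continuousAt.preimage_mem_nhds this) ?_
    rintro b ⟨w, hw, hwb⟩
    exact ⟨w, hw, j.isOpenEmbedding.injective ((e2 w).symm.trans hwb)⟩
  have := OpenAt.isUnivOpenAt_comp _ jY Q key (UnivOpen.isUnivOpenAt_of_universallyOpen jY _)
  rw [hj] at this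
  exact hQ ▸ OpenAt.isUnivOpenAt_of_comp jX f Q this

end global

end Groth.Agent.H46.UnivOpenFinite
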