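import Groth.Agent.H46.GRAtOpen
import Groth.Agent.H46.UnivOpenFinite
import Groth.Agent.H2.FlatDescend.Model

/-!
# Noetherian models near a point of flatness
-/

universe u

open CategoryTheory AlgebraicGeometry Limits TensorProduct
open Groth.Agent.H46.UnivOpenFinite

namespace Groth.Agent.H46.NoethModel

set_option linter.style.haveILetI false

variable {X Y : Scheme.{u}}

/-- Near a point of flatness: affine charts and a flat model of finite type over `ℤ`. -/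
theorem exists_model_alg (f : X ⟶ Y) [LocallyOfFinitePresentation f] (x : X)
    (hfl : (f.stalkMap x).hom.Flat) :
    ∃ (R A : CommRingCat.{u}) (R₀ A₀ : Type u) (_ : CommRing R₀) (_ : CommRing A₀)
      (_ : Algebra R₀ R) (_ : Algebra R₀ A₀) (j : Spec A ⟶ X) (v : Spec R ⟶ Y)
      (f₁ : Spec A ⟶ Spec R) (q : Spec A ⟶ Spec (CommRingCat.of A₀)),
      IsOpenImmersion j ∧ IsOpenImmersion v ∧ x ∈ Set.range j ∧ j ≫ f = f₁ ≫ v ∧
      IsPullback q f₁ (sm R₀ A₀) (Spec.map (CommRingCat.ofHom (algebraMap R₀ R))) ∧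
      IsNoetherianRing R₀ ∧ IsNoetherianRing A₀ ∧ Module.Flat R₀ A₀ ∧
      Algebra.FinitePresentation R₀ A₀ ∧ Flat f₁ ∧ ∀ u, (f.stalkMap (j u)).hom.Flat := by
  obtain ⟨V, hV, hxV, -⟩ :=
    exists_isAffineOpen_mem_and_subset (X := Y) (x := f x) (U := ⊤) trivial
  let O : X.Opens := ⟨_, H19.FlatLocus.Scheme.isOpen_flat_stalkMap (f := f)⟩
  obtain ⟨W, hW, hxW, hWO⟩ :=
    exists_isAffineOpen_mem_and_subset (X := X) (x := x) (U := O ⊓ f ⁻¹ᵁ V) ⟨hfl, hxV⟩
  have hWV : W ≤ f ⁻¹ᵁ V := fun w hw => (hWO hw).2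
  let R := Γ(Y, V)
  let A := Γ(X, W)
  letI : Algebra R A := (f.appLE V W hWV).hom.toAlgebra
  haveI : Algebra.FinitePresentation R A :=
    RingHom.finitePresentation_algebraMap.1
      (LocallyOfFinitePresentation.finitePresentation_appLE f hV hW hWV)
  haveI := hV.isOpenImmersion_fromSpec
  haveI := hW.isOpenImmersion_fromSpec
  have hfac : sm R A ≫ hV.fromSpec = hW.fromSpec ≫ f := hV.SpecMap_appLE_fromSpec f hW hWV
  have hmem : ∀ u, hW.fromSpec u ∈ W := fun u => hW.range_fromSpec.le ⟨u, rfl⟩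
  have hflat : ∀ u, (f.stalkMap (hW.fromSpec u)).hom.Flat := fun u => (hWO (hmem u)).1
  haveI : Flat (sm R A) := by
    haveI : Flat (sm R A ≫ hV.fromSpec) := by
      rw [hfac]
      refine (Flat.iff_flat_stalkMap _).2 fun u => ?_
      rw [Scheme.Hom.stalkMap_comp]
      exact RingHom.Flat.comp (f := (f.stalkMap (hW.fromSpec u)).hom) (hflat u)
        (RingHom.Flat.of_bijective (ConcreteCategory.bijective_of_isIso (hW.fromSpec.stalkMap u)))
    exact MorphismProperty.of_isPullback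
      ((IsPullback.id_horiz (sm R A)).paste_vert (IsKernelPair.id_of_mono hV.fromSpec)) this
  haveI : Module.Flat R A :=
    RingHom.flat_algebraMap_iff.1 ((HasRingHomProperty.Spec_iff (P := @Flat)).1 ‹Flat (sm R A)›)
  obtain ⟨R₀, A₀, _, _, _, _, hft, hfl₀, hfp, ⟨e⟩⟩ := H2.FlatDescend.exists_flat_model R A
  haveI : IsNoetherianRing R₀ := Algebra.FiniteType.isNoetherianRing ℤ R₀
  haveI : IsNoetherianRing A₀ := Algebra.FiniteType.isNoetherianRing R₀ A₀
  obtain ⟨q, hq⟩ := Lib.Lim.SmoothEtale.isPullback_of_algEquiv e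
  exact ⟨R, A, R₀, A₀, inferInstance, inferInstance, inferInstance, inferInstance, hW.fromSpec,
    hV.fromSpec, sm R A, q, inferInstance, inferInstance,
    ⟨hW.primeIdealOf ⟨x, hxW⟩, hW.fromSpec_primeIdealOf ⟨x, hxW⟩⟩, hfac.symm, hq,
    inferInstance, inferInstance, hfl₀, hfp, inferInstance, hflat⟩

/-- Near a point of flatness a morphism locally of finite presentation is a base change of a flat
morphism of finite type between Noetherian affine schemes. -/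
theorem exists_model (f : X ⟶ Y) [LocallyOfFinitePresentation f] (x : X)
    (hfl : (f.stalkMap x).hom.Flat) :
    ∃ (U V X₀ Y₀ : Scheme.{u}) (j : U ⟶ X) (v : V ⟶ Y) (f₁ : U ⟶ V) (f₀ : X₀ ⟶ Y₀) (a : U ⟶ X₀)
      (b : V ⟶ Y₀), IsOpenImmersion j ∧ IsOpenImmersion v ∧ x ∈ Set.range j ∧ j ≫ f = f₁ ≫ v ∧
      IsPullback a f₁ f₀ b ∧ IsNoetherian Y₀ ∧ IsNoetherian X₀ ∧ LocallyOfFiniteType f₀ ∧
      Flat f₀ ∧ Flat f₁ ∧ ∀ u, (f.stalkMap (j u)).hom.Flat := by
  obtain ⟨R, A, R₀, A₀, _, _, _, _, j, v, f₁, q, hj, hv, hx, hfac, hq, _, _, hfl₀, hfp, hf₁, hflat⟩ :=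
    exists_model_alg f x hfl
  exact ⟨Spec A, Spec R, Spec (CommRingCat.of A₀), Spec (CommRingCat.of R₀), j, v, f₁, sm R₀ A₀, q,
    _, hj, hv, hx, hfac, hq, inferInstance, inferInstance, UnivOpenFinite.lft_sm R₀ A₀,
    (HasRingHomProperty.Spec_iff (P := @Flat)).2 (RingHom.flat_algebraMap_iff.2 hfl₀), hf₁, hflat⟩

theorem grAt_iff_of_mono {f₁ : X ⟶ Y} {Z : Scheme.{u}} (v : Y ⟶ Z) [Mono v] (x : X) :
    GRAt.GRAt (f₁ ≫ v) x ↔ GRAt.GRAt f₁ x := by
  have sq : IsPullback (𝟙 X) f₁ (f₁ ≫ v) v :=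
    (IsPullback.id_horiz f₁).paste_vert (IsKernelPair.id_of_mono v)
  exact ⟨fun h => GRAt.baseChange sq x h, fun h => GRAt.of_baseChange sq x h⟩

/-- EGA IV 12.2.4 without Noetherian hypotheses. -/
theorem isOpen_flat_grAt (f : X ⟶ Y) [LocallyOfFinitePresentation f] :
    IsOpen {x : X | (f.stalkMap x).hom.Flat ∧ GRAt.GRAt f x} := by
  rw [isOpen_iff_mem_nhds]
  rintro x ⟨hfl, hgr⟩
  obtain ⟨U, V, X₀, Y₀, j, v, f₁, f₀, a, b, _, _, ⟨u, rfl⟩, hfac, sq, hY₀, hX₀, _, _, -, hflat⟩ :=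
    exists_model f x hfl
  have key : ∀ w, GRAt.GRAt f (j w) ↔ GRAt.GRAt f₀ (a w) := fun w => by
    rw [← GRAt.openImmersion_iff, hfac, grAt_iff_of_mono]
    exact ⟨fun h => GRAt.of_baseChange sq w h, fun h => GRAt.baseChange sq w h⟩
  haveI := hY₀
  haveI := hX₀
  have ho := j.isOpenEmbedding.isOpenMap _
    ((GRAtOpen.isOpen_grAt_of_flat f₀).preimage a.continuous)
  refine Filter.mem_of_superset (ho.mem_nhds ⟨u, (key u).1 hgr, rfl⟩) ?_
  rintro _ ⟨w, hw, rfl⟩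
  exact ⟨hflat w, (key w).2 hw⟩

/-- Over a reduced ring, a flat base change of a model is reduced where the fibre is geometrically
reduced. -/
theorem isReduced_stalk_tensor {R₀ A₀ : Type u} [CommRing R₀] [CommRing A₀] [Algebra R₀ A₀]
    [IsNoetherianRing R₀] [Algebra.FinitePresentation R₀ A₀] [Module.Flat R₀ A₀]
    (C : Type u) [CommRing C] [Algebra R₀ C] [_root_.IsReduced C] (Q : PrimeSpectrum (C ⊗[R₀] A₀))
    (hgr : GRAt.GRAt (sm C (C ⊗[R₀] A₀)) Q) :
    _root_.IsReduced (Localization.AtPrime Q.asIdeal) := by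
  refine ⟨fun z ⟨n, hn⟩ => ?_⟩
  obtain ⟨⟨c, d⟩, rfl⟩ := IsLocalization.mk'_surjective Q.asIdeal.primeCompl z
  rw [← IsLocalization.mk'_pow, IsLocalization.mk'_eq_zero_iff] at hn
  obtain ⟨⟨t, ht⟩, htc⟩ := hn
  rw [IsLocalization.mk'_eq_zero_iff]
  obtain ⟨D, hD, w, hw⟩ := exists_fg_map_range (R := R₀) (A := A₀) (t * c)
  haveI : Algebra.FiniteType R₀ D := D.fg_iff_finiteType.1 hD
  haveI : IsNoetherianRing D := Algebra.FiniteType.isNoetherianRing R₀ D
  haveI : _root_.IsReduced D := isReduced_of_injective D.val Subtype.val_injective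
  let μ := Algebra.TensorProduct.map D.val (AlgHom.id R₀ A₀)
  have hμ : Function.Injective μ :=
    Module.Flat.rTensor_preserves_injective_linearMap (M := A₀) D.val.toLinearMap Subtype.val_injective
  have hwn : w ^ (n + 1) = 0 := hμ (by
    rw [map_pow, hw, map_zero, show (t * c) ^ (n + 1) = (t ^ n * c) * (t * c ^ n) by ring,
      show t * c ^ n = 0 from htc, mul_zero])
  let Q₁ : PrimeSpectrum (D ⊗[R₀] A₀) := PrimeSpectrum.comap μ.toRingHom Q
  haveI : Algebra.FiniteType D (D ⊗[R₀] A₀) := inferInstance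
  haveI := lft_sm D (D ⊗[R₀] A₀)
  haveI : Flat (sm D (D ⊗[R₀] A₀)) :=
    (HasRingHomProperty.Spec_iff (P := @Flat)).2 (RingHom.flat_algebraMap_iff.2 inferInstance)
  haveI : LocallyOfFinitePresentation (sm D (D ⊗[R₀] A₀)) := inferInstance
  have sqD := isPullback_pr (R₀ := R₀) (A := A₀) D
  let p : Spec (CommRingCat.of (C ⊗[R₀] A₀)) ⟶ Spec (CommRingCat.of (D ⊗[R₀] A₀)) :=
    Spec.map (CommRingCat.ofHom μ.toRingHom)
  have sqC : IsPullback p (sm C (C ⊗[R₀] A₀)) (sm D (D ⊗[R₀] A₀))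
      (Spec.map (CommRingCat.ofHom D.val.toRingHom)) := by
    refine IsPullback.of_right ?_ ?_ sqD
    · convert isPullback_pr (R₀ := R₀) (A := A₀) C using 1
      · rw [← Spec.map_comp]
        congr 1
      · rw [← Spec.map_comp]
        congr 1
    · rw [← Spec.map_comp, ← Spec.map_comp]
      congr 1
  have hgr₁ : GRAt.GRAt (sm D (D ⊗[R₀] A₀)) Q₁ := GRAt.of_baseChange sqC Q hgr
  haveI : IsReduced (Spec (CommRingCat.of D)) := (affine_isReduced_iff _).mpr inferInstance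
  haveI hred := (FlatUnivOpen.flat_stalkMap (sm D (D ⊗[R₀] A₀)) Q₁
    (fun ζ _ _ _ => UnivOpen.isUnivOpenAt_of_universallyOpen _ ζ) ((GRAt.grAt_iff _ _).1 hgr₁)
    inferInstance).2
  let e₁ := StructureSheaf.stalkIso (D ⊗[R₀] A₀) Q₁
  haveI : _root_.IsReduced (Localization.AtPrime Q₁.asIdeal) := by
    haveI := hred
    exact isReduced_of_injective (S := (Spec (CommRingCat.of (D ⊗[R₀] A₀))).presheaf.stalk Q₁)
      e₁.toRingEquiv.toRingHom e₁.injective
  have h0 : algebraMap (D ⊗[R₀] A₀) (Localization.AtPrime Q₁.asIdeal) w = 0 :=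
    IsReduced.eq_zero _ ⟨n + 1, by rw [← map_pow, hwn, map_zero]⟩
  obtain ⟨⟨s, hs⟩, hsw⟩ := (IsLocalization.map_eq_zero_iff Q₁.asIdeal.primeCompl
    (Localization.AtPrime Q₁.asIdeal) w).1 h0
  refine ⟨⟨μ s * t, Q.asIdeal.primeCompl.mul_mem hs ht⟩, ?_⟩
  show μ s * t * c = 0
  rw [mul_assoc, ← hw, ← map_mul, show s * w = 0 from hsw, map_zero]

end Groth.Agent.H46.NoethModel
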