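import Groth.Agent.H46.Lift
import Mathlib.AlgebraicGeometry.Noetherian
import Mathlib.Algebra.Category.Ring.Constructions
import Mathlib.RingTheory.Adjoin.FG

/-!
# Universal openness at a point can be tested on Noetherian base changes
-/

universe u

open CategoryTheory AlgebraicGeometry Limits Topology TensorProduct

namespace Groth.Agent.H46.LiftNoeth

open Groth.Agent.H46.Lift

variable {X Y : Scheme.{u}}

theorem exists_stage (f : X ⟶ Y) [IsLocallyNoetherian Y] (x : X)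
    (H : ∀ (T : Scheme.{u}) (g : T ⟶ Y) [IsLocallyNoetherian T] (p : ↥(pullback f g)),
      (pullback.fst f g).base p = x → ∀ t', t' ⤳ (pullback.snd f g).base p →
      ∃ z, z ⤳ p ∧ (pullback.snd f g).base z = t')
    (R A B : CommRingCat.{u}) (φ : R ⟶ A) (ψ : R ⟶ B)
    [IsNoetherianRing R] (iV : Spec R ⟶ Y) (iU : Spec A ⟶ X)
    [IsOpenImmersion iV] [IsOpenImmersion iU]
    (eU : Spec.map φ ≫ iV = iU ≫ f) {P0 : Scheme.{u}} {a : P0 ⟶ Spec A} {b : P0 ⟶ Spec B}
    (sq : IsPullback a b (Spec.map φ) (Spec.map ψ)) (p0 : P0) (hp : iU.base (a.base p0) = x)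
    (O : P0.Opens) (hO : p0 ∈ O) (t0 : Spec B) (ht : t0 ⤳ b.base p0) :
    ∃ w ∈ O, b.base w = t0 := by
  algebraize [φ.hom, ψ.hom]
  let a0 : Spec (CommRingCat.of (A ⊗[R] B)) ⟶ Spec A :=
    Spec.map (CommRingCat.ofHom Algebra.TensorProduct.includeLeftRingHom)
  let b0 : Spec (CommRingCat.of (A ⊗[R] B)) ⟶ Spec B :=
    Spec.map (CommRingCat.ofHom
      (Algebra.TensorProduct.includeRight (R := R) (A := A) (B := B)).toRingHom)
  have sq0 : IsPullback a0 b0 (Spec.map φ) (Spec.map ψ) :=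
    isPullback_SpecMap_of_isPushout _ _ _ _ (CommRingCat.isPushout_tensorProduct R A B)
  let e := sq.isoIsPullback _ _ sq0
  have hea : e.inv ≫ a = a0 := sq.isoIsPullback_inv_fst _ _ sq0
  have heb : e.inv ≫ b = b0 := sq.isoIsPullback_inv_snd _ _ sq0
  let O' : (Spec (CommRingCat.of (A ⊗[R] B))).Opens := e.inv ⁻¹ᵁ O
  let q := e.hom.base p0
  have hq : e.inv.base q = p0 := by
    rw [← Scheme.Hom.comp_apply, Iso.hom_inv_id]; rfl
  have hqO : q ∈ O' := by show e.inv.base q ∈ O; rw [hq]; exact hO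
  obtain ⟨_, ⟨h, rfl⟩, hqh, hhO⟩ :=
    PrimeSpectrum.isTopologicalBasis_basic_opens.exists_subset_of_mem_open hqO O'.2
  obtain ⟨C, hC, hhC⟩ := exists_fg_and_mem_baseChange h
  obtain ⟨h', hh'⟩ : ∃ h' : A ⊗[R] C,
      Algebra.TensorProduct.map (AlgHom.id A A) C.val h' = h := hhC
  have : IsNoetherianRing C := isNoetherianRing_of_fg hC
  have : IsNoetherianRing (CommRingCat.of C) := ‹_›
  let ψC : R ⟶ CommRingCat.of C := CommRingCat.ofHom (algebraMap R C)
  let gC : Spec (CommRingCat.of C) ⟶ Y := Spec.map ψC ≫ iV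
  let a1 : Spec (CommRingCat.of (A ⊗[R] C)) ⟶ Spec A :=
    Spec.map (CommRingCat.ofHom Algebra.TensorProduct.includeLeftRingHom)
  let b1 : Spec (CommRingCat.of (A ⊗[R] C)) ⟶ Spec (CommRingCat.of C) :=
    Spec.map (CommRingCat.ofHom
      (Algebra.TensorProduct.includeRight (R := R) (A := A) (B := C)).toRingHom)
  have sq1 : IsPullback a1 b1 (Spec.map φ) (Spec.map ψC) :=
    isPullback_SpecMap_of_isPushout _ _ _ _ (CommRingCat.isPushout_tensorProduct R A C)
  let π : Spec (CommRingCat.of (A ⊗[R] B)) ⟶ Spec (CommRingCat.of (A ⊗[R] C)) :=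
    Spec.map (CommRingCat.ofHom (Algebra.TensorProduct.map (AlgHom.id A A) C.val).toRingHom)
  let ι : Spec B ⟶ Spec (CommRingCat.of C) := Spec.map (CommRingCat.ofHom C.val.toRingHom)
  have hπa : π ≫ a1 = a0 := by
    rw [← Spec.map_comp]; rfl
  have hπb : π ≫ b1 = b0 ≫ ι := by
    rw [← Spec.map_comp, ← Spec.map_comp]; rfl
  have hιψ : ι ≫ Spec.map ψC = Spec.map ψ := by
    rw [← Spec.map_comp]; congr 1
  have sqπ : IsPullback π b0 b1 ι := by
    refine IsPullback.of_right ?_ hπb sq1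
    rw [hπa, hιψ]; exact sq0
  let j : Spec (CommRingCat.of (A ⊗[R] C)) ⟶ pullback f gC :=
    sq1.isoPullback.hom ≫ pullback.map (Spec.map φ) (Spec.map ψC) f gC iU (𝟙 _) iV eU
      (by simp [gC])
  have hj1 : j ≫ pullback.fst f gC = a1 ≫ iU := by
    dsimp only [j, pullback.map]
    rw [Category.assoc, pullback.lift_fst, sq1.isoPullback_hom_fst_assoc]
  have hj2 : j ≫ pullback.snd f gC = b1 := by
    dsimp only [j, pullback.map]
    rw [Category.assoc, pullback.lift_snd, Category.comp_id, sq1.isoPullback_hom_snd]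
  have : IsOpenImmersion j := inferInstance
  have hfst : (pullback.fst f gC).base (j.base (π.base q)) = x := by
    rw [← Scheme.Hom.comp_apply, hj1, Scheme.Hom.comp_apply, ← Scheme.Hom.comp_apply π, hπa,
      ← hea, Scheme.Hom.comp_apply, hq, hp]
  have hsnd : (pullback.snd f gC).base (j.base (π.base q)) = ι.base (b0.base q) := by
    rw [← Scheme.Hom.comp_apply, hj2, ← Scheme.Hom.comp_apply, hπb, Scheme.Hom.comp_apply]
  have ht' : ι.base t0 ⤳ ι.base (b0.base q) := by
    rw [← heb, Scheme.Hom.comp_apply, hq]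
    exact ht.map ι.continuous
  obtain ⟨z, hz, hzt⟩ := H _ gC (j.base (π.base q)) hfst (ι.base t0) (hsnd.symm ▸ ht')
  obtain ⟨z0, rfl⟩ : z ∈ Set.range j.base :=
    hz.mem_open j.isOpenEmbedding.isOpen_range ⟨_, rfl⟩
  have hz0 : z0 ⤳ π.base q := j.isOpenEmbedding.isInducing.specializes_iff.1 hz
  rw [← Scheme.Hom.comp_apply, hj2] at hzt
  obtain ⟨w, hw1, hw2⟩ := Scheme.Pullback.exists_preimage_pullback (f := b1) (g := ι) z0 t0 hzt
  let w0 := sqπ.isoPullback.inv.base w
  have hw0 : π.base w0 = z0 := by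
    rw [← Scheme.Hom.comp_apply, sqπ.isoPullback_inv_fst, hw1]
  have hw0' : b0.base w0 = t0 := by
    rw [← Scheme.Hom.comp_apply, sqπ.isoPullback_inv_snd, hw2]
  refine ⟨e.inv.base w0, hhO ?_, ?_⟩
  · have e2 : π.base ⁻¹' (PrimeSpectrum.basicOpen h' : Set (PrimeSpectrum _)) =
        (PrimeSpectrum.basicOpen h : Set (PrimeSpectrum _)) := by
      rw [← hh']; rfl
    show w0 ∈ (PrimeSpectrum.basicOpen h : Set (PrimeSpectrum _))
    rw [← e2]
    have hqh' : π.base q ∈ (PrimeSpectrum.basicOpen h' : Set (PrimeSpectrum _)) := by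
      have : q ∈ π.base ⁻¹' (PrimeSpectrum.basicOpen h' : Set (PrimeSpectrum _)) := e2 ▸ hqh
      exact this
    have hz0' : z0 ∈ (PrimeSpectrum.basicOpen h' : Set (PrimeSpectrum _)) :=
      hz0.mem_open (PrimeSpectrum.basicOpen h').2 hqh'
    have hmem : π.base w0 ∈ (PrimeSpectrum.basicOpen h' : Set (PrimeSpectrum _)) := hw0.symm ▸ hz0'
    exact hmem
  · rw [← Scheme.Hom.comp_apply, heb, hw0']

/-- Over a locally Noetherian base, universal openness at a point of a morphism locally of finite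
type can be tested by lifting of generizations after Noetherian base changes. -/
theorem isUnivOpenAt_of_noetherian (f : X ⟶ Y) [IsLocallyNoetherian Y] [LocallyOfFiniteType f]
    (x : X)
    (H : ∀ (T : Scheme.{u}) (g : T ⟶ Y) [IsLocallyNoetherian T] (p : ↥(pullback f g)),
      (pullback.fst f g).base p = x → ∀ t', t' ⤳ (pullback.snd f g).base p →
      ∃ z, z ⤳ p ∧ (pullback.snd f g).base z = t') :
    EGA43.IsUnivOpenAt f x := by
  intro T g p hp
  refine isOpenAt_of_forall _ p fun O hpO t' ht' => ?_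
  obtain ⟨V, hV, hxV, -⟩ :=
    AlgebraicGeometry.exists_isAffineOpen_mem_and_subset (x := f.base x) (U := ⊤) trivial
  obtain ⟨U, hU, hxU, hUV⟩ :=
    AlgebraicGeometry.exists_isAffineOpen_mem_and_subset (x := x) (U := f ⁻¹ᵁ V) hxV
  have hgt : g.base ((pullback.snd f g).base p) = f.base x := by
    rw [← Scheme.Hom.comp_apply, ← pullback.condition, Scheme.Hom.comp_apply, hp]
  obtain ⟨W, hW, htW, hWV⟩ :=
    AlgebraicGeometry.exists_isAffineOpen_mem_and_subset (x := (pullback.snd f g).base p)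
      (U := g ⁻¹ᵁ V) (show g.base _ ∈ V by rw [hgt]; exact hxV)
  have := IsLocallyNoetherian.component_noetherian ⟨V, hV⟩
  let φ := f.appLE V U hUV
  let ψ := g.appLE V W hWV
  have eU : Spec.map φ ≫ hV.fromSpec = hU.fromSpec ≫ f := hV.SpecMap_appLE_fromSpec f hU hUV
  have eW : Spec.map ψ ≫ hV.fromSpec = hW.fromSpec ≫ g := hV.SpecMap_appLE_fromSpec g hW hWV
  let j : pullback (Spec.map φ) (Spec.map ψ) ⟶ pullback f g :=
    pullback.map _ _ f g hU.fromSpec hW.fromSpec hV.fromSpec eU eW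
  obtain ⟨p0, rfl⟩ : p ∈ Set.range j.base := by
    rw [Scheme.Pullback.range_map, hU.range_fromSpec, hW.range_fromSpec]
    exact ⟨by rw [Set.mem_preimage, hp]; exact hxU, htW⟩
  obtain ⟨t0, rfl⟩ : t' ∈ Set.range hW.fromSpec.base := by
    rw [hW.range_fromSpec]; exact ht'.mem_open W.2 htW
  have hj1 : j ≫ pullback.fst f g = pullback.fst _ _ ≫ hU.fromSpec := pullback.lift_fst _ _ _
  have hj2 : j ≫ pullback.snd f g = pullback.snd _ _ ≫ hW.fromSpec := pullback.lift_snd _ _ _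
  obtain ⟨w, hwO, hwt⟩ := exists_stage f x H _ _ _ φ ψ hV.fromSpec hU.fromSpec eU
    (IsPullback.of_hasPullback _ _) p0
    (by rw [← Scheme.Hom.comp_apply, ← hj1, Scheme.Hom.comp_apply, hp]) (j ⁻¹ᵁ O) hpO t0
    (hW.fromSpec.isOpenEmbedding.isInducing.specializes_iff.1 (by
      rw [← Scheme.Hom.comp_apply _ hW.fromSpec, ← hj2, Scheme.Hom.comp_apply]; exact ht'))
  refine ⟨j.base w, hwO, ?_⟩
  rw [← Scheme.Hom.comp_apply, hj2, Scheme.Hom.comp_apply, hwt]

end Groth.Agent.H46.LiftNoeth
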