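import Groth.Agent.H46.Dvr
import Groth.Agent.H46.LiftNoeth
import Mathlib.AlgebraicGeometry.Stalk

/-!
# Specializations in locally Noetherian schemes are realized by discrete valuation rings
-/

universe u

open CategoryTheory AlgebraicGeometry Limits Topology

namespace Groth.Agent.H46.DvrScheme

theorem exists_dvr_of_specializes {T : Scheme.{u}} [IsLocallyNoetherian T] {t' t : T}
    (h : t' ⤳ t) (hne : t' ≠ t) :
    ∃ (A : Type u) (_ : CommRing A) (_ : IsDomain A) (_ : IsDiscreteValuationRing A)
      (g : Spec (CommRingCat.of A) ⟶ T),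
      g.base (IsLocalRing.closedPoint A) = t ∧
      g.base (genericPoint (Spec (CommRingCat.of A))) = t' := by
  obtain ⟨q, hq⟩ : t' ∈ Set.range (T.fromSpecStalk t).base := by
    rw [Scheme.range_fromSpecStalk]; exact h
  let Q : PrimeSpectrum (T.presheaf.stalk t) := q
  let B := T.presheaf.stalk t ⧸ Q.asIdeal
  have : IsLocalRing B := IsLocalRing.of_surjective' _ Ideal.Quotient.mk_surjective
  have hloc : IsLocalHom (Ideal.Quotient.mk Q.asIdeal) :=
    .of_surjective _ Ideal.Quotient.mk_surjective
  let L := FractionRing B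
  have hB : ¬ IsField B := by
    intro hF
    refine hne ?_
    have hmax : Q.asIdeal.IsMaximal := Ideal.Quotient.maximal_of_isField _ hF
    have : Q = IsLocalRing.closedPoint _ := PrimeSpectrum.ext (IsLocalRing.eq_maximalIdeal hmax)
    rw [← hq, show q = IsLocalRing.closedPoint (T.presheaf.stalk t) from this,
      Scheme.fromSpecStalk_closedPoint]
  obtain ⟨V, hV, hVmem, hVlt⟩ := Groth.Agent.H46.Dvr.exists_dvr_dominating (L := L) hB
  let φ : T.presheaf.stalk t →+* V :=
    ((algebraMap B L).codRestrict V.toSubring hVmem).comp (Ideal.Quotient.mk Q.asIdeal)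
  refine ⟨V, inferInstance, inferInstance, hV,
    Spec.map (CommRingCat.ofHom φ) ≫ T.fromSpecStalk t, ?_, ?_⟩
  · rw [Scheme.Hom.comp_apply]
    have hle : IsLocalRing.maximalIdeal (T.presheaf.stalk t) ≤
        (PrimeSpectrum.comap φ (IsLocalRing.closedPoint V)).asIdeal := by
      intro r hr
      show φ r ∈ IsLocalRing.maximalIdeal V
      have hm : Ideal.Quotient.mk Q.asIdeal r ∈ IsLocalRing.maximalIdeal B :=
        fun hu => hr (hloc.1 r hu)
      exact (ValuationSubring.valuation_lt_one_iff V _).2 (hVlt _ hm)
    have e : (Spec.map (CommRingCat.ofHom φ)).base (IsLocalRing.closedPoint V) =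
        IsLocalRing.closedPoint (T.presheaf.stalk t) := by
      refine PrimeSpectrum.ext (x := PrimeSpectrum.comap φ (IsLocalRing.closedPoint V)) ?_
      exact ((IsLocalRing.maximalIdeal.isMaximal _).eq_of_le
        (PrimeSpectrum.comap φ (IsLocalRing.closedPoint V)).2.ne_top hle).symm
    rw [e, Scheme.fromSpecStalk_closedPoint]
  · have hgen : genericPoint (Spec (CommRingCat.of V)) =
        (⟨⊥, Ideal.isPrime_bot⟩ : PrimeSpectrum V) :=
      (genericPoint_spec _).eq (isGenericPoint_iff_specializes.2 fun y =>
        ⟨fun _ => trivial, fun _ => Lib.Subtrusive.Valuation.genPt_specializes y⟩)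
    rw [Scheme.Hom.comp_apply, hgen, ← hq]
    congr 1
    refine PrimeSpectrum.ext ?_
    show (⊥ : Ideal V).comap φ = Q.asIdeal
    rw [← Ideal.comap_comap, Ideal.comap_bot_of_injective, ← RingHom.ker_eq_comap_bot,
      Ideal.mk_ker]
    intro a b hab
    exact IsFractionRing.injective B L (congrArg Subtype.val hab)

variable {X Y : Scheme.{u}}

/-- The valuative criterion for universal openness at a point, with discrete valuation rings. -/
theorem isUnivOpenAt_iff_dvr [IsLocallyNoetherian Y] (f : X ⟶ Y) [LocallyOfFiniteType f] (x : X) :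
    EGA43.IsUnivOpenAt f x ↔
      ∀ (A : Type u) [CommRing A] [IsDomain A] [IsDiscreteValuationRing A]
        (g : Spec (CommRingCat.of A) ⟶ Y), g.base (IsLocalRing.closedPoint A) = f.base x →
        ∀ p : ↥(pullback f g), (pullback.fst f g).base p = x →
          (pullback.snd f g).base p = IsLocalRing.closedPoint A →
          ∃ z, z ⤳ p ∧ (pullback.snd f g).base z = genericPoint (Spec (CommRingCat.of A)) := by
  constructor
  · intro h A _ _ _ g _ p hp _
    have hopen := h _ g p hp
    exact Groth.Agent.H46.Lift.exists_generization _ p _ (genericPoint_specializes _) fun O hO =>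
      Groth.Agent.H46.Lift.generizations_of_isOpenAt hopen O hO _ (genericPoint_specializes _)
  · intro H
    refine Groth.Agent.H46.LiftNoeth.isUnivOpenAt_of_noetherian f x ?_
    intro T g _ p hp t' ht'
    by_cases hne : t' = (pullback.snd f g).base p
    · exact ⟨p, specializes_rfl, hne.symm⟩
    obtain ⟨A, _, _, _, w, hwc, hwg⟩ := exists_dvr_of_specializes ht' hne
    obtain ⟨q, hq1, hq2⟩ := Scheme.Pullback.exists_preimage_pullback
      (f := pullback.snd f g) (g := w) p (IsLocalRing.closedPoint A) hwc.symm
    let r := (pullbackLeftPullbackSndIso f g w).hom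
    have hfst : (pullback.fst f (w ≫ g)).base (r.base q) = x := by
      rw [← Scheme.Hom.comp_apply, pullbackLeftPullbackSndIso_hom_fst, Scheme.Hom.comp_apply,
        hq1, hp]
    have hgw : (w ≫ g).base (IsLocalRing.closedPoint A) = f.base x := by
      rw [Scheme.Hom.comp_apply, hwc, ← Scheme.Hom.comp_apply, ← pullback.condition,
        Scheme.Hom.comp_apply, hp]
    obtain ⟨z, hz, hzg⟩ := H A (w ≫ g) hgw (r.base q) hfst
      (by rw [← Scheme.Hom.comp_apply, pullbackLeftPullbackSndIso_hom_snd, hq2])
    let r' := (pullbackLeftPullbackSndIso f g w).inv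
    have hrq : r'.base (r.base q) = q := by
      rw [← Scheme.Hom.comp_apply, Iso.hom_inv_id]; rfl
    refine ⟨(pullback.fst _ w).base (r'.base z), ?_, ?_⟩
    · have := (hz.map r'.continuous).map (pullback.fst (pullback.snd f g) w).continuous
      rwa [hrq, hq1] at this
    · rw [← Scheme.Hom.comp_apply, pullback.condition, Scheme.Hom.comp_apply,
        ← Scheme.Hom.comp_apply r', pullbackLeftPullbackSndIso_inv_snd_snd, hzg, hwg]

end Groth.Agent.H46.DvrScheme
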