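import Groth.Agent.H46.SectComp
import Groth.Agent.H46.GeomSpread.SectionCons
import Groth.Agent.Lib.Spectral.Noetherian
import Groth.Agent.Lib.FEt.DepthTwo

/-!
# Section components: reduction to quasi-compact opens, neighbourhood criterion
-/

set_option autoImplicit false
set_option linter.style.haveILetI false

universe u

open CategoryTheory AlgebraicGeometry Limits Topology TopologicalSpace

namespace Groth.Agent.H46.SectChain

variable {X Y : Scheme.{u}} (f : X ⟶ Y) {g : Y ⟶ X}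

/-- Small connected neighbourhoods in a fibre, inside affine opens. -/
theorem exists_conn_nhd [LocallyOfFiniteType f] {w : X} {y : Y} (hw : f w = y) :
    ∃ (U : X.Opens) (O : Set X), IsCompact (U : Set X) ∧ IsOpen O ∧ w ∈ O ∧
      O ∩ f ⁻¹' {y} ⊆ ↑U ∧ _root_.IsPreconnected (O ∩ f ⁻¹' {y}) := by
  obtain ⟨U, hU, hwU, -⟩ := exists_isAffineOpen_mem_and_subset (X := X) (x := w) (U := ⊤) trivial
  obtain ⟨a, rfl⟩ : w ∈ Set.range (f.fiberι y) := (f.range_fiberι y).ge hw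
  haveI : IsLocallyNoetherian (f.fiber y) :=
    LocallyOfFiniteType.isLocallyNoetherian (f.fiberToSpecResidueField y)
  let V : Set ↥(f.fiber y) := f.fiberι y ⁻¹' (U : Set X)
  have hV : IsOpen V := U.2.preimage (f.fiberι y).continuous
  haveI : QuasiSober V := hV.isOpenEmbedding_subtypeVal.quasiSober
  let K : Set ↥(f.fiber y) := Subtype.val '' connectedComponent (⟨a, hwU⟩ : V)
  have hK : IsOpen K := hV.isOpenEmbedding_subtypeVal.isOpenMap _
    (Lib.FEt.DepthTwo.isOpen_connectedComponent_of_locNoetherian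
      (Lib.FEt.DepthTwo.LocNoetherian.subtype Lib.FEt.DepthTwo.locNoetherian_scheme V) _)
  obtain ⟨O, hO, hOK⟩ := (f.fiberι y).isEmbedding.isInducing.isOpen_iff.1 hK
  have heq : O ∩ f ⁻¹' {y} = f.fiberι y '' K := by
    rw [← hOK, Set.image_preimage_eq_inter_range, f.range_fiberι]
  refine ⟨U, O, hU.isCompact, hO, (show a ∈ f.fiberι y ⁻¹' O from
    hOK.symm.subset ⟨⟨a, hwU⟩, mem_connectedComponent, rfl⟩), ?_, ?_⟩
  · rw [heq]
    rintro _ ⟨_, ⟨v, -, rfl⟩, rfl⟩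
    exact v.2
  · rw [heq]
    exact (isPreconnected_connectedComponent.image _ continuous_subtype_val.continuousOn).image _
      (f.fiberι y).continuous.continuousOn

/-- The component of the section is exhausted by quasi-compact opens. -/
theorem exists_qc_open [LocallyOfFiniteType f] (hg : g ≫ f = 𝟙 Y) {y : Y} {x : X}
    (hx : x ∈ SectComp.C f g y) :
    ∃ U : X.Opens, IsCompact (U : Set X) ∧ g y ∈ U ∧
      x ∈ connectedComponentIn (↑U ∩ f ⁻¹' {y}) (g y) := by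
  let S : Set X := {w | ∃ U : X.Opens, IsCompact (U : Set X) ∧ g y ∈ U ∧
    w ∈ connectedComponentIn (↑U ∩ f ⁻¹' {y}) (g y)}
  suffices H : SectComp.C f g y ⊆ S from H hx
  choose U O hUc hO hwO hOU hOc using fun (w : X) (hw : f w = y) => exists_conn_nhd f hw
  have hprop : ∀ (w : X) (hw : f w = y) (p : X), p ∈ O w hw → f p = y → p ∈ S →
      ∀ z ∈ O w hw, f z = y → z ∈ S := by
    intro w hw p hp hpy ⟨U', hU', hgU', hpU'⟩ z hz hzy
    refine ⟨U' ⊔ U w hw, ?_, Or.inl hgU', ?_⟩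
    · rw [Opens.coe_sup]; exact hU'.union (hUc w hw)
    · have h1 : p ∈ connectedComponentIn (↑(U' ⊔ U w hw) ∩ f ⁻¹' {y}) (g y) :=
        connectedComponentIn_mono _ (Set.inter_subset_inter_left _ (fun a ha => Or.inl ha)) hpU'
      rw [connectedComponentIn_eq h1]
      have hsub : O w hw ∩ f ⁻¹' {y} ⊆ ↑(U' ⊔ U w hw) ∩ f ⁻¹' {y} :=
        fun a ha => ⟨Or.inr (hOU w hw ha), ha.2⟩
      exact (hOc w hw).subset_connectedComponentIn (show p ∈ O w hw ∩ f ⁻¹' {y} from ⟨hp, hpy⟩)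
        hsub (show z ∈ O w hw ∩ f ⁻¹' {y} from ⟨hz, hzy⟩)
  have hgS : g y ∈ S := by
    have h := SectComp.f_g f hg y
    exact ⟨U _ h, hUc _ h, hOU _ h ⟨hwO _ h, h⟩,
      mem_connectedComponentIn (F := ↑(U (g y) h) ∩ f ⁻¹' {y}) (x := g y)
        ⟨hOU _ h ⟨hwO _ h, h⟩, h⟩⟩
  let good : Set X := ⋃ (w : X) (hw : f w = y) (_ : ∃ p ∈ O w hw, f p = y ∧ p ∈ S), O w hw
  let bad : Set X := ⋃ (w : X) (hw : f w = y) (_ : ¬∃ p ∈ O w hw, f p = y ∧ p ∈ S), O w hw
  have hgood : IsOpen good := isOpen_iUnion fun w => isOpen_iUnion fun hw => isOpen_iUnion fun _ => hO w hw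
  have hbad : IsOpen bad := isOpen_iUnion fun w => isOpen_iUnion fun hw => isOpen_iUnion fun _ => hO w hw
  have hgoodS : ∀ z ∈ good, f z = y → z ∈ S := by
    intro z hz hzy
    simp only [good, Set.mem_iUnion] at hz
    obtain ⟨w, hw, ⟨p, hp, hpy, hpS⟩, hzw⟩ := hz
    exact hprop w hw p hp hpy hpS z hzw hzy
  have hCy : ∀ z ∈ SectComp.C f g y, f z = y := fun z hz => SectComp.C_subset f g y hz
  have hcov : SectComp.C f g y ⊆ good ∪ bad := fun z hz => by
    by_cases h : ∃ p ∈ O z (hCy z hz), f p = y ∧ p ∈ S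
    · exact Or.inl (Set.mem_iUnion₂.2 ⟨z, hCy z hz, Set.mem_iUnion.2 ⟨h, hwO z _⟩⟩)
    · exact Or.inr (Set.mem_iUnion₂.2 ⟨z, hCy z hz, Set.mem_iUnion.2 ⟨h, hwO z _⟩⟩)
  intro z hz
  rcases hcov hz with h | h
  · exact hgoodS z h (hCy z hz)
  · exfalso
    have hgg : g y ∈ SectComp.C f g y := SectComp.mem_C f hg y
    have h0 : g y ∈ good := Set.mem_iUnion₂.2 ⟨g y, SectComp.f_g f hg y,
      Set.mem_iUnion.2 ⟨⟨g y, hwO _ _, SectComp.f_g f hg y, hgS⟩, hwO _ _⟩⟩
    obtain ⟨p, hpC, hpg, hpb⟩ := isPreconnected_connectedComponentIn good bad hgood hbad hcov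
      ⟨g y, hgg, h0⟩ ⟨z, hz, h⟩
    simp only [bad, Set.mem_iUnion] at hpb
    obtain ⟨w, hw, hno, hpw⟩ := hpb
    exact hno ⟨p, hpw, hCy p hpC, hgoodS p hpg (hCy p hpC)⟩

/-- Constructible sets in Noetherian spaces contain relative neighbourhoods of their points. -/
theorem exists_open_inter_closure {α : Type*} [TopologicalSpace α] [NoetherianSpace α] {E : Set α}
    (hE : IsConstructible E) {ζ : α} (hζ : ζ ∈ E) :
    ∃ O : Set α, IsOpen O ∧ ζ ∈ O ∧ O ∩ closure {ζ} ⊆ E := by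
  obtain ⟨S, -, hS, rfl⟩ := Lib.Spectral.Noetherian.exists_isLocallyClosed_of_isConstructible hE
  obtain ⟨L, hL, hζL⟩ := hζ
  obtain ⟨U, Z, hU, hZ, rfl⟩ := hS L hL
  exact ⟨U, hU, hζL.1, fun z hz => ⟨_, hL, hz.1,
    closure_minimal (Set.singleton_subset_iff.2 hζL.2) hZ hz.2⟩⟩

/-- Over a locally Noetherian base, the section components are a neighbourhood of every point all of
whose generizations they contain. -/
theorem mem_nhds_of_generizations [IsLocallyNoetherian Y] [LocallyOfFiniteType f]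
    (hg : g ≫ f = 𝟙 Y) (x : X) (hgen : ∀ x' : X, x' ⤳ x → x' ∈ MoreMor.sectionComponents f g) :
    MoreMor.sectionComponents f g ∈ 𝓝 x := by
  haveI : IsLocallyNoetherian X := LocallyOfFiniteType.isLocallyNoetherian f
  obtain ⟨W, hW, hxW, -⟩ := exists_isAffineOpen_mem_and_subset (X := X) (x := x) (U := ⊤) trivial
  haveI : NoetherianSpace ↥(W : Scheme.{u}) := by
    haveI : IsAffine (W : Scheme.{u}) := hW
    haveI : IsNoetherian (W : Scheme.{u}) :=
      {}
    infer_instance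
  suffices H : W.ι ⁻¹' MoreMor.sectionComponents f g ∈ 𝓝 (⟨x, hxW⟩ : ↥(W : Scheme.{u})) by
    exact Filter.mem_of_superset (W.ι.isOpenEmbedding.isOpenMap.image_mem_nhds H)
      (Set.image_preimage_subset _ _)
  refine Lib.Spectral.Noetherian.exists_isOpen_of_forall (X := ↥(W : Scheme.{u})) fun Z hZ hZi hxZ => ?_
  obtain ⟨ζ, hζ⟩ := QuasiSober.sober hZi hZ
  let ζ₀ : X := W.ι ζ
  have hζx : ζ₀ ⤳ x := (hζ.specializes hxZ).map W.ι.continuous
  let η : Y := f ζ₀
  obtain ⟨U, hUc, hgU, hζU⟩ := exists_qc_open f hg (y := η) (hgen ζ₀ hζx)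
  obtain ⟨Y', hY', hηY', hY'U⟩ :=
    exists_isAffineOpen_mem_and_subset (X := Y) (x := η) (U := g ⁻¹ᵁ U) hgU
  let U' : X.Opens := U ⊓ f ⁻¹ᵁ Y'
  haveI : NoetherianSpace ↥(U : Scheme.{u}) := by
    haveI : CompactSpace ↥(U : Scheme.{u}) := isCompact_iff_compactSpace.mp hUc
    haveI : IsNoetherian (U : Scheme.{u}) :=
      {}
    infer_instance
  haveI : NoetherianSpace ↥(U' : Scheme.{u}) :=
    ((X.homOfLE (inf_le_left : U' ≤ U)).isEmbedding.isInducing).noetherianSpace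
  haveI : IsAffine (Y' : Scheme.{u}) := hY'
  let f' : (U' : Scheme.{u}) ⟶ (Y' : Scheme.{u}) := f.resLE Y' U' inf_le_right
  haveI : QuasiCompact f' := quasiCompact_of_compactSpace f'
  let g' : (Y' : Scheme.{u}) ⟶ (U' : Scheme.{u}) := IsOpenImmersion.lift U'.ι (Y'.ι ≫ g) (by
    rintro _ ⟨v, rfl⟩
    rw [Scheme.Opens.range_ι]
    exact ⟨hY'U v.2, show f (g v.1) ∈ Y' by rw [SectComp.f_g f hg]; exact v.2⟩)
  have hg'ι : g' ≫ U'.ι = Y'.ι ≫ g := IsOpenImmersion.lift_fac _ _ _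
  have hg' : g' ≫ f' = 𝟙 _ := by
    rw [← cancel_mono Y'.ι, Category.assoc, Scheme.Hom.resLE_comp_ι, reassoc_of% hg'ι, hg,
      Category.comp_id, Category.id_comp]
  have hfι : ∀ z, f (U'.ι z) = Y'.ι (f' z) := fun z =>
    (congrArg (fun q : (U' : Scheme.{u}) ⟶ Y => q z) (Scheme.Hom.resLE_comp_ι f inf_le_right)).symm
  have hgι : ∀ v, U'.ι (g' v) = g (Y'.ι v) := fun v =>
    congrArg (fun q : (Y' : Scheme.{u}) ⟶ X => q v) hg'ι
  have hsub : MoreMor.sectionComponents f' g' ⊆ U'.ι ⁻¹' MoreMor.sectionComponents f g := by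
    intro z hz
    show U'.ι z ∈ connectedComponentIn (f ⁻¹' {f (U'.ι z)}) (g (f (U'.ι z)))
    rw [hfι, ← hgι]
    refine (isPreconnected_connectedComponentIn.image U'.ι U'.ι.continuous.continuousOn).subset_connectedComponentIn
      ⟨_, mem_connectedComponentIn (SectComp.f_g f' hg' (f' z)), rfl⟩ ?_ ⟨z, hz, rfl⟩
    rintro _ ⟨b, hb, rfl⟩
    show f (U'.ι b) = Y'.ι (f' z)
    rw [hfι, show f' b = f' z from connectedComponentIn_subset (f' ⁻¹' {f' z}) (g' (f' z)) hb]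
  let K : Set X := connectedComponentIn (↑U ∩ f ⁻¹' {η}) (g η)
  have hKU : K ⊆ Set.range U'.ι := fun a ha => by
    have h := connectedComponentIn_subset (↑U ∩ f ⁻¹' {η}) (g η) ha
    rw [Scheme.Opens.range_ι]
    exact ⟨h.1, show f a ∈ Y' by rw [show f a = η from h.2]; exact hηY'⟩
  have hKpre : _root_.IsPreconnected (U'.ι ⁻¹' K) := by
    refine U'.ι.isEmbedding.isInducing.isPreconnected_image.1 ?_
    rw [Set.image_preimage_eq_of_subset hKU]
    exact isPreconnected_connectedComponentIn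
  obtain ⟨ζ', hζ'⟩ := hKU hζU
  have hfζ' : Y'.ι (f' ζ') = η := by rw [← hfι, hζ']
  have hζE : ζ' ∈ MoreMor.sectionComponents f' g' := by
    refine hKpre.subset_connectedComponentIn ?_ ?_ (show ζ' ∈ U'.ι ⁻¹' K from Set.mem_preimage.2 (by rw [hζ']; exact hζU))
    · show U'.ι (g' (f' ζ')) ∈ K
      rw [hgι, hfζ']
      exact mem_connectedComponentIn ⟨hgU, SectComp.f_g f hg η⟩
    · intro b hb
      refine Y'.ι.isEmbedding.injective ?_
      rw [hfζ', ← hfι]
      exact (connectedComponentIn_subset (↑U ∩ f ⁻¹' {η}) (g η) hb).2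
  obtain ⟨O, hO, hζO, hOE⟩ := exists_open_inter_closure
    (GeomSpread.isConstructible_sectionComponents f' g' hg') hζE
  refine ⟨W.ι ⁻¹' (U'.ι '' O), (U'.ι.isOpenEmbedding.isOpenMap O hO).preimage W.ι.continuous,
    ⟨ζ, ⟨ζ', hζO, hζ'⟩, hζ.mem⟩, ?_⟩
  rintro z ⟨⟨z', hz', hzz⟩, hzZ⟩
  have : z' ∈ closure ({ζ'} : Set ↥(U' : Scheme.{u})) := by
    rw [← specializes_iff_mem_closure, ← U'.ι.isEmbedding.isInducing.specializes_iff, hzz, hζ']
    exact (hζ.specializes hzZ).map W.ι.continuous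
  show W.ι z ∈ MoreMor.sectionComponents f g
  rw [← hzz]
  exact hsub (hOE ⟨hz', this⟩)

end Groth.Agent.H46.SectChain
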