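import Groth.Agent.H46.SectOpenFlat
import Groth.Agent.H46.SectChain
import Groth.Agent.H2.FlatHom.Abelian

/-!
# Openness of the section components of smooth morphisms
-/

set_option autoImplicit false
set_option linter.style.haveILetI false

universe u

open CategoryTheory AlgebraicGeometry Limits Topology

namespace Groth.Agent.H46.SectOpenSmooth

theorem grAt_of_smooth {X Y : Scheme.{u}} (f : X ⟶ Y) [Smooth f] (z : X) : GRAt.GRAt f z := by
  intro K _ v p _
  haveI : GeometricallyReduced f := H2.FlatHom.Abelian.geometricallyReduced f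
  haveI : AlgebraicGeometry.IsReduced (pullback f v) :=
    GeometricallyReduced.geometrically_isReduced v _ _ (IsPullback.of_hasPullback f v)
  infer_instance

theorem isOpen_of_isAffine {X S : Scheme.{u}} [IsAffine S] [QuasiSeparatedSpace X] (f : X ⟶ S)
    [Smooth f] {g : S ⟶ X} (hg : g ≫ f = 𝟙 S) : IsOpen (MoreMor.sectionComponents f g) := by
  refine isOpen_iff_mem_nhds.2 fun x hx => ?_
  obtain ⟨U, hUc, hgU, hxU⟩ := SectChain.exists_qc_open f hg (y := f x) hx
  obtain ⟨Y', hY', hyY', hY'U⟩ :=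
    exists_isAffineOpen_mem_and_subset (X := S) (x := f x) (U := g ⁻¹ᵁ U) hgU
  haveI : IsAffine (Y' : Scheme.{u}) := hY'
  haveI : CompactSpace ↥(U : Scheme.{u}) := isCompact_iff_compactSpace.mp hUc
  haveI : QuasiCompact (U.ι ≫ f) := quasiCompact_of_compactSpace (U.ι ≫ f)
  let U' : X.Opens := U ⊓ f ⁻¹ᵁ Y'
  have hU'c : IsCompact (U' : Set X) := by
    have h1 : IsCompact ((U.ι ≫ f) ⁻¹' (Y' : Set S)) :=
      (U.ι ≫ f).isCompact_preimage hY'.isCompact
    have e : (U' : Set X) = U.ι '' ((U.ι ≫ f) ⁻¹' (Y' : Set S)) := by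
      ext a
      constructor
      · intro ha
        exact ⟨⟨a, ha.1⟩, ha.2, rfl⟩
      · rintro ⟨b, hb, rfl⟩
        exact ⟨b.2, hb⟩
    rw [e]
    exact h1.image U.ι.continuous
  haveI : CompactSpace ↥(U' : Scheme.{u}) := isCompact_iff_compactSpace.mp hU'c
  let f' : (U' : Scheme.{u}) ⟶ (Y' : Scheme.{u}) := f.resLE Y' U' inf_le_right
  haveI : QuasiCompact f' := quasiCompact_of_compactSpace f'
  haveI : Smooth f' := inferInstanceAs (Smooth (f.resLE Y' U' inf_le_right))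
  haveI : QuasiSeparatedSpace ↥(U' : Scheme.{u}) := QuasiSeparatedSpace.of_isOpenEmbedding U'.ι.isOpenEmbedding
  haveI : QuasiSeparated f' :=
    quasiSeparated_iff_quasiSeparatedSpace f' |>.2 inferInstance
  let g' : (Y' : Scheme.{u}) ⟶ (U' : Scheme.{u}) := IsOpenImmersion.lift U'.ι (Y'.ι ≫ g) (by
    rintro _ ⟨v, rfl⟩
    rw [Scheme.Opens.range_ι]
    exact ⟨hY'U v.2, show f (g v.1) ∈ Y' by rw [SectComp.f_g f hg]; exact v.2⟩)
  have hg'ι : g' ≫ U'.ι = Y'.ι ≫ g := IsOpenImmersion.lift_fac _ _ _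
  have hg' : g' ≫ f' = 𝟙 _ := by
    rw [← cancel_mono Y'.ι, Category.assoc, Scheme.Hom.resLE_comp_ι, reassoc_of% hg'ι, hg,
      Category.comp_id, Category.id_comp]
  have hfι : ∀ z, f (U'.ι z) = Y'.ι (f' z) := fun z =>
    (congrArg (fun q : (U' : Scheme.{u}) ⟶ S => q z) (Scheme.Hom.resLE_comp_ι f inf_le_right)).symm
  have hgι : ∀ v, U'.ι (g' v) = g (Y'.ι v) := fun v =>
    congrArg (fun q : (Y' : Scheme.{u}) ⟶ X => q v) hg'ι
  let y' : ↥(Y' : Scheme.{u}) := ⟨f x, hyY'⟩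
  let K : Set X := connectedComponentIn (↑U ∩ f ⁻¹' {f x}) (g (f x))
  have hKU : K ⊆ Set.range U'.ι := fun a ha => by
    have h := connectedComponentIn_subset (↑U ∩ f ⁻¹' {f x}) (g (f x)) ha
    rw [Scheme.Opens.range_ι]
    exact ⟨h.1, show f a ∈ Y' by rw [show f a = f x from h.2]; exact hyY'⟩
  have hKpre : _root_.IsPreconnected (U'.ι ⁻¹' K) := by
    refine U'.ι.isEmbedding.isInducing.isPreconnected_image.1 ?_
    rw [Set.image_preimage_eq_of_subset hKU]
    exact isPreconnected_connectedComponentIn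
  obtain ⟨x', hx'⟩ := hKU hxU
  have hxC : x' ∈ SectComp.C f' g' y' := by
    refine hKpre.subset_connectedComponentIn ?_ ?_
      (show x' ∈ U'.ι ⁻¹' K from Set.mem_preimage.2 (by rw [hx']; exact hxU))
    · show U'.ι (g' y') ∈ K
      rw [hgι]
      exact mem_connectedComponentIn ⟨hgU, SectComp.f_g f hg (f x)⟩
    · intro b hb
      refine Y'.ι.isEmbedding.injective ?_
      rw [← hfι]
      exact (connectedComponentIn_subset (↑U ∩ f ⁻¹' {f x}) (g (f x)) hb).2
  have hint := SectOpenFlat.subset_interior f' g' hg' y' (fun z _ => grAt_of_smooth f' z) hxC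
  have hsub : U'.ι '' MoreMor.sectionComponents f' g' ⊆ MoreMor.sectionComponents f g := by
    rintro _ ⟨z, hz, rfl⟩
    show U'.ι z ∈ connectedComponentIn (f ⁻¹' {f (U'.ι z)}) (g (f (U'.ι z)))
    rw [hfι, ← hgι]
    refine (isPreconnected_connectedComponentIn.image U'.ι U'.ι.continuous.continuousOn).subset_connectedComponentIn
      ⟨_, mem_connectedComponentIn (SectComp.f_g f' hg' (f' z)), rfl⟩ ?_ ⟨z, hz, rfl⟩
    rintro _ ⟨b, hb, rfl⟩
    show f (U'.ι b) = Y'.ι (f' z)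
    rw [hfι, show f' b = f' z from connectedComponentIn_subset (f' ⁻¹' {f' z}) (g' (f' z)) hb]
  refine Filter.mem_of_superset
    ((U'.ι.isOpenEmbedding.isOpenMap _ isOpen_interior).mem_nhds ⟨x', hint, hx'⟩) ?_
  exact (Set.image_mono interior_subset).trans hsub

theorem isOpen {X S : Scheme.{u}} [QuasiSeparatedSpace X] (f : X ⟶ S) [Smooth f] {g : S ⟶ X}
    (hg : g ≫ f = 𝟙 S) : IsOpen (MoreMor.sectionComponents f g) := by
  refine isOpen_iff_mem_nhds.2 fun x hx => ?_
  obtain ⟨U, hU, hyU, -⟩ := exists_isAffineOpen_mem_and_subset (X := S) (x := f x) (U := ⊤) trivial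
  haveI : IsAffine (U : Scheme.{u}) := hU
  let ι := (f ⁻¹ᵁ U).ι
  haveI : QuasiSeparatedSpace ↥(f ⁻¹ᵁ U : Scheme.{u}) := QuasiSeparatedSpace.of_isOpenEmbedding ι.isOpenEmbedding
  let σ : (U : Scheme.{u}) ⟶ (f ⁻¹ᵁ U : Scheme.{u}) :=
    IsOpenImmersion.lift ι (U.ι ≫ g) (by
      rintro _ ⟨v, rfl⟩
      rw [Scheme.Opens.range_ι]
      show (U.ι ≫ g ≫ f) v ∈ U
      rw [hg, Category.comp_id]
      exact v.2)
  have hσι : σ ≫ ι = U.ι ≫ g := IsOpenImmersion.lift_fac _ _ _
  have hσ : σ ≫ (f ∣_ U) = 𝟙 _ := by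
    rw [← cancel_mono U.ι, Category.assoc, morphismRestrict_ι, reassoc_of% hσι, hg,
      Category.comp_id, Category.id_comp]
  have e : MoreMor.sectionComponents (f ∣_ U) σ = ι ⁻¹' MoreMor.sectionComponents f g :=
    Groth.Agent.H54.SectionComp.result f g hg (f ∣_ U) ι U.ι
      (isPullback_morphismRestrict f U).flip σ hσ hσι
  obtain ⟨w, rfl⟩ : x ∈ Set.range ι := by
    rw [Scheme.Opens.range_ι]; exact hyU
  have h := isOpen_of_isAffine (f ∣_ U) hσ
  rw [e] at h
  exact Filter.mem_of_superset ((ι.isOpenEmbedding.isOpenMap _ h).mem_nhds ⟨w, hx, rfl⟩)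
    (Set.image_preimage_subset _ _)

end Groth.Agent.H46.SectOpenSmooth
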