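import Groth.Agent.H46.DimData
import Groth.Agent.Lib.SchTopo.Basic
import Mathlib.AlgebraicGeometry.AffineSpace

/-!
# Fibres of affine space, and transcendence degrees along quasi-finite maps
-/

universe u

open CategoryTheory AlgebraicGeometry Limits
open Groth.Agent.Lib.Cyc Groth.Agent.H46.FibreTrdeg

namespace Groth.Agent.H46.AffineFib

variable {X Y Z : Scheme.{u}}

theorem trd_comp' (g : X ⟶ Y) (h : Y ⟶ Z) [LocallyOfFiniteType g] [LocallyOfFiniteType h] (x : X) :
    trd (g ≫ h) x = trd h (g x) + trd g x := by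
  have e := Residue.trdegAt_comp g h x
  rw [trdegAt_eq, trdegAt_eq, trdegAt_eq] at e
  exact_mod_cast e

theorem trd_eq_zero_of_locallyQuasiFinite (g : X ⟶ Y) [LocallyOfFiniteType g] [LocallyQuasiFinite g]
    (x : X) : trd g x = 0 := by
  obtain ⟨z, hz⟩ := FieldDim.exists_fiberι_eq g x (g x) rfl
  have hd : topologicalKrullDim ↥(g.fiber (g x)) ≤ ((0 : ℕ) : WithBot ℕ∞) := by
    rw [Nat.cast_zero]
    exact topologicalKrullDim_zero_of_discreteTopology _
  exact Nat.le_zero.1 ((dim_fiber_le_iff g _ _).1 hd x rfl)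

variable (n : Type u) (Y : Scheme.{u})

theorem exists_homeo (y : Y) :
    Nonempty (PrimeSpectrum (MvPolynomial n (Y.residueField y)) ≃ₜ
      ↥((𝔸(n; Y) ↘ Y).fiber y)) :=
  ⟨((AffineSpace.SpecIso n (Y.residueField y)).symm ≪≫
    (AffineSpace.isPullback_map (n := n) (Y.fromSpecResidueField y)).isoPullback).hom.homeomorph⟩

theorem dim_fiber [Finite n] (y : Y) :
    topologicalKrullDim ↥((𝔸(n; Y) ↘ Y).fiber y) = (Nat.card n : WithBot ℕ∞) := by
  obtain ⟨e⟩ := exists_homeo n Y y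
  rw [← IsHomeomorph.topologicalKrullDim_eq _ e.isHomeomorph,
    PrimeSpectrum.topologicalKrullDim_eq_ringKrullDim,
    MvPolynomial.ringKrullDim_of_isNoetherianRing,
    ringKrullDim_eq_zero_of_field, zero_add]

theorem trd_le_card [Finite n] (q : 𝔸(n; Y)) : trd (𝔸(n; Y) ↘ Y) q ≤ Nat.card n :=
  (dim_fiber_le_iff _ _ _).1 (dim_fiber n Y _).le q rfl

theorem isMaxPt_over {q : 𝔸(n; Y)} (hq : DimFun.IsMaxPt q) :
    DimFun.IsMaxPt ((𝔸(n; Y) ↘ Y) q) := by
  intro y hy
  obtain ⟨q', hq', rfl⟩ :=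
    (Groth.Agent.Lib.SchTopo.Basic.generalizingMap_of_isOpenMap _ (AffineSpace.isOpenMap_over _)) hy
  rw [hq q' hq']

theorem trd_of_isMaxPt [Finite n] {q : 𝔸(n; Y)} (hq : DimFun.IsMaxPt q) :
    trd (𝔸(n; Y) ↘ Y) q = Nat.card n := by
  let p := 𝔸(n; Y) ↘ Y
  refine le_antisymm (trd_le_card n Y q) ?_
  obtain ⟨e⟩ := exists_homeo n Y (p q)
  haveI : IrreducibleSpace ↥(p.fiber (p q)) := e.irreducibleSpace_iff.1 inferInstance
  obtain ⟨z, hz⟩ := FieldDim.exists_fiberι_eq p q _ rfl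
  have hg : p.fiberι _ (genericPoint ↥(p.fiber (p q))) = q :=
    hq _ (((genericPoint_specializes z).map (p.fiberι _).continuous).trans (specializes_of_eq hz))
  have h : topologicalKrullDim ↥(p.fiber (p q)) ≤ (trd p q : WithBot ℕ∞) := by
    rw [dim_fiber_le_iff p]
    intro ξ hξ
    obtain ⟨w, hw⟩ := FieldDim.exists_fiberι_eq p ξ _ hξ
    refine trd_le p ?_ hξ.symm
    exact (specializes_of_eq hg.symm).trans
      (((genericPoint_specializes w).map (p.fiberι _).continuous).trans (specializes_of_eq hw))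
  rw [dim_fiber] at h
  exact_mod_cast h

end Groth.Agent.H46.AffineFib
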