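import Groth.Agent.H46.AffineFib
import Groth.Agent.Lib.FibreDim.Semicont
import Mathlib.AlgebraicGeometry.Morphisms.Finite

/-!
# Noether normalisation of a fibre by coordinates defined on the total space
-/

universe u

open CategoryTheory AlgebraicGeometry Limits
open scoped TensorProduct

namespace Groth.Agent.H46.NoetherFib

section algebra

variable {R A κ : Type u} [CommRing R] [CommRing A] [Algebra R A] [Algebra.FiniteType R A]
  [Field κ] [Algebra R κ]

theorem exists_smul_eq_one_tmul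
    (hκ : ∀ c : κ, ∃ r a : R, algebraMap R κ r ≠ 0 ∧ algebraMap R κ r * c = algebraMap R κ a)
    (t : κ ⊗[R] A) : ∃ (r : R) (a : A), algebraMap R κ r ≠ 0 ∧
      algebraMap R κ r • t = (1 : κ) ⊗ₜ[R] a := by
  induction t with
  | zero => exact ⟨1, 0, by simp, by simp⟩
  | tmul c b =>
    obtain ⟨r, a, hr, ha⟩ := hκ c
    refine ⟨r, a • b, hr, ?_⟩
    rw [TensorProduct.smul_tmul', smul_eq_mul, ha, Algebra.algebraMap_eq_smul_one,
      TensorProduct.smul_tmul]
  | add x z hx hz =>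
    obtain ⟨r, a, hr, ha⟩ := hx
    obtain ⟨r', a', hr', ha'⟩ := hz
    refine ⟨r * r', r' • a + r • a', by rw [map_mul]; exact mul_ne_zero hr hr', ?_⟩
    rw [TensorProduct.tmul_add, TensorProduct.tmul_smul, TensorProduct.tmul_smul, ← ha, ← ha',
      map_mul, smul_add, ← algebraMap_smul κ r', ← algebraMap_smul κ r (algebraMap R κ r' • z),
      smul_smul, smul_smul, mul_comm (algebraMap R κ r')]

theorem exists_finite_aeval [Nontrivial (κ ⊗[R] A)]
    (hκ : ∀ c : κ, ∃ r a : R, algebraMap R κ r ≠ 0 ∧ algebraMap R κ r * c = algebraMap R κ a) :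
    ∃ (s : ℕ) (a : Fin s → A), (s : WithBot ℕ∞) = ringKrullDim (κ ⊗[R] A) ∧
      (MvPolynomial.aeval (R := κ) fun i => (1 : κ) ⊗ₜ[R] a i).toRingHom.Finite := by
  let S := κ ⊗[R] A
  obtain ⟨s, g, hginj, hgfin⟩ := exists_finite_inj_algHom_of_fg κ S
  have hs : (s : WithBot ℕ∞) = ringKrullDim S := by
    letI := g.toRingHom.toAlgebra
    haveI : FaithfulSMul (MvPolynomial (Fin s) κ) S :=
      (faithfulSMul_iff_algebraMap_injective _ _).mpr hginj
    haveI : Module.Finite (MvPolynomial (Fin s) κ) S := hgfin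
    rw [Groth.Agent.Lib.Dim.Integral.ringKrullDim_eq_of_isIntegral (R := MvPolynomial (Fin s) κ) (A := S)]
    simp [MvPolynomial.ringKrullDim_of_isNoetherianRing]
  choose r a hr ha using fun i => exists_smul_eq_one_tmul hκ (g (MvPolynomial.X i))
  refine ⟨s, a, hs, ?_⟩
  let σ : MvPolynomial (Fin s) κ →ₐ[κ] MvPolynomial (Fin s) κ :=
    MvPolynomial.aeval fun i => algebraMap R κ (r i) • MvPolynomial.X i
  have hσ : Function.Surjective σ := by
    rw [← AlgHom.range_eq_top, eq_top_iff, ← MvPolynomial.adjoin_range_X, Algebra.adjoin_le_iff]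
    rintro _ ⟨i, rfl⟩
    refine ⟨(algebraMap R κ (r i))⁻¹ • MvPolynomial.X i, ?_⟩
    show σ ((algebraMap R κ (r i))⁻¹ • MvPolynomial.X i) = _
    rw [map_smul, MvPolynomial.aeval_X, inv_smul_smul₀ (hr i)]
  have : (MvPolynomial.aeval (R := κ) fun i => (1 : κ) ⊗ₜ[R] a i) = g.comp σ := by
    apply MvPolynomial.algHom_ext
    intro i
    rw [AlgHom.comp_apply, MvPolynomial.aeval_X, MvPolynomial.aeval_X, map_smul]
    exact (ha i).symm
  rw [this]
  exact hgfin.comp (RingHom.Finite.of_surjective _ hσ)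

end algebra

variable {X Y : Scheme.{u}} [IsAffine X] [IsAffine Y] (f : X ⟶ Y) (y : Y)

theorem exists_toAffineSpace [LocallyOfFiniteType f] (hy : y ∈ Set.range f.base) (e : ℕ)
    (he : topologicalKrullDim ↥(f.fiber y) = e) :
    ∃ g : X ⟶ 𝔸(ULift.{u} (Fin e); Y), g ≫ (𝔸(ULift.{u} (Fin e); Y) ↘ Y) = f ∧
      IsFinite (pullback.snd g ((𝔸(ULift.{u} (Fin e); Y) ↘ Y).fiberι y)) := by
  let κ := Y.residueField y
  let φ : Γ(Y, ⊤) ⟶ κ := Y.presheaf.germ ⊤ y trivial ≫ Y.residue y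
  letI : Algebra Γ(Y, ⊤) Γ(X, ⊤) := f.appTop.hom.toAlgebra
  letI : Algebra Γ(Y, ⊤) κ := φ.hom.toAlgebra
  haveI : Algebra.FiniteType Γ(Y, ⊤) Γ(X, ⊤) :=
    HasRingHomProperty.appTop (P := @LocallyOfFiniteType) f ‹_›
  have hκ : ∀ c : κ, ∃ r a : Γ(Y, ⊤),
      algebraMap Γ(Y, ⊤) κ r ≠ 0 ∧ algebraMap Γ(Y, ⊤) κ r * c = algebraMap Γ(Y, ⊤) κ a := by
    intro c
    obtain ⟨d, rfl⟩ := Y.residue_surjective y c
    let := TopCat.Presheaf.algebra_section_stalk Y.presheaf (⟨y, trivial⟩ : (⊤ : Y.Opens))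
    have := (isAffineOpen_top Y).isLocalization_stalk ⟨y, trivial⟩
    obtain ⟨⟨a, b⟩, hab⟩ :=
      IsLocalization.surj ((isAffineOpen_top Y).primeIdealOf ⟨y, trivial⟩).asIdeal.primeCompl d
    refine ⟨b, a, ?_, ?_⟩
    · exact ((IsLocalization.map_units _ b).map (Y.residue y).hom).ne_zero
    · show (Y.residue y) (Y.presheaf.germ ⊤ y trivial b) * (Y.residue y) d =
        (Y.residue y) (Y.presheaf.germ ⊤ y trivial a)
      rw [← map_mul, mul_comm]
      exact congrArg _ hab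
  have hfrom : Spec.map φ ≫ Y.isoSpec.inv = Y.fromSpecResidueField y := by
    rw [Scheme.fromSpecResidueField, ← (isAffineOpen_top Y).fromSpecStalk_eq_fromSpecStalk trivial,
      IsAffineOpen.fromSpecStalk, IsAffineOpen.fromSpec_top, Spec.map_comp, Category.assoc]
  let S := κ ⊗[Γ(Y, ⊤)] Γ(X, ⊤)
  let incl : Γ(X, ⊤) ⟶ CommRingCat.of S :=
    CommRingCat.ofHom Algebra.TensorProduct.includeRight.toRingHom
  let sκ : κ ⟶ CommRingCat.of S := CommRingCat.ofHom (Algebra.TensorProduct.includeLeftRingHom : κ →+* S)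
  let a := Spec.map incl ≫ X.isoSpec.inv
  have houter : IsPullback a (Spec.map sκ) f (Y.fromSpecResidueField y) := by
    refine (isPullback_SpecMap_of_isPushout _ _ _ _
      (CommRingCat.isPushout_tensorProduct Γ(Y, ⊤) κ Γ(X, ⊤)).flip).of_iso (Iso.refl _) X.isoSpec.symm
      (Iso.refl _) Y.isoSpec.symm ?_ ?_ ?_ ?_
    · simp [a, incl]
    · simp [sκ]; rfl
    · exact Scheme.isoSpec_inv_naturality f
    · simp only [Iso.refl_hom, Category.id_comp]
      exact hfrom
  have hdim : (ringKrullDim S : WithBot ℕ∞) = e := by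
    rw [← he, ← PrimeSpectrum.topologicalKrullDim_eq_ringKrullDim]
    exact IsHomeomorph.topologicalKrullDim_eq _ houter.isoPullback.hom.homeomorph.isHomeomorph
  haveI : Nontrivial S := by
    by_contra h
    rw [not_nontrivial_iff_subsingleton] at h
    obtain ⟨x, hx⟩ := hy
    obtain ⟨z, -⟩ := Groth.Agent.Lib.Cyc.FieldDim.exists_fiberι_eq f x y hx
    exact IsEmpty.false (α := PrimeSpectrum S) (houter.isoPullback.inv.base z)
  obtain ⟨s, v, hs, hfin⟩ := exists_finite_aeval (R := Γ(Y, ⊤)) (A := Γ(X, ⊤)) (κ := κ) hκ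
  rw [show ringKrullDim (κ ⊗[Γ(Y, ⊤)] Γ(X, ⊤)) = _ from hdim, Nat.cast_inj] at hs
  subst hs
  let n := ULift.{u} (Fin s)
  let Ψ : MvPolynomial n κ →ₐ[κ] S :=
    MvPolynomial.aeval fun i : n => (1 : κ) ⊗ₜ[Γ(Y, ⊤)] v i.down
  have hΨ : Ψ.toRingHom.Finite := by
    have : Ψ = (MvPolynomial.aeval fun i => (1 : κ) ⊗ₜ[Γ(Y, ⊤)] v i).comp
        (MvPolynomial.renameEquiv κ (Equiv.ulift.{u} : n ≃ Fin s)).toAlgHom := by
      apply MvPolynomial.algHom_ext
      intro i
      simp [Ψ]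
    rw [this]
    exact hfin.comp (RingHom.Finite.of_surjective _ (MvPolynomial.renameEquiv κ _).surjective)
  let g : X ⟶ 𝔸(n; Y) := AffineSpace.homOfVector f fun i => v i.down
  have hg : g ≫ (𝔸(n; Y) ↘ Y) = f := AffineSpace.homOfVector_over _ _
  refine ⟨g, hg, ?_⟩
  let p := 𝔸(n; Y) ↘ Y
  let iso := (AffineSpace.isPullback_map (n := n) (Y.fromSpecResidueField y)).isoPullback
  let b₀ := Spec.map (CommRingCat.ofHom Ψ.toRingHom) ≫ (AffineSpace.SpecIso n κ).inv
  let b : Spec (CommRingCat.of S) ⟶ p.fiber y := b₀ ≫ iso.hom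
  have hb1 : b ≫ p.fiberι y = b₀ ≫ AffineSpace.map n (Y.fromSpecResidueField y) := by
    exact (Category.assoc _ _ _).trans
      (congrArg (fun φ => b₀ ≫ φ) (IsPullback.isoPullback_hom_fst _))
  have hb2 : b ≫ p.fiberToSpecResidueField y = Spec.map sκ := by
    refine (Category.assoc _ _ _).trans
      ((congrArg (fun φ => b₀ ≫ φ) (IsPullback.isoPullback_hom_snd _)).trans ?_)
    refine (Category.assoc _ _ _).trans ?_
    rw [AffineSpace.SpecIso_inv_over, ← Spec.map_comp]
    congr 1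
    ext c
    exact Ψ.commutes c
  have hcomm : a ≫ g = b ≫ p.fiberι y := by
    refine AffineSpace.hom_ext ?_ fun i => ?_
    · rw [Category.assoc, hg, houter.w, ← hb2, Category.assoc, Category.assoc]
      exact congrArg (fun φ => b ≫ φ) (pullback.condition (f := p) (g := Y.fromSpecResidueField y)).symm
    · rw [hb1]
      simp only [Scheme.Hom.comp_appTop, CommRingCat.comp_apply, g, a, b₀,
        AffineSpace.homOfVector_appTop_coord, AffineSpace.map_appTop_coord,
        AffineSpace.SpecIso_inv_appTop_coord]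
      have h1 : ∀ {P Q : CommRingCat.{u}} (ψ : P ⟶ Q) (r : P),
          (Spec.map ψ).appTop ((Scheme.ΓSpecIso P).inv r) = (Scheme.ΓSpecIso Q).inv (ψ r) :=
        fun ψ r => (ConcreteCategory.congr_hom (Scheme.ΓSpecIso_inv_naturality ψ) r).symm
      have h2 : X.isoSpec.inv.appTop (v i.down) = (Scheme.ΓSpecIso Γ(X, ⊤)).inv (v i.down) := by
        simp [Scheme.isoSpec]
      rw [h2, h1, h1]
      congr 1
      exact (MvPolynomial.aeval_X (fun i : n => (1 : κ) ⊗ₜ[Γ(Y, ⊤)] v i.down) i).symm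
  have hbot : IsPullback (p.fiberι y) (p.fiberToSpecResidueField y) p (Y.fromSpecResidueField y) :=
    IsPullback.of_hasPullback _ _
  have hout' : IsPullback a (b ≫ p.fiberToSpecResidueField y) (g ≫ p) (Y.fromSpecResidueField y) := by
    rw [hg, hb2]; exact houter
  have htop : IsPullback a b g (p.fiberι y) := IsPullback.of_bot hout' hcomm hbot
  have hbfin : IsFinite b := by
    have : IsFinite (Spec.map (CommRingCat.ofHom Ψ.toRingHom)) := (IsFinite.SpecMap_iff _).2 hΨ
    infer_instance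
  rw [← htop.isoPullback_inv_snd]
  infer_instance

end Groth.Agent.H46.NoetherFib
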