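import Groth.Agent.H46.UnibranchLift
import Groth.Agent.H46.NoetherFib
import Mathlib.RingTheory.LocalRing.ResidueField.Fiber
import Mathlib.RingTheory.AlgebraicIndependent.TranscendenceBasis

/-!
# Quasi-finite coordinates at a point of a fibre of small dimension
-/

universe u

namespace Groth.Agent.H46.UnibranchQF

open TensorProduct Groth.Agent.H46.UnibranchLift

attribute [local instance] MvPolynomial.algebraMvPolynomial

variable {R A : Type u} [CommRing R] [CommRing A] [Algebra R A]

theorem exists_fraction (p : Ideal R) [p.IsPrime] (c : p.ResidueField) :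
    ∃ r a : R, algebraMap R p.ResidueField r ≠ 0 ∧
      algebraMap R p.ResidueField r * c = algebraMap R p.ResidueField a := by
  obtain ⟨a, b, hb, rfl⟩ := IsFractionRing.div_surjective (A := R ⧸ p) c
  obtain ⟨a, rfl⟩ := Ideal.Quotient.mk_surjective a
  obtain ⟨b, rfl⟩ := Ideal.Quotient.mk_surjective b
  have hb' : algebraMap (R ⧸ p) p.ResidueField (Ideal.Quotient.mk p b) ≠ 0 :=
    (map_ne_zero_iff _ (IsFractionRing.injective (R ⧸ p) p.ResidueField)).2
      (nonZeroDivisors.ne_zero hb)
  refine ⟨b, a, ?_, ?_⟩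
  · rwa [IsScalarTower.algebraMap_apply R (R ⧸ p) p.ResidueField]
  · rw [IsScalarTower.algebraMap_apply R (R ⧸ p) p.ResidueField,
      IsScalarTower.algebraMap_apply R (R ⧸ p) p.ResidueField]
    exact mul_div_cancel₀ _ hb'

/-- If `κ(p)[T] → κ(p) ⊗ A` is finite, then `R[T] → A` is quasi-finite at every point over `p`. -/
theorem weaklyQuasiFiniteAt_aeval (Q : Ideal A) [Q.IsPrime] {e : ℕ} (a : Fin e → A)
    (hfin : (MvPolynomial.aeval (R := (Q.comap (algebraMap R A)).ResidueField) fun i =>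
      (1 : (Q.comap (algebraMap R A)).ResidueField) ⊗ₜ[R] a i).toRingHom.Finite) :
    letI := (MvPolynomial.aeval a : MvPolynomial (Fin e) R →ₐ[R] A).toRingHom.toAlgebra
    Algebra.WeaklyQuasiFiniteAt (MvPolynomial (Fin e) R) Q := by
  let S := MvPolynomial (Fin e) R
  let φ : MvPolynomial (Fin e) R →ₐ[R] A := MvPolynomial.aeval a
  letI : Algebra S A := φ.toRingHom.toAlgebra
  haveI : IsScalarTower R S A := IsScalarTower.of_algebraMap_eq' φ.comp_algebraMap.symm
  set p := Q.comap (algebraMap R A) with hp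
  let κ := p.ResidueField
  let M := κ ⊗[R] A
  let T := MvPolynomial (Fin e) κ
  let Ψ : T →ₐ[κ] M := MvPolynomial.aeval fun i => (1 : κ) ⊗ₜ[R] a i
  letI : Algebra T M := Ψ.toRingHom.toAlgebra
  haveI : Module.Finite T M := hfin
  letI : Algebra S M := (Ψ.toRingHom.comp (algebraMap S T)).toAlgebra
  haveI : IsScalarTower S T M := IsScalarTower.of_algebraMap_eq' rfl
  haveI : Algebra.QuasiFinite S T :=
    (Algebra.QuasiFinite.iff_of_algEquiv (Algebra.IsPushout.equiv R S κ T)).1 inferInstance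
  haveI : Algebra.QuasiFinite S M := Algebra.QuasiFinite.trans S T M
  rw [Algebra.weaklyQuasiFiniteAt_iff]
  let AQ := Localization.AtPrime Q
  let B := AQ ⧸ (Q.under S).map (algebraMap S AQ)
  let π : AQ →+* B := Ideal.Quotient.mk _
  let ρ : A →+* B := π.comp (algebraMap A AQ)
  let g : R →+* B := ρ.comp (algebraMap R A)
  have hgp : p ≤ RingHom.ker g := by
    intro x hx
    rw [RingHom.mem_ker]
    show π (algebraMap A AQ (algebraMap R A x)) = 0
    rw [IsScalarTower.algebraMap_apply R S A x, ← IsScalarTower.algebraMap_apply S A AQ]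
    refine Ideal.Quotient.eq_zero_iff_mem.2 (Ideal.mem_map_of_mem _ ?_)
    show algebraMap S A (algebraMap R S x) ∈ Q
    rw [← IsScalarTower.algebraMap_apply R S A x]
    exact hx
  have hgu : ∀ x, x ∉ p → IsUnit (g x) := fun x hx =>
    (IsLocalization.map_units AQ (⟨algebraMap R A x, hx⟩ : Q.primeCompl)).map π
  have hg : g = algebraMap R B := by
    refine RingHom.ext fun x => ?_
    show π (algebraMap A AQ (algebraMap R A x)) = π (algebraMap R AQ x)
    rw [← IsScalarTower.algebraMap_apply R A AQ]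
  let jκ : κ →ₐ[R] B := Ideal.ResidueField.liftₐ p (Algebra.ofId R B)
    (fun x hx => by
      show algebraMap R B x = 0
      rw [← hg]; exact hgp hx)
    (fun x hx => by
      show IsUnit (algebraMap R B x)
      rw [← hg]; exact hgu x hx)
  let ρA : A →ₐ[R] B := { ρ with commutes' := fun r => RingHom.congr_fun hg r }
  let f₀ : M →ₐ[R] B := Algebra.TensorProduct.lift jκ ρA fun _ _ => Commute.all _ _
  have hf₀ : f₀.toRingHom.comp (algebraMap S M) = algebraMap S B := by
    refine MvPolynomial.ringHom_ext (fun r => ?_) fun i => ?_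
    · show f₀ (Ψ (algebraMap S T (MvPolynomial.C r))) = π (algebraMap A AQ (φ (MvPolynomial.C r)))
      rw [show algebraMap S T (MvPolynomial.C r) = MvPolynomial.C (algebraMap R κ r) from
        MvPolynomial.map_C _ r, MvPolynomial.aeval_C, MvPolynomial.aeval_C,
        ← IsScalarTower.algebraMap_apply R κ M, AlgHom.commutes]
      show algebraMap R B r = π (algebraMap A AQ (algebraMap R A r))
      rw [← hg]
      rfl
    · show f₀ (Ψ (algebraMap S T (MvPolynomial.X i))) = π (algebraMap A AQ (φ (MvPolynomial.X i)))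
      rw [show algebraMap S T (MvPolynomial.X i) = MvPolynomial.X i from MvPolynomial.map_X _ i,
        MvPolynomial.aeval_X, MvPolynomial.aeval_X]
      show jκ 1 * ρA (a i) = _
      rw [map_one, one_mul]
      rfl
  let f : M →ₐ[S] B := { f₀.toRingHom with commutes' := RingHom.congr_fun hf₀ }
  refine Algebra.QuasiFinite.of_forall_exists_mul_mem_range f fun x => ?_
  obtain ⟨x, rfl⟩ := Ideal.Quotient.mk_surjective x
  obtain ⟨x, ⟨s, hs⟩, rfl⟩ := IsLocalization.exists_mk'_eq Q.primeCompl x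
  have hfA : ∀ c, f ((1 : κ) ⊗ₜ[R] c) = ρ c := fun c => by
    show jκ 1 * ρA c = _
    rw [map_one, one_mul]
    rfl
  refine ⟨(1 : κ) ⊗ₜ[R] s, ?_, ?_⟩
  · rw [hfA]
    exact (IsLocalization.map_units AQ (⟨s, hs⟩ : Q.primeCompl)).map π
  · refine ⟨(1 : κ) ⊗ₜ[R] x, ?_⟩
    show f _ = _
    rw [hfA, hfA]
    show π _ = π _ * π _
    rw [← map_mul, mul_comm, IsLocalization.mk'_spec'_mk]

theorem ringKrullDim_fiber_eq (p : Ideal R) [p.IsPrime] :
    ringKrullDim (p.ResidueField ⊗[R] A) =
      topologicalKrullDim ↥(PrimeSpectrum.comap (algebraMap R A) ⁻¹' {(⟨p, ‹_›⟩ : PrimeSpectrum R)}) := by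
  rw [← PrimeSpectrum.topologicalKrullDim_eq_ringKrullDim]
  exact ((PrimeSpectrum.preimageHomeomorphFiber R A ⟨p, ‹_›⟩).isHomeomorph.topologicalKrullDim_eq _).symm

variable [Algebra.FiniteType R A]

theorem exists_coords (Q : Ideal A) [Q.IsPrime] (e : ℕ)
    (hdim : ringKrullDim ((Q.comap (algebraMap R A)).ResidueField ⊗[R] A) ≤ (e : WithBot ℕ∞)) :
    ∃ a : Fin e → A,
      letI := (MvPolynomial.aeval a : MvPolynomial (Fin e) R →ₐ[R] A).toRingHom.toAlgebra
      Algebra.WeaklyQuasiFiniteAt (MvPolynomial (Fin e) R) Q := by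
  let p := Q.comap (algebraMap R A)
  let κ := p.ResidueField
  haveI : Nontrivial (κ ⊗[R] A) := by
    have := (PrimeSpectrum.preimageHomeomorphFiber R A ⟨p, inferInstance⟩) ⟨⟨Q, ‹_›⟩, rfl⟩
    exact PrimeSpectrum.nontrivial this
  obtain ⟨s, a, hs, hfin⟩ := NoetherFib.exists_finite_aeval (R := R) (A := A) (κ := κ)
    (exists_fraction p)
  have hse : s ≤ e := by
    have : (s : WithBot ℕ∞) ≤ (e : WithBot ℕ∞) := hs.le.trans hdim
    exact_mod_cast this
  let a' : Fin e → A := fun i => if h : (i : ℕ) < s then a ⟨i, h⟩ else 0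
  refine ⟨a', weaklyQuasiFiniteAt_aeval Q a' ?_⟩
  let σ : MvPolynomial (Fin e) κ →ₐ[κ] MvPolynomial (Fin s) κ :=
    MvPolynomial.aeval fun i => if h : (i : ℕ) < s then MvPolynomial.X ⟨i, h⟩ else 0
  have hσ : Function.Surjective σ := by
    rw [← AlgHom.range_eq_top, eq_top_iff, ← MvPolynomial.adjoin_range_X, Algebra.adjoin_le_iff]
    rintro _ ⟨i, rfl⟩
    refine ⟨MvPolynomial.X (Fin.castLE hse i), ?_⟩
    show σ (MvPolynomial.X _) = _
    rw [MvPolynomial.aeval_X, dif_pos (by exact i.2)]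
    rfl
  have : (MvPolynomial.aeval (R := κ) fun i => (1 : κ) ⊗ₜ[R] a' i) =
      (MvPolynomial.aeval fun i => (1 : κ) ⊗ₜ[R] a i).comp σ := by
    apply MvPolynomial.algHom_ext
    intro i
    rw [AlgHom.comp_apply, MvPolynomial.aeval_X, MvPolynomial.aeval_X]
    by_cases h : (i : ℕ) < s
    · rw [dif_pos h, MvPolynomial.aeval_X]
      simp [a', h]
    · rw [dif_neg h, map_zero]
      simp [a', h]
  rw [this]
  exact hfin.comp (RingHom.Finite.of_surjective _ hσ)

variable [IsDomain R] [IsDomain A]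

theorem injective_of_quasiFiniteAt (hRA : Function.Injective (algebraMap R A)) (Q : Ideal A)
    [Q.IsPrime] {e : ℕ} (a : Fin e → A)
    (hqf : letI := (MvPolynomial.aeval a : MvPolynomial (Fin e) R →ₐ[R] A).toRingHom.toAlgebra
      Algebra.WeaklyQuasiFiniteAt (MvPolynomial (Fin e) R) Q)
    (htr : (e : Cardinal.{u}) ≤ Algebra.trdeg R A) :
    Function.Injective (MvPolynomial.aeval a : MvPolynomial (Fin e) R →ₐ[R] A) := by
  let S := MvPolynomial (Fin e) R
  letI : Algebra S A := (MvPolynomial.aeval a : MvPolynomial (Fin e) R →ₐ[R] A).toRingHom.toAlgebra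
  haveI : IsScalarTower R S A :=
    IsScalarTower.of_algebraMap_eq' (MvPolynomial.aeval a).comp_algebraMap.symm
  haveI : Algebra.FiniteType S A := Algebra.FiniteType.of_restrictScalars_finiteType R S A
  haveI := hqf
  obtain ⟨B, r, hint, hrQ, hr⟩ := exists_subalgebra (R := S) Q
  let C := Algebra.adjoin R (Set.range a)
  have hC : ∀ b : B, IsIntegral C (b : A) := fun b => by
    obtain ⟨P, hP, hPb⟩ := Algebra.IsIntegral.isIntegral (R := S) b
    have hPb' : Polynomial.eval₂ (algebraMap S A) (b : A) P = 0 := by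
      have := congrArg B.val hPb
      rw [← AlgHom.coe_toRingHom, Polynomial.hom_eval₂, map_zero] at this
      exact this
    let c : S →+* C := (MvPolynomial.aeval a).toRingHom.codRestrict C.toSubring
      fun q => (Algebra.adjoin_range_eq_range_aeval R a).ge ⟨q, rfl⟩
    refine ⟨P.map c, hP.map c, ?_⟩
    rw [Polynomial.eval₂_map]
    exact hPb'
  haveI : Algebra.IsAlgebraic C A := by
    refine ⟨fun x => ?_⟩
    obtain ⟨N, b, hb⟩ := hr x
    have h1 : IsAlgebraic C ((r : A) ^ N * x) := hb ▸ (hC b).isAlgebraic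
    have hr0 : (r : A) ^ N ≠ 0 := pow_ne_zero _ fun h => hrQ (h ▸ Q.zero_mem)
    exact IsAlgebraic.of_mul (mem_nonZeroDivisors_of_ne_zero hr0)
      ((hC (r ^ N)).isAlgebraic) (by simpa using h1)
  haveI : FaithfulSMul R A := (faithfulSMul_iff_algebraMap_injective R A).2 hRA
  exact (Algebra.IsAlgebraic.isTranscendenceBasis_of_lift_le_trdeg_of_finite R a
    (by simpa using htr)).1

end Groth.Agent.H46.UnibranchQF
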