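import Groth.Agent.H46.UnibranchLocal
import Groth.Agent.H46.UnibranchQF
import Groth.Agent.H46.UnivOpen
import Groth.Agent.H46.FibreTrdeg
import Groth.Agent.H46.AffineFib
import Groth.Agent.H75.RedSub
import Groth.Agent.Lib.EtaPt.SpecResidue
import Mathlib.AlgebraicGeometry.Pullbacks

/-!
# Chevalley's criterion: universal openness over geometrically unibranch points
-/

universe u

open CategoryTheory AlgebraicGeometry Limits Topology TensorProduct
open Groth.Agent.H46.FibreTrdeg Groth.Agent.Lib.Cyc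

namespace Groth.Agent.H46.UnibranchSch

variable {X Y : Scheme.{u}}

theorem isUnivOpenAt_of_isIso (f : X ⟶ Y) [IsIso f] (x : X) : EGA43.IsUnivOpenAt f x :=
  UnivOpen.isUnivOpenAt_of_universallyOpen f x

/-- A surjective closed immersion is universally open. -/
theorem universallyOpen_of_surjective_isClosedImmersion (f : X ⟶ Y) [IsClosedImmersion f]
    [Surjective f] : UniversallyOpen f := by
  refine ⟨fun P T fst g snd sq => ?_⟩
  show IsOpenMap snd.base
  haveI : IsClosedImmersion snd := MorphismProperty.of_isPullback sq.flip ‹IsClosedImmersion f›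
  haveI : Surjective snd := MorphismProperty.of_isPullback sq.flip ‹Surjective f›
  exact (Equiv.ofBijective snd.base
    ⟨snd.isClosedEmbedding.injective, snd.surjective⟩).toHomeomorphOfIsInducing
      snd.isClosedEmbedding.isInducing |>.isOpenMap

section algebra

variable {R A : Type u} [CommRing R] [CommRing A] [Algebra R A]

theorem image_isOpenAt_spec (Q : PrimeSpectrum A) (f : R →+* A)
    (h : ∀ U ∈ 𝓝 Q, PrimeSpectrum.comap f '' U ∈ 𝓝 (PrimeSpectrum.comap f Q)) :
    EGA43.IsOpenAt (Spec.map (CommRingCat.ofHom f)).base Q := h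

/-- Base-change openness on rings gives universal openness. -/
theorem isUnivOpenAt_specMap (Q : PrimeSpectrum A)
    (h : ∀ (C : Type u) [CommRing C] [Algebra R C] (P : PrimeSpectrum (C ⊗[R] A)),
      P.asIdeal.comap (Algebra.TensorProduct.includeRight : A →ₐ[R] C ⊗[R] A).toRingHom = Q.asIdeal →
      ∀ U ∈ 𝓝 P, PrimeSpectrum.comap (algebraMap C (C ⊗[R] A)) '' U ∈
        𝓝 (PrimeSpectrum.comap (algebraMap C (C ⊗[R] A)) P)) :
    EGA43.IsUnivOpenAt (Spec.map (CommRingCat.ofHom (algebraMap R A))) Q := by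
  intro T g p hp
  obtain ⟨Vt, hVt, hpV, -⟩ := AlgebraicGeometry.exists_isAffineOpen_mem_and_subset
    (x := (pullback.snd (Spec.map (CommRingCat.ofHom (algebraMap R A))) g) p) (U := ⊤) trivial
  let C := Γ(T, Vt)
  let ψ : CommRingCat.of R ⟶ C := Spec.preimage (hVt.fromSpec ≫ g)
  letI : Algebra R C := ψ.hom.toAlgebra
  have hψ : Spec.map (CommRingCat.ofHom (algebraMap R C)) = hVt.fromSpec ≫ g := Spec.map_preimage _
  let inl : C ⟶ CommRingCat.of (C ⊗[R] A) :=
    CommRingCat.ofHom (algebraMap C (C ⊗[R] A))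
  let inr : CommRingCat.of A ⟶ CommRingCat.of (C ⊗[R] A) :=
    CommRingCat.ofHom (Algebra.TensorProduct.includeRight : A →ₐ[R] C ⊗[R] A).toRingHom
  have sq : IsPullback (Spec.map inr) (Spec.map inl)
      (Spec.map (CommRingCat.ofHom (algebraMap R A))) (hVt.fromSpec ≫ g) := by
    rw [← hψ]
    exact isPullback_SpecMap_of_isPushout _ _ _ _ (CommRingCat.isPushout_tensorProduct R C A).flip
  let b : Spec (CommRingCat.of (C ⊗[R] A)) ⟶ pullback (Spec.map (CommRingCat.ofHom (algebraMap R A))) g :=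
    pullback.lift (Spec.map inr) (Spec.map inl ≫ hVt.fromSpec)
      (by rw [Category.assoc]; exact sq.w)
  have sq' : IsPullback b (Spec.map inl)
      (pullback.snd (Spec.map (CommRingCat.ofHom (algebraMap R A))) g) hVt.fromSpec := by
    refine IsPullback.of_right ?_ (pullback.lift_snd _ _ _) (IsPullback.of_hasPullback _ g)
    rw [pullback.lift_fst]
    exact sq
  obtain ⟨t, ht⟩ : (pullback.snd (Spec.map (CommRingCat.ofHom (algebraMap R A))) g) p ∈
      Set.range hVt.fromSpec := by rw [hVt.range_fromSpec]; exact hpV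
  obtain ⟨z, hz1, -⟩ := Scheme.Pullback.exists_preimage_pullback
    (f := pullback.snd (Spec.map (CommRingCat.ofHom (algebraMap R A))) g) (g := hVt.fromSpec) p t ht.symm
  let P := sq'.isoPullback.inv z
  have hP : b P = p := by rw [← Scheme.Hom.comp_apply, sq'.isoPullback_inv_fst]; exact hz1
  have hPQ : (Spec.map inr) P = Q := by
    rw [← pullback.lift_fst (f := Spec.map (CommRingCat.ofHom (algebraMap R A))) (g := g)
      (Spec.map inr) (Spec.map inl ≫ hVt.fromSpec) (by rw [Category.assoc]; exact sq.w),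
      Scheme.Hom.comp_apply]
    show (pullback.fst _ g) (b P) = Q
    rw [hP]; exact hp
  have h1 : EGA43.IsOpenAt (Spec.map inl).base P :=
    h C P (congrArg PrimeSpectrum.asIdeal hPQ)
  have h2 : EGA43.IsOpenAt (hVt.fromSpec.base ∘ (Spec.map inl).base) P :=
    OpenAt.isOpenAt_comp h1 (OpenAt.isOpenAt_of_isOpenMap hVt.fromSpec.isOpenEmbedding.isOpenMap _)
  have e : (hVt.fromSpec.base ∘ (Spec.map inl).base : _ → _) =
      (pullback.snd (Spec.map (CommRingCat.ofHom (algebraMap R A))) g).base ∘ b.base := by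
    funext a
    simp only [Function.comp_apply, ← Scheme.Hom.comp_apply, sq'.w]
  rw [e] at h2
  rw [← hP]
  exact OpenAt.isOpenAt_of_comp b.continuous h2

variable [IsDomain R] [IsDomain A]

/-- The transcendence degree at the generic point. -/
theorem trdeg_eq_trdegAt (hinj : Function.Injective (algebraMap R A)) :
    Algebra.trdeg R A =
      Residue.trdegAt (Spec.map (CommRingCat.ofHom (algebraMap R A))) (⟨⊥, Ideal.isPrime_bot⟩ : PrimeSpectrum A) := by
  let η₀ : PrimeSpectrum A := ⟨⊥, Ideal.isPrime_bot⟩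
  let y₀ : PrimeSpectrum R := PrimeSpectrum.comap (algebraMap R A) η₀
  have hy : y₀.asIdeal = ⊥ := Ideal.comap_bot_of_injective _ hinj
  let K' := y₀.asIdeal.ResidueField
  let L' := η₀.asIdeal.ResidueField
  let η : ↥(Spec (CommRingCat.of A)) := η₀
  let K := (Spec (CommRingCat.of R)).residueField ((Spec.map (CommRingCat.ofHom (algebraMap R A))) η)
  let L := (Spec (CommRingCat.of A)).residueField η
  let eK : K' ≃+* K :=
    (Scheme.Spec.residueFieldIso (CommRingCat.of R) y₀).symm.commRingCatIsoToRingEquiv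
  let eL : L' ≃+* L :=
    (Scheme.Spec.residueFieldIso (CommRingCat.of A) η₀).symm.commRingCatIsoToRingEquiv
  let ρ : K →+* L := ((Spec.map (CommRingCat.ofHom (algebraMap R A))).residueFieldMap η).hom
  letI : Algebra K L := ρ.toAlgebra
  letI : Algebra R K := (eK.toRingHom.comp (algebraMap R K')).toAlgebra
  letI : Algebra R L := (ρ.comp (algebraMap R K)).toAlgebra
  haveI : IsScalarTower R K L := IsScalarTower.of_algebraMap_eq' rfl
  have hRK : Function.Injective (algebraMap R K) := eK.injective.comp (fun a b h => by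
    rw [← sub_eq_zero, ← map_sub, Ideal.algebraMap_residueField_eq_zero, hy, Ideal.mem_bot,
      sub_eq_zero] at h
    exact h)
  haveI : FaithfulSMul R K := (faithfulSMul_iff_algebraMap_injective R K).2 hRK
  haveI : Algebra.IsAlgebraic R K := by
    refine ⟨fun c => ?_⟩
    obtain ⟨r, a, hr, hra⟩ := UnibranchQF.exists_fraction y₀.asIdeal (eK.symm c)
    refine ⟨Polynomial.C r * Polynomial.X - Polynomial.C a, fun h0 => ?_, ?_⟩
    · have := congrArg (Polynomial.coeff · 1) h0
      simp [Polynomial.coeff_C] at this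
      exact hr (this ▸ map_zero _)
    · have h := congrArg eK hra
      rw [map_mul, RingEquiv.apply_symm_apply] at h
      rw [map_sub, map_mul, Polynomial.aeval_C, Polynomial.aeval_C, Polynomial.aeval_X, sub_eq_zero]
      exact h
  have h1 := trdeg_add_eq R K (A := L)
  rw [trdeg_eq_zero (R := R) (A := K), zero_add] at h1
  show Algebra.trdeg R A = Algebra.trdeg K L
  rw [h1]
  have hsq : ∀ r : R, eL (algebraMap R L' r) = algebraMap R L r := fun r => by
    have h := RingHom.congr_fun (congrArg CommRingCat.Hom.hom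
      (Groth.Agent.Lib.EtaPt.SpecResidue.residueFieldIso_square (algebraMap R A) η₀))
      (algebraMap R K' r)
    show eL (algebraMap R L' r) = ρ (eK (algebraMap R K' r))
    rw [IsScalarTower.algebraMap_apply R A L',
      ← Ideal.ResidueField.map_algebraMap y₀.asIdeal η₀.asIdeal (algebraMap R A) rfl r]
    exact h.symm
  rw [← (AlgEquiv.ofRingEquiv (f := eL) hsq).trdeg_eq]
  haveI : FaithfulSMul R A := (faithfulSMul_iff_algebraMap_injective R A).2 hinj
  haveI : FaithfulSMul A L' := (faithfulSMul_iff_algebraMap_injective A L').2 fun a b h => by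
    rw [← sub_eq_zero, ← map_sub, Ideal.algebraMap_residueField_eq_zero] at h
    exact sub_eq_zero.1 h
  haveI : Algebra.IsAlgebraic A L' := by
    refine ⟨fun c => ?_⟩
    obtain ⟨r, a, hr, hra⟩ := UnibranchQF.exists_fraction η₀.asIdeal c
    refine ⟨Polynomial.C r * Polynomial.X - Polynomial.C a, fun h0 => ?_, ?_⟩
    · have := congrArg (Polynomial.coeff · 1) h0
      simp [Polynomial.coeff_C] at this
      exact hr (this ▸ map_zero _)
    · simpa [sub_eq_zero] using hra
  have h2 := trdeg_add_eq R A (A := L')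
  rw [trdeg_eq_zero (R := A) (A := L'), add_zero] at h2
  exact h2

end algebra

theorem weaklyQuasiFiniteAt_of_surjective {R S A : Type u} [CommRing R] [CommRing S] [CommRing A]
    [Algebra R S] [Algebra R A] [Algebra S A] [IsScalarTower R S A] (Q : Ideal A) [Q.IsPrime]
    (hsurj : Function.Surjective (algebraMap R S)) [Algebra.WeaklyQuasiFiniteAt S Q] :
    Algebra.WeaklyQuasiFiniteAt R Q := by
  rw [Algebra.weaklyQuasiFiniteAt_iff]
  haveI := (Algebra.weaklyQuasiFiniteAt_iff (R := S) Q).1 ‹_›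
  haveI : Module.Finite R S := Module.Finite.of_surjective (Algebra.linearMap R S) hsurj
  haveI : IsScalarTower R S (Localization.AtPrime Q) := IsScalarTower.of_algebraMap_eq fun r => by
    rw [IsScalarTower.algebraMap_apply R A (Localization.AtPrime Q),
      IsScalarTower.algebraMap_apply R S A, ← IsScalarTower.algebraMap_apply S A]
  have e : (Q.under R).map (algebraMap R (Localization.AtPrime Q)) =
      (Q.under S).map (algebraMap S (Localization.AtPrime Q)) := by
    rw [IsScalarTower.algebraMap_eq R S (Localization.AtPrime Q), ← Ideal.map_map,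
      ← Ideal.under_under (B := S) Q, Ideal.under_def,
      Ideal.map_comap_of_surjective _ hsurj]
  rw [e]
  exact Algebra.QuasiFinite.trans R S _

/-- Affine data at `x` for the reduced closure of `ξ`. -/
theorem exists_affine_data (f : X ⟶ Y) [LocallyOfFiniteType f] {x ξ : X} (hs : ξ ⤳ x)
    (hnhd : closure ({f ξ} : Set Y) ∈ 𝓝 (f x))
    (hle : ∀ ζ, ξ ⤳ ζ → ζ ⤳ x → f ζ = f x → trd f ζ ≤ trd f ξ) :
    ∃ (R₀ A : Type u) (_ : CommRing R₀) (_ : CommRing A) (_ : IsDomain A) (_ : Algebra R₀ A)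
      (_ : Algebra.FiniteType R₀ A)
      (k : Spec (CommRingCat.of R₀) ⟶ Y) (_ : IsOpenImmersion k)
      (j : Spec (CommRingCat.of A) ⟶ X) (Q : PrimeSpectrum A),
      j ≫ f = Spec.map (CommRingCat.ofHom (algebraMap R₀ A)) ≫ k ∧ j Q = x ∧
      RingHom.ker (algebraMap R₀ A) ≤ nilradical R₀ ∧
      (∃ (_ : Algebra R₀ (Y.presheaf.stalk (f x))),
        IsLocalization.AtPrime (Y.presheaf.stalk (f x)) (Q.asIdeal.comap (algebraMap R₀ A))) ∧
      Residue.trdegAt (Spec.map (CommRingCat.ofHom (algebraMap R₀ A))) (⟨⊥, Ideal.isPrime_bot⟩ : PrimeSpectrum A) = (trd f ξ : Cardinal) ∧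
      topologicalKrullDim ↥(PrimeSpectrum.comap (algebraMap R₀ A) ⁻¹'
        {PrimeSpectrum.comap (algebraMap R₀ A) Q}) ≤ (trd f ξ : WithBot ℕ∞) := by
  obtain ⟨N, hN, hNo, hyN⟩ := mem_nhds_iff.1 hnhd
  obtain ⟨V, hV, hyV, hVN⟩ := AlgebraicGeometry.exists_isAffineOpen_mem_and_subset
    (x := f x) (U := ⟨N, hNo⟩) hyN
  let Zc : TopologicalSpace.Closeds X := ⟨closure {ξ}, isClosed_closure⟩
  let i := (Scheme.IdealSheafData.vanishingIdeal Zc).subschemeι
  have hr : Set.range i = closure {ξ} := by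
    rw [Scheme.IdealSheafData.range_subschemeι, Scheme.IdealSheafData.coe_support_vanishingIdeal]
    rfl
  obtain ⟨w, hw⟩ : x ∈ Set.range i := by rw [hr]; exact hs.mem_closure
  obtain ⟨w₀, hw₀⟩ : ξ ∈ Set.range i := by rw [hr]; exact subset_closure rfl
  haveI : IsReduced (Scheme.IdealSheafData.vanishingIdeal Zc).subscheme :=
    H75.RedSub.isReduced_vanishingIdeal Zc
  have hgen : ∀ v, w₀ ⤳ v := fun v => i.isEmbedding.isInducing.specializes_iff.1
    (by rw [hw₀]; exact specializes_iff_mem_closure.2 (hr.le ⟨v, rfl⟩))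
  haveI : IrreducibleSpace ↥(Scheme.IdealSheafData.vanishingIdeal Zc).subscheme :=
    { toPreirreducibleSpace := ⟨fun U V hU hV ⟨a, _, ha⟩ ⟨b, _, hb⟩ =>
        ⟨w₀, trivial, (hgen a).mem_open hU ha, (hgen b).mem_open hV hb⟩⟩
      toNonempty := ⟨w₀⟩ }
  haveI : IsIntegral (Scheme.IdealSheafData.vanishingIdeal Zc).subscheme :=
    isIntegral_of_irreducibleSpace_of_isReduced _
  let g := i ≫ f
  have hg : FlatMor.fibreDimAt g w ≤ (trd f ξ : WithBot ℕ∞) := by
    rw [fibreDimAt_comp_le_iff]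
    intro ζ hζ hfζ hζs
    rw [hw] at hfζ hζs
    exact hle ζ (specializes_iff_mem_closure.2 (hr.le hζ)) hζs hfζ
  obtain ⟨U, hU, hwU, hUs⟩ := AlgebraicGeometry.exists_isAffineOpen_mem_and_subset (x := w)
    (U := g ⁻¹ᵁ V ⊓ ⟨_, Groth.Agent.Lib.FibreDim.Semicont.isOpen_setOf_fibreDimAt_le g
      (trd f ξ : WithBot ℕ∞)⟩)
    ⟨show g w ∈ V by rw [Scheme.Hom.comp_apply, hw]; exact hyV, hg⟩
  have hUV : U ≤ g ⁻¹ᵁ V := fun a ha => (hUs ha).1
  haveI : Nonempty U := ⟨⟨w, hwU⟩⟩
  let φ := g.appLE V U hUV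
  have hsq : (hU.fromSpec ≫ i) ≫ f = Spec.map φ ≫ hV.fromSpec := by
    rw [Category.assoc]
    exact (IsAffineOpen.SpecMap_appLE_fromSpec g hV hU hUV).symm
  letI : Algebra Γ(Y, V) Γ((Scheme.IdealSheafData.vanishingIdeal Zc).subscheme, U) := φ.hom.toAlgebra
  let Q : ↥(Spec Γ((Scheme.IdealSheafData.vanishingIdeal Zc).subscheme, U)) :=
    hU.primeIdealOf ⟨w, hwU⟩
  have hQ : hU.fromSpec Q = w := hU.fromSpec_primeIdealOf ⟨w, hwU⟩
  let η₁ : ↥(Spec Γ((Scheme.IdealSheafData.vanishingIdeal Zc).subscheme, U)) :=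
    (⟨⊥, Ideal.isPrime_bot⟩ : PrimeSpectrum Γ((Scheme.IdealSheafData.vanishingIdeal Zc).subscheme, U))
  have hbot : ∀ z : ↥(Spec Γ((Scheme.IdealSheafData.vanishingIdeal Zc).subscheme, U)), η₁ ⤳ z :=
    fun z => (PrimeSpectrum.le_iff_specializes _ z).1 bot_le
  have hη : hU.fromSpec η₁ = w₀ := by
    obtain ⟨z, hz⟩ : w₀ ∈ Set.range hU.fromSpec := by
      rw [hU.range_fromSpec]; exact (hgen w).mem_open U.2 hwU
    exact ((hgen _).antisymm (hz ▸ (hbot z).map hU.fromSpec.continuous)).eq.symm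
  have hker : ∀ P : PrimeSpectrum Γ(Y, V), RingHom.ker φ.hom ≤ P.asIdeal := by
    intro P₀
    let P : ↥(Spec Γ(Y, V)) := P₀
    have h1 : (Spec.map φ) η₁ ⤳ P := by
      rw [← hV.fromSpec.isOpenEmbedding.isInducing.specializes_iff]
      show hV.fromSpec ((Spec.map φ) _) ⤳ hV.fromSpec P
      rw [← Scheme.Hom.comp_apply, ← hsq, Scheme.Hom.comp_apply, Scheme.Hom.comp_apply, hη, hw₀]
      refine specializes_iff_mem_closure.2 (hN (hVN ?_))
      have : hV.fromSpec P ∈ Set.range hV.fromSpec := ⟨P, rfl⟩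
      rwa [hV.range_fromSpec] at this
    exact (PrimeSpectrum.le_iff_specializes _ P₀).2 h1
  have hpt : hV.fromSpec ((Spec.map φ) Q) = f x := by
    rw [← Scheme.Hom.comp_apply, ← hsq, Scheme.Hom.comp_apply, Scheme.Hom.comp_apply, hQ, hw]
  have hprime : hV.primeIdealOf ⟨f x, hyV⟩ = (Spec.map φ) Q :=
    hV.fromSpec.isOpenEmbedding.injective (by rw [hV.fromSpec_primeIdealOf]; exact hpt.symm)
  haveI : LocallyOfFiniteType (hU.fromSpec ≫ i) := inferInstance
  haveI : LocallyOfFiniteType (Spec.map φ ≫ hV.fromSpec) := by rw [← hsq]; infer_instance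
  haveI hφl : LocallyOfFiniteType (Spec.map φ) := locallyOfFiniteType_of_comp (Spec.map φ) hV.fromSpec
  have htrd : ∀ z, trd (Spec.map φ) z = trd g (hU.fromSpec z) := fun z => by
    have e1 := AffineFib.trd_comp' (Spec.map φ) hV.fromSpec z
    rw [AffineFib.trd_eq_zero_of_locallyQuasiFinite hV.fromSpec, zero_add] at e1
    rw [← e1, ← hsq, Category.assoc, trd_comp]
  refine ⟨Γ(Y, V), Γ((Scheme.IdealSheafData.vanishingIdeal Zc).subscheme, U), inferInstance,
    inferInstance, inferInstance, φ.hom.toAlgebra, g.finiteType_appLE hV hU hUV,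
    hV.fromSpec, inferInstance, hU.fromSpec ≫ i, Q, hsq, ?_, ?_, ?_, ?_, ?_⟩
  · rw [Scheme.Hom.comp_apply, hQ, hw]
  · rw [nilradical_eq_sInf]
    exact le_sInf fun P hP => hker ⟨P, hP⟩
  · refine ⟨TopCat.Presheaf.algebra_section_stalk Y.presheaf (⟨f x, hyV⟩ : V), ?_⟩
    have := hV.isLocalization_stalk ⟨f x, hyV⟩
    rw [hprime] at this
    exact this
  · show Residue.trdegAt (Spec.map φ) η₁ = _
    rw [trdegAt_eq, htrd, hη, ← hw₀, trd_comp]
  · have h := (dim_closed_inter_le_iff (Spec.map φ) isClosed_univ ((Spec.map φ) Q) (trd f ξ)).2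
      fun z _ hz => ?_
    · rw [Set.univ_inter] at h
      exact h
    · rw [htrd]
      have hzU : hU.fromSpec z ∈ U := by
        have : hU.fromSpec z ∈ Set.range hU.fromSpec := ⟨z, rfl⟩
        rwa [hU.range_fromSpec] at this
      have := (trd_le_fibreDimAt g (hU.fromSpec z)).trans (hUs hzU).2
      exact_mod_cast this

/-- **Chevalley's criterion.** -/
theorem isUnivOpenAt_of_trd (f : X ⟶ Y) [LocallyOfFiniteType f] {x ξ : X} (hs : ξ ⤳ x)
    (hnhd : closure ({f ξ} : Set Y) ∈ 𝓝 (f x))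
    (hy : CAlg2.IsGeomUnibranch (Y.presheaf.stalk (f x)))
    (hle : ∀ ζ, ξ ⤳ ζ → ζ ⤳ x → f ζ = f x → trd f ζ ≤ trd f ξ) : EGA43.IsUnivOpenAt f x := by
  obtain ⟨R₀, A, _, _, _, _, _, k, _, j, Q, hsq, hjQ, hker, ⟨_, hloc⟩, htr, hdim⟩ :=
    exists_affine_data f hs hnhd hle
  haveI := hloc
  let 𝔞 := RingHom.ker (algebraMap R₀ A)
  haveI : 𝔞.IsPrime := RingHom.ker_isPrime _
  let R := R₀ ⧸ 𝔞
  letI : Algebra R A := (RingHom.kerLift (algebraMap R₀ A)).toAlgebra
  haveI : IsScalarTower R₀ R A :=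
    IsScalarTower.of_algebraMap_eq fun r => (RingHom.kerLift_mk (algebraMap R₀ A) r).symm
  haveI : Algebra.FiniteType R A := Algebra.FiniteType.of_restrictScalars_finiteType R₀ R A
  have hinj : Function.Injective (algebraMap R A) := RingHom.kerLift_injective _
  obtain ⟨𝔮, h𝔮, h𝔮p, hmin, -, hgub⟩ := UnibranchLocal.ub_gub_of_isLocalization
    (O := Y.presheaf.stalk (f x)) (Q.asIdeal.comap (algebraMap R₀ A)) hy.1
  obtain rfl : 𝔮 = 𝔞 := le_antisymm
    (hmin 𝔞 inferInstance ((hker.trans (nilradical_le_prime _))))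
    (hker.trans (nilradical_le_prime _))
  have hgub' : UnibranchLift.GUB R (Q.asIdeal.comap (algebraMap R A)) := by
    convert hgub hy using 1
    refine Ideal.comap_injective_of_surjective _ Ideal.Quotient.mk_surjective ?_
    rw [Ideal.comap_map_of_surjective' _ Ideal.Quotient.mk_surjective, Ideal.mk_ker,
      sup_eq_left.2 h𝔮p, Ideal.comap_comap]
    congr 1
  have hpre : PrimeSpectrum.comap (algebraMap R A) ⁻¹'
      {(⟨Q.asIdeal.comap (algebraMap R A), inferInstance⟩ : PrimeSpectrum R)} =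
      PrimeSpectrum.comap (algebraMap R₀ A) ⁻¹' {PrimeSpectrum.comap (algebraMap R₀ A) Q} := by
    ext z
    simp only [Set.mem_preimage, Set.mem_singleton_iff, PrimeSpectrum.ext_iff]
    rw [IsScalarTower.algebraMap_eq R₀ R A, PrimeSpectrum.comap_asIdeal, PrimeSpectrum.comap_asIdeal,
      PrimeSpectrum.comap_asIdeal, ← Ideal.comap_comap, ← Ideal.comap_comap]
    exact ⟨fun h => by rw [h], fun h =>
      Ideal.comap_injective_of_surjective _ Ideal.Quotient.mk_surjective h⟩
  obtain ⟨a, hqf⟩ := UnibranchQF.exists_coords (R := R) Q.asIdeal (trd f ξ)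
    (by rw [UnibranchQF.ringKrullDim_fiber_eq, hpre]; exact hdim)
  have hfac : Spec.map (CommRingCat.ofHom (algebraMap R₀ A)) =
      Spec.map (CommRingCat.ofHom (algebraMap R A)) ≫
        Spec.map (CommRingCat.ofHom (algebraMap R₀ R)) := by
    rw [← Spec.map_comp, ← CommRingCat.ofHom_comp, ← IsScalarTower.algebraMap_eq]
  haveI : IsClosedImmersion (Spec.map (CommRingCat.ofHom (algebraMap R₀ R))) :=
    IsClosedImmersion.spec_of_surjective _ Ideal.Quotient.mk_surjective
  haveI : Surjective (Spec.map (CommRingCat.ofHom (algebraMap R₀ R))) := ⟨fun P => by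
    let P' : PrimeSpectrum R₀ := P
    refine (?_ : P' ∈ Set.range (PrimeSpectrum.comap (Ideal.Quotient.mk 𝔞)))
    rw [range_comap_of_surjective _ _ Ideal.Quotient.mk_surjective, Ideal.mk_ker]
    exact hker.trans (nilradical_le_prime _)⟩
  haveI := universallyOpen_of_surjective_isClosedImmersion
    (Spec.map (CommRingCat.ofHom (algebraMap R₀ R)))
  haveI : LocallyOfFiniteType (Spec.map (CommRingCat.ofHom (algebraMap R A))) :=
    (HasRingHomProperty.Spec_iff (P := @LocallyOfFiniteType)).2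
      (RingHom.finiteType_algebraMap.2 inferInstance)
  have htr' : (trd f ξ : Cardinal) = Algebra.trdeg R A := by
    let η₁ : ↥(Spec (CommRingCat.of A)) := (⟨⊥, Ideal.isPrime_bot⟩ : PrimeSpectrum A)
    rw [trdeg_eq_trdegAt hinj, ← htr]
    show Residue.trdegAt _ η₁ = Residue.trdegAt _ η₁
    rw [hfac, Residue.trdegAt_comp,
      FieldDim.trdegAt_eq_zero_of_surjective _ _ (FieldDim.residueFieldMap_surjective _ _), zero_add]
  have hinja := UnibranchQF.injective_of_quasiFiniteAt hinj Q.asIdeal a hqf htr'.le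
  let Q' : ↥(Spec (CommRingCat.of A)) := Q
  have h1 : EGA43.IsUnivOpenAt (Spec.map (CommRingCat.ofHom (algebraMap R A))) Q' :=
    isUnivOpenAt_specMap (R := R) Q fun C _ _ P hP =>
      UnibranchLift.isOpenAt_baseChange Q.asIdeal hgub' a hinja hqf P hP
  have h2 : EGA43.IsUnivOpenAt (Spec.map (CommRingCat.ofHom (algebraMap R₀ A))) Q' := by
    rw [hfac]
    exact OpenAt.isUnivOpenAt_comp _ _ Q' h1 (UnivOpen.isUnivOpenAt_of_universallyOpen _ _)
  rw [← hjQ]
  refine OpenAt.isUnivOpenAt_of_comp j f Q' ?_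
  rw [hsq]
  exact OpenAt.isUnivOpenAt_comp _ _ Q' h2 (UnivOpen.isUnivOpenAt_of_universallyOpen _ _)

/-- Openness at isolated points of fibres over unibranch points. -/
theorem isOpenAt_of_trd_zero (f : X ⟶ Y) [LocallyOfFiniteType f] {x ξ : X} (hs : ξ ⤳ x)
    (hnhd : closure ({f ξ} : Set Y) ∈ 𝓝 (f x))
    (hy : CAlg2.IsUnibranch (Y.presheaf.stalk (f x))) (h0 : trd f ξ = 0)
    (hle : ∀ ζ, ξ ⤳ ζ → ζ ⤳ x → f ζ = f x → trd f ζ ≤ trd f ξ) : EGA43.IsOpenAt f.base x := by
  obtain ⟨R₀, A, _, _, _, _, _, k, _, j, Q, hsq, hjQ, hker, ⟨_, hloc⟩, htr, hdim⟩ :=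
    exists_affine_data f hs hnhd hle
  haveI := hloc
  let 𝔞 := RingHom.ker (algebraMap R₀ A)
  haveI : 𝔞.IsPrime := RingHom.ker_isPrime _
  let R := R₀ ⧸ 𝔞
  letI : Algebra R A := (RingHom.kerLift (algebraMap R₀ A)).toAlgebra
  haveI : IsScalarTower R₀ R A :=
    IsScalarTower.of_algebraMap_eq fun r => (RingHom.kerLift_mk (algebraMap R₀ A) r).symm
  haveI : Algebra.FiniteType R A := Algebra.FiniteType.of_restrictScalars_finiteType R₀ R A
  have hinj : Function.Injective (algebraMap R A) := RingHom.kerLift_injective _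
  obtain ⟨𝔮, h𝔮, h𝔮p, hmin, hub, -⟩ := UnibranchLocal.ub_gub_of_isLocalization
    (O := Y.presheaf.stalk (f x)) (Q.asIdeal.comap (algebraMap R₀ A)) hy
  obtain rfl : 𝔮 = 𝔞 := le_antisymm
    (hmin 𝔞 inferInstance ((hker.trans (nilradical_le_prime _))))
    (hker.trans (nilradical_le_prime _))
  have hub' : UnibranchCore.UB R (Q.asIdeal.comap (algebraMap R A)) := by
    convert hub using 1
    refine Ideal.comap_injective_of_surjective _ Ideal.Quotient.mk_surjective ?_
    rw [Ideal.comap_map_of_surjective' _ Ideal.Quotient.mk_surjective, Ideal.mk_ker,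
      sup_eq_left.2 h𝔮p, Ideal.comap_comap]
    congr 1
  have hpre : PrimeSpectrum.comap (algebraMap R A) ⁻¹'
      {(⟨Q.asIdeal.comap (algebraMap R A), inferInstance⟩ : PrimeSpectrum R)} =
      PrimeSpectrum.comap (algebraMap R₀ A) ⁻¹' {PrimeSpectrum.comap (algebraMap R₀ A) Q} := by
    ext z
    simp only [Set.mem_preimage, Set.mem_singleton_iff, PrimeSpectrum.ext_iff]
    rw [IsScalarTower.algebraMap_eq R₀ R A, PrimeSpectrum.comap_asIdeal, PrimeSpectrum.comap_asIdeal,
      PrimeSpectrum.comap_asIdeal, ← Ideal.comap_comap, ← Ideal.comap_comap]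
    exact ⟨fun h => by rw [h], fun h =>
      Ideal.comap_injective_of_surjective _ Ideal.Quotient.mk_surjective h⟩
  obtain ⟨a, hqf⟩ := UnibranchQF.exists_coords (R := R) Q.asIdeal 0
    (by rw [UnibranchQF.ringKrullDim_fiber_eq, hpre, ← h0]; exact hdim)
  haveI : Algebra.WeaklyQuasiFiniteAt R Q.asIdeal := by
    letI := (MvPolynomial.aeval a : MvPolynomial (Fin 0) R →ₐ[R] A).toRingHom.toAlgebra
    haveI : IsScalarTower R (MvPolynomial (Fin 0) R) A :=
      IsScalarTower.of_algebraMap_eq' (MvPolynomial.aeval a).comp_algebraMap.symm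
    haveI := hqf
    exact weaklyQuasiFiniteAt_of_surjective (S := MvPolynomial (Fin 0) R) Q.asIdeal
      (MvPolynomial.C_surjective (Fin 0))
  have h2 := UnibranchLift.isOpenAt_of_quasiFiniteAt hinj Q hub'
  have h3 : EGA43.IsOpenAt (Spec.map (CommRingCat.ofHom (algebraMap R₀ A))).base Q := by
    have hc : IsOpenMap (PrimeSpectrum.comap (algebraMap R₀ R)) := by
      refine (Equiv.ofBijective _ ⟨(PrimeSpectrum.comap_injective_of_surjective _
        Ideal.Quotient.mk_surjective), fun P => ?_⟩).toHomeomorphOfIsInducing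
        (PrimeSpectrum.isClosedEmbedding_comap_of_surjective _ _
          Ideal.Quotient.mk_surjective).isInducing |>.isOpenMap
      refine (?_ : P ∈ Set.range (PrimeSpectrum.comap (Ideal.Quotient.mk 𝔞)))
      rw [range_comap_of_surjective _ _ Ideal.Quotient.mk_surjective, Ideal.mk_ker]
      exact hker.trans (nilradical_le_prime _)
    have := OpenAt.isOpenAt_comp (φ := PrimeSpectrum.comap (algebraMap R A))
      (ψ := PrimeSpectrum.comap (algebraMap R₀ R)) (h2 : EGA43.IsOpenAt _ Q)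
      (OpenAt.isOpenAt_of_isOpenMap hc _)
    rw [← PrimeSpectrum.comap_comp, ← IsScalarTower.algebraMap_eq] at this
    exact this
  have h4 := OpenAt.isOpenAt_comp h3
    (OpenAt.isOpenAt_of_isOpenMap (f := k.base) k.isOpenEmbedding.isOpenMap _)
  rw [← hjQ]
  refine OpenAt.isOpenAt_of_comp j.continuous ?_
  rw [show f.base ∘ j.base = k.base ∘ (Spec.map (CommRingCat.ofHom (algebraMap R₀ A))).base from
    funext fun z => by simp only [Function.comp_apply, ← Scheme.Hom.comp_apply, hsq]]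
  exact h4

end Groth.Agent.H46.UnibranchSch
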