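import Groth.Agent.H46.Equidim

/-!
# Lower bounds for fibre dimensions near a point
-/

universe u

open CategoryTheory AlgebraicGeometry Topology TopologicalSpace
open Groth.Agent.Lib.Cyc Groth.Agent.H46.FibreTrdeg

namespace Groth.Agent.H46.FibreDimNhd

variable {X Y : Scheme.{u}}

theorem natCast_le_of_forall {a : WithBot ℕ∞} {n : ℕ} (hne : a ≠ ⊥)
    (h : ∀ m : ℕ, a ≤ (m : WithBot ℕ∞) → n ≤ m) : (n : WithBot ℕ∞) ≤ a := by
  cases a with
  | bot => exact absurd rfl hne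
  | coe c =>
    induction c using ENat.recTopCoe with
    | top => exact WithBot.coe_le_coe.2 (le_top : ((n : ℕ∞)) ≤ ⊤)
    | coe k =>
      show (n : WithBot ℕ∞) ≤ (k : WithBot ℕ∞)
      exact_mod_cast h k le_rfl

theorem trd_le_dim_open_inter (f : X ⟶ Y) [LocallyOfFiniteType f] (U : X.Opens) (y : Y) (ξ : X)
    (hU : ξ ∈ U) (hy : f ξ = y) :
    (trd f ξ : WithBot ℕ∞) ≤ topologicalKrullDim ↥((U : Set X) ∩ f ⁻¹' {y}) := by
  have : Nonempty ↥((U : Set X) ∩ f ⁻¹' {y}) := ⟨⟨ξ, hU, hy⟩⟩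
  exact natCast_le_of_forall topologicalKrullDim_ne_bot fun m hm =>
    (dim_open_inter_le_iff f U y m).1 hm ξ hU hy

theorem exists_le_trd_of_le_dim (f : X ⟶ Y) [LocallyOfFiniteType f] (U : X.Opens) (y : Y) (n : ℕ)
    (h : (n : WithBot ℕ∞) ≤ topologicalKrullDim ↥((U : Set X) ∩ f ⁻¹' {y})) :
    ∃ ξ ∈ U, f ξ = y ∧ n ≤ trd f ξ := by
  by_contra hc
  push Not at hc
  cases n with
  | zero =>
    rcases isEmpty_or_nonempty ↥((U : Set X) ∩ f ⁻¹' {y}) with he | ⟨⟨ξ, hU, hy⟩⟩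
    · have : topologicalKrullDim ↥((U : Set X) ∩ f ⁻¹' {y}) = ⊥ := by
        refine Order.krullDim_eq_bot_iff.2 ⟨fun C => ?_⟩
        obtain ⟨a, -⟩ := C.isIrreducible.nonempty
        exact he.elim a
      rw [this, le_bot_iff] at h
      exact absurd h (WithBot.coe_ne_bot)
    · exact absurd (hc ξ hU hy) (Nat.not_lt_zero _)
  | succ m =>
    have := h.trans ((dim_open_inter_le_iff f U y m).2 fun ξ hU hy =>
      Nat.lt_succ_iff.1 (hc ξ hU hy))
    have : m + 1 ≤ m := by exact_mod_cast this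
    omega

/-- A morphism of finite type to a locally noetherian scheme is of finite presentation. -/
theorem locallyOfFinitePresentation (f : X ⟶ Y) [LocallyOfFiniteType f] [IsLocallyNoetherian Y] :
    LocallyOfFinitePresentation f := by
  refine (HasRingHomProperty.iff_appLE (P := @LocallyOfFinitePresentation)).2 fun U V e => ?_
  have h := f.finiteType_appLE U.2 V.2 e
  have : IsNoetherianRing Γ(Y, U.1) := IsLocallyNoetherian.component_noetherian U
  exact RingHom.FinitePresentation.of_finiteType.1 h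

/-- If all generizations of `y` have points of trdeg `≥ e` in `U` above them, then points near `y`
have points of local fibre dimension `≥ e` in `U` above them. -/
theorem exists_nhds_le_fibreDimAt [IsLocallyNoetherian Y] (f : X ⟶ Y) [LocallyOfFiniteType f]
    [QuasiCompact f] (y : Y) (U : X.Opens) (e : ℕ)
    (h : ∀ y', y' ⤳ y → ∃ ξ ∈ U, f ξ = y' ∧ e ≤ trd f ξ) :
    ∀ᶠ z in nhds y, ∃ u ∈ U, f u = z ∧ (e : WithBot ℕ∞) ≤ FlatMor.fibreDimAt f u := by
  obtain ⟨V, hV, hyV, -⟩ :=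
    AlgebraicGeometry.exists_isAffineOpen_mem_and_subset (x := y) (U := ⊤) trivial
  have : IsAffine (V : Scheme.{u}) := hV
  have : IsNoetherianRing Γ(Y, V) := IsLocallyNoetherian.component_noetherian ⟨V, hV⟩
  have : IsLocallyNoetherian (V : Scheme.{u}) := inferInstance
  let g := f ∣_ V
  have : LocallyOfFiniteType g := IsZariskiLocalAtTarget.restrict ‹_› V
  have : QuasiCompact g := IsZariskiLocalAtTarget.restrict ‹_› V
  have : LocallyOfFinitePresentation g := locallyOfFinitePresentation g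
  have : IsNoetherian (V : Scheme.{u}) := {}
  have : IsLocallyNoetherian (f ⁻¹ᵁ V : Scheme.{u}) := LocallyOfFiniteType.isLocallyNoetherian g
  have : CompactSpace (f ⁻¹ᵁ V : Scheme.{u}) :=
    HasAffineProperty.iff_of_isAffine (P := @QuasiCompact) (f := g).1 inferInstance
  have : IsNoetherian (f ⁻¹ᵁ V : Scheme.{u}) := {}
  let ι := (f ⁻¹ᵁ V).ι
  let S : Set (f ⁻¹ᵁ V : Scheme.{u}) :=
    ι ⁻¹' ((U : Set X) ∩ {u | (e : WithBot ℕ∞) ≤ FlatMor.fibreDimAt f u})
  have hS : IsConstructible S := by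
    have h1 : IsOpen (ι ⁻¹' (U : Set X)) := U.2.preimage ι.continuous
    have h2 : IsOpen (ι ⁻¹' {u | (e : WithBot ℕ∞) ≤ FlatMor.fibreDimAt f u})ᶜ :=
      ((Groth.Agent.Lib.FibreDim.Global.isClosed_setOf_le_fibreDimAt f e).preimage
        ι.continuous).isOpen_compl
    refine (IsRetrocompact.isConstructible h1 ?_).inter
      (isConstructible_compl.1 (IsRetrocompact.isConstructible h2 ?_))
    · exact fun W _ _ => NoetherianSpace.isCompact _
    · exact fun W _ _ => NoetherianSpace.isCompact _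
  let y₀ : (V : Scheme.{u}) := ⟨y, hyV⟩
  let iso := (V : Scheme.{u}).isoSpec
  have hc : IsConstructible ((g ≫ iso.hom) '' S) := (g ≫ iso.hom).isConstructible_image hS
  have hgι : ∀ a, f (ι a) = V.ι (g a) := fun a => by
    rw [← Scheme.Hom.comp_apply, ← Scheme.Hom.comp_apply, morphismRestrict_ι]
  have hn := Lift.mem_nhds_of_isConstructible hc (iso.hom y₀) fun q hq => by
    obtain ⟨v, rfl⟩ := iso.hom.surjective q
    have hv : v ⤳ y₀ := iso.hom.isOpenEmbedding.isInducing.specializes_iff.1 hq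
    obtain ⟨ξ, hξU, hξ, hle⟩ := h _ (hv.map V.ι.continuous)
    obtain ⟨a, rfl⟩ : ξ ∈ Set.range ι := by
      rw [Scheme.Opens.range_ι]
      show f ξ ∈ V
      rw [hξ]; exact v.2
    refine ⟨a, ⟨hξU, ?_⟩, ?_⟩
    · exact (Nat.cast_le.2 hle).trans (trd_le_fibreDimAt f _)
    · rw [Scheme.Hom.comp_apply]
      congr 1
      apply V.ι.isOpenEmbedding.injective
      rw [← hgι]; exact hξ
  have hn' := iso.hom.continuous.continuousAt.preimage_mem_nhds hn
  refine Filter.mem_of_superset (V.ι.isOpenEmbedding.isOpenMap.image_mem_nhds hn') ?_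
  rintro _ ⟨v, ⟨a, ⟨haU, hae⟩, ha⟩, rfl⟩
  rw [Scheme.Hom.comp_apply] at ha
  refine ⟨ι a, haU, ?_, hae⟩
  rw [hgι, iso.hom.isOpenEmbedding.injective ha]

/-- The dimension of a quasi-compact fibre is attained by a maximal point. -/
theorem exists_trd_eq_dim (f : X ⟶ Y) [LocallyOfFiniteType f] [QuasiCompact f] (x₀ : X) (y : Y)
    (hx₀ : f x₀ = y) :
    ∃ ζ, f ζ = y ∧ IsMaxFib f ζ ∧
      topologicalKrullDim ↥(f.fiber y) = (trd f ζ : WithBot ℕ∞) := by
  classical
  obtain ⟨t, ht⟩ := isCompact_univ.elim_finite_subcover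
    (fun n : ℕ => f.fiberι y ⁻¹' {a : X | FlatMor.fibreDimAt f a ≤ (n : WithBot ℕ∞)})
    (fun n => (Groth.Agent.Lib.FibreDim.Semicont.isOpen_setOf_fibreDimAt_le f _).preimage
      (f.fiberι y).continuous)
    (fun z _ => by
      obtain ⟨e, he⟩ := Groth.Agent.Lib.FibreDim.Chart.exists_fibreDimAt_eq f (f.fiberι y z)
      exact Set.mem_iUnion.2 ⟨e, he.le⟩)
  have hb : ∃ n, ∀ ξ, f ξ = y → trd f ξ ≤ n := ⟨t.sup id, fun ξ hξ => by
    obtain ⟨z, rfl⟩ := FieldDim.exists_fiberι_eq f ξ y hξ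
    obtain ⟨n, hn, hzn⟩ := Set.mem_iUnion₂.1 (ht (Set.mem_univ z))
    have : trd f (f.fiberι y z) ≤ n := by exact_mod_cast (trd_le_fibreDimAt f _).trans hzn
    exact this.trans (Finset.le_sup (f := id) hn)⟩
  have hn := Nat.find_spec hb
  obtain ⟨ξ, hξ, hξn⟩ : ∃ ξ, f ξ = y ∧ Nat.find hb ≤ trd f ξ := by
    by_contra hc
    push Not at hc
    have hpos : 0 < Nat.find hb := by have := hc x₀ hx₀; omega
    exact Nat.find_min hb (show Nat.find hb - 1 < Nat.find hb by omega)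
      (fun ξ hξ => by have := hc ξ hξ; omega)
  refine ⟨ξ, hξ, fun a ha hs => eq_of_trd_le f hs ha ((hn a (ha.trans hξ)).trans hξn),
    le_antisymm ((dim_fiber_le_iff f y _).2 fun a ha => (hn a ha).trans hξn)
      (trd_le_dim_fiber f ξ y hξ)⟩

end Groth.Agent.H46.FibreDimNhd
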