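import Mathlib.AlgebraicGeometry.Fiber
import Mathlib.AlgebraicGeometry.Stalk
import Mathlib.AlgebraicGeometry.Properties

/-!
# The local ring of a fibre

`O_{F,a} = O_{X,x}/m_y O_{X,x}` for a point `a` of the fibre `F` of `f` over `y` with image `x`.
-/

universe u

open CategoryTheory AlgebraicGeometry Limits IsLocalRing

namespace Groth.Agent.H46.FiberStalk

variable {X S : Scheme.{u}}

theorem exists_factor_residueField (f : X ⟶ S) (x : X) (Q : CommRingCat.{u})
    (mk : X.presheaf.stalk x ⟶ Q)
    (hm : ∀ r ∈ maximalIdeal (S.presheaf.stalk (f x)), mk.hom ((f.stalkMap x).hom r) = 0)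
    (y : S) (hy : f x = y) :
    ∃ q : Spec Q ⟶ Spec (S.residueField y),
      q ≫ S.fromSpecResidueField y = Spec.map mk ≫ X.fromSpecStalk x ≫ f := by
  subst hy
  refine ⟨Spec.map (CommRingCat.ofHom
    (Ideal.Quotient.lift (maximalIdeal (S.presheaf.stalk (f x))) (f.stalkMap x ≫ mk).hom hm)), ?_⟩
  rw [Scheme.fromSpecResidueField, ← Category.assoc, ← Spec.map_comp]
  have : S.residue (f x) ≫ CommRingCat.ofHom
      (Ideal.Quotient.lift (maximalIdeal (S.presheaf.stalk (f x))) (f.stalkMap x ≫ mk).hom hm) =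
      f.stalkMap x ≫ mk := by
    ext r; rfl
  rw [this, Spec.map_comp, Category.assoc, Scheme.SpecMap_stalkMap_fromSpecStalk]

/-- A local homomorphism into a field kills non-units. -/
theorem stalkMap_eq_zero_of_factor_field {F : Scheme.{u}} (K : CommRingCat.{u}) (hK : IsField K)
    (q : F ⟶ Spec K) (g : Spec K ⟶ S) (h : F ⟶ S) (e : h = q ≫ g) (a : F)
    (r : S.presheaf.stalk (h a)) (hr : r ∈ maximalIdeal (S.presheaf.stalk (h a))) :
    (h.stalkMap a).hom r = 0 := by
  subst e
  rw [Scheme.Hom.stalkMap_comp]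
  have hz : (g.stalkMap (q a)).hom r = 0 := by
    letI := hK.toField
    have hnu : ¬ IsUnit ((g.stalkMap (q a)).hom r) := fun hu =>
      hr ((inferInstance : IsLocalHom (g.stalkMap (q a)).hom).map_nonunit r hu)
    by_contra h0
    apply hnu
    have hfield : IsField ((Spec K).presheaf.stalk (q a)) := by
      letI : Algebra K ((Spec K).presheaf.stalk (q a)) := StructureSheaf.stalkAlgebra _ _
      haveI : IsLocalization.AtPrime ((Spec K).presheaf.stalk (q a))
        (PrimeSpectrum.asIdeal (q a)) := StructureSheaf.IsLocalization.to_stalk _ _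
      have hbot : PrimeSpectrum.asIdeal (q a) = ⊥ :=
        (Ideal.eq_bot_of_prime (I := PrimeSpectrum.asIdeal (q a)))
      refine ⟨⟨0, 1, zero_ne_one⟩, mul_comm, fun {t} ht => ?_⟩
      obtain ⟨⟨n, d⟩, hnd⟩ := IsLocalization.surj (PrimeSpectrum.asIdeal (q a)).primeCompl t
      have hn : n ≠ 0 := by
        intro h1
        rw [h1, map_zero] at hnd
        exact ht ((IsLocalization.map_units _ d).mul_left_eq_zero.1 hnd)
      have : IsUnit t := isUnit_of_mul_isUnit_left (hnd ▸ (isUnit_iff_ne_zero.2 hn).map _)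
      exact ⟨(this.unit⁻¹).1, this.mul_val_inv⟩
    letI := hfield.toField
    exact isUnit_iff_ne_zero.2 h0
  show (q.stalkMap a).hom ((g.stalkMap (q a)).hom r) = 0
  rw [hz, map_zero]

/-- The kernel of `O_{X,x} → O_{F,a}` is `m_y O_{X,x}`. -/
theorem ker_stalkMap_fiberι (f : X ⟶ S) (y : S) (a : f.fiber y) :
    RingHom.ker ((f.fiberι y).stalkMap a).hom =
      (maximalIdeal (S.presheaf.stalk (f (f.fiberι y a)))).map
        (f.stalkMap (f.fiberι y a)).hom := by
  set ι := f.fiberι y with hι
  set x := ι a with hx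
  set I := (maximalIdeal (S.presheaf.stalk (f x))).map (f.stalkMap x).hom with hI
  apply le_antisymm
  · have hy : f x = y := by
      have : x ∈ f ⁻¹' {y} := by rw [← f.range_fiberι y]; exact ⟨a, rfl⟩
      exact this
    have hle : I ≤ maximalIdeal (X.presheaf.stalk x) :=
      Ideal.map_le_iff_le_comap.2 fun r hr hu => hr (isUnit_of_map_unit (f.stalkMap x).hom r hu)
    haveI : Nontrivial (X.presheaf.stalk x ⧸ I) :=
      Ideal.Quotient.nontrivial_iff.2 fun h => (maximalIdeal.isMaximal (X.presheaf.stalk x)).ne_top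
        (top_le_iff.1 (h ▸ hle))
    haveI : IsLocalRing (X.presheaf.stalk x ⧸ I) :=
      .of_surjective' (Ideal.Quotient.mk I) Ideal.Quotient.mk_surjective
    let Q : CommRingCat.{u} := CommRingCat.of (X.presheaf.stalk x ⧸ I)
    haveI : IsLocalRing Q := ‹IsLocalRing (X.presheaf.stalk x ⧸ I)›
    let mk : X.presheaf.stalk x ⟶ Q := CommRingCat.ofHom (Ideal.Quotient.mk I)
    obtain ⟨q, hq⟩ := exists_factor_residueField f x Q mk
      (fun r hr => Ideal.Quotient.eq_zero_iff_mem.2 (Ideal.mem_map_of_mem _ hr)) y hy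
    let h : Spec Q ⟶ f.fiber y := pullback.lift (Spec.map mk ≫ X.fromSpecStalk x) q
      (by rw [Category.assoc, ← hq])
    have hhι : h ≫ ι = Spec.map mk ≫ X.fromSpecStalk x := pullback.lift_fst _ _ _
    haveI hloc : IsLocalHom mk.hom :=
      .of_surjective (Ideal.Quotient.mk I) Ideal.Quotient.mk_surjective
    have hpt : h (closedPoint Q) = a := by
      apply ι.isEmbedding.injective
      rw [← Scheme.Hom.comp_apply, hhι, Scheme.Hom.comp_apply]
      have : Spec.map mk (closedPoint Q) = closedPoint (X.presheaf.stalk x) :=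
        IsLocalRing.comap_closedPoint mk.hom
      rw [this, Scheme.fromSpecStalk_closedPoint]
    let φ : (f.fiber y).presheaf.stalk a ⟶ Q :=
      (f.fiber y).presheaf.stalkSpecializes (specializes_of_eq hpt) ≫
        Scheme.stalkClosedPointTo h
    have key : ι.stalkMap a ≫ φ = mk := by
      apply Spec.map_injective
      rw [← cancel_mono (X.fromSpecStalk x), Spec.map_comp, Category.assoc,
        Scheme.SpecMap_stalkMap_fromSpecStalk, ← hhι, ← Category.assoc]
      congr 1
      simp only [φ, Spec.map_comp, Category.assoc,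
        Scheme.SpecMap_stalkSpecializes_fromSpecStalk, Scheme.Spec_stalkClosedPointTo_fromSpecStalk]
    intro s hs
    have : mk.hom s = 0 := by
      rw [← key]
      show φ.hom ((ι.stalkMap a).hom s) = 0
      rw [RingHom.mem_ker.1 hs, map_zero]
    exact Ideal.Quotient.eq_zero_iff_mem.1 this
  · refine Ideal.map_le_iff_le_comap.2 fun r hr => ?_
    have := stalkMap_eq_zero_of_factor_field (S.residueField y) (Field.toIsField _)
      (f.fiberToSpecResidueField y) (S.fromSpecResidueField y) (ι ≫ f) (f.fiber_fac y) a r hr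
    rw [Scheme.Hom.stalkMap_comp] at this
    exact this

/-- `O_{F,a}` as a quotient of `O_{X,x}`. -/
theorem exists_surjective_stalk (f : X ⟶ S) (y : S) (a : f.fiber y) (x : X)
    (hx : f.fiberι y a = x) :
    ∃ φ : X.presheaf.stalk x →+* (f.fiber y).presheaf.stalk a, Function.Surjective φ ∧
      RingHom.ker φ = (maximalIdeal (S.presheaf.stalk (f x))).map (f.stalkMap x).hom := by
  subst hx
  exact ⟨((f.fiberι y).stalkMap a).hom, (f.fiberι y).stalkMap_surjective a,
    ker_stalkMap_fiberι f y a⟩

/-- `O_{X_y,x} ≅ O_{X,x}/m_y O_{X,x}`. -/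
noncomputable def quotientEquiv (f : X ⟶ S) (x : X) :
    (X.presheaf.stalk x ⧸ (maximalIdeal (S.presheaf.stalk (f x))).map (f.stalkMap x).hom) ≃+*
      (f.fiber (f x)).presheaf.stalk (f.asFiber x) :=
  let h := exists_surjective_stalk f (f x) (f.asFiber x) x (f.fiberι_asFiber x)
  (Ideal.quotEquivOfEq h.choose_spec.2.symm).trans
    (RingHom.quotientKerEquivOfSurjective h.choose_spec.1)

theorem ringKrullDim_stalk_fiber (f : X ⟶ S) (x : X) :
    ringKrullDim ((f.fiber (f x)).presheaf.stalk (f.asFiber x)) =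
      ringKrullDim (X.presheaf.stalk x ⧸
        (maximalIdeal (S.presheaf.stalk (f x))).map (f.stalkMap x).hom) :=
  (ringKrullDim_eq_of_ringEquiv (quotientEquiv f x)).symm

theorem ringKrullDim_stalk_fiber' (f : X ⟶ S) (y : S) (a : f.fiber y) (x : X)
    (hx : f.fiberι y a = x) :
    ringKrullDim ((f.fiber y).presheaf.stalk a) =
      ringKrullDim (X.presheaf.stalk x ⧸
        (maximalIdeal (S.presheaf.stalk (f x))).map (f.stalkMap x).hom) := by
  obtain ⟨φ, hs, hk⟩ := exists_surjective_stalk f y a x hx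
  exact (ringKrullDim_eq_of_ringEquiv
    ((Ideal.quotEquivOfEq hk.symm).trans (RingHom.quotientKerEquivOfSurjective hs))).symm

end Groth.Agent.H46.FiberStalk
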