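import Groth.Agent.H46.FiberStalk
import Groth.Agent.H46.OpenAt
import Groth.Agent.H46.Lift
import Mathlib.RingTheory.Ideal.KrullsHeightTheorem
import Mathlib.AlgebraicGeometry.Noetherian
import Mathlib.RingTheory.KrullDimension.NonZeroDivisors

/-!
# The dimension formula for a morphism at a point
-/

universe u

open CategoryTheory AlgebraicGeometry Limits IsLocalRing Topology

namespace Groth.Agent.H46.DimFormula

variable {X Y : Scheme.{u}}

/-- `dim B ≤ dim A + dim B/mB`. -/
theorem ringKrullDim_le_add {A B : Type*} [CommRing A] [CommRing B] [IsLocalRing A] [IsLocalRing B]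
    [IsNoetherianRing A] [IsNoetherianRing B] (φ : A →+* B) [IsLocalHom φ] :
    ringKrullDim B ≤ ringKrullDim A + ringKrullDim (B ⧸ (maximalIdeal A).map φ) := by
  algebraize [φ]
  have : (maximalIdeal B).LiesOver (maximalIdeal A) :=
    ⟨(IsLocalRing.maximalIdeal_comap φ).symm⟩
  have h := Ideal.height_le_height_add_of_liesOver (maximalIdeal A) (maximalIdeal B)
  rw [← IsLocalRing.maximalIdeal_height_eq_ringKrullDim (R := B),
    ← IsLocalRing.maximalIdeal_height_eq_ringKrullDim (R := A)]
  refine le_trans (WithBot.coe_le_coe.2 h) ?_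
  rw [WithBot.coe_add]
  gcongr
  have hle : (maximalIdeal A).map φ ≤ maximalIdeal B :=
    Ideal.map_le_iff_le_comap.2 (IsLocalRing.maximalIdeal_comap φ).ge
  have := Ideal.isPrime_map_quotientMk_of_isPrime (p := maximalIdeal B) hle
  exact Ideal.height_le_ringKrullDim_of_ne_top this.ne_top'

theorem exists_mem_not_mem_comap {A C : Type*} [CommRing A] [CommRing C] [IsNoetherianRing C]
    [IsLocalRing A] (φ : A →+* C)
    (h : ∀ q ∈ minimalPrimes C, ¬ maximalIdeal A ≤ q.comap φ) :
    ∃ a ∈ maximalIdeal A, ∀ q ∈ minimalPrimes C, φ a ∉ q := by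
  classical
  by_contra hcon
  push Not at hcon
  have hfin : (minimalPrimes C).Finite := minimalPrimes.finite_of_isNoetherianRing C
  have hsub : (maximalIdeal A : Set A) ⊆
      ⋃ q ∈ (hfin.toFinset : Set (Ideal C)), (q.comap φ : Set A) := fun a ha => by
    obtain ⟨q, hq, hqa⟩ := hcon a ha
    exact Set.mem_iUnion₂.2 ⟨q, hfin.mem_toFinset.2 hq, hqa⟩
  obtain ⟨q, hq, hle⟩ := (Ideal.subset_union_prime (⊤ : Ideal C) (⊤ : Ideal C)
    (fun q hq _ _ => by
      have := (hfin.mem_toFinset.1 hq).1.1
      exact Ideal.IsPrime.comap φ)).1 hsub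
  exact h q (hfin.mem_toFinset.1 hq) hle

/-- A surjection on spectra with `m C` primary to the maximal ideal does not lower the
dimension. -/
theorem ringKrullDim_le_of_surjective_comap (n : ℕ) :
    ∀ (A C : Type u) [CommRing A] [CommRing C] [IsLocalRing A] [IsLocalRing C]
      [IsNoetherianRing A] [IsNoetherianRing C] (φ : A →+* C),
      (∀ p : PrimeSpectrum A, ∃ q : PrimeSpectrum C, q.asIdeal.comap φ = p.asIdeal) →
      (∀ q : PrimeSpectrum C, maximalIdeal A ≤ q.asIdeal.comap φ → q.asIdeal = maximalIdeal C) →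
      ringKrullDim C ≤ n → ringKrullDim A ≤ n := by
  induction n with
  | zero =>
    intro A C _ _ _ _ _ _ φ hsurj hprim hC
    haveI : Ring.KrullDimLE 0 C := Ring.krullDimLE_iff.2 hC
    have hq : ∀ q : PrimeSpectrum C, q.asIdeal = maximalIdeal C := fun q =>
      eq_maximalIdeal (Ideal.IsPrime.isMaximal' q.2)
    obtain ⟨q₀, h₀⟩ := hsurj ⟨maximalIdeal A, inferInstance⟩
    have hA : ∀ p : PrimeSpectrum A, p.asIdeal = maximalIdeal A := fun p => by
      obtain ⟨q, hqp⟩ := hsurj p
      rw [← hqp, hq q, ← hq q₀]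
      exact h₀
    haveI : Subsingleton (PrimeSpectrum A) :=
      ⟨fun a b => PrimeSpectrum.ext ((hA a).trans (hA b).symm)⟩
    exact le_of_le_of_eq (Order.krullDim_nonpos_of_subsingleton) Nat.cast_zero.symm
  | succ n ih =>
    intro A C _ _ _ _ _ _ φ hsurj hprim hC
    by_cases hmax : maximalIdeal C ∈ minimalPrimes C
    · haveI : Ring.KrullDimLE 0 C :=
        Ring.krullDimLE_zero_iff_forall_minimalPrimes_isMaximal.2 fun q hq => by
          rw [show q = maximalIdeal C from le_antisymm (le_maximalIdeal hq.1.1.ne_top)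
            (hmax.2 hq.1 (le_maximalIdeal hq.1.1.ne_top))]
          exact maximalIdeal.isMaximal C
      have := ih A C φ hsurj hprim ((Ring.krullDimLE_iff.1 ‹_›).trans (by simp))
      exact this.trans (by exact_mod_cast Nat.le_succ n)
    obtain ⟨a, ha, haq⟩ := exists_mem_not_mem_comap φ fun q hq hle =>
      hmax ((hprim ⟨q, hq.1.1⟩ hle) ▸ hq)
    have hnu : ¬ IsUnit (φ a) := fun hu => by
      obtain ⟨q, hq⟩ := hsurj ⟨maximalIdeal A, inferInstance⟩
      exact q.2.ne_top (Ideal.eq_top_of_isUnit_mem _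
        (show φ a ∈ q.asIdeal from (hq.ge ha : a ∈ q.asIdeal.comap φ)) hu)
    let I := Ideal.span ({a} : Set A)
    let J := Ideal.span ({φ a} : Set C)
    haveI : Nontrivial (A ⧸ I) := Ideal.Quotient.nontrivial_iff.2 fun e =>
      ha ((Ideal.span_singleton_eq_top).1 e)
    haveI : Nontrivial (C ⧸ J) := Ideal.Quotient.nontrivial_iff.2 fun e =>
      hnu ((Ideal.span_singleton_eq_top).1 e)
    haveI : IsLocalRing (A ⧸ I) := .of_surjective' (Ideal.Quotient.mk I) Ideal.Quotient.mk_surjective
    haveI : IsLocalRing (C ⧸ J) := .of_surjective' (Ideal.Quotient.mk J) Ideal.Quotient.mk_surjective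
    have hIJ : I ≤ J.comap φ := (Ideal.span_singleton_le_iff_mem _).2
      (Ideal.mem_span_singleton_self (φ a))
    let ψ : A ⧸ I →+* C ⧸ J := Ideal.quotientMap J φ hIJ
    have hψ : ψ.comp (Ideal.Quotient.mk I) = (Ideal.Quotient.mk J).comp φ := rfl
    have hdimJ : ringKrullDim (C ⧸ J) ≤ n := by
      rw [ringKrullDim_quotient]
      refine iSup_le fun l => ?_
      obtain ⟨p, hp, hple⟩ := Ideal.exists_minimalPrimes_le (J := l.head.1.asIdeal) bot_le
      let p' : PrimeSpectrum C := ⟨p, hp.1.1⟩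
      have hlt : p' < l.head.1 := lt_of_le_of_ne hple fun e => haq p hp (by
        have : φ a ∈ l.head.1.asIdeal := l.head.2 (Ideal.mem_span_singleton_self _)
        rw [← e] at this
        exact this)
      have h1 : (((l.map Subtype.val (fun _ _ => id)).cons p' hlt).length : WithBot ℕ∞) ≤
          ((n + 1 : ℕ) : WithBot ℕ∞) :=
        le_trans (le_iSup (fun l : LTSeries (PrimeSpectrum C) => (l.length : WithBot ℕ∞)) _) hC
      have h2 : ((l.map Subtype.val (fun _ _ => id)).cons p' hlt).length = l.length + 1 := by simp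
      rw [h2] at h1
      exact_mod_cast (Nat.succ_le_succ_iff.1 (by exact_mod_cast h1) : l.length ≤ n)
    have hA' : ringKrullDim (A ⧸ I) ≤ n := by
      refine ih (A ⧸ I) (C ⧸ J) ψ (fun p => ?_) (fun q hq => ?_) hdimJ
      · obtain ⟨q, hq⟩ := hsurj ⟨p.asIdeal.comap (Ideal.Quotient.mk I), inferInstance⟩
        have hJq : J ≤ q.asIdeal := (Ideal.span_singleton_le_iff_mem _).2 (by
          show a ∈ q.asIdeal.comap φ
          rw [hq]
          show Ideal.Quotient.mk I a ∈ p.asIdeal
          rw [Ideal.Quotient.eq_zero_iff_mem.2 (Ideal.mem_span_singleton_self a)]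
          exact zero_mem _)
        refine ⟨⟨q.asIdeal.map (Ideal.Quotient.mk J),
          Ideal.isPrime_map_quotientMk_of_isPrime hJq⟩, ?_⟩
        refine Ideal.comap_injective_of_surjective _ Ideal.Quotient.mk_surjective ?_
        show ((q.asIdeal.map (Ideal.Quotient.mk J)).comap ψ).comap (Ideal.Quotient.mk I) = _
        rw [Ideal.comap_comap, hψ, ← Ideal.comap_comap,
          Ideal.comap_map_of_surjective _ Ideal.Quotient.mk_surjective,
          ← RingHom.ker_eq_comap_bot, Ideal.mk_ker, sup_eq_left.2 hJq]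
        exact hq
      · have := hprim ⟨q.asIdeal.comap (Ideal.Quotient.mk J), inferInstance⟩ (fun x hx => by
          show Ideal.Quotient.mk J (φ x) ∈ q.asIdeal
          refine hq (?_ : Ideal.Quotient.mk I x ∈ maximalIdeal (A ⧸ I))
          haveI : IsLocalHom (Ideal.Quotient.mk I) :=
            .of_surjective _ Ideal.Quotient.mk_surjective
          exact fun hu => hx (hu.of_map (Ideal.Quotient.mk I) x))
        refine Ideal.comap_injective_of_surjective _ Ideal.Quotient.mk_surjective (this.trans ?_)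
        haveI : IsLocalHom (Ideal.Quotient.mk J) :=
          .of_surjective _ Ideal.Quotient.mk_surjective
        exact (IsLocalRing.maximalIdeal_comap (Ideal.Quotient.mk J)).symm
    have h3 := ringKrullDim_le_ringKrullDim_quotient_add_encard ({a} : Set A)
      (Set.singleton_subset_iff.2 (by rw [IsLocalRing.ringJacobson_eq_maximalIdeal]; exact ha))
    rw [Set.encard_singleton] at h3
    refine h3.trans ?_
    calc ringKrullDim (A ⧸ I) + ((1 : ℕ∞) : WithBot ℕ∞)
        ≤ (n : WithBot ℕ∞) + ((1 : ℕ∞) : WithBot ℕ∞) := by gcongr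
      _ = ((n + 1 : ℕ) : WithBot ℕ∞) := by push_cast; rfl

/-- If `Spec C_𝔷 → Spec A` is surjective for all minimal primes `𝔷` over `m B`, then
`dim A + dim B/mB ≤ dim B`. -/
theorem add_le_ringKrullDim {A B : Type u} [CommRing A] [CommRing B] [IsLocalRing A]
    [IsLocalRing B] [IsNoetherianRing A] [IsNoetherianRing B] (φ : A →+* B) [IsLocalHom φ]
    (h : ∀ z ∈ ((maximalIdeal A).map φ).minimalPrimes, ∀ p : PrimeSpectrum A,
      ∃ q : Ideal B, q.IsPrime ∧ q ≤ z ∧ q.comap φ = p.asIdeal) :
    ringKrullDim A + ringKrullDim (B ⧸ (maximalIdeal A).map φ) ≤ ringKrullDim B := by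
  set I := (maximalIdeal A).map φ with hI
  have hIm : I ≤ maximalIdeal B :=
    Ideal.map_le_iff_le_comap.2 (IsLocalRing.maximalIdeal_comap φ).ge
  haveI : Nontrivial (B ⧸ I) := Ideal.Quotient.nontrivial_iff.2
    fun e => (maximalIdeal.isMaximal B).ne_top (top_le_iff.1 (e ▸ hIm))
  obtain ⟨n, hn⟩ : ∃ n : ℕ, ringKrullDim A = n := by
    rw [← IsLocalRing.maximalIdeal_height_eq_ringKrullDim (R := A)]
    obtain ⟨n, hn⟩ := ENat.ne_top_iff_exists.1
      (Ideal.height_ne_top (maximalIdeal.isMaximal A).ne_top)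
    exact ⟨n, by rw [← hn]; rfl⟩
  rw [hn, ringKrullDim_quotient]
  haveI : Nonempty (PrimeSpectrum.zeroLocus (R := B) I) :=
    ⟨⟨⟨maximalIdeal B, inferInstance⟩, hIm⟩⟩
  unfold Order.krullDim
  obtain ⟨l, hl⟩ : ∃ l : LTSeries (PrimeSpectrum.zeroLocus (R := B) I),
      (l.length : WithBot ℕ∞) = ⨆ l : LTSeries (PrimeSpectrum.zeroLocus (R := B) I),
        (l.length : WithBot ℕ∞) := by
    haveI : FiniteDimensionalOrder (PrimeSpectrum B) :=
      (inferInstance : FiniteRingKrullDim B)
    haveI : FiniteDimensionalOrder (PrimeSpectrum.zeroLocus (R := B) I) := by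
      haveI : FiniteRingKrullDim (B ⧸ I) := by
        haveI : IsLocalRing (B ⧸ I) :=
          .of_surjective' (Ideal.Quotient.mk I) Ideal.Quotient.mk_surjective
        infer_instance
      refine Order.finiteDimensionalOrder_iff_krullDim_ne_bot_and_top.2 ?_
      rw [← ringKrullDim_quotient]
      exact ⟨ringKrullDim_ne_bot, ringKrullDim_ne_top⟩
    exact ⟨LTSeries.longestOf _, (Order.krullDim_eq_length_of_finiteDimensionalOrder).symm⟩
  rw [← hl]
  obtain ⟨z, hz, hzle⟩ := Ideal.exists_minimalPrimes_le (J := l.head.1.asIdeal) l.head.2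
  haveI := hz.1.1
  let C := Localization.AtPrime z
  have hcomap : ∀ (q : Ideal B), q.IsPrime → q ≤ z →
      ∃ Q : PrimeSpectrum C, Q.asIdeal.comap (algebraMap B C) = q := fun q hq hqz =>
    ⟨⟨q.map (algebraMap B C), IsLocalization.isPrime_of_isPrime_disjoint z.primeCompl C q hq
      (Set.disjoint_left.2 fun x hx hxq => hx (hqz hxq))⟩,
      IsLocalization.comap_map_of_isPrime_disjoint z.primeCompl C hq
        (Set.disjoint_left.2 fun x hx hxq => hx (hqz hxq))⟩
  have hCz : ringKrullDim C = (z.height : WithBot ℕ∞) :=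
    IsLocalization.AtPrime.ringKrullDim_eq_height z C
  have key : (n : WithBot ℕ∞) ≤ z.height := by
    obtain ⟨m, hm⟩ := ENat.ne_top_iff_exists.1 (Ideal.height_ne_top (I := z) hz.1.1.ne_top)
    rw [← hn, ← hm]
    refine ringKrullDim_le_of_surjective_comap m A C ((algebraMap B C).comp φ) (fun p => ?_)
      (fun Q hQ => ?_) (by rw [hCz, ← hm]; rfl)
    · obtain ⟨q, hq, hqz, hqp⟩ := h z hz p
      obtain ⟨Q, hQ⟩ := hcomap q hq hqz
      exact ⟨Q, by rw [← Ideal.comap_comap, hQ, hqp]⟩
    · rw [← Ideal.comap_comap] at hQ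
      have hle : Q.asIdeal.comap (algebraMap B C) ≤ z := by
        refine (Ideal.comap_mono (le_maximalIdeal Q.2.ne_top)).trans_eq ?_
        exact IsLocalization.AtPrime.under_maximalIdeal C z
      have h1 : Q.asIdeal.comap (algebraMap B C) = z :=
        le_antisymm hle (hz.2 ⟨inferInstance, Ideal.map_le_iff_le_comap.2 hQ⟩ hle)
      rw [← IsLocalization.map_under z.primeCompl C Q.asIdeal,
        show Ideal.under B Q.asIdeal = z from h1, Localization.AtPrime.map_eq_maximalIdeal]
  have hh : (n : ℕ∞) ≤ Order.height l.head.1 := by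
    refine le_trans ?_ (Order.height_mono (show (⟨z, hz.1.1⟩ : PrimeSpectrum B) ≤ l.head.1 from hzle))
    have : ((⟨z, hz.1.1⟩ : PrimeSpectrum B).asIdeal.height : WithBot ℕ∞) ≥ n := key
    rw [PrimeSpectrum.height_eq_orderHeight] at this
    exact WithBot.coe_le_coe.1 this
  obtain ⟨s, hs, hsn⟩ := Order.exists_series_of_le_height _ hh
  let L := s.smash (l.map Subtype.val (fun _ _ => id)) hs
  refine le_trans ?_ (le_iSup (fun l : LTSeries (PrimeSpectrum B) => (l.length : WithBot ℕ∞)) L)
  rw [show L.length = s.length + l.length from rfl, hsn]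
  push_cast
  rfl

/-- Every neighbourhood meeting the fibre over a generization gives a lift, noetherian source. -/
theorem exists_generization [IsLocallyNoetherian X] (f : X ⟶ Y) (x : X) (y' : Y)
    (h : ∀ O : X.Opens, x ∈ O → y' ∈ f.base '' (O : Set X)) :
    ∃ x' : X, x' ⤳ x ∧ f.base x' = y' := by
  obtain ⟨U, hU, hxU, -⟩ :=
    AlgebraicGeometry.exists_isAffineOpen_mem_and_subset (x := x) (U := ⊤) trivial
  have := IsLocallyNoetherian.component_noetherian ⟨U, hU⟩
  have : TopologicalSpace.NoetherianSpace U := noetherianSpace_of_isAffineOpen U hU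
  let g := U.ι ≫ f
  haveI : TopologicalSpace.NoetherianSpace (g.fiber y' : Type u) :=
    (g.fiberι y').isEmbedding.isInducing.noetherianSpace
  let F := g.fiber y'
  have hfin : (irreducibleComponents (F : Type u)).Finite :=
    TopologicalSpace.NoetherianSpace.finite_irreducibleComponents
  let T : Set X := (g.fiberι y' ≫ U.ι).base ''
    {η : F | closure {η} ∈ irreducibleComponents (F : Type u)}
  have hT : T.Finite := by
    refine Set.Finite.image _ (Set.Finite.of_finite_image
      (hfin.subset ?_) (f := fun η : F => closure ({η} : Set F)) ?_)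
    · rintro _ ⟨η, hη, rfl⟩; exact hη
    · intro a _ b _ hab
      exact (specializes_iff_closure_subset.2 hab.ge).antisymm
        (specializes_iff_closure_subset.2 hab.le) |>.eq
  have hTy : ∀ t ∈ T, f.base t = y' := by
    rintro _ ⟨η, -, rfl⟩
    have : g.fiberι y' η ∈ g ⁻¹' {y'} := by rw [← g.range_fiberι y']; exact ⟨η, rfl⟩
    exact this
  by_contra hcon
  push Not at hcon
  let O : X.Opens := ⟨(U : Set X) ∩ (⋃ t ∈ T, closure {t})ᶜ,
    U.2.inter (hT.isClosed_biUnion fun t _ => isClosed_closure).isOpen_compl⟩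
  have hxO : x ∈ O := by
    refine ⟨hxU, fun hx => ?_⟩
    obtain ⟨t, ht, htx⟩ := Set.mem_iUnion₂.1 hx
    exact hcon t (specializes_iff_mem_closure.2 htx) (hTy t ht)
  obtain ⟨u, ⟨huU, huT⟩, hu⟩ := h O hxO
  obtain ⟨z, hz⟩ : (⟨u, huU⟩ : (U : Scheme.{u})) ∈ Set.range (g.fiberι y').base := by
    rw [g.range_fiberι]; exact hu
  obtain ⟨η, hη⟩ := QuasiSober.sober (isIrreducible_irreducibleComponent (x := z))
    isClosed_irreducibleComponent
  refine huT (Set.mem_iUnion₂.2 ⟨(g.fiberι y' ≫ U.ι).base η, ⟨η, ?_, rfl⟩, ?_⟩)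
  · show closure {η} ∈ irreducibleComponents (F : Type u)
    rw [hη.def]; exact irreducibleComponent_mem_irreducibleComponents z
  · have hs : η ⤳ z := hη.specializes mem_irreducibleComponent
    have := (hs.map (g.fiberι y' ≫ U.ι).continuous).mem_closure
    rw [Scheme.Hom.comp_apply _ _ z, hz] at this
    exact this

theorem le_add_fibre (f : X ⟶ Y) [IsLocallyNoetherian X] [IsLocallyNoetherian Y] (x : X) :
    ringKrullDim (X.presheaf.stalk x) ≤ ringKrullDim (Y.presheaf.stalk (f x)) +
      ringKrullDim ((f.fiber (f x)).presheaf.stalk (f.asFiber x)) := by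
  rw [FiberStalk.ringKrullDim_stalk_fiber]
  exact ringKrullDim_le_add (f.stalkMap x).hom

/-- The dimension formula when `f` is open at the generic points of the fibre through `x`. -/
theorem eq_add_fibre_of_isOpenAt [IsLocallyNoetherian X] [IsLocallyNoetherian Y]
    (f : X ⟶ Y) (x : X)
    (h : ∀ z : ↥(f.fiber (f.base x)), f.asFiber x ∈ closure {z} →
      (∀ z' : ↥(f.fiber (f.base x)), z ∈ closure {z'} → z' = z) →
      EGA43.IsOpenAt f.base ((f.fiberι (f.base x)).base z)) :
    ringKrullDim (X.presheaf.stalk x) = ringKrullDim (Y.presheaf.stalk (f x)) +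
      ringKrullDim ((f.fiber (f x)).presheaf.stalk (f.asFiber x)) := by
  refine le_antisymm (le_add_fibre f x) ?_
  rw [FiberStalk.ringKrullDim_stalk_fiber]
  refine add_le_ringKrullDim (f.stalkMap x).hom fun z hz p => ?_
  have hind := (X.fromSpecStalk x).isEmbedding.isInducing
  have hsp : ∀ q : Spec (X.presheaf.stalk x), f (X.fromSpecStalk x q) =
      Y.fromSpecStalk (f x) (Spec.map (f.stalkMap x) q) := fun q => by
    rw [← Scheme.Hom.comp_apply, ← Scheme.SpecMap_stalkMap_fromSpecStalk, Scheme.Hom.comp_apply]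
  let zP : Spec (X.presheaf.stalk x) := ⟨z, hz.1.1⟩
  have hclosed : Y.fromSpecStalk (f x) (closedPoint _) = f x := Scheme.fromSpecStalk_closedPoint
  have hzm : ∀ q : Spec (X.presheaf.stalk x),
      (maximalIdeal (Y.presheaf.stalk (f x))).map (f.stalkMap x).hom ≤ PrimeSpectrum.asIdeal q ↔
        f (X.fromSpecStalk x q) = f x := fun q => by
    constructor
    · intro hq
      rw [hsp, show Spec.map (f.stalkMap x) q = closedPoint _ from
        PrimeSpectrum.ext (le_antisymm (le_maximalIdeal (Ideal.IsPrime.ne_top'))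
          (Ideal.map_le_iff_le_comap.1 hq)), hclosed]
    · intro hq
      refine Ideal.map_le_iff_le_comap.2 ?_
      have : Spec.map (f.stalkMap x) q = closedPoint _ :=
        (Y.fromSpecStalk (f x)).isEmbedding.injective (by rw [← hsp, hq, hclosed])
      exact (congrArg PrimeSpectrum.asIdeal this).ge
  have hfz : f (X.fromSpecStalk x zP) = f x := (hzm zP).1 hz.1.2
  obtain ⟨zF, hzF⟩ : X.fromSpecStalk x zP ∈ Set.range (f.fiberι (f x)) := by
    rw [f.range_fiberι]; exact hfz
  have hrange : ∀ w : X, w ⤳ x → w ∈ Set.range (X.fromSpecStalk x) := fun w hw => by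
    rw [Scheme.range_fromSpecStalk]; exact hw
  have hzx : X.fromSpecStalk x zP ⤳ x := by
    have : X.fromSpecStalk x zP ∈ {y | y ⤳ x} := Scheme.range_fromSpecStalk ▸ ⟨zP, rfl⟩
    exact this
  have hopen : EGA43.IsOpenAt f.base ((f.fiberι (f.base x)).base zF) := by
    refine h zF ?_ fun z' hz' => ?_
    · refine specializes_iff_mem_closure.1 ?_
      refine (f.fiberι (f x)).isEmbedding.isInducing.specializes_iff.1 ?_
      rw [hzF, f.fiberι_asFiber]; exact hzx
    · have hs : f.fiberι (f x) z' ⤳ X.fromSpecStalk x zP := by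
        rw [← hzF]
        exact (specializes_iff_mem_closure.2 hz').map (f.fiberι (f x)).continuous
      obtain ⟨q, hq⟩ := hrange _ (hs.trans hzx)
      have hle : PrimeSpectrum.asIdeal q ≤ z :=
        (PrimeSpectrum.le_iff_specializes q zP).2 (hind.specializes_iff.1 (hq ▸ hs))
      have hfq : f (X.fromSpecStalk x q) = f x := by
        rw [hq]
        have : f.fiberι (f x) z' ∈ f ⁻¹' {f x} := by rw [← f.range_fiberι]; exact ⟨z', rfl⟩
        exact this
      have : q = zP := PrimeSpectrum.ext (le_antisymm hle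
        (hz.2 ⟨q.2, (hzm q).2 hfq⟩ hle))
      apply (f.fiberι (f x)).isEmbedding.injective
      rw [← hq, this, hzF]
  obtain ⟨w, hw, hfw⟩ := exists_generization f (X.fromSpecStalk x zP)
    (Y.fromSpecStalk (f x) p) fun O hO => by
      refine Lift.generizations_of_isOpenAt hopen O (by rw [hzF]; exact hO) _ ?_
      rw [hzF, hfz]
      have : Y.fromSpecStalk (f x) p ∈ {y | y ⤳ f x} := Scheme.range_fromSpecStalk ▸ ⟨p, rfl⟩
      exact this
  obtain ⟨q, hq⟩ := hrange w (hw.trans hzx)
  refine ⟨PrimeSpectrum.asIdeal q, q.2,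
    (PrimeSpectrum.le_iff_specializes q zP).2 (hind.specializes_iff.1 (hq ▸ hw)), ?_⟩
  have : Spec.map (f.stalkMap x) q = p :=
    (Y.fromSpecStalk (f x)).isEmbedding.injective (by rw [← hsp, hq]; exact hfw)
  exact congrArg PrimeSpectrum.asIdeal this

end Groth.Agent.H46.DimFormula
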