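import Groth.Agent.H46.DimEquiJac
import Groth.Agent.H18.Catenary
import Groth.Agent.Lib.Excellent.Localization
import Groth.Agent.Lib.Modules.Support
import Groth.Agent.Lib.StalkLoc.Basic

/-!
# Schemes locally of finite type over a base with the standing hypotheses; supports of coherent modules
-/

universe u

open CategoryTheory AlgebraicGeometry IsLocalRing
open Groth.Agent.Lib.Cyc

namespace Groth.Agent.H46.GoodJac

variable {X S : Scheme.{u}}

theorem isUniversallyCatenary_sections [IsLocallyNoetherian S]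
    (h2 : ∀ s : S, CAlg.IsUniversallyCatenary (S.presheaf.stalk s)) {V : S.Opens}
    (hV : IsAffineOpen V) : CAlg.IsUniversallyCatenary Γ(S, V) := by
  have : IsNoetherianRing Γ(S, V) := IsLocallyNoetherian.component_noetherian ⟨V, hV⟩
  refine Groth.Agent.H18.Catenary.isUniversallyCatenary_of_localization_maximal _ fun m hm => ?_
  let P : Spec Γ(S, V) := ⟨m, hm.isPrime⟩
  let s := hV.fromSpec P
  have hsV : s ∈ V := hV.range_fromSpec.subset (Set.mem_range_self P)
  let := (S.presheaf.germ V s hsV).hom.toAlgebra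
  have : IsLocalization m.primeCompl (S.presheaf.stalk s) := hV.isLocalization_stalk' P hsV
  let e := IsLocalization.algEquiv m.primeCompl (S.presheaf.stalk s) (Localization.AtPrime m)
  let := e.toRingEquiv.toRingHom.toAlgebra
  have : Algebra.FiniteType (S.presheaf.stalk s) (Localization.AtPrime m) :=
    RingHom.FiniteType.of_surjective _ e.surjective
  exact Groth.Agent.Lib.Excellent.Localization.isUniversallyCatenary_of_finiteType (h2 s)

theorem isUniversallyCatenary_stalk [IsLocallyNoetherian S] (g : X ⟶ S) [LocallyOfFiniteType g]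
    (h2 : ∀ s : S, CAlg.IsUniversallyCatenary (S.presheaf.stalk s)) (x : X) :
    CAlg.IsUniversallyCatenary (X.presheaf.stalk x) := by
  obtain ⟨V, hV, hxV, -⟩ :=
    AlgebraicGeometry.exists_isAffineOpen_mem_and_subset (x := g x) (U := ⊤) trivial
  obtain ⟨U, hU, hxU, hUV⟩ :=
    AlgebraicGeometry.exists_isAffineOpen_mem_and_subset (x := x) (U := g ⁻¹ᵁ V) hxV
  let := (g.appLE V U hUV).hom.toAlgebra
  have : Algebra.FiniteType Γ(S, V) Γ(X, U) := g.finiteType_appLE hV hU hUV
  let := TopCat.Presheaf.algebra_section_stalk X.presheaf (⟨x, hxU⟩ : U)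
  have := hU.isLocalization_stalk ⟨x, hxU⟩
  exact Groth.Agent.Lib.Excellent.Localization.isUniversallyCatenary_of_isLocalization
    (hU.primeIdealOf ⟨x, hxU⟩).asIdeal.primeCompl
    (Groth.Agent.Lib.Excellent.Localization.isUniversallyCatenary_of_finiteType
      (isUniversallyCatenary_sections h2 hV))

theorem good_of_lft [IsLocallyNoetherian S] [JacobsonSpace S] (g : X ⟶ S) [LocallyOfFiniteType g]
    (hS : DimEquiJac.Good S) : DimEquiJac.Good X := by
  haveI := LocallyOfFiniteType.isLocallyNoetherian g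
  haveI := LocallyOfFiniteType.jacobsonSpace g
  refine ⟨isUniversallyCatenary_stalk g hS.cat, fun X' hX' x hx hxc => ?_⟩
  obtain ⟨θ, hθ, rfl⟩ := Equidim.exists_generic_of_mem_irreducibleComponents hX'
  have key : ∀ (z : X) (hz : θ ⤳ z), IsClosed ({z} : Set X) →
      DimData.qd hz = DimEquiJac.cdim (g θ) + FibreTrdeg.trd g θ := by
    intro z hz hzc
    have h1 := DimData.qd_eq g hz (hS.cat _)
    rw [SubStalk.trd_eq_zero_of_closed g z fun z' _ hzz' => by
      have := specializes_iff_mem_closure.1 hzz'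
      rwa [hzc.closure_eq] at this,
      DimEquiJac.qd_eq_cdim hS _ (DimJac.isClosed_apply g hzc)] at h1
    omega
  have hθx : θ ⤳ x := specializes_iff_mem_closure.2 hx
  rw [DimJac.dim_generizations hθx, key x hθx hxc]
  let W : TopologicalSpace.Closeds X := ⟨closure {θ}, isClosed_closure⟩
  let i := (Scheme.IdealSheafData.vanishingIdeal W).subschemeι
  have hr : Set.range i = closure {θ} := by
    rw [Scheme.IdealSheafData.range_subschemeι, Scheme.IdealSheafData.coe_support_vanishingIdeal]
    rfl
  haveI := LocallyOfFiniteType.isLocallyNoetherian i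
  haveI := LocallyOfFiniteType.jacobsonSpace i
  haveI : Nonempty ↥(Scheme.IdealSheafData.vanishingIdeal W).subscheme := by
    obtain ⟨w, -⟩ : θ ∈ Set.range i := hr ▸ subset_closure rfl
    exact ⟨w⟩
  rw [← IsHomeomorph.topologicalKrullDim_eq _
    (i.isEmbedding.toHomeomorph.trans (Homeomorph.setCongr hr)).isHomeomorph]
  refine DimJac.topologicalKrullDim_eq _ fun w hw => ?_
  have hθw : θ ⤳ i w := specializes_iff_mem_closure.2 (hr ▸ Set.mem_range_self w)
  rw [SubStalk.sd_eq_qd i hr hθw]
  refine key _ hθw ?_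
  have := i.isClosedEmbedding.isClosedMap _ hw
  rwa [Set.image_singleton] at this

open Groth.Agent.Lib Groth.Agent.Lib.Modules in
theorem mem_support_stalk_iff (F : X.Modules) [F.IsQuasicoherent] (x : X)
    (P : PrimeSpectrum (X.presheaf.stalk x)) :
    P ∈ Module.support (X.presheaf.stalk x) (F.presheaf.stalk x) ↔
      X.fromSpecStalk x P ∈ CohB1.support F := by
  obtain ⟨U, hU, hxU, -⟩ :=
    AlgebraicGeometry.exists_isAffineOpen_mem_and_subset (x := x) (U := ⊤) trivial
  set t := X.fromSpecStalk x P with ht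
  have htU : t ∈ U := (DimFun.fromSpecStalk_specializes_self x P).mem_open U.2 hxU
  have hbasic : ∀ f : Γ(X, U), t ∈ X.basicOpen f ↔ X.presheaf.germ U x hxU f ∉ P.asIdeal := by
    intro f
    have e : t = hU.fromSpec (Spec.map (X.presheaf.germ U x hxU) P) := by
      rw [ht, ← hU.fromSpecStalk_eq_fromSpecStalk hxU, IsAffineOpen.fromSpecStalk,
        Scheme.Hom.comp_apply]
    rw [e]
    show Spec.map (X.presheaf.germ U x hxU) P ∈ hU.fromSpec ⁻¹ᵁ X.basicOpen f ↔ _
    rw [hU.fromSpec_preimage_basicOpen]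
    rfl
  rw [← not_iff_not, Support.not_mem_support_iff, Module.notMem_support_iff']
  constructor
  · intro h
    refine subsingleton_of_forall_eq 0 fun v => ?_
    obtain ⟨f, s, hf, e⟩ := StalkLoc.Basic.exists_smul_eq_germ hU htU v
    obtain ⟨r, hr, hrs⟩ := h (F.presheaf.germ U x hxU s)
    let := TopCat.Presheaf.algebra_section_stalk X.presheaf (⟨x, hxU⟩ : U)
    have := hU.isLocalization_stalk ⟨x, hxU⟩
    obtain ⟨⟨a, b⟩, hab⟩ := IsLocalization.surj (hU.primeIdealOf ⟨x, hxU⟩).asIdeal.primeCompl r
    have hb : IsUnit (X.presheaf.germ U x hxU b) := IsLocalization.map_units _ b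
    have ha : X.presheaf.germ U x hxU a ∉ P.asIdeal := by
      intro hmem
      rw [show X.presheaf.germ U x hxU a = r * X.presheaf.germ U x hxU b from hab.symm] at hmem
      rcases P.2.mem_or_mem hmem with h' | h'
      · exact hr h'
      · exact P.2.ne_top (Ideal.eq_top_of_isUnit_mem _ h' hb)
    have hax : F.presheaf.germ U x hxU (a • s) = 0 := by
      rw [Modules.StalkModule.germ_smul, show X.presheaf.germ U x hxU a =
        r * X.presheaf.germ U x hxU b from hab.symm, mul_comm, mul_smul, hrs, smul_zero]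
    obtain ⟨g, hg, hgs⟩ := (StalkLoc.Basic.germ_eq_zero_iff hU hxU _).1 hax
    have hts : F.presheaf.germ U t htU s = 0 := by
      refine (StalkLoc.Basic.germ_eq_zero_iff hU htU s).2 ⟨g * a, ?_, by rw [mul_smul]; exact hgs⟩
      rw [Scheme.basicOpen_mul]
      exact ⟨(DimFun.fromSpecStalk_specializes_self x P).mem_open (X.basicOpen g).2 hg,
        (hbasic a).2 ha⟩
    have hu : IsUnit (X.presheaf.germ U t htU f) := (X.mem_basicOpen f t htU).1 hf
    exact hu.smul_eq_zero.mp (e.trans hts)
  · intro h v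
    obtain ⟨f, s, hf, e⟩ := StalkLoc.Basic.exists_smul_eq_germ hU hxU v
    obtain ⟨g, hg, hgs⟩ := (StalkLoc.Basic.germ_eq_zero_iff hU htU s).1
      (@Subsingleton.elim _ h _ _)
    refine ⟨X.presheaf.germ U x hxU g, (hbasic g).1 hg, ?_⟩
    have hu : IsUnit (X.presheaf.germ U x hxU f) := (X.mem_basicOpen f x hxU).1 hf
    refine hu.smul_eq_zero.mp ?_
    rw [smul_comm, e, ← Modules.StalkModule.germ_smul, hgs, map_zero]

theorem supportDim_stalk [IsLocallyNoetherian X] (F : X.Modules) [F.IsQuasicoherent] (x : X)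
    (hF : IsClosed (CohB1.support F)) :
    Module.supportDim (X.presheaf.stalk x) (F.presheaf.stalk x) =
      topologicalKrullDim ↥{t : X | t ∈ CohB1.support F ∧ t ⤳ x} := by
  obtain ⟨I, hI, hdim⟩ := DimEquiJac.exists_ideal hF x
  rw [hdim, ringKrullDim_quotient]
  have e : Module.support (X.presheaf.stalk x) (F.presheaf.stalk x) =
      PrimeSpectrum.zeroLocus (I : Set (X.presheaf.stalk x)) := by
    ext P
    rw [mem_support_stalk_iff]
    exact (hI P).symm
  exact congrArg (fun Z : Set (PrimeSpectrum (X.presheaf.stalk x)) => Order.krullDim Z) e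

end Groth.Agent.H46.GoodJac
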