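import Mathlib.RingTheory.Valuation.LocalSubring
import Mathlib.RingTheory.DiscreteValuationRing.TFAE
import Mathlib.RingTheory.Length
import Mathlib.RingTheory.KrullDimension.NonZeroDivisors
import Mathlib.RingTheory.HopkinsLevitzki
import Mathlib.RingTheory.Ideal.KrullsHeightTheorem
import Mathlib.RingTheory.Localization.LocalizationLocalization
import Mathlib.RingTheory.Localization.AtPrime.Basic
import Mathlib.RingTheory.Adjoin.FG
import Mathlib.RingTheory.PrincipalIdealDomain

/-!
# A discrete valuation ring dominating a Noetherian local domain (Krull–Akizuki)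
-/

universe u

open scoped Pointwise

namespace Groth.Agent.H46.Dvr

section length

variable {B : Type u} [CommRing B] [IsDomain B]

theorem length_quotient_smul_le (I : Ideal B) (a : B) (ha : a ≠ 0)
    (hI : Module.length B (B ⧸ I) ≠ ⊤) :
    Module.length B (I ⧸ (Submodule.comap I.subtype (a • I))) ≤
      Module.length B (B ⧸ Ideal.span {a}) := by
  have hle : a • I ≤ I := Submodule.smul_le_self_of_tower a I
  let aI : Submodule B B := a • I
  let J : Submodule B B := Ideal.span {a}
  have hle2 : aI ≤ J := by
    rintro _ ⟨y, -, rfl⟩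
    exact Ideal.mem_span_singleton'.2 ⟨y, mul_comm y a⟩
  -- `0 → I/aI → B/aI → B/I → 0`
  let f1 := (Submodule.comap I.subtype aI).mapQ aI I.subtype le_rfl
  let g1 : (B ⧸ aI) →ₗ[B] B ⧸ I := Submodule.factor hle
  have e1 : Module.length B (B ⧸ aI) =
      Module.length B (I ⧸ Submodule.comap I.subtype aI) + Module.length B (B ⧸ I) := by
    refine Module.length_eq_add_of_exact f1 g1 ?_ (Submodule.factor_surjective hle) ?_
    · rw [injective_iff_map_eq_zero]
      intro z hz
      induction z using Submodule.Quotient.induction_on with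
      | _ w => exact (Submodule.Quotient.mk_eq_zero _).2 ((Submodule.Quotient.mk_eq_zero aI).1 hz :)
    · intro y
      induction y using Submodule.Quotient.induction_on with
      | _ b =>
        constructor
        · intro h
          exact ⟨Submodule.Quotient.mk ⟨b, (Submodule.Quotient.mk_eq_zero I).1 h⟩, rfl⟩
        · rintro ⟨z, hz⟩
          induction z using Submodule.Quotient.induction_on with
          | _ w =>
            rw [← hz]
            exact (Submodule.Quotient.mk_eq_zero I).2 w.2
  -- `0 → B/I → B/aI → B/aB → 0`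
  let f2 := (I : Submodule B B).mapQ aI (LinearMap.lsmul B B a)
    (fun y hy => ⟨y, hy, rfl⟩)
  let g2 : (B ⧸ aI) →ₗ[B] B ⧸ J := Submodule.factor hle2
  have e2 : Module.length B (B ⧸ aI) = Module.length B (B ⧸ I) + Module.length B (B ⧸ J) := by
    refine Module.length_eq_add_of_exact f2 g2 ?_ (Submodule.factor_surjective hle2) ?_
    · rw [injective_iff_map_eq_zero]
      intro z hz
      induction z using Submodule.Quotient.induction_on with
      | _ w =>
        obtain ⟨v, hv, hvw⟩ := (Submodule.Quotient.mk_eq_zero aI).1 hz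
        exact (Submodule.Quotient.mk_eq_zero I).2 (mul_left_cancel₀ ha hvw ▸ hv)
    · intro y
      induction y using Submodule.Quotient.induction_on with
      | _ b =>
        constructor
        · intro h
          obtain ⟨w, hw⟩ := Ideal.mem_span_singleton'.1 ((Submodule.Quotient.mk_eq_zero J).1 h)
          exact ⟨Submodule.Quotient.mk w, congrArg Submodule.Quotient.mk ((mul_comm a w).trans hw)⟩
        · rintro ⟨z, hz⟩
          induction z using Submodule.Quotient.induction_on with
          | _ w =>
            rw [← hz]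
            exact (Submodule.Quotient.mk_eq_zero J).2
              (Ideal.mem_span_singleton'.2 ⟨w, mul_comm w a⟩)
  rw [e1, add_comm (Module.length B (B ⧸ I))] at e2
  exact ((ENat.add_left_injective_of_ne_top hI) e2).le

/-- A module all of whose finitely generated submodules have length at most `n` is finitely
generated. -/
theorem finite_of_forall_length_le {R M : Type*} [CommRing R] [AddCommGroup M] [Module R M]
    (n : ℕ) (h : ∀ Q : Submodule R M, Q.FG → Module.length R Q ≤ n) : Module.Finite R M := by
  classical
  let S := {m : ℕ | ∃ Q : Submodule R M, Q.FG ∧ Module.length R Q = m}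
  have hS : S.Nonempty := ⟨0, ⊥, Submodule.fg_bot, Module.length_eq_zero⟩
  have hb : BddAbove S := ⟨n, fun m ⟨Q, hQ, hm⟩ => by exact_mod_cast hm ▸ h Q hQ⟩
  obtain ⟨Q, hQ, hQm⟩ := Nat.sSup_mem hS hb
  refine ⟨?_⟩
  convert hQ
  refine (eq_top_iff.2 fun x _ => ?_).symm
  by_contra hx
  let Q' := Q ⊔ Submodule.span R {x}
  have hQ' : Q'.FG := hQ.sup (Submodule.fg_span_singleton x)
  have hfin : Module.length R Q' ≠ ⊤ := ne_top_of_le_ne_top (ENat.coe_ne_top n) (h Q' hQ')
  obtain ⟨_, _⟩ := isFiniteLength_iff_isNoetherian_isArtinian.1 (Module.length_ne_top_iff.1 hfin)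
  have hlt : Module.length R (Q.comap Q'.subtype) < Module.length R Q' := by
    refine Submodule.length_lt fun htop => hx ?_
    have : (⟨x, Submodule.mem_sup_right (Submodule.mem_span_singleton_self x)⟩ : Q') ∈
        Q.comap Q'.subtype := htop ▸ Submodule.mem_top
    exact this
  rw [(Submodule.comapSubtypeEquivOfLe (le_sup_left : Q ≤ Q')).length_eq, hQm] at hlt
  obtain ⟨m, hm⟩ := ENat.ne_top_iff_exists.1 hfin
  rw [← hm, Nat.cast_lt] at hlt
  exact absurd (le_csSup hb ⟨Q', hQ', hm.symm⟩) (not_le.2 hlt)

end length

variable {B : Type u} [CommRing B] [IsDomain B] [IsNoetherianRing B] [IsLocalRing B]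
  {L : Type u} [Field L] [Algebra B L] [IsFractionRing B L]

theorem length_quotient_ne_top (hdim : ringKrullDim B ≤ 1) (I : Ideal B) (hI : I ≠ ⊥) :
    Module.length B (B ⧸ I) ≠ ⊤ := by
  obtain ⟨a, ha, ha0⟩ := Submodule.exists_mem_ne_zero_of_ne_bot hI
  have hle : Ideal.span {a} ≤ I := (Ideal.span_singleton_le_iff_mem I).2 ha
  have h1 : ringKrullDim (B ⧸ I) + 1 ≤ ringKrullDim B :=
    le_trans (add_le_add (ringKrullDim_le_of_surjective _ (Ideal.Quotient.factor_surjective hle)) le_rfl)
      (ringKrullDim_quotient_succ_le_of_nonZeroDivisor (mem_nonZeroDivisors_of_ne_zero ha0))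
  have h2 : ringKrullDim (B ⧸ I) ≤ 0 := by
    have := h1.trans hdim
    revert this
    cases hd : ringKrullDim (B ⧸ I) with
    | bot => simp
    | coe d =>
      intro hle
      induction d using ENat.recTopCoe with
      | top => exact absurd hle (by decide)
      | coe k =>
        have : k + 1 ≤ 1 := by exact_mod_cast hle
        exact_mod_cast (show k ≤ 0 by omega)
  have : Ring.KrullDimLE 0 (B ⧸ I) := Ring.krullDimLE_iff.2 (by simpa using h2)
  have : IsArtinianRing (B ⧸ I) := isArtinianRing_iff_krullDimLE_zero.2 ‹_›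
  rw [Module.length_eq_of_surjective (R := B ⧸ I) (S := B) (M := B ⧸ I)
    Ideal.Quotient.mk_surjective]
  exact Module.length_ne_top

/-- Krull–Akizuki for the valuation rings above a one-dimensional Noetherian local domain. -/
theorem isNoetherianRing_of_le (hdim : ringKrullDim B ≤ 1) (V : ValuationSubring L)
    (hV : ∀ b, algebraMap B L b ∈ V) : IsNoetherianRing V := by
  classical
  let i : B →+* V := (algebraMap B L).codRestrict V.toSubring hV
  algebraize [i]
  refine ⟨fun J => ?_⟩
  by_cases hJ : J = ⊥
  · exact hJ ▸ Submodule.fg_bot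
  obtain ⟨y, hy, hy0⟩ := Submodule.exists_mem_ne_zero_of_ne_bot hJ
  obtain ⟨⟨r, s⟩, hrs⟩ := IsLocalization.surj (nonZeroDivisors B) (y : L)
  have hr : r ≠ 0 := by
    rintro rfl
    rw [map_zero, mul_eq_zero] at hrs
    rcases hrs with h | h
    · exact hy0 (Subtype.ext h)
    · exact nonZeroDivisors.ne_zero s.2 ((map_eq_zero_iff _ (IsFractionRing.injective B L)).1 h)
  have hrJ : algebraMap B V r ∈ J := by
    have : algebraMap B V r = y * algebraMap B V s := Subtype.ext hrs.symm
    exact this ▸ Ideal.mul_mem_right _ J hy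
  let n := Module.length B (B ⧸ Ideal.span {r})
  obtain ⟨n₀, hn₀⟩ : ∃ n₀ : ℕ, (n₀ : ℕ∞) = n := ENat.ne_top_iff_exists.1
    (length_quotient_ne_top hdim _ (by simpa [Ideal.span_singleton_eq_bot] using hr))
  let aV : Submodule B V := (Ideal.span {algebraMap B V r}).restrictScalars B
  have hfin : Module.Finite B (V ⧸ aV) := by
    refine finite_of_forall_length_le n₀ fun Q hQ => ?_
    rw [hn₀]
    obtain ⟨s, rfl⟩ := hQ
    choose lift hlift using fun z : V ⧸ aV => Submodule.Quotient.mk_surjective aV z
    obtain ⟨⟨d, hd⟩, hdint⟩ := IsLocalization.exist_integer_multiples (nonZeroDivisors B) s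
      (fun z => ((lift z : V) : L))
    let F : Submodule B V := Submodule.span B (lift '' s)
    let val : V →ₗ[B] L :=
      { toFun := Subtype.val
        map_add' := fun _ _ => rfl
        map_smul' := fun b v => by
          rw [RingHom.id_apply, Algebra.smul_def, Algebra.smul_def]; rfl }
    let I : Ideal B := F.map (d • val) |>.comap (Algebra.linearMap B L)
    have hd0 : algebraMap B L d ≠ 0 := fun h =>
      nonZeroDivisors.ne_zero hd ((map_eq_zero_iff _ (IsFractionRing.injective B L)).1 h)
    have hval : ∀ v : V, (d • val) v = algebraMap B L d * (v : L) := fun v => by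
      rw [LinearMap.smul_apply, Algebra.smul_def]; rfl
    have hinj : Function.Injective (d • val) := fun v w h => by
      rw [hval, hval] at h
      exact Subtype.ext (mul_left_cancel₀ hd0 h)
    have hrange : F.map (d • val) ≤ LinearMap.range (Algebra.linearMap B L) := by
      rw [Submodule.map_le_iff_le_comap, Submodule.span_le]
      rintro _ ⟨z, hz, rfl⟩
      obtain ⟨b, hb⟩ := hdint z hz
      exact ⟨b, by rw [hval]; simpa [Algebra.smul_def] using hb⟩
    by_cases hI : I = ⊥
    · have : F = ⊥ := by
        apply Submodule.map_injective_of_injective hinj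
        rw [Submodule.map_bot, ← Submodule.map_comap_eq_self hrange]
        show Submodule.map _ I = ⊥
        rw [hI, Submodule.map_bot]
      have hs : Submodule.span B (s : Set (V ⧸ aV)) = ⊥ := by
        rw [Submodule.span_eq_bot]
        intro z hz
        have : lift z ∈ F := Submodule.subset_span ⟨z, hz, rfl⟩
        rw [‹F = ⊥›, Submodule.mem_bot] at this
        rw [← hlift z, this, Submodule.Quotient.mk_zero]
      rw [hs, Module.length_eq_zero]; exact zero_le
    · have key : ∀ w : I, ∃ v ∈ F, algebraMap B L d * (v : L) = algebraMap B L w := fun w => by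
        obtain ⟨v, hv, hvw⟩ := w.2
        exact ⟨v, hv, (hval v).symm.trans hvw⟩
      choose v hvF hv using key
      let ψ : I →ₗ[B] V :=
        { toFun := v
          map_add' := fun a b => Subtype.ext (mul_left_cancel₀ hd0 (by
            show algebraMap B L d * (v (a + b) : L) = algebraMap B L d * ((v a : L) + (v b : L))
            rw [mul_add, hv, hv, hv, Submodule.coe_add, map_add]))
          map_smul' := fun c a => Subtype.ext (mul_left_cancel₀ hd0 (by
            rw [hv, RingHom.id_apply, Algebra.smul_def, Submodule.coe_smul, smul_eq_mul, map_mul,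
              ← hv a]
            show _ = algebraMap B L d * (algebraMap B L c * (v a : L))
            ring)) }
      let χ : I →ₗ[B] Submodule.span B (s : Set (V ⧸ aV)) :=
        (aV.mkQ ∘ₗ ψ).codRestrict _ fun w => by
          have h0 : aV.mkQ (ψ w) ∈ F.map aV.mkQ := ⟨ψ w, hvF w, rfl⟩
          rw [Submodule.map_span, ← Set.image_comp] at h0
          refine Submodule.span_mono ?_ h0
          rintro _ ⟨z, hz, rfl⟩
          simpa [hlift] using hz
      have hχ : Submodule.comap I.subtype (r • I) ≤ LinearMap.ker χ := by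
        rintro w ⟨w', hw', hww'⟩
        rw [LinearMap.mem_ker]
        apply Subtype.ext
        show aV.mkQ (ψ w) = 0
        rw [Submodule.mkQ_apply, Submodule.Quotient.mk_eq_zero]
        have : ψ w = algebraMap B V r * ψ ⟨w', hw'⟩ := by
          have : w = r • (⟨w', hw'⟩ : I) := Subtype.ext hww'.symm
          rw [this, map_smul, Algebra.smul_def]
        rw [this]
        exact Ideal.mul_mem_right _ _ (Ideal.mem_span_singleton_self _)
      refine (Module.length_le_of_surjective ((Submodule.comap I.subtype (r • I)).liftQ χ hχ) ?_).trans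
        (length_quotient_smul_le I r hr (length_quotient_ne_top hdim I hI))
      rw [← LinearMap.range_eq_top, Submodule.range_liftQ, eq_top_iff]
      rintro ⟨z, hz⟩ -
      refine Submodule.span_induction (p := fun z hz => (⟨z, hz⟩ : Submodule.span B (s : Set (V ⧸ aV)))
        ∈ LinearMap.range χ) ?_ (zero_mem _) (fun a b _ _ ha hb => add_mem ha hb)
        (fun c a _ ha => Submodule.smul_mem _ c ha) hz
      intro z hz
      have hzF : (d • val) (lift z) ∈ F.map (d • val) := ⟨_, Submodule.subset_span ⟨z, hz, rfl⟩, rfl⟩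
      obtain ⟨b, hb⟩ := hrange hzF
      have hbI : b ∈ I := by
        show Algebra.linearMap B L b ∈ F.map (d • val)
        rw [hb]; exact hzF
      refine ⟨⟨b, hbI⟩, Subtype.ext ?_⟩
      show aV.mkQ (ψ ⟨b, hbI⟩) = z
      have : ψ ⟨b, hbI⟩ = lift z :=
        Subtype.ext (mul_left_cancel₀ hd0 ((hv _).trans (hb.trans (hval _))))
      rw [this]; exact hlift z
  let J' : Submodule B V := J.restrictScalars B
  have : IsNoetherian B (V ⧸ aV) := isNoetherian_of_isNoetherianRing_of_finite B _
  obtain ⟨t, ht⟩ := IsNoetherian.noetherian (J'.map aV.mkQ)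
  choose lift hlift using fun z : V ⧸ aV => Submodule.Quotient.mk_surjective aV z
  refine ⟨insert (algebraMap B V r) (t.image lift), le_antisymm ?_ ?_⟩
  · rw [Submodule.span_le, Finset.coe_insert, Finset.coe_image]
    rintro _ (rfl | ⟨z, hz, rfl⟩)
    · exact hrJ
    · obtain ⟨j, hj, hjz⟩ := (ht ▸ Submodule.subset_span hz : z ∈ J'.map aV.mkQ)
      have h0 : lift z - j ∈ aV := by
        rw [← Submodule.Quotient.eq, hlift]; exact hjz.symm
      have h1 : aV ≤ J' := fun w hw => (Ideal.span_singleton_le_iff_mem _).2 hrJ hw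
      have := J'.add_mem (h1 h0) hj
      rwa [sub_add_cancel] at this
  · intro j hj
    have hm : aV.mkQ j ∈ Submodule.span B (t : Set (V ⧸ aV)) := ht ▸ ⟨j, hj, rfl⟩
    have hsub : Submodule.span B (t : Set (V ⧸ aV)) ≤
        ((Submodule.span V (insert (algebraMap B V r) (t.image lift) : Set V)).restrictScalars B).map
          aV.mkQ := by
      rw [Submodule.span_le]
      intro z hz
      exact ⟨lift z, Submodule.subset_span (Set.mem_insert_of_mem _
        (Finset.mem_coe.2 (Finset.mem_image_of_mem _ hz))), hlift z⟩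
    obtain ⟨w, hw, hwj⟩ := hsub hm
    rw [Finset.coe_insert, Finset.coe_image] at *
    have h0 : j - w ∈ aV := by rw [← Submodule.Quotient.eq]; exact hwj.symm
    have h1 : j - w ∈ Submodule.span V (insert (algebraMap B V r) (lift '' t)) :=
      Submodule.span_mono (by simp) h0
    have := add_mem h1 hw
    rwa [sub_add_cancel] at this

/-- A Noetherian local domain that is not a field is dominated by a discrete valuation ring of
its fraction field. -/
theorem exists_dvr_dominating (hB : ¬ IsField B) :
    ∃ V : ValuationSubring L, IsDiscreteValuationRing V ∧ (∀ b, algebraMap B L b ∈ V) ∧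
      ∀ b ∈ IsLocalRing.maximalIdeal B, V.valuation (algebraMap B L b) < 1 := by
  classical
  have hinj : Function.Injective (algebraMap B L) := IsFractionRing.injective B L
  obtain ⟨V0, hV0, hV0loc⟩ := IsLocalRing.exists_factor_valuationRing (algebraMap B L)
  have hV0m : ∀ b ∈ IsLocalRing.maximalIdeal B, V0.valuation (algebraMap B L b) < 1 := fun b hb => by
    refine (ValuationSubring.valuation_lt_one_iff V0 (⟨_, hV0 b⟩ : V0)).1 ?_
    exact fun hu => hb (hV0loc.1 b hu)
  obtain ⟨gens, hgens⟩ := IsNoetherian.noetherian (IsLocalRing.maximalIdeal B)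
  let gens' := gens.filter (fun t => t ≠ 0)
  have hne : gens'.Nonempty := by
    by_contra h
    apply hB
    rw [IsLocalRing.isField_iff_maximalIdeal_eq, ← hgens, Submodule.span_eq_bot]
    intro t ht
    by_contra h0
    exact h ⟨t, Finset.mem_filter.2 ⟨ht, h0⟩⟩
  obtain ⟨t, ht, htmax⟩ := gens'.exists_max_image (fun s => V0.valuation (algebraMap B L s)) hne
  obtain ⟨htg, ht0⟩ := Finset.mem_filter.1 ht
  have htm : t ∈ IsLocalRing.maximalIdeal B := hgens ▸ Submodule.subset_span htg
  have htL : algebraMap B L t ≠ 0 := (map_ne_zero_iff _ hinj).2 ht0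
  let C := Algebra.adjoin B ((gens.image fun s => algebraMap B L s / algebraMap B L t : Finset L) : Set L)
  have : IsNoetherianRing C := isNoetherianRing_of_fg ⟨_, rfl⟩
  have hCV : ∀ c : C, (c : L) ∈ V0 := by
    rintro ⟨c, hc⟩
    induction hc using Algebra.adjoin_induction with
    | mem x hx =>
      obtain ⟨s, hs, rfl⟩ := Finset.mem_image.1 hx
      rw [← ValuationSubring.valuation_le_one_iff, map_div₀]
      by_cases hs0 : s = 0
      · simp [hs0]
      · exact div_le_one₀ (zero_lt_iff.2 (by simpa using htL)) |>.2
          (htmax s (Finset.mem_filter.2 ⟨hs, hs0⟩))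
    | algebraMap r => exact hV0 r
    | add x y _ _ hx hy => exact add_mem hx hy
    | mul x y _ _ hx hy => exact mul_mem hx hy
  let c0 : C := algebraMap B C t
  let Q : Ideal C := (IsLocalRing.maximalIdeal V0).comap ((C.toSubring.subtype).codRestrict V0.toSubring hCV)
  have hQ : Ideal.span {c0} ≤ Q := by
    rw [Ideal.span_singleton_le_iff_mem, Ideal.mem_comap]
    exact (ValuationSubring.valuation_lt_one_iff V0 _).2 (hV0m t htm)
  obtain ⟨P, hP, -⟩ := Ideal.exists_minimalPrimes_le hQ
  have := hP.1.1
  have hPt : c0 ∈ P := hP.1.2 (Ideal.mem_span_singleton_self _)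
  have hPm : ∀ b ∈ IsLocalRing.maximalIdeal B, algebraMap B C b ∈ P := by
    suffices (IsLocalRing.maximalIdeal B) ≤ P.comap (algebraMap B C) from fun b hb => this hb
    rw [← hgens, Submodule.span_le]
    intro s hs
    let q : C := ⟨_, Algebra.subset_adjoin (Finset.mem_coe.2 (Finset.mem_image_of_mem _ hs))⟩
    have : algebraMap B C s = c0 * q := Subtype.ext (mul_div_cancel₀ _ htL).symm
    show algebraMap B C s ∈ P
    rw [this]; exact P.mul_mem_right _ hPt
  have hht : P.height ≤ 1 := Ideal.height_le_one_of_isPrincipal_of_mem_minimalPrimes _ P hP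
  have : IsFractionRing C L := by
    refine .of_field C L fun x => ?_
    obtain ⟨a, b, hb, rfl⟩ := IsFractionRing.div_surjective (A := B) x
    exact ⟨algebraMap B C a, algebraMap B C b, rfl⟩
  let B1 := Localization.AtPrime P
  have : IsNoetherianRing B1 := IsLocalization.isNoetherianRing P.primeCompl B1 ‹_›
  let φ : B1 →+* L := IsLocalization.lift (M := P.primeCompl) (g := algebraMap C L) fun y =>
    (isUnit_iff_ne_zero.2 ((map_ne_zero_iff _ (IsFractionRing.injective C L)).2
      fun h => y.2 (h ▸ P.zero_mem)))
  algebraize [φ]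
  have : IsScalarTower C B1 L := IsScalarTower.of_algebraMap_eq fun c => (IsLocalization.lift_eq _ c).symm
  have : IsFractionRing B1 L :=
    IsFractionRing.isFractionRing_of_isDomain_of_isLocalization P.primeCompl B1 L
  have hdim : ringKrullDim B1 ≤ 1 := by
    rw [IsLocalization.AtPrime.ringKrullDim_eq_height P B1]
    exact_mod_cast hht
  obtain ⟨V, hV, hVloc⟩ := IsLocalRing.exists_factor_valuationRing (algebraMap B1 L)
  have hmem : ∀ b, algebraMap B L b = algebraMap B1 L (algebraMap C B1 (algebraMap B C b)) :=
    fun b => by rw [← IsScalarTower.algebraMap_apply C B1 L]; rfl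
  have hlt : ∀ b ∈ IsLocalRing.maximalIdeal B, V.valuation (algebraMap B L b) < 1 := fun b hb => by
    rw [hmem]
    refine (ValuationSubring.valuation_lt_one_iff V (⟨_, hV _⟩ : V)).1 ?_
    intro hu
    exact IsLocalization.AtPrime.to_map_mem_maximal_iff B1 P _ |>.2 (hPm b hb) (hVloc.1 _ hu)
  have : IsNoetherianRing V := isNoetherianRing_of_le hdim V hV
  have hnf : ¬ IsField V := by
    intro hF
    obtain ⟨u, hu⟩ := hF.mul_inv_cancel (a := (⟨_, hV (algebraMap C B1 c0)⟩ : V)) (by
      intro h
      exact htL ((hmem t).trans (congrArg Subtype.val h)))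
    have := hlt t htm
    rw [hmem] at this
    exact ((ValuationSubring.valuation_lt_one_iff V (⟨_, hV _⟩ : V)).2 this) (IsUnit.of_mul_eq_one u hu)
  exact ⟨V, ((IsDiscreteValuationRing.TFAE V hnf).out 0 1).2 (inferInstance : ValuationRing V),
    fun b => hmem b ▸ hV _, hlt⟩

end Groth.Agent.H46.Dvr
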