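import Groth.Agent.Lib.Unram.StrictNoetherian
import Groth.Agent.Lib.Unram.BranchHenselian
import Mathlib.FieldTheory.Galois.Infinite
import Mathlib.FieldTheory.PurelyInseparable.Basic

/-!
# Minimal primes of a strict henselization of a henselian domain and embeddings of residue fields

For a henselian Noetherian local domain `A` with local normalization `N`, minimal primes of a strict
henselization `S` correspond to `k`-embeddings of the separable part of the residue field of `N`
into that of `S`, compatibly with the automorphisms of `S`.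
-/

set_option autoImplicit false
set_option maxHeartbeats 800000

universe u

open IsLocalRing
open scoped TensorProduct

namespace Groth.Agent.H46.BranchEmb

open Lib.Unram.StrictStage Lib.Unram.StrictFractions Lib.Unram.StrictResidue Lib.Unram.StrictGalois

theorem isLocalHom_of_isIntegral {A B C : Type u} [CommRing A] [CommRing B] [IsLocalRing B]
    [CommRing C] [IsLocalRing C] [Algebra A B] [Algebra A C] [Algebra.IsIntegral A C]
    (f : B →ₐ[A] C) : IsLocalHom f.toRingHom := by
  letI := f.toRingHom.toAlgebra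
  haveI : IsScalarTower A B C := IsScalarTower.of_algebraMap_eq fun a => (f.commutes a).symm
  haveI : Algebra.IsIntegral B C := Algebra.IsIntegral.tower_top (R := A)
  refine ((local_hom_TFAE f.toRingHom).out 0 4).mpr ?_
  haveI := Ideal.isMaximal_comap_of_isIntegral_of_isMaximal (R := B) (maximalIdeal C)
  exact eq_maximalIdeal this

variable (A : Type u) [CommRing A] [HenselianLocalRing A] [IsDomain A]
  [IsLocalRing (integralClosure A (FractionRing A))]
  [IsLocalHom (algebraMap A (integralClosure A (FractionRing A)))]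

local notation "N" => integralClosure A (FractionRing A)
local notation "k" => ResidueField A
local notation "k'" => ResidueField (integralClosure A (FractionRing A))
local notation "kss" => separableClosure (ResidueField A)
  (ResidueField (integralClosure A (FractionRing A)))

theorem isAlgebraic_residue : Algebra.IsAlgebraic k k' := by
  refine ⟨fun x => ?_⟩
  obtain ⟨x, rfl⟩ := residue_surjective x
  obtain ⟨p, hp, hx⟩ := Algebra.IsIntegral.isIntegral (R := A) x
  refine IsIntegral.isAlgebraic ⟨p.map (residue A), hp.map _, ?_⟩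
  rw [Polynomial.eval₂_map, show (algebraMap k k').comp (residue A) =
    (residue N).comp (algebraMap A N) from RingHom.ext fun _ => rfl,
    ← Polynomial.hom_eval₂, hx, map_zero]

/-- Ring maps from the normalization over a fixed geometric point are embeddings of its residue
field. -/
theorem natCard_homs :
    Nat.card {τ : N →+* AlgebraicClosure k //
      τ.comp (algebraMap A N) = (algebraMap k (AlgebraicClosure k)).comp (residue A)} =
      Module.finrank k kss := by
  haveI := isAlgebraic_residue A
  rw [Module.finrank, ← Field.sepDegree, ← Field.finSepDegree_eq k k', Field.finSepDegree,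
    Nat.card_congr (Field.embEquivOfIsAlgClosed k k' (AlgebraicClosure k))]
  have hker : ∀ τ : {τ : N →+* AlgebraicClosure k //
      τ.comp (algebraMap A N) = (algebraMap k (AlgebraicClosure k)).comp (residue A)},
      ∀ x ∈ maximalIdeal N, τ.1 x = 0 := fun τ x hx => by
    have hmax : (RingHom.ker τ.1).IsMaximal := by
      haveI : (RingHom.ker τ.1).IsPrime := RingHom.ker_isPrime _
      refine Ideal.isMaximal_of_isIntegral_of_isMaximal_comap (R := A) _ ?_
      rw [RingHom.comap_ker, τ.2, ← RingHom.comap_ker,
        (RingHom.injective_iff_ker_eq_bot _).mp (algebraMap k (AlgebraicClosure k)).injective,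
        ← RingHom.ker_eq_comap_bot, ker_residue]
      exact maximalIdeal.isMaximal A
    exact (eq_maximalIdeal hmax).ge hx
  refine Nat.card_congr
    { toFun := fun τ => AlgHom.mk (Ideal.Quotient.lift (maximalIdeal N) τ.1 (hker τ)) ?_
      invFun := fun f => ⟨f.toRingHom.comp (residue N), RingHom.ext fun a => f.commutes (residue A a)⟩
      left_inv := fun τ => Subtype.ext (RingHom.ext fun _ => rfl)
      right_inv := fun f => AlgHom.ext fun x => by
        obtain ⟨x, rfl⟩ := residue_surjective x
        rfl }
  intro c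
  obtain ⟨c, rfl⟩ := residue_surjective c
  exact RingHom.congr_fun τ.2 c

variable {A} {S : Type u} [CommRing S] [IsLocalRing S] [Algebra A S]
  [IsLocalHom (algebraMap A S)] [Hensel.IsStrictHenselization A S]

local notation "kS" => ResidueField S

/-- Minimal primes are as many as the degree of the separable part. -/
theorem natCard_minimalPrimes :
    Nat.card (minimalPrimes S) = Module.finrank k kss := by
  classical
  haveI : HenselianLocalRing S := Hensel.IsStrictHenselization.henselian (R := A)
  haveI := Lib.Henselian.StrictHenselization.flat A S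
  haveI : IsIntegrallyClosed N :=
    integralClosure.isIntegrallyClosedOfFiniteExtension (FractionRing A)
  have hbot : (⊥ : Ideal A) ∈ minimalPrimes A := ⟨⟨Ideal.bot_prime, le_rfl⟩, fun _ _ _ => bot_le⟩
  have hinj : Function.Injective (algebraMap A N) := fun a b h =>
    IsFractionRing.injective A (FractionRing A) (congrArg Subtype.val h)
  obtain ⟨E₁⟩ := Lib.Unram.BranchHenselian.exists_minimalPrimes_equiv A S N ⊥ hbot
    ((RingHom.injective_iff_ker_eq_bot _).mp hinj) fun x => by
      obtain ⟨⟨n, d⟩, hnd⟩ := IsLocalization.surj (nonZeroDivisors A) (x : FractionRing A)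
      refine ⟨d, fun h => nonZeroDivisors.coe_ne_zero d (Ideal.mem_bot.mp h), n, Subtype.ext ?_⟩
      rw [Subalgebra.coe_smul, Algebra.smul_def, mul_comm]
      exact hnd
  letI := Algebra.TensorProduct.rightAlgebra (R := A) (A := N) (B := S)
  haveI := Lib.Unram.BranchHenselian.isIntegral_right A S N
  have hind : EtPBC.IsIndEtale A S := Lib.IndEtale.Basic.of_algEquiv
    Lib.Henselian.IndEtale.isIndEtale_lim
    (Lib.Henselian.StrictHenselization.equivOfIsStrictHenselization A S)
  obtain ⟨E₂⟩ := Lib.Unram.BranchHenselian.exists_maximal_equiv_minimal S (N ⊗[A] S) fun M _ =>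
    Lib.Unram.BranchHenselian.isDomain_localization N _ (Lib.IndEtale.Basic.baseChange N hind) M
  obtain ⟨E₃⟩ := Lib.Unram.BranchHenselian.exists_maximal_equiv_strictHenselization A S N
    (AlgebraicClosure k) ((algebraMap k (AlgebraicClosure k)).comp (residue A)) fun a ha => by
      rw [RingHom.comp_apply, (residue_eq_zero_iff a).mpr ha, map_zero]
  rw [← natCard_homs A, ← Nat.card_congr ((E₁.symm.trans E₂).trans E₃)]
  refine Nat.card_congr (Equiv.subtypeUnivEquiv fun q => ?_).symm
  exact le_bot_iff.mp ((Lib.Unram.BranchHenselian.comap_minimalPrime_mem A S q.2).2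
    ⟨Ideal.bot_prime, le_rfl⟩ bot_le)

variable [IsNoetherianRing A]

variable (S) in
include S in
theorem finite_separableClosure : FiniteDimensional k kss := by
  haveI : IsNoetherianRing S :=
    (Lib.Henselian.Permanence.strict_isNoetherianRing_iff A S).mp inferInstance
  haveI : Finite (minimalPrimes S) := (minimalPrimes.finite_of_isNoetherianRing S).to_subtype
  haveI : Nonempty (minimalPrimes S) := by
    obtain ⟨p, hp, -⟩ := Ideal.exists_minimalPrimes_le (I := (⊥ : Ideal S)) (J := maximalIdeal S) bot_le
    exact ⟨⟨p, hp⟩⟩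
  exact Module.finite_of_finrank_pos (natCard_minimalPrimes (A := A) (S := S) ▸ Nat.card_pos)

theorem comap_eq_bot {Q : Ideal S} (hQ : Q ∈ minimalPrimes S) : Q.comap (algebraMap A S) = ⊥ :=
  haveI := Lib.Henselian.StrictHenselization.flat A S
  le_bot_iff.mp ((Lib.Unram.BranchHenselian.comap_minimalPrime_mem A S hQ).2
    ⟨Ideal.bot_prime, le_rfl⟩ bot_le)

section Psi

variable {Q : Ideal S} [Q.IsPrime] (hQ : Q ∈ minimalPrimes S)

/-- The map of fraction fields. -/
noncomputable def fracMap : FractionRing A →ₐ[A] FractionRing (S ⧸ Q) :=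
  IsFractionRing.liftAlgHom (g := Algebra.ofId A (FractionRing (S ⧸ Q))) (by
    refine (injective_iff_map_eq_zero _).mpr fun a ha => ?_
    have h : toFrac Q (algebraMap A S a) = 0 := (toFrac_algebraMap Q a).trans ha
    exact Ideal.mem_bot.mp ((comap_eq_bot (A := A) hQ).le ((toFrac_eq_zero_iff Q).mp h)))

/-- The map from the normalization. -/
noncomputable def psi : N →ₐ[A] T2 (A := A) Q := (fracMap hQ).mapIntegralClosure

instance isLocalHom_psi : IsLocalHom (psi (A := A) hQ).toRingHom :=
  isLocalHom_of_isIntegral _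

/-- The map of residue fields. -/
noncomputable def rho : k' →+* ResidueField (T2 (A := A) Q) :=
  ResidueField.map (psi (A := A) hQ).toRingHom

theorem rho_algebraMap (c : k) :
    rho (A := A) hQ (algebraMap k k' c) = j (A := A) Q (algebraMap k kS c) := by
  obtain ⟨a, rfl⟩ := residue_surjective c
  show residue _ (psi (A := A) hQ (algebraMap A N a)) = residue _ (toT2 (A := A) Q (algebraMap A S a))
  rw [AlgHom.commutes, AlgHom.commutes]

theorem exists_j_eq_rho (x : kss) : ∃ ζ, j (A := A) Q ζ = rho (A := A) hQ x := by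
  haveI := (Hensel.IsStrictHenselization.isSepClosure (R := A) (S := S)).sep_closed
  letI := (j (A := A) Q).toAlgebra
  have hx : IsSeparable k (x : k') := mem_separableClosure_iff.mp x.2
  have hroot : Polynomial.aeval (rho (A := A) hQ x)
      ((minpoly k (x : k')).map (algebraMap k kS)) = 0 := by
    rw [Polynomial.aeval_def, Polynomial.eval₂_map,
      show (algebraMap kS (ResidueField (T2 (A := A) Q))).comp (algebraMap k kS) =
        (rho (A := A) hQ).comp (algebraMap k k') from
        RingHom.ext fun c => (rho_algebraMap hQ c).symm,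
      ← Polynomial.hom_eval₂, ← Polynomial.aeval_def, minpoly.aeval, map_zero]
  have hsep : IsSeparable kS (rho (A := A) hQ x) :=
    Polynomial.Separable.of_dvd (Polynomial.Separable.map hx) (minpoly.dvd _ _ hroot)
  obtain ⟨ζ, hζ⟩ := IsSepClosed.exists_root (minpoly kS (rho (A := A) hQ x))
    (minpoly.degree_pos hsep.isIntegral).ne' hsep
  have hdeg := Polynomial.degree_eq_one_of_irreducible_of_root (minpoly.irreducible hsep.isIntegral) hζ
  exact minpoly.mem_range_of_degree_eq_one kS _ hdeg

/-- The embedding attached to a minimal prime. -/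
noncomputable def emb : kss →ₐ[k] kS where
  toFun x := (exists_j_eq_rho hQ x).choose
  map_one' := (j (A := A) Q).injective (by
    rw [(exists_j_eq_rho hQ _).choose_spec, OneMemClass.coe_one, map_one, map_one])
  map_mul' a b := (j (A := A) Q).injective (by
    rw [(exists_j_eq_rho hQ _).choose_spec, MulMemClass.coe_mul, map_mul, map_mul,
      (exists_j_eq_rho hQ _).choose_spec, (exists_j_eq_rho hQ _).choose_spec])
  map_zero' := (j (A := A) Q).injective (by
    rw [(exists_j_eq_rho hQ _).choose_spec, ZeroMemClass.coe_zero, map_zero, map_zero])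
  map_add' a b := (j (A := A) Q).injective (by
    rw [(exists_j_eq_rho hQ _).choose_spec, AddMemClass.coe_add, map_add, map_add,
      (exists_j_eq_rho hQ _).choose_spec, (exists_j_eq_rho hQ _).choose_spec])
  commutes' c := (j (A := A) Q).injective
    ((exists_j_eq_rho hQ _).choose_spec.trans (rho_algebraMap hQ c))

theorem j_emb (x : kss) : j (A := A) Q (emb hQ x) = rho (A := A) hQ x :=
  (exists_j_eq_rho hQ x).choose_spec

/-- Automorphisms of `S` act compatibly on minimal primes and embeddings. -/
theorem emb_map (G : S ≃ₐ[A] S) (g : kS →+* kS) (hg : ∀ x, residue S (G x) = g (residue S x))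
    {Q' : Ideal S} [Q'.IsPrime] (hQ' : Q' ∈ minimalPrimes S) (h : Q' = Q.map (G : S →ₐ[A] S))
    (x : kss) : emb hQ' x = g (emb hQ x) := by
  refine (j (A := A) Q').injective ?_
  let e : (S ⧸ Q) ≃ₐ[A] (S ⧸ Q') := Ideal.quotientEquivAlg Q Q' G h
  let f : FractionRing (S ⧸ Q) →ₐ[A] FractionRing (S ⧸ Q') :=
    IsFractionRing.liftAlgHom
      (g := (IsScalarTower.toAlgHom A (S ⧸ Q') (FractionRing (S ⧸ Q'))).comp e.toAlgHom)
      ((IsFractionRing.injective (S ⧸ Q') (FractionRing (S ⧸ Q'))).comp e.injective)
  let φ : T2 (A := A) Q →ₐ[A] T2 (A := A) Q' := f.mapIntegralClosure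
  haveI : IsLocalHom φ.toRingHom := isLocalHom_of_isIntegral φ
  have h1 : ∀ s : S, φ (toT2 (A := A) Q s) = toT2 (A := A) Q' (G s) := fun s => Subtype.ext (by
    show f (algebraMap (S ⧸ Q) (FractionRing (S ⧸ Q)) (Ideal.Quotient.mk Q s)) =
      algebraMap (S ⧸ Q') (FractionRing (S ⧸ Q')) (Ideal.Quotient.mk Q' (G s))
    rw [IsFractionRing.liftAlgHom_apply]
    exact IsLocalization.lift_eq _ _)
  have h2 : f.comp (fracMap hQ) = fracMap hQ' := IsLocalization.algHom_ext (nonZeroDivisors A)
    (Subsingleton.elim _ _)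
  have h3 : ∀ y : N, φ (psi hQ y) = psi hQ' y := fun y => Subtype.ext (AlgHom.congr_fun h2 (y : FractionRing A))
  have hj : ∀ ζ : kS, ResidueField.map φ.toRingHom (j (A := A) Q ζ) = j (A := A) Q' (g ζ) := fun ζ => by
    obtain ⟨s, rfl⟩ := residue_surjective ζ
    rw [← hg, j_residue, j_residue]
    exact congrArg (residue _) (h1 s)
  have hr : ∀ z : k', ResidueField.map φ.toRingHom (rho (A := A) hQ z) = rho (A := A) hQ' z := fun z => by
    obtain ⟨y, rfl⟩ := residue_surjective z
    exact congrArg (residue _) (h3 y)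
  rw [← hj, j_emb, j_emb, hr]

end Psi

/-- The automorphism of `S` inducing a given one of its residue field. -/
theorem exists_lift_aut (g : kS ≃ₐ[k] kS) :
    ∃ G : S ≃ₐ[A] S, ∀ x, residue S (G x) = g (residue S x) := by
  haveI : HenselianLocalRing S := Hensel.IsStrictHenselization.henselian (R := A)
  have H : ∀ g : kS ≃ₐ[k] kS, ∃ G : S →ₐ[A] S, ∀ x, residue S (G x) = g (residue S x) := fun g => by
    obtain ⟨G, ⟨h1, h2⟩, -⟩ := Hensel.IsStrictHenselization.universal (R := A) (S := S) S
      (algebraMap A S) g.toRingEquiv.toRingHom (RingHom.ext fun c => g.commutes c)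
    exact ⟨⟨G, RingHom.congr_fun h1⟩, h2⟩
  obtain ⟨G, hG⟩ := H g
  obtain ⟨G', hG'⟩ := H g.symm
  have key : ∀ (G G' : S →ₐ[A] S), (∀ x, residue S (G (G' x)) = residue S x) → G.comp G' = AlgHom.id A S :=
    fun G G' h => AlgHom.coe_ringHom_injective (Lib.Henselian.StrictHenselization.comp_eq_id A
      (S := S) (G.comp G').toRingHom (G.comp G').comp_algebraMap h)
  exact ⟨AlgEquiv.ofAlgHom G G' (key G G' fun x => by rw [hG, hG', g.apply_symm_apply])
    (key G' G fun x => by rw [hG', hG, g.symm_apply_apply]), hG⟩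

theorem map_mem_minimalPrimes (G : S ≃ₐ[A] S) {Q : Ideal S} (hQ : Q ∈ minimalPrimes S) :
    Q.map (G : S →ₐ[A] S) ∈ minimalPrimes S := by
  haveI := hQ.1.1
  have hmap : ∀ (G : S ≃ₐ[A] S) (I : Ideal S), I.map (G : S →ₐ[A] S) = I.comap (G.symm : S →ₐ[A] S) :=
    fun G I => (Ideal.comap_symm G.toRingEquiv (I := I)).symm
  rw [hmap]
  refine ⟨⟨inferInstance, bot_le⟩, fun P hP hle y hy => ?_⟩
  haveI := hP.1
  have h1 : Q ≤ P.comap (G : S →ₐ[A] S) := hQ.2 ⟨inferInstance, bot_le⟩ fun z hz => by
    have := hle (show G z ∈ P from hz)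
    simpa using this
  simpa using h1 hy

variable (S) in
theorem exists_equiv :
    ∃ Φ : minimalPrimes S ≃ (kss →ₐ[k] kS), ∀ Q : minimalPrimes S,
      haveI := Q.2.1.1
      Φ Q = emb Q.2 := by
  classical
  haveI hsc := Hensel.IsStrictHenselization.isSepClosure (R := A) (S := S)
  haveI := hsc.sep_closed
  haveI := hsc.separable
  haveI : IsGalois k kS := IsSepClosure.isGalois
  haveI : Normal k kS := inferInstance
  haveI := finite_separableClosure (A := A) S
  haveI : IsNoetherianRing S :=
    (Lib.Henselian.Permanence.strict_isNoetherianRing_iff A S).mp inferInstance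
  haveI : Finite (minimalPrimes S) := (minimalPrimes.finite_of_isNoetherianRing S).to_subtype
  let Φ : minimalPrimes S → (kss →ₐ[k] kS) := fun Q => haveI := Q.2.1.1; emb Q.2
  have hsurj : Function.Surjective Φ := fun σ => by
    obtain ⟨Q, hQ, -⟩ := Ideal.exists_minimalPrimes_le (I := (⊥ : Ideal S)) (J := maximalIdeal S) bot_le
    haveI := hQ.1.1
    let σ₀ := emb (A := A) hQ
    let e₀ : kss ≃ₐ[k] σ₀.fieldRange := AlgEquiv.ofInjectiveField σ₀
    let e₁ : kss ≃ₐ[k] σ.fieldRange := AlgEquiv.ofInjectiveField σ
    let χ : σ₀.fieldRange ≃ₐ[k] σ.fieldRange := e₀.symm.trans e₁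
    obtain ⟨G, hG⟩ := exists_lift_aut (χ.liftNormal kS)
    have hQ' := map_mem_minimalPrimes G hQ
    haveI := hQ'.1.1
    refine ⟨⟨_, hQ'⟩, AlgHom.ext fun x => ?_⟩
    show emb hQ' x = σ x
    rw [emb_map hQ G _ hG hQ' rfl x]
    have h := χ.liftNormal_commutes kS (e₀ x)
    refine h.trans ?_
    show ((e₁ (e₀.symm (e₀ x))) : kS) = σ x
    rw [AlgEquiv.symm_apply_apply]
    rfl
  haveI : Algebra.IsSeparable k kss := inferInstance
  have hcard : Nat.card (minimalPrimes S) = Nat.card (kss →ₐ[k] kS) := by
    rw [natCard_minimalPrimes (A := A) (S := S), AlgHom.natCard_of_splits k kss kS fun x =>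
      IsSepClosed.splits_codomain _ (Algebra.IsSeparable.isSeparable k x)]
  exact ⟨Equiv.ofBijective Φ ((Nat.bijective_iff_surjective_and_card Φ).mpr ⟨hsurj, hcard⟩),
    fun _ => rfl⟩

/-- Minimal primes are extended from `D` once all embeddings land in its residue field. -/
theorem extended_of_forall (D : Subalgebra A S)
    (h : ∀ (σ : kss →ₐ[k] kS) (x : kss), σ x ∈ resField D) {Q : Ideal S} (hQ : Q ∈ minimalPrimes S) :
    Q = Ideal.map (algebraMap D S) (Q.comap (algebraMap D S)) := by
  classical
  haveI := hQ.1.1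
  haveI hsc := Hensel.IsStrictHenselization.isSepClosure (R := A) (S := S)
  haveI := hsc.separable
  haveI : IsGalois k kS := IsSepClosure.isGalois
  haveI : Normal k kS := inferInstance
  haveI := finite_separableClosure (A := A) S
  obtain ⟨Φ, hΦ⟩ := exists_equiv (A := A) S
  let b := Module.finBasis k kss
  choose z hz using fun i => residue_surjective (emb (A := A) hQ (b i))
  obtain ⟨P, hsP, hext⟩ := exists_stage_ideals A S {Q} (Set.finite_singleton Q)
    (Finset.univ.image z)
  refine le_antisymm ?_ Ideal.map_comap_le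
  conv_lhs => rw [hext Q rfl]
  refine Ideal.map_le_iff_le_comap.mpr fun w hw => ?_
  let ψ : P.E →+* kS := (residue S).comp (algebraMap P.E S)
  let H := fixer P.act ψ ((resField D).toSubfield : Set kS)
  have hσ : ∀ x : kss, ∃ v : P.E, ψ v = emb (A := A) hQ x := fun x => by
    have hx : emb hQ x ∈ resField P.E := by
      rw [← b.sum_repr x, map_sum]
      refine sum_mem fun i _ => ?_
      rw [map_smul]
      exact (resField P.E).smul_mem (mem_resField.mpr
        ⟨z i, hsP (Finset.mem_image_of_mem z (Finset.mem_univ i)), hz i⟩)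
    obtain ⟨d, hd, he⟩ := mem_resField.mp hx
    exact ⟨⟨d, hd⟩, he⟩
  have hstable : ∀ g ∈ H, ∀ v ∈ Q.comap (algebraMap P.E S), P.act g v ∈ Q.comap (algebraMap P.E S) := by
    intro g hg v hv
    haveI : IsLocalHom (algebraMap A P.E) := H24.EssEtale.isLocalHom P.essEtale
    let fg : P.E →ₐ[A] S := P.E.val.comp (P.act g).toAlgHom
    haveI hl : IsLocalHom fg.toRingHom :=
      Lib.Henselian.EssEtale.isLocalHom_algHom P.essEtale fg
    let αg : ResidueField P.E →ₐ[k] kS :=
      { ResidueField.map fg.toRingHom with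
        commutes' := fun c => by
          obtain ⟨a, rfl⟩ := residue_surjective c
          exact congrArg (residue S) (fg.commutes a) }
    let αi : ResidueField P.E →ₐ[k] kS :=
      { ResidueField.map (algebraMap P.E S) with
        commutes' := fun c => by
          obtain ⟨a, rfl⟩ := residue_surjective c
          exact congrArg (residue S) (IsScalarTower.algebraMap_apply A P.E S a).symm }
    let e₀ : ResidueField P.E ≃ₐ[k] αi.fieldRange := AlgEquiv.ofInjectiveField αi
    let e₁ : ResidueField P.E ≃ₐ[k] αg.fieldRange := AlgEquiv.ofInjectiveField αg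
    let χ : αi.fieldRange ≃ₐ[k] αg.fieldRange := e₀.symm.trans e₁
    obtain ⟨G, hG⟩ := exists_lift_aut (χ.liftNormal kS)
    have hres : ∀ y : P.E, (χ.liftNormal kS) (ψ y) = residue S (P.act g y : S) := fun y => by
      refine (χ.liftNormal_commutes kS (e₀ (residue P.E y))).trans ?_
      show ((e₁ (e₀.symm (e₀ (residue P.E y)))) : kS) = _
      rw [AlgEquiv.symm_apply_apply]
      rfl
    have hGE : (G : S →ₐ[A] S).comp P.E.val = fg :=
      Lib.Henselian.EssEtale.algHom_ext P.essEtale fun y => (hG _).trans (hres y)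
    have hQ' := map_mem_minimalPrimes G hQ
    haveI := hQ'.1.1
    have hfix : Q.map (G : S →ₐ[A] S) = Q := by
      refine congrArg Subtype.val (Φ.injective (a₁ := ⟨_, hQ'⟩) (a₂ := ⟨Q, hQ⟩) ?_)
      rw [hΦ, hΦ]
      refine AlgHom.ext fun x => ?_
      show emb hQ' x = emb hQ x
      rw [emb_map hQ G _ hG hQ' rfl x]
      obtain ⟨y, hy⟩ := hσ x
      show (χ.liftNormal kS) (emb hQ x) = emb hQ x
      rw [← hy, hres y]
      exact mem_fixer P.act |>.mp hg y (show ψ y ∈ _ from hy ▸ h _ x)
    show (P.act g v : S) ∈ Q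
    rw [show (P.act g v : S) = G (v : S) from (AlgHom.congr_fun hGE v).symm, ← hfix]
    exact Ideal.mem_map_of_mem _ hv
  refine (Ideal.span_le.mpr ?_ : Ideal.span _ ≤ _) (mem_span_fixed P.act P.isDual H _ hstable hw)
  rintro v ⟨hvQ, hvfix⟩
  obtain ⟨F, hF, hFl, -, hvF⟩ := fixed_mem_unr P H (resField D) (fun y hy =>
    mem_of_invariant P.act P.tr_e P.fixed ψ (resField D).toSubfield
      (fun a => (resField D).algebraMap_mem (residue A a)) y fun g hg => congrArg ψ (hy g hg))
    v hvfix
  have hvD : (v : S) ∈ D := Lib.Unram.StrictStage.unr_le le_rfl ⟨F, hF, hFl, hvF⟩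
  exact Ideal.mem_map_of_mem (algebraMap D S)
    (show (⟨v, hvD⟩ : D) ∈ Q.comap (algebraMap D S) from hvQ)

/-- All embeddings land in the residue field of an essentially étale subring from which the minimal
primes are extended. -/
theorem forall_of_extended (E : Type u) [CommRing E] [IsLocalRing E] [Algebra A E]
    [IsLocalHom (algebraMap A E)] (hE : EGA4loc.IsEssentiallyEtale A E) [Algebra E S]
    [IsScalarTower A E S] [IsLocalHom (algebraMap E S)]
    (h : ∀ Q ∈ minimalPrimes S, Q = Ideal.map (algebraMap E S) (Q.comap (algebraMap E S)))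
    (σ : kss →ₐ[k] kS) (x : kss) :
    σ x ∈ (IsScalarTower.toAlgHom k (ResidueField E) kS).fieldRange := by
  haveI hsc := Hensel.IsStrictHenselization.isSepClosure (R := A) (S := S)
  haveI := hsc.separable
  haveI : IsGalois k kS := IsSepClosure.isGalois
  let l := (IsScalarTower.toAlgHom k (ResidueField E) kS).fieldRange
  obtain ⟨Φ, hΦ⟩ := exists_equiv (A := A) S
  rw [show (IsScalarTower.toAlgHom k (ResidueField E) kS).fieldRange =
    IntermediateField.fixedField l.fixingSubgroup from (InfiniteGalois.fixedField_fixingSubgroup l).symm,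
    IntermediateField.mem_fixedField_iff]
  intro g hg
  obtain ⟨Q, rfl⟩ := Φ.surjective σ
  haveI := Q.2.1.1
  obtain ⟨G, hG⟩ := exists_lift_aut g
  have hfixE : (G : S →ₐ[A] S).comp (IsScalarTower.toAlgHom A E S) = IsScalarTower.toAlgHom A E S :=
    Lib.Henselian.EssEtale.algHom_ext hE fun e => (hG _).trans
      (((IntermediateField.mem_fixingSubgroup_iff l g).mp hg) _ ⟨residue E e, rfl⟩)
  have hQ' := map_mem_minimalPrimes G Q.2
  haveI := hQ'.1.1
  have hfix : (Q : Ideal S).map (G : S →ₐ[A] S) = Q := by
    conv_lhs => rw [h Q.1 Q.2]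
    conv_rhs => rw [h Q.1 Q.2]
    show Ideal.map (G : S →ₐ[A] S).toRingHom (Ideal.map (algebraMap E S) _) = _
    rw [Ideal.map_map]
    refine congrArg (fun f => Ideal.map f _) (RingHom.ext fun e => ?_)
    exact AlgHom.congr_fun hfixE e
  have := emb_map Q.2 G g.toRingEquiv.toRingHom hG hQ' rfl x
  have heq : (⟨_, hQ'⟩ : minimalPrimes S) = Q := Subtype.ext hfix
  rw [hΦ]
  refine this.symm.trans ?_
  have h2 := congrArg Φ heq
  rw [hΦ, hΦ] at h2
  exact AlgHom.congr_fun h2 x

end Groth.Agent.H46.BranchEmb
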