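import Groth.Agent.S0392
import Groth.Agent.Lib.QDepth.FlatFibre
import Groth.Agent.Lib.Depth.CM
import Groth.Agent.Lib.Excellent.Transport
import Mathlib.RingTheory.KrullDimension.Regular

/-!
# Chains in the generic fibre of a flat local algebra with Cohen–Macaulay closed fibre
-/

universe u

open IsLocalRing Pointwise
open Groth.Agent.Lib.Depth LocCoh

namespace Groth.Agent.H46.CMChain

section

variable {S : Type u} [CommRing S]

/-- Associated primes of a quotient ring, as a module over the ring or over itself. -/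
theorem map_mem_associatedPrimes [IsNoetherianRing S] {I q : Ideal S}
    (h : q ∈ associatedPrimes S (S ⧸ I)) :
    q.map (Ideal.Quotient.mk I) ∈ associatedPrimes (S ⧸ I) (S ⧸ I) ∧ I ≤ q ∧
      (q.map (Ideal.Quotient.mk I)).comap (Ideal.Quotient.mk I) = q := by
  obtain ⟨hq, m, hm⟩ := isAssociatedPrime_iff.mp h
  have hmem : ∀ a, a ∈ q ↔ Ideal.Quotient.mk I a * m = 0 := fun a => by
    rw [hm, Submodule.mem_colon_singleton, Submodule.mem_bot, Algebra.smul_def]
    rfl
  have hle : I ≤ q := fun a ha => (hmem a).2 (by rw [Ideal.Quotient.eq_zero_iff_mem.2 ha, zero_mul])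
  have hcomap : (q.map (Ideal.Quotient.mk I)).comap (Ideal.Quotient.mk I) = q := by
    rw [Ideal.comap_map_of_surjective _ Ideal.Quotient.mk_surjective]
    exact sup_eq_left.2 (Ideal.mk_ker.le.trans hle)
  have := hq
  refine ⟨isAssociatedPrime_iff.mpr
    ⟨Ideal.map_isPrime_of_surjective Ideal.Quotient.mk_surjective (Ideal.mk_ker.le.trans hle), m, ?_⟩,
    hle, hcomap⟩
  ext b
  obtain ⟨a, rfl⟩ := Ideal.Quotient.mk_surjective b
  rw [Submodule.mem_colon_singleton, Submodule.mem_bot, smul_eq_mul, ← hmem, ← Ideal.mem_comap, hcomap]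

theorem comap_eq_bot_of_associated {R : Type u} [CommRing R] [IsDomain R] [Algebra R S]
    [Module.Flat R S] [IsNoetherianRing S] {P : Ideal S} (hP : P ∈ associatedPrimes S S) :
    P.comap (algebraMap R S) = ⊥ := by
  obtain ⟨hp, m, hm⟩ := isAssociatedPrime_iff.mp hP
  refine eq_bot_iff.2 fun r hr => ?_
  rw [Ideal.mem_bot]
  by_contra hr0
  have h1 : algebraMap R S r * m = 0 := by
    have := hr
    rw [Ideal.mem_comap, hm, Submodule.mem_colon_singleton, Submodule.mem_bot] at this
    exact this
  have h2 : IsSMulRegular S r := Module.Flat.isSMulRegular_of_isRegular (IsRegular.of_ne_zero hr0)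
  have hm0 : m = 0 := h2 (show r • m = r • (0 : S) by rw [smul_zero, Algebra.smul_def]; exact h1)
  refine hp.ne_top ((Ideal.eq_top_iff_one _).2 ?_)
  rw [hm, hm0, Submodule.mem_colon_singleton, Submodule.mem_bot, smul_zero]

end

variable (R : Type u) [CommRing R] [IsDomain R] [IsNoetherianRing R] [IsLocalRing R]

/-- Elements algebraically independent in the residue field stay so modulo an associated prime. -/
theorem eq_zero_of_aeval_mem (S : Type u) [CommRing S] [IsNoetherianRing S] [IsLocalRing S]
    [Algebra R S] [IsLocalHom (algebraMap R S)] [Module.Flat R S] {n : ℕ} (T : Fin n → S)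
    (hT : ∀ g : MvPolynomial (Fin n) R, MvPolynomial.aeval T g ∈ maximalIdeal S →
      g ∈ (maximalIdeal R).map MvPolynomial.C)
    {P : Ideal S} (hP : P ∈ associatedPrimes S S) (g : MvPolynomial (Fin n) R)
    (hg : MvPolynomial.aeval T g ∈ P) : g = 0 := by
  let φ : MvPolynomial (Fin n) R →ₐ[R] S := MvPolynomial.aeval T
  have hmap : (maximalIdeal R).map MvPolynomial.C ≤ (maximalIdeal S).comap φ.toRingHom := by
    rw [Ideal.map_le_iff_le_comap]
    intro r hr
    show φ (MvPolynomial.C r) ∈ maximalIdeal S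
    rw [MvPolynomial.aeval_C]
    exact fun h => hr (IsUnit.of_map (algebraMap R S) r h)
  let q := (maximalIdeal S).comap φ.toRingHom
  have hq : (maximalIdeal R).map MvPolynomial.C = q := le_antisymm hmap hT
  let R' := Localization.AtPrime q
  have hu : ∀ y : q.primeCompl, IsUnit (φ.toRingHom y) := fun y => notMem_maximalIdeal.1 y.2
  let ψ : R' →+* S := IsLocalization.lift hu
  letI := ψ.toAlgebra
  haveI : IsScalarTower R R' S := IsScalarTower.of_algebraMap_eq fun r => by
    rw [IsScalarTower.algebraMap_apply R (MvPolynomial (Fin n) R) R']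
    exact ((IsLocalization.lift_eq hu _).trans (φ.commutes r)).symm
  haveI : IsLocalHom (algebraMap R' S) := ⟨fun a ha => by
    obtain ⟨⟨b, c⟩, hbc⟩ := IsLocalization.surj q.primeCompl a
    have h1 : ψ a * φ.toRingHom c = φ.toRingHom b := by
      have := congrArg ψ hbc
      rw [map_mul, IsLocalization.lift_eq hu, IsLocalization.lift_eq hu] at this
      exact this
    have hb : b ∉ q := notMem_maximalIdeal.2
      (show IsUnit (φ.toRingHom b) from h1 ▸ ha.mul (hu c))
    have h2 : IsUnit (a * algebraMap _ R' (c : MvPolynomial (Fin n) R)) :=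
      hbc ▸ IsLocalization.map_units (M := q.primeCompl) R' ⟨b, hb⟩
    exact isUnit_of_mul_isUnit_left h2⟩
  haveI : IsLocalHom (algebraMap R R') := ⟨fun r hr => by
    have : IsUnit (algebraMap R S r) := by
      rw [IsScalarTower.algebraMap_apply R R' S]; exact hr.map _
    exact IsUnit.of_map (algebraMap R S) r this⟩
  let J := (maximalIdeal R).map (algebraMap R R')
  haveI : J.IsMaximal := by
    have : J = maximalIdeal R' := by
      show (maximalIdeal R).map (algebraMap R R') = _
      rw [IsScalarTower.algebraMap_eq R (MvPolynomial (Fin n) R) R', ← Ideal.map_map,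
        MvPolynomial.algebraMap_eq, hq, Localization.AtPrime.map_eq_maximalIdeal]
    rw [this]; infer_instance
  letI := Ideal.Quotient.field J
  have hflat : Module.Flat (R' ⧸ J) (TensorProduct R' (R' ⧸ J) S) := Module.Flat.of_free
  haveI : IsNoetherianRing R' := IsLocalization.isNoetherianRing q.primeCompl R' inferInstance
  haveI : Module.Flat R' S :=
    (Groth.Agent.S0392.result (R := R) (S := R') (S' := S) (M := S) hflat).2
  by_contra hg0
  obtain ⟨hp, m, hm⟩ := isAssociatedPrime_iff.mp hP
  have hne : algebraMap (MvPolynomial (Fin n) R) R' g ≠ 0 := fun h =>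
    hg0 ((map_eq_zero_iff _ (IsLocalization.injective R' (Ideal.primeCompl_le_nonZeroDivisors q))).1 h)
  have hreg : IsSMulRegular S (algebraMap (MvPolynomial (Fin n) R) R' g) :=
    Module.Flat.isSMulRegular_of_isRegular (IsRegular.of_ne_zero hne)
  have h1 : algebraMap (MvPolynomial (Fin n) R) R' g • m = 0 := by
    rw [Algebra.smul_def]
    show ψ _ * m = 0
    rw [IsLocalization.lift_eq hu]
    rw [hm, Submodule.mem_colon_singleton, Submodule.mem_bot] at hg
    exact hg
  have hm0 : m = 0 := hreg (show algebraMap (MvPolynomial (Fin n) R) R' g • m =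
    algebraMap (MvPolynomial (Fin n) R) R' g • (0 : S) by rw [h1, smul_zero])
  refine hp.ne_top ((Ideal.eq_top_iff_one _).2 ?_)
  rw [hm, hm0, Submodule.mem_colon_singleton, Submodule.mem_bot, smul_zero]

theorem exists_chain : ∀ (d : ℕ) (S : Type u) [CommRing S] [IsNoetherianRing S] [IsLocalRing S]
    [Algebra R S] [IsLocalHom (algebraMap R S)] [Module.Flat R S],
    IsCohenMacaulayLocalRing (S ⧸ (maximalIdeal R).map (algebraMap R S)) →
    ringKrullDim (S ⧸ (maximalIdeal R).map (algebraMap R S)) = d →
    ∀ P : PrimeSpectrum S, P.asIdeal ∈ associatedPrimes S S →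
    ∃ l : LTSeries (PrimeSpectrum S), l.length = d ∧ l.head = P ∧
      (∀ i, (l i).asIdeal.comap (algebraMap R S) = ⊥) ∧
      ∀ (n : ℕ) (T : Fin n → S),
        (∀ g : MvPolynomial (Fin n) R, MvPolynomial.aeval T g ∈ maximalIdeal S →
          g ∈ (maximalIdeal R).map MvPolynomial.C) →
        ∀ g : MvPolynomial (Fin n) R, MvPolynomial.aeval T g ∈ l.last.asIdeal → g = 0 := by
  intro d
  induction d with
  | zero =>
    intro S _ _ _ _ _ _ _ _ P hP
    exact ⟨RelSeries.singleton _ P, rfl, rfl, fun _ => comap_eq_bot_of_associated hP,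
      fun n T hT g hg => eq_zero_of_aeval_mem R S T hT hP g hg⟩
  | succ d ih =>
    intro S _ _ _ _ _ _ hCM hdim P hP
    set J := (maximalIdeal R).map (algebraMap R S) with hJ
    have hJne : J ≠ ⊤ := by
      refine ne_top_of_le_ne_top (maximalIdeal.isMaximal S).ne_top ?_
      exact ((local_hom_TFAE (algebraMap R S)).out 0 2).mp ‹_›
    have : Nontrivial (S ⧸ J) := Ideal.Quotient.nontrivial_iff.2 hJne
    have : IsLocalRing (S ⧸ J) := IsLocalRing.of_surjective' _ Ideal.Quotient.mk_surjective
    haveI := hCM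
    have hdepth : depth (S ⧸ J) (S ⧸ J) ≠ 0 := fun h0 => by
      have := CM.ringKrullDim_eq_depth (R := S ⧸ J)
      rw [h0, hdim] at this
      exact Nat.succ_ne_zero d (by exact_mod_cast this)
    rw [ne_eq, Assoc.depth_eq_zero_iff] at hdepth
    obtain ⟨t₀, ht₀, hreg₀⟩ := (Assoc.exists_isSMulRegular_iff (maximalIdeal (S ⧸ J)) (S ⧸ J)).2
      fun p hp hle => hdepth (by
        rwa [(maximalIdeal.isMaximal _).eq_of_le (IsAssociatedPrime.isPrime hp).ne_top hle])
    obtain ⟨t, rfl⟩ := Ideal.Quotient.mk_surjective t₀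
    have ht : t ∈ maximalIdeal S := by
      by_contra h
      exact ht₀ ((notMem_maximalIdeal.1 h).map (Ideal.Quotient.mk J))
    obtain ⟨hreg, hflat⟩ := Groth.Agent.Lib.QDepth.regular_of_fibre (A := R) (B := S) (M := S) t
      fun m hm => by
        rw [smul_eq_mul, Ideal.mul_top] at hm ⊢
        rw [← Ideal.Quotient.eq_zero_iff_mem] at hm ⊢
        exact hreg₀ (show Ideal.Quotient.mk J t • Ideal.Quotient.mk J m = Ideal.Quotient.mk J t • 0 by
          rw [smul_zero, smul_eq_mul, ← map_mul]; exact hm)
    obtain ⟨q, hq, hPq, htq⟩ := Assoc.exists_associatedPrime_quotSMulTop S ht hreg hP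
    let I := Ideal.span {t}
    have hI : t • (⊤ : Submodule S S) = I := by
      rw [← Submodule.ideal_span_singleton_smul, smul_eq_mul, Ideal.mul_top]
    let e : QuotSMulTop t S ≃ₗ[S] S ⧸ I := Submodule.quotEquivOfEq _ _ hI
    rw [LinearEquiv.AssociatedPrimes.eq e] at hq
    obtain ⟨hq', hIq, hcomap⟩ := map_mem_associatedPrimes hq
    let S' := S ⧸ I
    have : Nontrivial S' := Ideal.Quotient.nontrivial_iff.2
      (ne_top_of_le_ne_top (IsAssociatedPrime.isPrime hq).ne_top hIq)
    have : IsLocalRing S' := IsLocalRing.of_surjective' _ Ideal.Quotient.mk_surjective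
    haveI : IsLocalHom (algebraMap R S') := by
      rw [IsScalarTower.algebraMap_eq R S S']
      have : IsLocalHom (algebraMap S S') :=
        IsLocalHom.of_surjective _ Ideal.Quotient.mk_surjective
      exact RingHom.isLocalHom_comp _ _
    haveI : Module.Flat R S' := Module.Flat.of_linearEquiv (e.restrictScalars R).symm
    let J' := (maximalIdeal R).map (algebraMap R S')
    have hJ' : J' = J.map (Ideal.Quotient.mk I) := by
      rw [hJ, Ideal.map_map]; rfl
    let ee : S' ⧸ J' ≃+* (S ⧸ J) ⧸ Ideal.span {Ideal.Quotient.mk J t} :=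
      (Ideal.quotEquivOfEq hJ').trans ((DoubleQuot.quotQuotEquivComm I J).trans
        (Ideal.quotEquivOfEq (by rw [Ideal.map_span, Set.image_singleton])))
    have : Nontrivial ((S ⧸ J) ⧸ Ideal.span {Ideal.Quotient.mk J t}) :=
      Ideal.Quotient.nontrivial_iff.2 (ne_top_of_le_ne_top (maximalIdeal.isMaximal (S ⧸ J)).ne_top
        (by rw [Ideal.span_le, Set.singleton_subset_iff]; exact ht₀))
    have : IsLocalRing ((S ⧸ J) ⧸ Ideal.span {Ideal.Quotient.mk J t}) :=
      IsLocalRing.of_surjective' _ Ideal.Quotient.mk_surjective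
    have hCM' : IsCohenMacaulayLocalRing (S' ⧸ J') := by
      haveI := (CM.isCohenMacaulayLocalRing_quotient_span_singleton_iff ht₀ hreg₀).2 hCM
      haveI : Nontrivial (S' ⧸ J') := ee.symm.injective.nontrivial
      haveI : IsLocalRing (S' ⧸ J') := IsLocalRing.of_surjective' _ Ideal.Quotient.mk_surjective
      exact Groth.Agent.Lib.Excellent.Transport.isCohenMacaulayLocalRing_of_ringEquiv ee.symm
    have hdim' : ringKrullDim (S' ⧸ J') = d := by
      have h1 := ringKrullDim_quotient_span_singleton_succ_eq_ringKrullDim hreg₀ ht₀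
      rw [hdim, ← ringKrullDim_eq_of_ringEquiv ee] at h1
      have hb : ringKrullDim (S' ⧸ J') ≠ ⊥ := fun h0 => by
        rw [h0, WithBot.bot_add] at h1; exact WithBot.natCast_ne_bot _ h1.symm
      obtain ⟨c, hc⟩ := WithBot.ne_bot_iff_exists.1 hb
      rw [← hc] at h1 ⊢
      have h2 : c + 1 = (d : ℕ∞) + 1 := by exact_mod_cast h1
      have h3 : c = (d : ℕ∞) := WithTop.add_right_cancel ENat.one_ne_top h2
      rw [h3]; rfl
    haveI : (q.map (Ideal.Quotient.mk I)).IsPrime := IsAssociatedPrime.isPrime hq'
    obtain ⟨l, hlen, hhead, hbot, hlast⟩ :=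
      ih S' hCM' hdim' ⟨q.map (Ideal.Quotient.mk I), inferInstance⟩ hq'
    let c := PrimeSpectrum.comap (Ideal.Quotient.mk I)
    have hmono : StrictMono c :=
      strictMono_of_le_iff_le fun a b =>
        (Ideal.comap_le_comap_iff_of_surjective _ Ideal.Quotient.mk_surjective a.asIdeal b.asIdeal).symm
    let l₁ := l.map c hmono
    have hlt : P < l₁.head := by
      have e1 : l₁.head.asIdeal = q := by
        rw [LTSeries.head_map, hhead]; exact hcomap
      refine lt_of_le_of_ne (show P.asIdeal ≤ _ from e1 ▸ hPq) fun he => ?_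
      have htP : t ∈ P.asIdeal := by rw [he, e1]; exact htq
      obtain ⟨hp, m, hm⟩ := isAssociatedPrime_iff.mp hP
      have htm : t • m = 0 := by
        rw [hm, Submodule.mem_colon_singleton, Submodule.mem_bot] at htP; exact htP
      have hm0 : m = 0 := hreg (show t • m = t • (0 : S) by rw [htm, smul_zero])
      refine hp.ne_top ((Ideal.eq_top_iff_one _).2 ?_)
      rw [hm, hm0, Submodule.mem_colon_singleton, Submodule.mem_bot, smul_zero]
    refine ⟨l₁.cons P hlt, by simp [l₁, hlen], RelSeries.head_cons _ _ _, fun i => ?_, fun n T hT g hg => ?_⟩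
    · refine Fin.cases ?_ (fun j => ?_) i
      · exact comap_eq_bot_of_associated hP
      · obtain ⟨k, rfl⟩ : ∃ k : Fin (l₁.length + 1),
            Fin.cast (RelSeries.cons_length l₁ P hlt).symm k = j := ⟨Fin.cast (RelSeries.cons_length l₁ P hlt) j, rfl⟩
        have := RelSeries.cons_cast_succ l₁ P hlt k
        erw [this]
        exact (Ideal.comap_comap _ _).trans (hbot k)
    · rw [RelSeries.last_cons, LTSeries.last_map] at hg
      have hae : ∀ g : MvPolynomial (Fin n) R, MvPolynomial.aeval (fun i => Ideal.Quotient.mk I (T i)) g =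
          Ideal.Quotient.mk I (MvPolynomial.aeval T g) := fun g =>
        (DFunLike.congr_fun (MvPolynomial.comp_aeval T (Ideal.Quotient.mkₐ R I)) g).symm
      refine hlast n (fun i => Ideal.Quotient.mk I (T i)) (fun g' hg' => hT g' ?_) g ?_
      · rw [hae] at hg'
        have : IsLocalHom (Ideal.Quotient.mk I) := IsLocalHom.of_surjective _ Ideal.Quotient.mk_surjective
        rw [← IsLocalRing.maximalIdeal_comap (Ideal.Quotient.mk I)]
        exact hg'
      · rw [hae]; exact hg

end Groth.Agent.H46.CMChain
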