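import Groth.Agent.H46.Equidim
import Groth.Agent.H46.DimIneq
import Groth.Agent.H46.DimFormula
import Groth.Prelude.Def_EGA4b

/-!
# Dimensions of local rings, of their quotients at generizations, and of local rings of fibres
-/

universe u

open CategoryTheory AlgebraicGeometry Topology IsLocalRing
open Groth.Agent.Lib.Cyc Groth.Agent.H46.FibreTrdeg

namespace Groth.Agent.H46.DimData

variable {X Y : Scheme.{u}}

theorem eq_natCast_toNat {a : WithBot ℕ∞} (h₁ : a ≠ ⊥) (h₂ : a ≠ ⊤) :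
    a = (((a.unbotD 0).toNat : ℕ) : WithBot ℕ∞) := by
  cases a with
  | bot => exact absurd rfl h₁
  | coe c =>
    induction c using ENat.recTopCoe with
    | top => exact absurd rfl h₂
    | coe k => rfl

/-- `dim O_{Z,z}` as a natural number. -/
noncomputable def sd {Z : Scheme.{u}} (z : Z) : ℕ :=
  ((ringKrullDim (Z.presheaf.stalk z)).unbotD 0).toNat

/-- `dim O_{cl w, z}` as a natural number. -/
noncomputable def qd {Z : Scheme.{u}} {z w : Z} (h : w ⤳ z) : ℕ :=
  ((ringKrullDim (Cyc.LocQuot z w h)).unbotD 0).toNat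

/-- `dim O_{F,x}` for the fibre `F` through `x`, as a natural number. -/
noncomputable def fd (f : X ⟶ Y) (x : X) : ℕ :=
  ((ringKrullDim ((f.fiber (f x)).presheaf.stalk (f.asFiber x))).unbotD 0).toNat

/-- `dim_x` of the fibre through `x`, as a natural number. -/
noncomputable def fe (f : X ⟶ Y) (x : X) : ℕ :=
  ((FlatMor.fibreDimAt f x).unbotD 0).toNat

section noeth

variable {Z : Scheme.{u}} [IsLocallyNoetherian Z]

theorem ringKrullDim_stalk (z : Z) : ringKrullDim (Z.presheaf.stalk z) = (sd z : WithBot ℕ∞) :=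
  eq_natCast_toNat ringKrullDim_ne_bot ringKrullDim_ne_top

theorem ringKrullDim_locQuot {z w : Z} (h : w ⤳ z) :
    ringKrullDim (Cyc.LocQuot z w h) = (qd h : WithBot ℕ∞) :=
  eq_natCast_toNat ringKrullDim_ne_bot ringKrullDim_ne_top

theorem qd_le_sd {z w : Z} (h : w ⤳ z) : qd h ≤ sd z := by
  have := ringKrullDim_quotient_le (RingHom.ker (Cyc.specMap z w h))
  rw [ringKrullDim_stalk] at this
  erw [ringKrullDim_locQuot h] at this
  exact_mod_cast this

theorem qd_lt {z w w' : Z} (h : w ⤳ z) (h' : w' ⤳ z) (hww' : w' ⤳ w) (hne : w' ≠ w) :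
    qd h < qd h' := by
  have hlt : RingHom.ker (Cyc.specMap z w' h') < RingHom.ker (Cyc.specMap z w h) :=
    (lt_of_le_of_ne ((DimFun.genPrime_le_iff z w' w h' h).2 hww') fun e => hne (by
      have := congrArg (Z.fromSpecStalk z) e
      rwa [DimFun.fromSpecStalk_genPrime, DimFun.fromSpecStalk_genPrime] at this) :
      DimFun.genPrime z w' h' < DimFun.genPrime z w h)
  have : (RingHom.ker (Cyc.specMap z w' h')).IsPrime := RingHom.ker_isPrime _
  have : (RingHom.ker (Cyc.specMap z w h)).IsPrime := RingHom.ker_isPrime _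
  have h1 := OpenDim.ringKrullDim_quotient_succ_le hlt
  erw [ringKrullDim_locQuot h, ringKrullDim_locQuot h'] at h1
  have : qd h + 1 ≤ qd h' := by exact_mod_cast h1
  omega

theorem isMaxPt_of_sd_le {z w : Z} (h : w ⤳ z) (hle : sd z ≤ qd h) : DimFun.IsMaxPt w := by
  intro w' hw'
  by_contra hne
  have := qd_lt h (hw'.trans h) hw' hne
  have := qd_le_sd (hw'.trans h)
  omega

theorem minimalPrimes_iff {z : Z} (P : PrimeSpectrum (Z.presheaf.stalk z)) :
    P.asIdeal ∈ minimalPrimes (Z.presheaf.stalk z) ↔ DimFun.IsMaxPt (Z.fromSpecStalk z P) := by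
  constructor
  · intro hP y hy
    have hyz := hy.trans (DimFun.fromSpecStalk_specializes_self z P)
    have h1 : DimFun.genPrime z y hyz ≤ P := by
      rw [← DimFun.fromSpecStalk_specializes_iff, DimFun.fromSpecStalk_genPrime]; exact hy
    have h2 : P ≤ DimFun.genPrime z y hyz :=
      hP.2 ⟨(DimFun.genPrime z y hyz).isPrime, bot_le⟩ h1
    rw [le_antisymm h2 h1, DimFun.fromSpecStalk_genPrime]
  · intro hP
    refine ⟨⟨P.2, bot_le⟩, fun q hq hle => ?_⟩
    have h1 : (⟨q, hq.1⟩ : PrimeSpectrum _) ≤ P := hle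
    have := DimFun.fromSpecStalk_injective z
      (hP _ ((DimFun.fromSpecStalk_specializes_iff z _ _).2 h1))
    exact (congrArg PrimeSpectrum.asIdeal this).ge

theorem exists_qd_eq (z : Z) : ∃ (w : Z) (h : w ⤳ z), DimFun.IsMaxPt w ∧ qd h = sd z := by
  obtain ⟨P, hP, hdim⟩ := OpenDim.exists_minimalPrime_dim_eq (⊥ : Ideal (Z.presheaf.stalk z)) bot_le
  have := hP.1.1
  let P' : PrimeSpectrum (Z.presheaf.stalk z) := ⟨P, hP.1.1⟩
  refine ⟨Z.fromSpecStalk z P', DimFun.fromSpecStalk_specializes_self z P',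
    (minimalPrimes_iff P').1 hP, le_antisymm (qd_le_sd _) ?_⟩
  rw [ringKrullDim_eq_of_ringEquiv (RingEquiv.quotientBot _), ringKrullDim_stalk,
    ringKrullDim_eq_of_ringEquiv (Ideal.quotEquivOfEq (OpenDim.ker_specMap_eq z P').symm)] at hdim
  erw [ringKrullDim_locQuot] at hdim
  exact_mod_cast hdim

theorem isEquidim_iff (z : Z) :
    EGA4.IsEquidim (Z.presheaf.stalk z) ↔
      ∀ (w : Z) (h : w ⤳ z), DimFun.IsMaxPt w → qd h = sd z := by
  constructor
  · intro H w h hw
    have h1 : (DimFun.genPrime z w h).asIdeal ∈ minimalPrimes (Z.presheaf.stalk z) := by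
      rw [minimalPrimes_iff, DimFun.fromSpecStalk_genPrime]; exact hw
    have h2 := H _ h1
    rw [ringKrullDim_stalk] at h2
    erw [ringKrullDim_locQuot h] at h2
    exact_mod_cast h2
  · intro H p hp
    let P' : PrimeSpectrum (Z.presheaf.stalk z) := ⟨p, hp.1.1⟩
    have h1 := H _ (DimFun.fromSpecStalk_specializes_self z P') ((minimalPrimes_iff P').1 hp)
    rw [ringKrullDim_stalk,
      ringKrullDim_eq_of_ringEquiv (Ideal.quotEquivOfEq (OpenDim.ker_specMap_eq z P').symm)]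
    erw [ringKrullDim_locQuot]
    rw [h1]

theorem qd_of_isMaxPt [IrreducibleSpace Z] {z w : Z} (h : w ⤳ z) (hw : DimFun.IsMaxPt w) :
    qd h = sd z := by
  obtain ⟨w', h', hw', he⟩ := exists_qd_eq z
  obtain rfl : genericPoint Z = w := hw _ (genericPoint_specializes w)
  obtain rfl : genericPoint Z = w' := hw' _ (genericPoint_specializes w')
  exact he

end noeth

variable (f : X ⟶ Y) [LocallyOfFiniteType f]

theorem fibreDimAt_eq (x : X) : FlatMor.fibreDimAt f x = (fe f x : WithBot ℕ∞) := by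
  obtain ⟨e, he⟩ := Groth.Agent.Lib.FibreDim.Chart.exists_fibreDimAt_eq f x
  rw [fe, he]
  rfl

theorem trd_le_fe {ξ x : X} (h : ξ ⤳ x) : trd f ξ ≤ fe f x := by
  have := (trd_le_fibreDimAt f ξ).trans (fibreDimAt_le_of_specializes f h)
  rw [fibreDimAt_eq] at this
  exact_mod_cast this

theorem exists_fe_eq (x : X) : ∃ ζ, f ζ = f x ∧ ζ ⤳ x ∧ IsMaxFib f ζ ∧ trd f ζ = fe f x := by
  obtain ⟨ζ, h1, h2, h3, h4⟩ := exists_isMaxFib_trd_eq f x
  rw [fibreDimAt_eq, Nat.cast_inj] at h4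
  exact ⟨ζ, h1, h2, h3, h4.symm⟩

theorem fe_of_isMaxFib {x : X} (h : IsMaxFib f x) : fe f x = trd f x := by
  have := fibreDimAt_of_isMaxFib f h
  rw [fibreDimAt_eq, Nat.cast_inj] at this
  exact this

theorem ringKrullDim_fiber (x : X) :
    ringKrullDim ((f.fiber (f x)).presheaf.stalk (f.asFiber x)) = (fd f x : WithBot ℕ∞) := by
  haveI := QFin.isLocallyNoetherian_fiber f (f x)
  exact eq_natCast_toNat ringKrullDim_ne_bot ringKrullDim_ne_top

/-- `dim O_{F,x} + trdeg κ(x) = dim_x F`. -/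
theorem fd_add_trd (x : X) : fd f x + trd f x = fe f x := by
  haveI := QFin.isLocallyNoetherian_fiber f (f x)
  have hδ := FieldDim.isDimFun_fdelta (K := Y.residueField (f x)) (f.fiberToSpecResidueField (f x))
  apply le_antisymm
  · obtain ⟨w, hw, -, he⟩ := exists_qd_eq (Z := f.fiber (f x)) (f.asFiber x)
    have h1 := DimFun.ringKrullDim_locQuot hδ (f.asFiber x) w hw
    rw [ringKrullDim_locQuot hw, he, fdelta_fiber, fdelta_fiber, f.fiberι_asFiber,
      Nat.cast_inj] at h1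
    have hs : f.fiberι (f x) w ⤳ x := by
      have := (FieldDim.fiber_specializes_iff f _ w _).1 hw
      rwa [f.fiberι_asFiber] at this
    have h2 := trd_le f hs (FieldDim.apply_fiberι f _ w)
    have h3 := trd_le_fe f hs
    have h4 : fd f x = sd (f.asFiber x) := rfl
    omega
  · obtain ⟨ζ, hζ, hs, -, he⟩ := exists_fe_eq f x
    have := Equidim.trd_le_ringKrullDim_add f x ζ hζ hs
    rw [ringKrullDim_fiber, he] at this
    exact_mod_cast this

theorem fd_eq_zero_iff (x : X) : fd f x = 0 ↔ IsMaxFib f x := by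
  have := fd_add_trd f x
  refine ⟨fun h => isMaxFib_of_fibreDimAt_le f (le_of_eq ?_), fun h => ?_⟩
  · rw [fibreDimAt_eq, ← this, h, zero_add]
  · have := fe_of_isMaxFib f h
    omega

theorem exists_specializes_trd_le {ξ x : X} (h : ξ ⤳ x) :
    ∃ z, ξ ⤳ z ∧ f z = f x ∧ z ⤳ x ∧ trd f ξ ≤ trd f z := by
  let i := (Scheme.IdealSheafData.vanishingIdeal
    (⟨closure {ξ}, isClosed_closure⟩ : TopologicalSpace.Closeds X)).subschemeι
  have hr : Set.range i = closure {ξ} := by
    rw [Scheme.IdealSheafData.range_subschemeι, Scheme.IdealSheafData.coe_support_vanishingIdeal]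
    rfl
  obtain ⟨w, rfl⟩ : x ∈ Set.range i := by rw [hr]; exact h.mem_closure
  obtain ⟨w₀, hw₀⟩ : ξ ∈ Set.range i := by rw [hr]; exact subset_closure rfl
  have hgen : w₀ ⤳ w := by rwa [← i.isEmbedding.isInducing.specializes_iff, hw₀]
  obtain ⟨z, hz, hzw, -, he⟩ := exists_fe_eq (i ≫ f) w
  refine ⟨i z, ?_, hz, hzw.map i.continuous, ?_⟩
  · exact specializes_iff_mem_closure.2 ((Set.ext_iff.1 hr _).1 ⟨z, rfl⟩)
  · have := trd_le_fe (i ≫ f) hgen
    rw [← he, trd_comp, trd_comp, hw₀] at this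
    exact this

variable [IsLocallyNoetherian Y]

theorem sd_le_add (x : X) : sd x ≤ sd (f x) + fd f x := by
  haveI := LocallyOfFiniteType.isLocallyNoetherian f
  have := DimFormula.le_add_fibre f x
  rw [ringKrullDim_stalk, ringKrullDim_stalk, ringKrullDim_fiber] at this
  exact_mod_cast this

/-- The dimension formula statement in natural numbers. -/
theorem formula_iff (x : X) :
    ringKrullDim (X.presheaf.stalk x) = ringKrullDim (Y.presheaf.stalk (f x)) +
        ringKrullDim ((f.fiber (f x)).presheaf.stalk (f.asFiber x)) ↔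
      sd x = sd (f x) + fd f x := by
  haveI := LocallyOfFiniteType.isLocallyNoetherian f
  rw [ringKrullDim_stalk, ringKrullDim_stalk, ringKrullDim_fiber, ← Nat.cast_add, Nat.cast_inj]

theorem qd_ineq {ξ x : X} (h : ξ ⤳ x) :
    qd h + trd f x ≤ qd (h.map f.continuous) + trd f ξ := by
  haveI := LocallyOfFiniteType.isLocallyNoetherian f
  obtain ⟨m, n, a, b, hm, hn, ha, hb, hle⟩ := DimIneq.trdeg_ineq f ξ x h
  rw [trdegAt_eq f, Nat.cast_inj] at ha hb
  rw [ringKrullDim_locQuot, Nat.cast_inj] at hm hn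
  omega

theorem qd_eq {ξ x : X} (h : ξ ⤳ x)
    (hcat : CAlg.IsUniversallyCatenary (Y.presheaf.stalk (f x))) :
    qd h + trd f x = qd (h.map f.continuous) + trd f ξ := by
  haveI := LocallyOfFiniteType.isLocallyNoetherian f
  obtain ⟨m, n, a, b, hm, hn, ha, hb, hle⟩ := DimIneq.trdeg_eq f ξ x h hcat
  rw [trdegAt_eq f, Nat.cast_inj] at ha hb
  rw [ringKrullDim_locQuot, Nat.cast_inj] at hm hn
  omega

/-- At a maximal point of the fibre with `dim O_z = dim O_y` a component dominates a component of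
maximal dimension with generic fibre of the same dimension. -/
theorem exists_component_of_sd_eq {z : X} (hmax : IsMaxFib f z) (he : sd z = sd (f z)) :
    ∃ (ξ : X) (h : ξ ⤳ z), DimFun.IsMaxPt ξ ∧ DimFun.IsMaxPt (f ξ) ∧
      qd (h.map f.continuous) = sd (f z) ∧ trd f ξ = trd f z := by
  haveI := LocallyOfFiniteType.isLocallyNoetherian f
  obtain ⟨ξ, h, hξ, hq⟩ := exists_qd_eq z
  have h1 := qd_ineq f h
  have h2 := trd_le_of_specializes f h hmax
  have h3 := qd_le_sd (h.map f.continuous)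
  refine ⟨ξ, h, hξ, isMaxPt_of_sd_le (h.map f.continuous) (by omega), by omega, by omega⟩

/-- A universally catenary base and a good generization `ζ` in the fibre give the dimension
formula. -/
theorem formula_of_good {x ζ : X} (hs : ζ ⤳ x) (hf : f ζ = f x) (hmax : IsMaxFib f ζ)
    (he : trd f ζ = fe f x) (hd : sd ζ = sd (f ζ))
    (hcat : CAlg.IsUniversallyCatenary (Y.presheaf.stalk (f x))) : sd x = sd (f x) + fd f x := by
  haveI := LocallyOfFiniteType.isLocallyNoetherian f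
  obtain ⟨ξ, h, hξ, -, h7, htrd⟩ := exists_component_of_sd_eq f hmax hd
  refine le_antisymm (sd_le_add f x) ?_
  have h0 := fd_add_trd f x
  have h1 := qd_eq f (h.trans hs) hcat
  have h2 := qd_le_sd (h.trans hs)
  have h3 := qd_eq f h (hf ▸ hcat)
  have h4 := qd_le_sd h
  have key : ∀ (y : Y) (hy : f ξ ⤳ y), y = f x → qd hy = qd ((h.trans hs).map f.continuous) := by
    rintro y hy rfl; rfl
  have h5 := key _ (h.map f.continuous) hf
  have h6 : sd (f ζ) = sd (f x) := by rw [hf]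
  omega

theorem isEquidimAt_of_components (x : X)
    (H : ∀ ξ : X, DimFun.IsMaxPt ξ → ξ ⤳ x → DimFun.IsMaxPt (f ξ) ∧ trd f ξ = fe f x) :
    EGA43.IsEquidimAt f x := by
  haveI := LocallyOfFiniteType.isLocallyNoetherian f
  obtain ⟨V, hV, hxV, hfin⟩ := DimFun.exists_open_finite_maxPts (X := X) isClosed_univ x
  let B : Set X := ⋃ η ∈ {η | η ∈ V ∧ DimFun.IsMaxPt η ∧ ¬ η ⤳ x}, closure {η}
  have hB : IsClosed B := Set.Finite.isClosed_biUnion
    (hfin.subset fun η hη => ⟨hη.1, trivial, fun y _ => hη.2.1 y⟩) fun η _ => isClosed_closure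
  let O : X.Opens :=
    ⟨_, Groth.Agent.Lib.FibreDim.Semicont.isOpen_setOf_fibreDimAt_le f (fe f x : WithBot ℕ∞)⟩
  let U : X.Opens := ⟨(O : Set X) ∩ (V ∩ Bᶜ), O.2.inter (hV.inter hB.isOpen_compl)⟩
  have hUx : ∀ u ∈ U, ∀ ξ, ξ ⤳ u → DimFun.IsMaxPt ξ → ξ ⤳ x := by
    intro u hu ξ hξu hξ
    by_contra hc
    exact hu.2.2 (Set.mem_biUnion (⟨hξu.mem_open hV hu.2.1, hξ, hc⟩ :
      ξ ∈ {η | η ∈ V ∧ DimFun.IsMaxPt η ∧ ¬ η ⤳ x}) hξu.mem_closure)
  refine Equidim.isEquidimAt_of f x (fe f x) U ⟨(fibreDimAt_eq f x).le, hxV, ?_⟩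
    (fun ξ hξU hξ => ?_) fun u hu hu' => ?_
  · simp only [B, Set.mem_compl_iff, Set.mem_iUnion, not_exists]
    exact fun η hη hc => hη.2.2 (specializes_iff_mem_closure.mpr hc)
  · have hs := hUx ξ hξU ξ specializes_rfl hξ
    exact ⟨(H ξ hξ hs).1, hs.map f.continuous⟩
  · obtain ⟨ξ, hξu, hξ⟩ := DimFun.exists_isMaxPt_specializes u
    refine le_antisymm ?_
      ((H ξ hξ (hUx u hu ξ hξu hξ)).2.ge.trans (trd_le_of_specializes f hξu hu'))
    have := (trd_le_fibreDimAt f u).trans hu.1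
    exact_mod_cast this

theorem components_of_isEquidimAt {x : X} (h : EGA43.IsEquidimAt f x) :
    ∀ ξ : X, DimFun.IsMaxPt ξ → ξ ⤳ x → DimFun.IsMaxPt (f ξ) ∧ trd f ξ = fe f x := by
  intro ξ hξ hs
  obtain ⟨e, U, hx, hdom, hdim⟩ := Equidim.exists_of_isEquidimAt f h
  have hξU := hs.mem_open U.2 hx
  have := Equidim.fibreDimAt_eq_of_data f hdim hx
  rw [fibreDimAt_eq, Nat.cast_inj] at this
  exact ⟨(hdom ξ hξU hξ).1, by rw [this]; exact hdim ξ hξU (Equidim.isMaxFib_of_isMaxPt f hξ)⟩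

end Groth.Agent.H46.DimData
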