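import Groth.Agent.H46.UnibranchTFAE

/-!
# Equidimensional morphisms over unibranch points
-/

universe u

open CategoryTheory AlgebraicGeometry Limits Topology
open Groth.Agent.H46.FibreTrdeg Groth.Agent.Lib.Cyc Groth.Agent.H46.DimData

namespace Groth.Agent.H46.UnibranchEquidim

variable {X Y : Scheme.{u}} [IsLocallyNoetherian Y] (f : X ⟶ Y) [LocallyOfFiniteType f]

theorem maxFib_iff (x : X) (P : X → Prop) :
    (∀ z : ↥(f.fiber (f.base x)), f.asFiber x ∈ closure {z} →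
        (∀ z' : ↥(f.fiber (f.base x)), z ∈ closure {z'} → z' = z) →
        P ((f.fiberι (f.base x)).base z)) ↔
      ∀ ζ, f ζ = f x → ζ ⤳ x → IsMaxFib f ζ → P ζ := by
  constructor
  · intro h ζ hζ hζx hmax
    obtain ⟨z, hz⟩ := FieldDim.exists_fiberι_eq f ζ (f x) hζ
    rw [← hz]
    refine h z (specializes_iff_mem_closure.1 ?_) fun z' hz' => ?_
    · rw [FieldDim.fiber_specializes_iff, f.fiberι_asFiber, hz]; exact hζx
    · exact (FieldDim.isMaxFib_iff f (f x) z).1 (hz.symm ▸ hmax) z'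
        (specializes_iff_mem_closure.2 hz')
  · intro h z hz hmax
    refine h _ (FieldDim.apply_fiberι f (f x) z) ?_ ((FieldDim.isMaxFib_iff f (f x) z).2
      fun z' hz' => hmax z' (specializes_iff_mem_closure.1 hz'))
    exact ((FieldDim.fiber_specializes_iff f _ z _).1 (specializes_iff_mem_closure.2 hz)).trans
      (specializes_of_eq (f.fiberι_asFiber x))

theorem isUnivOpenAt_maxFib {x ξ ζ : X} (hζ : f ζ = f x) (hζx : ζ ⤳ x)
    (hmax : IsMaxFib f ζ) (hy : CAlg2.IsGeomUnibranch (Y.presheaf.stalk (f x)))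
    (hξ : ξ ⤳ ζ) (hfξ : DimFun.IsMaxPt (f ξ)) (he : fe f x ≤ trd f ξ) :
    EGA43.IsUnivOpenAt f ζ := by
  refine UnibranchCrit.isUnivOpenAt_of_component f hξ hfξ (by rw [hζ]; exact hy) ?_
  rw [fibreDimAt_of_isMaxFib f hmax, Nat.cast_le]
  exact (trd_le_fe f hζx).trans he

/-- The dimension of a component of maximal generic fibre dimension. -/
theorem qd_add_trd {x ξ : X} (hy : CAlg2.IsGeomUnibranch (Y.presheaf.stalk (f x)))
    (h : ξ ⤳ x) (hfξ : DimFun.IsMaxPt (f ξ)) (he : fe f x ≤ trd f ξ) :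
    qd h + trd f x = sd (f x) + fe f x := by
  haveI := LocallyOfFiniteType.isLocallyNoetherian f
  let W : TopologicalSpace.Closeds X := ⟨closure {ξ}, isClosed_closure⟩
  let i := (Scheme.IdealSheafData.vanishingIdeal W).subschemeι
  have hr : Set.range i = closure {ξ} := by
    rw [Scheme.IdealSheafData.range_subschemeι, Scheme.IdealSheafData.coe_support_vanishingIdeal]
    rfl
  obtain ⟨w, rfl⟩ : x ∈ Set.range i := by rw [hr]; exact h.mem_closure
  obtain ⟨w₀, hw₀⟩ : ξ ∈ Set.range i := by rw [hr]; exact subset_closure rfl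
  have hfw₀ : DimFun.IsMaxPt ((i ≫ f) w₀) := by rw [Scheme.Hom.comp_apply, hw₀]; exact hfξ
  have htw₀ : trd (i ≫ f) w₀ = trd f ξ := by rw [trd_comp, hw₀]
  haveI : LocallyOfFiniteType (i ≫ f) := inferInstance
  haveI := LocallyOfFiniteType.isLocallyNoetherian (i ≫ f)
  have hgen : ∀ a, w₀ ⤳ a := fun a => i.isEmbedding.isInducing.specializes_iff.1
    ((specializes_of_eq hw₀).trans (specializes_iff_mem_closure.2 ((Set.ext_iff.1 hr _).1 ⟨a, rfl⟩)))
  have hsd : sd w = qd h := SubStalk.sd_eq_qd i hr h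
  have hfe : fe (i ≫ f) w = fe f (i w) := by
    refine le_antisymm ?_ ?_
    · obtain ⟨z, hz, hzw, -, hze⟩ := exists_fe_eq (i ≫ f) w
      rw [← hze, trd_comp]
      exact trd_le_fe f (hzw.map i.continuous)
    · refine he.trans ?_
      rw [← htw₀]
      exact trd_le_fe (i ≫ f) (hgen w)
  have hopen : ∀ z : ↥((i ≫ f).fiber ((i ≫ f).base w)), (i ≫ f).asFiber w ∈ closure {z} →
      (∀ z' : ↥((i ≫ f).fiber ((i ≫ f).base w)), z ∈ closure {z'} → z' = z) →
      EGA43.IsOpenAt (i ≫ f).base (((i ≫ f).fiberι ((i ≫ f).base w)).base z) := by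
    refine (maxFib_iff (i ≫ f) w fun a => EGA43.IsOpenAt (i ≫ f).base a).2 fun ζ hζ hζw hmax => ?_
    refine UnibranchTFAE.isOpenAt_of_isUnivOpenAt
      (isUnivOpenAt_maxFib (i ≫ f) hζ hζw hmax hy (hgen ζ) hfw₀ ?_)
    rw [hfe, htw₀]; exact he
  have hform := (formula_iff (i ≫ f) w).1 (DimFormula.eq_add_fibre_of_isOpenAt (i ≫ f) w hopen)
  have h2 := fd_add_trd (i ≫ f) w
  rw [trd_comp, hfe] at h2
  rw [hsd] at hform
  rw [show sd (f (i w)) = sd ((i ≫ f) w) from rfl]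
  omega

theorem isEquidim_stalk {x : X} (hy : CAlg2.IsGeomUnibranch (Y.presheaf.stalk (f x)))
    (H : ∀ ξ : X, DimFun.IsMaxPt ξ → ξ ⤳ x → DimFun.IsMaxPt (f ξ) ∧ trd f ξ = fe f x) :
    EGA4.IsEquidim (X.presheaf.stalk x) := by
  haveI := LocallyOfFiniteType.isLocallyNoetherian f
  rw [isEquidim_iff]
  intro w h hw
  obtain ⟨hfw, hte⟩ := H w hw h
  have h1 := qd_add_trd f hy h hfw hte.ge
  have h2 := qd_le_sd h
  have h3 := sd_le_add f x
  have h4 := fd_add_trd f x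
  omega

theorem components_of_open {x : X} (hy : CAlg2.IsGeomUnibranch (Y.presheaf.stalk (f x)))
    (heq : EGA4.IsEquidim (X.presheaf.stalk x))
    (hopen : ∀ ζ, f ζ = f x → ζ ⤳ x → IsMaxFib f ζ → EGA43.IsOpenAt f.base ζ) :
    ∀ ξ : X, DimFun.IsMaxPt ξ → ξ ⤳ x → DimFun.IsMaxPt (f ξ) ∧ trd f ξ = fe f x := by
  haveI := LocallyOfFiniteType.isLocallyNoetherian f
  obtain ⟨η, hηy, hη⟩ := DimFun.exists_isMaxPt_specializes (f x)
  obtain ⟨ξ₀, hξ₀, hξ₀x, hfξ₀, hle⟩ :=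
    UnibranchTFAE.exists_component_of_isUnivOpen f hopen hη hηy
  obtain ⟨ζ, hζ, hζx, -, hζe⟩ := exists_fe_eq f x
  have he₀ : fe f x ≤ trd f ξ₀ := hζe ▸ hle ζ hζ hζx
  have h1 := qd_add_trd f hy hξ₀x (hfξ₀ ▸ hη) he₀
  have h2 := (isEquidim_iff x).1 heq ξ₀ hξ₀x hξ₀
  intro ξ hξ hξx
  have h3 := (isEquidim_iff x).1 heq ξ hξx hξ
  have h4 := qd_ineq f hξx
  have h5 := trd_le_fe f hξx
  have h6 := qd_le_sd (hξx.map f.continuous)
  exact ⟨isMaxPt_of_sd_le (hξx.map f.continuous) (by omega), by omega⟩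

end Groth.Agent.H46.UnibranchEquidim
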