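import Groth.Agent.H20.RegularFlat
import Groth.Agent.S2082
import Groth.Agent.Lib.Excellent.Transport
import Groth.Agent.H46.DimData
import Groth.Agent.H46.UnibranchEquidim
import Groth.Agent.H19.FlatLocus.Scheme
import Mathlib.AlgebraicGeometry.Morphisms.UniversallyOpen

/-!
# Cohen–Macaulay points over regular points
-/

universe u

open CategoryTheory AlgebraicGeometry Topology IsLocalRing RingTheory.Sequence Pointwise LocCoh
open Groth.Agent.Lib.Depth Groth.Agent.Lib.Cyc

namespace Groth.Agent.H46.CMFlat

theorem isCohenMacaulayModule_quotient {R : Type u} [CommRing R] [IsNoetherianRing R]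
    [IsLocalRing R] (rs : List R) : ∀ (M : Type u) [AddCommGroup M] [Module R M] [Module.Finite R M],
    IsWeaklyRegular M rs → (∀ r ∈ rs, r ∈ maximalIdeal R) → IsCohenMacaulayModule R M →
      IsCohenMacaulayModule R (M ⧸ Ideal.ofList rs • (⊤ : Submodule R M)) := by
  induction rs with
  | nil =>
    intro M _ _ _ _ _ h
    exact (CM.isCohenMacaulayModule_congr (Submodule.quotEquivOfEqBot _
      (by rw [Ideal.ofList_nil, Submodule.bot_smul]))).2 h
  | cons x rs ih =>
    intro M _ _ _ hreg hmem h
    rw [isWeaklyRegular_cons_iff] at hreg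
    refine (CM.isCohenMacaulayModule_congr
      (Submodule.quotOfListConsSMulTopEquivQuotSMulTopInner M x rs)).2 ?_
    exact ih _ hreg.2 (fun r hr => hmem r (List.mem_cons_of_mem _ hr))
      ((CM.isCohenMacaulayModule_quotSMulTop_iff (hmem x List.mem_cons_self) hreg.1).2 h)

/-- The closed fibre of a map from a regular to a Cohen–Macaulay local ring with the dimension
formula is Cohen–Macaulay. -/
theorem isCohenMacaulayLocalRing_fibre {R S : Type u} [CommRing R] [CommRing S]
    [IsRegularLocalRing R] [IsCohenMacaulayLocalRing S] [Algebra R S]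
    [IsLocalHom (algebraMap R S)]
    (hdim : ringKrullDim S = ringKrullDim R +
      ringKrullDim (S ⧸ (maximalIdeal R).map (algebraMap R S))) :
    IsCohenMacaulayLocalRing (S ⧸ (maximalIdeal R).map (algebraMap R S)) := by
  classical
  have hfg : (maximalIdeal R).FG := IsNoetherian.noetherian _
  let rs := (Submodule.FG.finite_generators hfg).toFinset.toList
  have hrs : Ideal.ofList rs = maximalIdeal R := by
    simp [rs, Ideal.ofList, Ideal.span, Submodule.span_generators]
  have hlen : rs.length = (maximalIdeal R).spanFinrank := by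
    rw [Finset.length_toList, ← Set.ncard_eq_toFinset_card _ (Submodule.FG.finite_generators hfg),
      Submodule.FG.generators_ncard hfg]
  let ss := rs.map (algebraMap R S)
  have hJ : (maximalIdeal R).map (algebraMap R S) = Ideal.ofList ss := by
    rw [← hrs, Ideal.map_ofList]
  have hmem : ∀ r ∈ ss, r ∈ maximalIdeal S := fun r hr =>
    map_maximalIdeal_le (algebraMap R S) (hJ ▸ Ideal.subset_span hr)
  have hreg := H20.CMRegular.isRegular_of_ringKrullDim_le ss hmem (by
    rw [← hJ, List.length_map, hlen, hdim, add_comm (ringKrullDim R),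
      ← IsRegularLocalRing.spanFinrank_maximalIdeal (R := R)])
  have h := isCohenMacaulayModule_quotient ss S hreg.toIsWeaklyRegular hmem
    CM.isCohenMacaulayModule_self
  have hle : (maximalIdeal R).map (algebraMap R S) ≤ maximalIdeal S := map_maximalIdeal_le _
  haveI : Nontrivial (S ⧸ (maximalIdeal R).map (algebraMap R S)) :=
    Ideal.Quotient.nontrivial_iff.2 fun e => (maximalIdeal.isMaximal S).ne_top (top_le_iff.1 (e ▸ hle))
  haveI : IsLocalRing (S ⧸ (maximalIdeal R).map (algebraMap R S)) :=
    .of_surjective' (Ideal.Quotient.mk _) Ideal.Quotient.mk_surjective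
  refine (CM.isCohenMacaulayLocalRing_quotient_iff_module _).2 ?_
  exact (CM.isCohenMacaulayModule_congr (Submodule.quotEquivOfEq _
    ((maximalIdeal R).map (algebraMap R S)) (by rw [hJ]; simp))).1 h

variable {X Y : Scheme.{u}} [IsLocallyNoetherian Y] (f : X ⟶ Y) [LocallyOfFiniteType f]

theorem exists_universallyOpen_nhd {x : X} (h : (f.stalkMap x).hom.Flat) :
    ∃ U : X.Opens, x ∈ U ∧ UniversallyOpen (U.ι ≫ f) := by
  haveI : LocallyOfFinitePresentation f := inferInstance
  refine ⟨⟨_, H19.FlatLocus.Scheme.isOpen_flat_stalkMap (f := f)⟩, h, ?_⟩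
  let U : X.Opens := ⟨_, H19.FlatLocus.Scheme.isOpen_flat_stalkMap (f := f)⟩
  haveI : Flat (U.ι ≫ f) := (Flat.iff_flat_stalkMap _).2 fun u => by
    rw [Scheme.Hom.stalkMap_comp]
    exact RingHom.Flat.comp (f := (f.stalkMap (U.ι u)).hom) u.2 (RingHom.Flat.of_bijective
      (ConcreteCategory.bijective_of_isIso (U.ι.stalkMap u)))
  exact inferInstance

omit [IsLocallyNoetherian Y] [LocallyOfFiniteType f] in
theorem isOpenAt_of_universallyOpen_nhd {x ζ : X} (hs : ζ ⤳ x) {U : X.Opens} (hxU : x ∈ U)
    [UniversallyOpen (U.ι ≫ f)] : EGA43.IsOpenAt f.base ζ := by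
  let w : (U : Scheme.{u}) := ⟨ζ, hs.mem_open U.2 hxU⟩
  exact OpenAt.isOpenAt_of_comp (φ := U.ι.base) (ψ := f.base) U.ι.continuous
    (OpenAt.isOpenAt_of_isOpenMap (U.ι ≫ f).isOpenMap w)

end Groth.Agent.H46.CMFlat
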