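import Groth.Agent.H46.SubStalk
import Groth.Agent.Lib.TopDim.Catenary
import Mathlib.RingTheory.Jacobson.Ring
import Mathlib.RingTheory.Spectrum.Prime.Jacobson

/-!
# Additivity of `dim O_{cl θ, s}` over catenary local rings; dimensions of Jacobson schemes
-/

universe u

open CategoryTheory AlgebraicGeometry IsLocalRing
open Groth.Agent.Lib.Cyc Groth.Agent.Lib.TopDim.Catenary

namespace Groth.Agent.H46.DimJac

section order

variable {P Q : Type*} [PartialOrder P] [PartialOrder Q]

theorem cd_map (e : P ↪o Q) (he : (Set.range e).OrdConnected) (a b : P) :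
    cd (e a) (e b) = cd a b := by
  refine le_antisymm (cd_le_iff.mpr fun s h₁ h₂ ↦ ?_) (cd_le_iff.mpr fun t h₁ h₂ ↦ ?_)
  · have hmem : ∀ i, s i ∈ Set.range e := fun i ↦
      he.out (Set.mem_range_self a) (Set.mem_range_self b)
        ⟨h₁ ▸ s.monotone (Fin.zero_le i), (s.monotone (Fin.le_last i)).trans h₂⟩
    choose t ht using hmem
    exact length_le_cd (s := ⟨s.length, t, fun i ↦ e.lt_iff_lt.mp (by rw [ht, ht]; exact s.step i)⟩)
      (e.injective ((ht 0).trans h₁)) (e.le_iff_le.mp ((ht _).le.trans h₂))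
  · exact length_le_cd (s := t.map e e.strictMono) (by rw [LTSeries.head_map, h₁])
      (by rw [LTSeries.last_map]; exact e.monotone h₂)

end order

theorem krullDim_zeroLocus {R : Type u} [CommRing R] (p : PrimeSpectrum R) (t : PrimeSpectrum R)
    (ht : ∀ q, q ≤ t) :
    ringKrullDim (R ⧸ p.asIdeal) = ((cd p t : ℕ∞) : WithBot ℕ∞) := by
  rw [ringKrullDim_quotient]
  have hp : p ∈ PrimeSpectrum.zeroLocus (p.asIdeal : Set R) := fun a ha => ha
  haveI : Nonempty ↥(PrimeSpectrum.zeroLocus (p.asIdeal : Set R)) := ⟨⟨p, hp⟩⟩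
  rw [Order.krullDim_eq_iSup_length, WithBot.coe_inj]
  refine le_antisymm (iSup_le fun l => ?_) (cd_le_iff.mpr fun s h₁ h₂ => ?_)
  · let l' : LTSeries (PrimeSpectrum R) := l.map (fun q => q.1) fun a b h => h
    rcases (show p ≤ l'.head from l.head.2).eq_or_lt with h | h
    · exact length_le_cd (s := l') h.symm (ht _)
    · refine le_trans ?_ (length_le_cd (s := l'.cons p h) (RelSeries.head_cons _ _ _) (ht _))
      exact_mod_cast (by simp [l'] : l.length ≤ (l'.cons p h).length)
  · refine le_iSup_of_le ⟨s.length, fun i => ⟨s i, fun a ha => ?_⟩, fun i => s.step i⟩ le_rfl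
    exact (h₁ ▸ s.monotone (Fin.zero_le i) : p ≤ s i) ha

theorem isCatOn {R : Type u} [CommRing R] (h : CAlg.IsCatenary R) (a b : PrimeSpectrum R)
    (hab : a ≤ b) : IsCatOn a b := by
  obtain ⟨n, hn⟩ := h.1 a b hab
  have hle : cd a b ≤ n := cd_le_iff.mpr fun s h₁ h₂ => by
    rcases h₂.eq_or_lt with h₂ | h₂
    · exact_mod_cast hn s h₁ h₂
    · have := hn (s.snoc b h₂) (by rw [RelSeries.head_snoc]; exact h₁) (RelSeries.last_snoc _ _ _)
      simp only [RelSeries.snoc_length] at this
      exact_mod_cast (by omega : s.length ≤ n)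
  have hfin : cd a b ≠ ⊤ := (hle.trans_lt (ENat.natCast_lt_top _)).ne
  refine ⟨hfin, fun s h₁ h₂ hs => ?_⟩
  obtain ⟨t, ht₁, ht₂, hts, htl⟩ := exists_saturated hab hfin
  rw [← htl, h.2 s t (h₁.trans ht₁.symm) (h₂.trans ht₂.symm) hs hts]

theorem isCatenary_of_univ {R : Type u} [CommRing R] (h : CAlg.IsUniversallyCatenary R) :
    CAlg.IsCatenary R :=
  h.2 R inferInstance

variable {Z : Scheme.{u}}

/-- `Spec O_σ` as the generizations of `σ` inside `Spec O_s`. -/
noncomputable def genEmb {s σ : Z} (h : σ ⤳ s) :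
    PrimeSpectrum (Z.presheaf.stalk σ) ↪o PrimeSpectrum (Z.presheaf.stalk s) :=
  OrderEmbedding.ofMapLEIff
    (fun p => DimFun.genPrime s (Z.fromSpecStalk σ p)
      ((DimFun.fromSpecStalk_specializes_self σ p).trans h))
    fun p q => by rw [DimFun.genPrime_le_iff, DimFun.fromSpecStalk_specializes_iff]

theorem genEmb_genPrime {s σ w : Z} (h : σ ⤳ s) (hw : w ⤳ σ) :
    genEmb h (DimFun.genPrime σ w hw) = DimFun.genPrime s w (hw.trans h) := by
  apply DimFun.fromSpecStalk_injective
  show Z.fromSpecStalk s (DimFun.genPrime s _ _) = _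
  rw [DimFun.fromSpecStalk_genPrime, DimFun.fromSpecStalk_genPrime, DimFun.fromSpecStalk_genPrime]

theorem ordConnected_range_genEmb {s σ : Z} (h : σ ⤳ s) : (Set.range (genEmb h)).OrdConnected := by
  refine ⟨fun _ _ _ ⟨q, hq⟩ c hc => ?_⟩
  subst hq
  have hcs : Z.fromSpecStalk s c ⤳ σ := by
    refine ((DimFun.fromSpecStalk_specializes_iff s _ _).2 hc.2).trans ?_
    show Z.fromSpecStalk s (DimFun.genPrime s _ _) ⤳ σ
    rw [DimFun.fromSpecStalk_genPrime]
    exact DimFun.fromSpecStalk_specializes_self σ q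
  exact ⟨DimFun.genPrime σ _ hcs, by rw [genEmb_genPrime]; exact (DimFun.eq_genPrime s c).symm⟩

theorem qd_eq_cd [IsLocallyNoetherian Z] {s w : Z} (h : w ⤳ s) :
    (DimData.qd h : WithBot ℕ∞) =
      ((cd (DimFun.genPrime s w h) (closedPoint _) : ℕ∞) : WithBot ℕ∞) := by
  rw [← DimData.ringKrullDim_locQuot h, ← krullDim_zeroLocus _ _ fun q => le_maximalIdeal q.2.ne_top]
  rfl

/-- Additivity of `dim O_{cl θ, s}` when the local ring at `s` is catenary. -/
theorem qd_add [IsLocallyNoetherian Z] {s σ θ : Z} (h : σ ⤳ s) (h' : θ ⤳ σ)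
    (hcat : CAlg.IsCatenary (Z.presheaf.stalk s)) :
    DimData.qd (h'.trans h) = DimData.qd h' + DimData.qd h := by
  have h1 := ((isCatOn_iff_additive (P := PrimeSpectrum (Z.presheaf.stalk s))).1 (isCatOn hcat)).2
    (DimFun.genPrime s θ (h'.trans h)) (DimFun.genPrime s σ h) (closedPoint _)
    ((DimFun.genPrime_le_iff _ _ _ _ _).2 h') (le_maximalIdeal (Ideal.IsPrime.ne_top (PrimeSpectrum.isPrime _)))
  have e : genEmb h (closedPoint _) = DimFun.genPrime s σ h := by
    rw [← DimFun.genPrime_self σ, genEmb_genPrime]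
  have h2 : cd (DimFun.genPrime s θ (h'.trans h)) (DimFun.genPrime s σ h) =
      cd (DimFun.genPrime σ θ h') (closedPoint _) := by
    rw [← e, ← genEmb_genPrime h h', cd_map _ (ordConnected_range_genEmb h)]
  have q1 := qd_eq_cd (h'.trans h)
  have q2 := qd_eq_cd h
  have q3 := qd_eq_cd h'
  rw [h1, h2] at q1
  rw [WithBot.coe_add, ← q2, ← q3] at q1
  exact_mod_cast q1

/-- The generizations of `s` in the closure of `θ`. -/
theorem dim_generizations [IsLocallyNoetherian Z] {s θ : Z} (h : θ ⤳ s) :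
    topologicalKrullDim ↥{t : Z | t ∈ closure ({θ} : Set Z) ∧ t ⤳ s} =
      (DimData.qd h : WithBot ℕ∞) := by
  let R := Z.presheaf.stalk s
  let I := RingHom.ker (Cyc.specMap s θ h)
  let g : PrimeSpectrum (R ⧸ I) → Z :=
    Z.fromSpecStalk s ∘ PrimeSpectrum.comap (Ideal.Quotient.mk I)
  have hg : Topology.IsEmbedding g :=
    (Z.fromSpecStalk s).isEmbedding.comp
      (PrimeSpectrum.isClosedEmbedding_comap_of_surjective _ _ Ideal.Quotient.mk_surjective).isEmbedding
  have hr : Set.range g = {t : Z | t ∈ closure ({θ} : Set Z) ∧ t ⤳ s} := by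
    have hc := range_comap_of_surjective _ _ (Ideal.Quotient.mk_surjective (I := I))
    rw [Ideal.mk_ker] at hc
    refine (Set.range_comp _ _).trans ((congrArg (fun A => Z.fromSpecStalk s '' A) hc).trans ?_)
    ext t
    constructor
    · rintro ⟨p, hp, rfl⟩
      have hle : DimFun.genPrime s θ h ≤ p := hp
      refine ⟨specializes_iff_mem_closure.1 ?_, DimFun.fromSpecStalk_specializes_self s p⟩
      rw [← DimFun.fromSpecStalk_genPrime s θ h, DimFun.fromSpecStalk_specializes_iff]
      exact hle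
    · rintro ⟨h1, h2⟩
      refine ⟨DimFun.genPrime s t h2, ?_, DimFun.fromSpecStalk_genPrime _ _ _⟩
      exact (DimFun.genPrime_le_iff s θ t h h2).2 (specializes_iff_mem_closure.2 h1)
  rw [← DimData.ringKrullDim_locQuot h, ← PrimeSpectrum.topologicalKrullDim_eq_ringKrullDim,
    IsHomeomorph.topologicalKrullDim_eq _ (hg.toHomeomorph.trans (Homeomorph.setCongr hr)).isHomeomorph]

theorem exists_closed_point [JacobsonSpace Z] (a : Z) :
    ∃ z, a ⤳ z ∧ IsClosed ({z} : Set Z) := by
  obtain ⟨z, hz, hzc⟩ := nonempty_inter_closedPoints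
    (Z := closure ({a} : Set Z)) ⟨a, subset_closure rfl⟩ isClosed_closure.isLocallyClosed
  exact ⟨z, specializes_iff_mem_closure.mpr hz, hzc⟩

open TopologicalSpace in
/-- The dimension of a Jacobson scheme with all local rings at closed points of dimension `N`. -/
theorem topologicalKrullDim_eq [IsLocallyNoetherian Z] [JacobsonSpace Z] [Nonempty Z] (N : ℕ)
    (hN : ∀ z : Z, IsClosed ({z} : Set Z) → DimData.sd z = N) :
    topologicalKrullDim (Z : Type u) = (N : WithBot ℕ∞) := by
  refine le_antisymm (iSup_le fun l => ?_) ?_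
  · obtain ⟨z, hz, hzc⟩ := exists_closed_point l.head.2.genericPoint
    let g : IrreducibleCloseds Z → Z := fun C => C.2.genericPoint
    have hg : ∀ C, IsGenericPoint (g C) (C : Set Z) := fun C => by
      have := C.2.isGenericPoint_genericPoint_closure
      rwa [C.3.closure_eq] at this
    have hmono : ∀ i, g (l i) ⤳ z := fun i =>
      ((hg (l i)).specializes ((l.monotone (Fin.zero_le i)) (hg l.head).mem)).trans hz
    let l' : LTSeries (PrimeSpectrum (Z.presheaf.stalk z)) :=
      LTSeries.mk l.length (fun i => DimFun.genPrime z (g (l i.rev)) (hmono _)) (by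
        intro i j hij
        refine lt_of_le_of_ne ((DimFun.genPrime_le_iff z _ _ _ _).2
          ((hg _).specializes ((l.monotone (Fin.rev_le_rev.2 hij.le)) (hg _).mem))) fun he => ?_
        have e := congrArg (Z.fromSpecStalk z) he
        rw [DimFun.fromSpecStalk_genPrime, DimFun.fromSpecStalk_genPrime] at e
        exact (l.strictMono (Fin.rev_lt_rev.2 hij)).ne (IrreducibleCloseds.ext
          ((hg _).def.symm.trans ((congrArg (fun a => closure {a}) e.symm).trans (hg _).def))))
    have h1 := Order.LTSeries.length_le_krullDim l'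
    rw [← ringKrullDim, DimData.ringKrullDim_stalk, hN z hzc] at h1
    exact h1
  · obtain ⟨z, -, hzc⟩ := exists_closed_point (Classical.arbitrary Z)
    rw [← hN z hzc, ← DimData.ringKrullDim_stalk]
    let c : (PrimeSpectrum (Z.presheaf.stalk z))ᵒᵈ → IrreducibleCloseds Z := fun p =>
      ⟨closure {Z.fromSpecStalk z (OrderDual.ofDual p)}, isIrreducible_singleton.closure,
        isClosed_closure⟩
    have hc : StrictMono c := by
      intro p q hpq
      refine lt_of_le_of_ne ?_ fun he => hpq.ne ?_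
      · exact closure_minimal (Set.singleton_subset_iff.2
          (((DimFun.fromSpecStalk_specializes_iff z _ _).2 (OrderDual.ofDual_le_ofDual.2 hpq.le)).mem_closure))
          isClosed_closure
      · exact OrderDual.ofDual.injective (DimFun.fromSpecStalk_injective z
          (Equidim.closure_singleton_inj (congrArg SetLike.coe he)))
    calc ringKrullDim (Z.presheaf.stalk z) = Order.krullDim (PrimeSpectrum (Z.presheaf.stalk z))ᵒᵈ :=
          Order.krullDim_orderDual.symm
      _ ≤ _ := Order.krullDim_le_of_strictMono c hc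

/-- Morphisms locally of finite type to a Jacobson scheme preserve closed points. -/
theorem isClosed_apply {X Y : Scheme.{u}} (f : X ⟶ Y) [LocallyOfFiniteType f] [JacobsonSpace Y]
    {x : X} (hx : IsClosed ({x} : Set X)) : IsClosed ({f x} : Set Y) := by
  obtain ⟨R, A, _, _, _, _, v, w, _, _, P, hw, rfl, -⟩ :=
    Groth.Agent.Lib.FibreDim.Chart.exists_chart f x ⊤ trivial
  haveI : JacobsonSpace (PrimeSpectrum R) := JacobsonSpace.of_isOpenEmbedding v.isOpenEmbedding
  haveI : IsJacobsonRing R := PrimeSpectrum.isJacobsonRing_iff_jacobsonSpace.mpr ‹_›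
  have hP : P.asIdeal.IsMaximal := by
    rw [← PrimeSpectrum.isClosed_singleton_iff_isMaximal]
    have e : ({P} : Set (PrimeSpectrum A)) = w ⁻¹' {w P} := by
      ext q; exact (w.isOpenEmbedding.injective.eq_iff).symm
    rw [e]
    exact hx.preimage w.continuous
  letI := Ideal.Quotient.field P.asIdeal
  haveI : Algebra.FiniteType R (A ⧸ P.asIdeal) :=
    Algebra.FiniteType.of_surjective (Ideal.Quotient.mkₐ R P.asIdeal) Ideal.Quotient.mk_surjective
  haveI : Module.Finite R (A ⧸ P.asIdeal) := finite_of_finite_type_of_isJacobsonRing R _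
  have hp : (PrimeSpectrum.comap (algebraMap R A) P).asIdeal.IsMaximal := by
    have h1 := Ideal.isMaximal_comap_of_isIntegral_of_isMaximal' (algebraMap R (A ⧸ P.asIdeal))
      (fun a => Algebra.IsIntegral.isIntegral a) ⊥
    rw [IsScalarTower.algebraMap_eq R A (A ⧸ P.asIdeal), ← Ideal.comap_comap,
      ← RingHom.ker_eq_comap_bot] at h1
    simpa using h1
  rw [Groth.Agent.Lib.FibreDim.Chart.apply_eq f v w hw]
  refine isClosed_singleton_of_isLocallyClosed_singleton ?_
  have h2 : IsLocallyClosed ({PrimeSpectrum.comap (algebraMap R A) P} : Set (Spec (CommRingCat.of R))) :=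
    ((PrimeSpectrum.isClosed_singleton_iff_isMaximal _).2 hp).isLocallyClosed
  have h3 := h2.image v.isOpenEmbedding.isInducing v.isOpenEmbedding.isOpen_range.isLocallyClosed
  exact (Set.image_singleton (f := v.base) ▸ h3 :)

end Groth.Agent.H46.DimJac
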