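import Groth.Agent.H46.NilRed
import Groth.Agent.H46.UnibranchEquidim

/-!
# Points with integral local rings; stalks of the reduction
-/

universe u

open CategoryTheory AlgebraicGeometry
open Groth.Agent.H46.FibreTrdeg Groth.Agent.Lib.Cyc

namespace Groth.Agent.H46.DomainStalk

variable {X Y : Scheme.{u}}

theorem eq_of_isDomain_stalk {z : X} (hd : IsDomain (X.presheaf.stalk z)) {ξ ξ' : X}
    (hξ : DimFun.IsMaxPt ξ) (h : ξ ⤳ z) (hξ' : DimFun.IsMaxPt ξ') (h' : ξ' ⤳ z) : ξ = ξ' := by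
  haveI := hd
  let η : PrimeSpectrum (X.presheaf.stalk z) := ⟨⊥, Ideal.isPrime_bot⟩
  have key : ∀ w, DimFun.IsMaxPt w → w ⤳ z → X.fromSpecStalk z η = w := by
    intro w hw hwz
    obtain ⟨q, rfl⟩ : w ∈ Set.range (X.fromSpecStalk z) := by
      rw [Scheme.range_fromSpecStalk]; exact hwz
    exact hw _ (((PrimeSpectrum.le_iff_specializes η q).1 bot_le).map (X.fromSpecStalk z).continuous)
  exact (key ξ hξ h).symm.trans (key ξ' hξ' h')

theorem isMaxPt_of_mem {Z : Set X} (hZ : Z ∈ irreducibleComponents (X : Type u)) {ξ : X}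
    (hξ : IsGenericPoint ξ Z) : DimFun.IsMaxPt ξ := by
  intro w hw
  have hsub : Z ⊆ closure {w} := hξ.def.symm.trans_subset (specializes_iff_closure_subset.1 hw)
  have heq : closure {w} = Z :=
    (hsub.antisymm (hZ.2 (isIrreducible_singleton.closure) hsub)).symm
  exact hξ.eq heq ▸ rfl

theorem existsUnique_component {x : X}
    (h : ∀ ξ ξ' : X, DimFun.IsMaxPt ξ → DimFun.IsMaxPt ξ' → ξ ⤳ x → ξ' ⤳ x → ξ = ξ') :
    ∃! Z : Set X, Z ∈ irreducibleComponents (X : Type u) ∧ x ∈ Z := by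
  obtain ⟨ξ, hξx, hξ⟩ := DimFun.exists_isMaxPt_specializes x
  refine ⟨closure {ξ}, ⟨FieldDim.closure_mem_irreducibleComponents ξ hξ, hξx.mem_closure⟩,
    fun Z hZ => ?_⟩
  obtain ⟨η, hη⟩ := QuasiSober.sober hZ.1.1 (isClosed_of_mem_irreducibleComponents Z hZ.1)
  have hZ' : Z = closure {η} := hη.def.symm
  rw [hZ', h η ξ (isMaxPt_of_mem hZ.1 hη) hξ (hη.specializes hZ.2) hξx]

theorem isDomain_stalk {x : X} (hred : _root_.IsReduced (X.presheaf.stalk x))
    (h : ∀ ξ ξ' : X, DimFun.IsMaxPt ξ → DimFun.IsMaxPt ξ' → ξ ⤳ x → ξ' ⤳ x → ξ = ξ') :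
    IsDomain (X.presheaf.stalk x) := by
  haveI := hred
  let B := X.presheaf.stalk x
  have key : ∀ P Q : Ideal B, P ∈ minimalPrimes B → Q ∈ minimalPrimes B → P = Q := by
    have hmax : ∀ (P : Ideal B) (hP : P ∈ minimalPrimes B),
        DimFun.IsMaxPt (X.fromSpecStalk x ⟨P, hP.1.1⟩) ∧ X.fromSpecStalk x ⟨P, hP.1.1⟩ ⤳ x := by
      intro P hP
      let pp : ↥(Spec B) := (⟨P, hP.1.1⟩ : PrimeSpectrum B)
      have hs : X.fromSpecStalk x pp ⤳ x := by
        have : X.fromSpecStalk x pp ∈ Set.range (X.fromSpecStalk x) := ⟨pp, rfl⟩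
        rwa [Scheme.range_fromSpecStalk] at this
      refine ⟨fun v hv => ?_, hs⟩
      obtain ⟨q, rfl⟩ : v ∈ Set.range (X.fromSpecStalk x) := by
        rw [Scheme.range_fromSpecStalk]; exact hv.trans hs
      have hle : (q : PrimeSpectrum B).asIdeal ≤ P := (PrimeSpectrum.le_iff_specializes _ pp).2
        ((X.fromSpecStalk x).isEmbedding.isInducing.specializes_iff.1 hv)
      exact congrArg _ (PrimeSpectrum.ext (le_antisymm hle
        (hP.2 ⟨(q : PrimeSpectrum B).isPrime, bot_le⟩ hle)))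
    intro P Q hP hQ
    obtain ⟨h1, h2⟩ := hmax P hP
    obtain ⟨h3, h4⟩ := hmax Q hQ
    exact congrArg PrimeSpectrum.asIdeal
      ((X.fromSpecStalk x).isEmbedding.injective (h _ _ h1 h3 h2 h4))
  obtain ⟨P, hP, -⟩ := Ideal.exists_minimalPrimes_le (I := (⊥ : Ideal B))
    (J := IsLocalRing.maximalIdeal B) bot_le
  haveI := hP.1.1
  have hbot : P = ⊥ := by
    refine le_bot_iff.1 fun c hc => ?_
    rw [← Ideal.zero_eq_bot, ← nilradical_eq_zero B, nilradical, ← Ideal.sInf_minimalPrimes,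
      Submodule.mem_sInf]
    exact fun Q hQ => key P Q hP hQ ▸ hc
  subst hbot
  exact IsDomain.of_bot_isPrime B

/-- The local rings of a reduced scheme mapped onto `Y` by a surjective closed immersion. -/
theorem nonempty_stalk_red {T : Scheme.{u}} (g : T ⟶ Y) [IsClosedImmersion g] [Surjective g]
    [IsReduced T] (t : T) :
    Nonempty (T.presheaf.stalk t ≃+* CAlg2.red (Y.presheaf.stalk (g t))) := by
  let R := Y.presheaf.stalk (g t)
  let σ : R →+* T.presheaf.stalk t := (g.stalkMap t).hom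
  have hσ : Function.Surjective σ := g.stalkMap_surjective t
  have hker : RingHom.ker σ = nilradical R := by
    refine le_antisymm (fun r hr => ?_) fun r hr => ((mem_nilradical.1 hr).map σ).eq_zero
    rw [nilradical_eq_sInf, Submodule.mem_sInf]
    intro (q : Ideal R) hq
    let qq : ↥(Spec R) := (⟨q, hq⟩ : PrimeSpectrum R)
    obtain ⟨w, hw⟩ := g.surjective (Y.fromSpecStalk (g t) qq)
    have hwt : w ⤳ t := g.isEmbedding.isInducing.specializes_iff.1 (by
      rw [hw]
      have : Y.fromSpecStalk (g t) qq ∈ Set.range (Y.fromSpecStalk (g t)) := ⟨qq, rfl⟩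
      rwa [Scheme.range_fromSpecStalk] at this)
    obtain ⟨v, rfl⟩ : w ∈ Set.range (T.fromSpecStalk t) := by
      rw [Scheme.range_fromSpecStalk]; exact hwt
    have h1 : Spec.map (g.stalkMap t) v = qq := by
      apply (Y.fromSpecStalk (g t)).isEmbedding.injective
      exact ((congrArg (fun m : Spec (T.presheaf.stalk t) ⟶ Y => m v)
        (Scheme.SpecMap_stalkMap_fromSpecStalk g (x := t))).trans hw)
    have h2 : q = (v : PrimeSpectrum (T.presheaf.stalk t)).asIdeal.comap σ :=
      (congrArg PrimeSpectrum.asIdeal h1).symm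
    rw [h2, Ideal.mem_comap, RingHom.mem_ker.1 hr]
    exact zero_mem _
  exact ⟨(RingHom.quotientKerEquivOfSurjective hσ).symm.trans (Ideal.quotEquivOfEq hker)⟩

/-- A geometrically pointwise integral point has an integral local ring. -/
theorem isDomain_of_isGeomPtIntegralAt {k : Type u} [Field k] {g : X ⟶ Spec (CommRingCat.of k)}
    {x : X} (h : _root_.FBase.IsGeomPtIntegralAt g x) : IsDomain (X.presheaf.stalk x) := by
  haveI : IsIso (Spec.map (CommRingCat.ofHom (algebraMap k k))) := by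
    rw [Algebra.algebraMap_self, CommRingCat.ofHom_id, Spec.map_id]
    infer_instance
  let π := _root_.FBase.bcπ g k
  haveI : IsIso π := inferInstanceAs
    (IsIso (Limits.pullback.fst g (Spec.map (CommRingCat.ofHom (algebraMap k k)))))
  obtain ⟨x', rfl⟩ := π.homeomorph.surjective x
  haveI := h k x' rfl
  exact ((asIso (π.stalkMap x')).commRingCatIsoToRingEquiv).toMulEquiv.isDomain

end Groth.Agent.H46.DomainStalk
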