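import Groth.Agent.H46.DimData
import Mathlib.AlgebraicGeometry.Morphisms.ClosedImmersion

/-!
# Local rings of integral closed subschemes, and cutting down quasi-sections
-/

universe u

open CategoryTheory AlgebraicGeometry Topology IsLocalRing
open Groth.Agent.Lib.Cyc Groth.Agent.H46.FibreTrdeg Groth.Agent.H46.DimData

namespace Groth.Agent.H46.SubStalk

variable {W X Y : Scheme.{u}}

/-- The local ring of a closed subscheme with underlying set `closure {ξ}`. -/
theorem sd_eq_qd [IsLocallyNoetherian X] [IsLocallyNoetherian W] (i : W ⟶ X) [IsClosedImmersion i]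
    {ξ : X} (hr : Set.range i = closure {ξ}) {w : W} (h : ξ ⤳ i w) : sd w = qd h := by
  set φ := (i.stalkMap w).hom
  have hsurj : Function.Surjective φ := i.stalkMap_surjective w
  have hsp : ∀ q : Spec (W.presheaf.stalk w), i (W.fromSpecStalk w q) =
      X.fromSpecStalk (i w) (Spec.map (i.stalkMap w) q) := fun q => by
    rw [← Scheme.Hom.comp_apply, ← Scheme.SpecMap_stalkMap_fromSpecStalk, Scheme.Hom.comp_apply]
  have hset : PrimeSpectrum.zeroLocus (R := X.presheaf.stalk (i w))
      (RingHom.ker φ : Set (X.presheaf.stalk (i w))) =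
      PrimeSpectrum.zeroLocus (RingHom.ker (Cyc.specMap (i w) ξ h) : Set _) := by
    ext p
    have h1 : p ∈ PrimeSpectrum.zeroLocus (RingHom.ker (Cyc.specMap (i w) ξ h) : Set _) ↔
        X.fromSpecStalk (i w) p ∈ Set.range i := by
      rw [hr, ← specializes_iff_mem_closure]
      conv_rhs => rw [← DimFun.fromSpecStalk_genPrime (i w) ξ h, DimFun.fromSpecStalk_specializes_iff]
      rfl
    rw [h1, ← range_comap_of_surjective _ φ hsurj]
    constructor
    · rintro ⟨q, rfl⟩
      exact ⟨W.fromSpecStalk w q, hsp q⟩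
    · rintro ⟨v, hv⟩
      have hvw : v ⤳ w := by
        refine i.isEmbedding.isInducing.specializes_iff.1 ?_
        rw [hv]; exact DimFun.fromSpecStalk_specializes_self _ p
      refine ⟨DimFun.genPrime w v hvw, DimFun.fromSpecStalk_injective (i w) ?_⟩
      refine (hsp (DimFun.genPrime w v hvw)).symm.trans ?_
      rw [DimFun.fromSpecStalk_genPrime, hv]
  have h1 := ringKrullDim_eq_of_ringEquiv (RingHom.quotientKerEquivOfSurjective hsurj)
  rw [ringKrullDim_stalk, ringKrullDim_quotient, hset, ← ringKrullDim_quotient] at h1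
  erw [ringKrullDim_locQuot h] at h1
  exact_mod_cast h1.symm

theorem sd_fromSpecStalk_le [IsLocallyNoetherian X] (x : X)
    (P : PrimeSpectrum (X.presheaf.stalk x)) :
    (sd (X.fromSpecStalk x P) : ℕ∞) ≤ P.asIdeal.height := by
  set z := X.fromSpecStalk x P
  have hz : z ⤳ x := DimFun.fromSpecStalk_specializes_self x P
  let g : PrimeSpectrum (X.presheaf.stalk z) → PrimeSpectrum (X.presheaf.stalk x) := fun p =>
    DimFun.genPrime x (X.fromSpecStalk z p) ((DimFun.fromSpecStalk_specializes_self z p).trans hz)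
  have hg : ∀ p, X.fromSpecStalk x (g p) = X.fromSpecStalk z p := fun p =>
    DimFun.fromSpecStalk_genPrime _ _ _
  have hmono : StrictMono g := fun a b hab => by
    refine lt_of_le_of_ne ?_ fun e => hab.ne ?_
    · rw [← DimFun.fromSpecStalk_specializes_iff, hg, hg, DimFun.fromSpecStalk_specializes_iff]
      exact hab.le
    · exact DimFun.fromSpecStalk_injective z (by rw [← hg, ← hg, e])
  have htop : g (closedPoint _) = P := DimFun.fromSpecStalk_injective x (by
    rw [hg, Scheme.fromSpecStalk_closedPoint])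
  have h1 := Order.height_le_height_apply_of_strictMono g hmono (closedPoint _)
  rw [htop, ← PrimeSpectrum.height_eq_orderHeight, ← PrimeSpectrum.height_eq_orderHeight] at h1
  have h2 := IsLocalRing.maximalIdeal_height_eq_ringKrullDim (R := X.presheaf.stalk z)
  rw [ringKrullDim_stalk] at h2
  have h3 : (maximalIdeal (X.presheaf.stalk z)).height = (sd z : ℕ∞) := WithBot.coe_inj.1 h2
  rw [← h3]
  exact h1

/-- If every component through `x` dominates a component not equal to `closure {f x}`, the fibre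
has smaller dimension at `x`. -/
theorem fd_lt_sd [IsLocallyNoetherian Y] (f : X ⟶ Y) [LocallyOfFiniteType f] (x : X)
    (h : ∀ ξ, DimFun.IsMaxPt ξ → ξ ⤳ x → f ξ ≠ f x) : fd f x < sd x := by
  haveI := LocallyOfFiniteType.isLocallyNoetherian f
  set φ := (f.stalkMap x).hom
  set I := (maximalIdeal (Y.presheaf.stalk (f x))).map φ
  have hI : I ≤ maximalIdeal _ :=
    Ideal.map_le_iff_le_comap.2 (IsLocalRing.maximalIdeal_comap φ).ge
  obtain ⟨P, hP, hdim⟩ := OpenDim.exists_minimalPrime_dim_eq I hI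
  haveI := hP.1.1
  obtain ⟨P₀, hP₀, hle⟩ := Ideal.exists_minimalPrimes_le
    (bot_le : (⊥ : Ideal (X.presheaf.stalk x)) ≤ P)
  haveI := hP₀.1.1
  have hlt : P₀ < P := by
    refine lt_of_le_of_ne hle fun e => ?_
    let P₀' : PrimeSpectrum (X.presheaf.stalk x) := ⟨P₀, hP₀.1.1⟩
    refine h _ ((minimalPrimes_iff P₀').1 hP₀) (DimFun.fromSpecStalk_specializes_self x P₀') ?_
    rw [← Scheme.Hom.comp_apply, ← Scheme.SpecMap_stalkMap_fromSpecStalk, Scheme.Hom.comp_apply,
      show Spec.map (f.stalkMap x) P₀' = closedPoint _ from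
        PrimeSpectrum.ext (le_antisymm (le_maximalIdeal Ideal.IsPrime.ne_top')
          (Ideal.map_le_iff_le_comap.1 (show I ≤ P₀ from e ▸ hP.1.2))),
      Scheme.fromSpecStalk_closedPoint]
  have h1 := (add_le_add hdim le_rfl).trans
    ((OpenDim.ringKrullDim_quotient_succ_le hlt).trans (ringKrullDim_quotient_le P₀))
  rw [← FiberStalk.ringKrullDim_stalk_fiber, ringKrullDim_fiber, ringKrullDim_stalk] at h1
  have : fd f x + 1 ≤ sd x := by exact_mod_cast h1
  omega

theorem trd_eq_zero_of_closed (f : X ⟶ Y) [LocallyOfFiniteType f] (x : X)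
    (hcl : ∀ x' : X, f.base x' = f.base x → x ⤳ x' → x' = x) : trd f x = 0 := by
  have hc : IsClosed ({f.asFiber x} : Set ↥(f.fiber (f x))) := by
    refine isClosed_of_closure_subset fun z hz => ?_
    have hs := (FieldDim.fiber_specializes_iff f _ _ z).1 (specializes_iff_mem_closure.2 hz)
    rw [f.fiberι_asFiber] at hs
    exact (f.fiberι (f x)).isEmbedding.injective
      ((hcl _ (FieldDim.apply_fiberι f _ z) hs).trans (f.fiberι_asFiber x).symm)
  have := FieldDim.fdelta_of_isClosed (K := Y.residueField (f x)) (f.fiberToSpecResidueField (f x))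
    (f.asFiber x) hc
  rw [fdelta_fiber, f.fiberι_asFiber] at this
  exact_mod_cast this

/-- One step of cutting a quasi-section. -/
theorem exists_cut [IsLocallyNoetherian Y] (f : X ⟶ Y) [LocallyOfFiniteType f] (x ξ : X)
    (hgen : ∀ a, ξ ⤳ a) (hη : DimFun.IsMaxPt (f ξ)) (hx : trd f x = 0) (n : ℕ)
    (hn : trd f ξ = n + 1) (hfe : fe f x ≤ n + 1) :
    ∃ x', x' ⤳ x ∧ f x' = f ξ ∧ trd f x' = n ∧
      ∀ a, x' ⤳ a → f a = f x → a ⤳ x → trd f a ≤ n := by
  classical
  haveI := LocallyOfFiniteType.isLocallyNoetherian f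
  set B := X.presheaf.stalk x
  set I := (maximalIdeal (Y.presheaf.stalk (f x))).map (f.stalkMap x).hom
  have hsp : ∀ q : Spec B, f (X.fromSpecStalk x q) =
      Y.fromSpecStalk (f x) (Spec.map (f.stalkMap x) q) := fun q => by
    rw [← Scheme.Hom.comp_apply, ← Scheme.SpecMap_stalkMap_fromSpecStalk, Scheme.Hom.comp_apply]
  let S : Set (Ideal B) := {P | ∃ (hP : P.IsPrime), P ∈ I.minimalPrimes ∧
    n + 1 ≤ trd f (X.fromSpecStalk x ⟨P, hP⟩)}
  have hSfin : S.Finite := (Ideal.finite_minimalPrimes_of_isNoetherianRing B I).subset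
    fun P ⟨_, h, _⟩ => h
  obtain ⟨h₀, hh₀, hh₀S⟩ : ∃ h₀ ∈ maximalIdeal B, ∀ P ∈ S, h₀ ∉ P := by
    by_contra hcon
    push Not at hcon
    have hsub : (maximalIdeal B : Set B) ⊆ ⋃ P ∈ (hSfin.toFinset : Set (Ideal B)), (P : Set B) :=
      fun a ha => by
        obtain ⟨P, hP, hPa⟩ := hcon a ha
        exact Set.mem_iUnion₂.2 ⟨P, hSfin.mem_toFinset.2 hP, hPa⟩
    obtain ⟨P, hP, hle⟩ := (Ideal.subset_union_prime (⊤ : Ideal B) (⊤ : Ideal B)
      (fun P hP _ _ => (hSfin.mem_toFinset.1 hP).fst)).1 hsub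
    obtain ⟨hPp, -, htrd⟩ := hSfin.mem_toFinset.1 hP
    have : (⟨P, hPp⟩ : PrimeSpectrum B) = closedPoint B :=
      PrimeSpectrum.ext (le_antisymm (le_maximalIdeal hPp.ne_top) hle)
    rw [this, Scheme.fromSpecStalk_closedPoint, hx] at htrd
    omega
  obtain ⟨Q, hQ, hQle⟩ := Ideal.exists_minimalPrimes_le
    ((Ideal.span_singleton_le_iff_mem _).2 hh₀ : Ideal.span {h₀} ≤ maximalIdeal B)
  haveI := hQ.1.1
  let Q' : PrimeSpectrum B := ⟨Q, hQ.1.1⟩
  set x' := X.fromSpecStalk x Q'
  have hx' : x' ⤳ x := DimFun.fromSpecStalk_specializes_self x Q'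
  have hbound : ∀ a, x' ⤳ a → f a = f x → a ⤳ x → trd f a ≤ n := by
    intro a hxa hfa hax
    by_contra hlt
    have hle := trd_le_fe f hax
    have hmaxa : IsMaxFib f a := fun b hb hs => eq_of_trd_le f hs hb (by
      have := trd_le_fe f (hs.trans hax)
      omega)
    let Pa := DimFun.genPrime x a hax
    have hmem : Pa.asIdeal ∈ I.minimalPrimes := by
      refine ⟨⟨Pa.2, Ideal.map_le_iff_le_comap.2 ?_⟩, fun q hq hle => ?_⟩
      · have : Spec.map (f.stalkMap x) Pa = closedPoint _ :=
          DimFun.fromSpecStalk_injective (f x) (by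
            rw [← hsp, DimFun.fromSpecStalk_genPrime, Scheme.fromSpecStalk_closedPoint, hfa])
        exact (congrArg PrimeSpectrum.asIdeal this).ge
      · let q' : PrimeSpectrum B := ⟨q, hq.1⟩
        have hfq : f (X.fromSpecStalk x q') = f x := by
          rw [hsp, show Spec.map (f.stalkMap x) q' = closedPoint _ from
            PrimeSpectrum.ext (le_antisymm (le_maximalIdeal Ideal.IsPrime.ne_top')
              (Ideal.map_le_iff_le_comap.1 hq.2)), Scheme.fromSpecStalk_closedPoint]
        have hs : X.fromSpecStalk x q' ⤳ a := by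
          rw [← DimFun.fromSpecStalk_genPrime x a hax, DimFun.fromSpecStalk_specializes_iff]
          exact hle
        have h1 := hmaxa _ (hfq.trans hfa.symm) hs
        have : q' = Pa := DimFun.fromSpecStalk_injective x
          (h1.trans (DimFun.fromSpecStalk_genPrime x a hax).symm)
        exact (congrArg PrimeSpectrum.asIdeal this).ge
    refine hh₀S Pa.asIdeal ⟨Pa.2, hmem, ?_⟩ ?_
    · show n + 1 ≤ trd f (X.fromSpecStalk x Pa)
      rw [DimFun.fromSpecStalk_genPrime]; omega
    · have hQP : Q' ≤ Pa := by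
        rw [← DimFun.fromSpecStalk_specializes_iff, DimFun.fromSpecStalk_genPrime]; exact hxa
      exact hQP (hQ.1.2 (Ideal.mem_span_singleton_self _))
  have hsd : sd x' ≤ 1 := by
    have h1 := sd_fromSpecStalk_le x Q'
    haveI : (Ideal.span ({h₀} : Set B)).IsPrincipal := ⟨⟨h₀, rfl⟩⟩
    have h2 := Ideal.height_le_one_of_isPrincipal_of_mem_minimalPrimes _ _ hQ
    exact_mod_cast h1.trans h2
  obtain ⟨z, hzx', hfz, hzx, hzle⟩ := exists_specializes_trd_le f hx'
  have htle : trd f x' ≤ n := hzle.trans (hbound z hzx' hfz hzx)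
  have hfe' : n + 1 ≤ fe f x' := hn ▸ trd_le_fe f (hgen x')
  have hfd := fd_add_trd f x'
  have hfx' : f x' = f ξ := by
    by_contra hne
    have := fd_lt_sd f x' fun a ha _ he => hne (by
      rw [← he, ← ha ξ (hgen a)])
    omega
  refine ⟨x', hx', hfx', le_antisymm htle ?_, hbound⟩
  obtain ⟨ζ, hζ, -, -, hζe⟩ := exists_fe_eq f x'
  have := trd_le f (hgen ζ) (hfx'.symm.trans hζ.symm)
  have : fd f x' ≤ sd x' := by
    have h1 := (FiberStalk.ringKrullDim_stalk_fiber f x').trans_le (ringKrullDim_quotient_le _)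
    rw [ringKrullDim_fiber, ringKrullDim_stalk] at h1
    exact_mod_cast h1
  omega

/-- Cutting down to a quasi-section through a point closed in its fibre. -/
theorem exists_quasiSection [IsLocallyNoetherian Y] (f : X ⟶ Y) [LocallyOfFiniteType f] (x : X)
    (hx : trd f x = 0) : ∀ (n : ℕ) (ξ : X), ξ ⤳ x → DimFun.IsMaxPt (f ξ) → trd f ξ = n →
      (∀ a, ξ ⤳ a → f a = f x → a ⤳ x → trd f a ≤ n) →
      ∃ ξ', ξ' ⤳ x ∧ f ξ' = f ξ ∧ ∀ a, ξ' ⤳ a → f a = f x → a ⤳ x → trd f a ≤ 0 := by
  intro n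
  induction n with
  | zero => exact fun ξ h1 _ _ h4 => ⟨ξ, h1, rfl, h4⟩
  | succ n ih =>
    intro ξ hξx hη hn hbound
    let i := (Scheme.IdealSheafData.vanishingIdeal
      (⟨closure {ξ}, isClosed_closure⟩ : TopologicalSpace.Closeds X)).subschemeι
    have hr : Set.range i = closure {ξ} := by
      rw [Scheme.IdealSheafData.range_subschemeι, Scheme.IdealSheafData.coe_support_vanishingIdeal]
      rfl
    obtain ⟨w, rfl⟩ : x ∈ Set.range i := by rw [hr]; exact hξx.mem_closure
    obtain ⟨w₀, hw₀⟩ : ξ ∈ Set.range i := by rw [hr]; exact subset_closure rfl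
    rw [← hw₀] at hη hn
    replace hbound : ∀ a, i w₀ ⤳ a → f a = f (i w) → a ⤳ i w → trd f a ≤ n + 1 := by
      rw [hw₀]; exact hbound
    have hgen : ∀ a, w₀ ⤳ a := fun a => i.isEmbedding.isInducing.specializes_iff.1
      ((specializes_of_eq hw₀).trans
        (specializes_iff_mem_closure.2 ((Set.ext_iff.1 hr _).1 ⟨a, rfl⟩)))
    obtain ⟨ζ, hζ, hζw, -, hζe⟩ := exists_fe_eq (i ≫ f) w
    have hfe : fe (i ≫ f) w ≤ n + 1 := by
      rw [← hζe, trd_comp]
      exact hbound _ ((hgen ζ).map i.continuous) hζ (hζw.map i.continuous)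
    obtain ⟨w', hw', hfw', htrd, hb⟩ := exists_cut (i ≫ f) w w₀ hgen hη
      (by rw [trd_comp]; exact hx) n (by rw [trd_comp]; exact hn) hfe
    rw [trd_comp] at htrd
    obtain ⟨ξ', h1, h2, h3⟩ := ih (i w') (hw'.map i.continuous)
      (by rw [show f (i w') = f (i w₀) from hfw']; exact hη) htrd fun a ha hfa hax => by
        obtain ⟨b, rfl⟩ : a ∈ Set.range i := by
          rw [hr, ← specializes_iff_mem_closure]
          exact hw₀ ▸ ((hgen w').map i.continuous).trans ha
        have := hb b (i.isEmbedding.isInducing.specializes_iff.1 ha) hfa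
          (i.isEmbedding.isInducing.specializes_iff.1 hax)
        rwa [trd_comp] at this
    exact ⟨ξ', h1, (h2.trans hfw').trans (congrArg f hw₀), h3⟩

end Groth.Agent.H46.SubStalk
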