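import Groth.Agent.H46.DvrScheme
import Groth.Agent.H46.Equidim
import Groth.Agent.S2363
import Groth.Agent.S4974
import Groth.Agent.Lib.Cohen.CompleteNagata
import Groth.Agent.Lib.Excellent.Nagata

/-!
# Universal openness and lifting of points over complete discrete valuation rings
-/

universe u

open CategoryTheory AlgebraicGeometry Limits Topology IsLocalRing
open Groth.Agent.Lib.Cyc Groth.Agent.H46.FibreTrdeg Groth.Agent.Lib.Subtrusive.Valuation

namespace Groth.Agent.H46.DvrPoints

/-- Complete extensions of a discrete valuation ring with prescribed residue field. -/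
theorem exists_complete_dvr_extension {A : Type u} [CommRing A] [IsDomain A]
    [IsDiscreteValuationRing A] (K : Type u) [Field K] (κ : ResidueField A →+* K) :
    ∃ (B : Type u) (_ : CommRing B) (_ : IsDomain B) (_ : IsDiscreteValuationRing B)
      (_ : IsAdicComplete (maximalIdeal B) B) (φ : A →+* B) (_ : IsLocalHom φ)
      (e : ResidueField B ≃+* K), Function.Injective φ ∧
        ∀ a, e (residue B (φ a)) = κ (residue A a) := by
  obtain ⟨D, _, _, _, hloc, hflat, hmax, e, he⟩ :=
    Groth.Agent.H24.Gonflement.exists_flat_extension κ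
  have hfg : (maximalIdeal D).FG := hmax ▸ Ideal.FG.map (Ideal.fg_of_isNoetherianRing _) _
  haveI : IsNoetherianRing (D ⧸ maximalIdeal D) := inferInstanceAs (IsNoetherianRing (ResidueField D))
  haveI := S0542.result D (maximalIdeal D) hfg
  haveI := AdicCompletion.isLocalRing_of_fg hfg
  haveI := AdicCompletion.algebraMap_isLocalHom_of_fg hfg
  let B := AdicCompletion (maximalIdeal D) D
  have hmB : (maximalIdeal A).map (algebraMap A B) = maximalIdeal B := by
    rw [IsScalarTower.algebraMap_eq A D B, ← Ideal.map_map, hmax,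
      AdicCompletion.maximalIdeal_eq_map_of_fg hfg]
  haveI : IsLocalHom (algebraMap A B) :=
    ((IsLocalRing.local_hom_TFAE (algebraMap A B)).out 0 2).mpr hmB.le
  haveI hc : IsAdicComplete (maximalIdeal B) B := AdicCompletion.isAdicComplete_of_fg hfg
  haveI hB : Module.Flat A B := Groth.Agent.S2363.flat_completion_of_fg hmax hfg
  haveI : Module.FaithfullyFlat A B := Module.FaithfullyFlat.of_flat_of_isLocalHom
  obtain ⟨π, hπ⟩ := IsDiscreteValuationRing.exists_irreducible A
  set t := algebraMap A B π with ht
  have hm : maximalIdeal B = Ideal.span {t} := by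
    rw [← hmB, hπ.maximalIdeal_eq, Ideal.map_span, Set.image_singleton]
  have hreg : ∀ b, t * b = 0 → b = 0 := fun b hb => by
    have h := Module.Flat.isSMulRegular_of_nonZeroDivisors (R := A) (M := B)
      (mem_nonZeroDivisors_of_ne_zero hπ.ne_zero)
    exact h (by show π • b = π • (0 : B); rw [smul_zero, Algebra.smul_def]; exact hb)
  have hkey : ∀ b : B, b ≠ 0 → ∃ n : ℕ, ∃ u : Bˣ, b = t ^ n * u := fun b hb => by
    obtain ⟨n, hn⟩ : ∃ n : ℕ, ¬ t ^ n ∣ b := by
      by_contra hall
      push Not at hall
      refine hb ?_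
      have : b ∈ ⨅ n : ℕ, maximalIdeal B ^ n := Submodule.mem_iInf _ |>.2 fun n => by
        rw [hm, Ideal.span_singleton_pow]; exact Ideal.mem_span_singleton.2 (hall n)
      rwa [Ideal.iInf_pow_eq_bot_of_isLocalRing (maximalIdeal B) Ideal.IsPrime.ne_top',
        Ideal.mem_bot] at this
    induction n generalizing b with
    | zero => exact absurd (by rw [pow_zero]; exact one_dvd b) hn
    | succ n ih =>
      by_cases hu : IsUnit b
      · exact ⟨0, hu.unit, by simp⟩
      obtain ⟨c, rfl⟩ : t ∣ b := Ideal.mem_span_singleton.1 (hm ▸ (mem_maximalIdeal b).2 hu)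
      obtain ⟨m, v, rfl⟩ := ih c (fun h => hb (by rw [h, mul_zero])) fun h => hn (by
        rw [pow_succ']; exact mul_dvd_mul_left t h)
      exact ⟨m + 1, v, by rw [pow_succ']; ring⟩
  have hpow : ∀ (n : ℕ) (b : B), t ^ n * b = 0 → b = 0 := by
    intro n
    induction n with
    | zero => intro b hb; simpa using hb
    | succ n ih => intro b hb; exact ih b (hreg _ (by rw [← hb, pow_succ']; ring))
  haveI : IsDomain B := by
    haveI : NoZeroDivisors B := ⟨fun {a b} hab => by
      by_contra hc
      rw [not_or] at hc
      obtain ⟨n, v, rfl⟩ := hkey a hc.1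
      obtain ⟨m, w, rfl⟩ := hkey b hc.2
      exact (v * w).ne_zero (hpow (n + m) _ (by rw [← hab]; push_cast; ring))⟩
    exact NoZeroDivisors.to_isDomain B
  haveI : IsDiscreteValuationRing B := by
    have hti : Irreducible t := by
      have hne : t ≠ 0 := fun h => hπ.ne_zero ((map_eq_zero_iff _
        (FaithfulSMul.algebraMap_injective A B)).1 (ht ▸ h))
      exact (Ideal.span_singleton_prime hne).1 (hm ▸ inferInstance) |>.irreducible
    exact IsDiscreteValuationRing.ofHasUnitMulPowIrreducibleFactorization
      ⟨t, hti, fun {x} hx => by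
        obtain ⟨n, v, rfl⟩ := hkey x hx
        exact ⟨n, v, rfl⟩⟩
  let e₂ := RingEquiv.ofBijective _ (AdicCompletion.residueField_map_bijective_of_fg hfg)
  refine ⟨B, inferInstance, inferInstance, inferInstance, hc, algebraMap A B, inferInstance,
    e₂.symm.trans e, FaithfulSMul.algebraMap_injective A B,
    fun a => ?_⟩
  rw [← he a]
  show e (e₂.symm (residue B (algebraMap A B a))) = _
  congr 1
  rw [RingEquiv.symm_apply_eq, IsScalarTower.algebraMap_apply A D B]
  exact (IsLocalRing.ResidueField.map_residue _ _).symm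

/-- A finite local domain over a complete discrete valuation ring lies in a finite discrete
valuation ring. -/
theorem exists_dvr_of_finite {A : Type u} [CommRing A] [IsDomain A] [IsDiscreteValuationRing A]
    [IsAdicComplete (maximalIdeal A) A] {A' : Type u} [CommRing A'] [IsDomain A'] [Algebra A A']
    [Module.Finite A A'] (hinj : Function.Injective (algebraMap A A')) :
    ∃ (B : Type u) (_ : CommRing B) (_ : IsDomain B) (_ : IsDiscreteValuationRing B)
      (j : A' →+* B), (j.comp (algebraMap A A')).Finite ∧
        Function.Injective (j.comp (algebraMap A A')) ∧ Function.Injective j := by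
  classical
  let L := FractionRing A'
  haveI : FaithfulSMul A A' := (faithfulSMul_iff_algebraMap_injective _ _).2 hinj
  have hinjL : Function.Injective (algebraMap A L) := by
    rw [IsScalarTower.algebraMap_eq A A' L]
    exact (IsFractionRing.injective A' L).comp hinj
  haveI : FaithfulSMul A L := (faithfulSMul_iff_algebraMap_injective _ _).2 hinjL
  letI : Algebra (FractionRing A) L := FractionRing.liftAlgebra A L
  haveI : IsScalarTower A (FractionRing A) L := FractionRing.isScalarTower_liftAlgebra A L
  haveI : Algebra.IsIntegral A A' := Algebra.IsIntegral.of_finite A A'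
  haveI : FiniteDimensional (FractionRing A) L := by
    obtain ⟨s, hs⟩ := (inferInstance : Module.Finite A A').fg_top
    let S := Algebra.adjoin (FractionRing A) ((algebraMap A' L) '' (s : Set A'))
    have hint : ∀ x ∈ (algebraMap A' L) '' (s : Set A'), IsIntegral (FractionRing A) x := by
      rintro _ ⟨a, -, rfl⟩
      exact ((Algebra.IsIntegral.isIntegral (R := A) a).algebraMap).tower_top
    haveI : Module.Finite (FractionRing A) S :=
      Module.Finite.iff_fg.2 (fg_adjoin_of_finite (s.finite_toSet.image _) hint)
    have hfield : IsField S :=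
      isField_of_isIntegral_of_isField' (R := FractionRing A) (Field.toIsField _)
    have hmem : ∀ a, algebraMap A' L a ∈ S := fun a => by
      have ha : a ∈ Submodule.span A (s : Set A') := hs ▸ Submodule.mem_top
      induction ha using Submodule.span_induction with
      | mem x hx => exact Algebra.subset_adjoin ⟨x, hx, rfl⟩
      | zero => rw [map_zero]; exact zero_mem _
      | add x y _ _ hx hy => rw [map_add]; exact add_mem hx hy
      | smul r x _ hx =>
        rw [Algebra.smul_def, map_mul, ← IsScalarTower.algebraMap_apply,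
          IsScalarTower.algebraMap_apply A (FractionRing A) L]
        exact mul_mem (S.algebraMap_mem _) hx
    have htop : S = ⊤ := top_le_iff.1 fun z _ => by
      obtain ⟨a, b, hb, rfl⟩ := IsFractionRing.div_surjective A' z
      obtain ⟨c, hc⟩ := hfield.mul_inv_cancel (a := ⟨_, hmem b⟩) (fun h =>
        (mem_nonZeroDivisors_iff_ne_zero.1 hb) ((map_eq_zero_iff _ (IsFractionRing.injective A' L)).1
          (congrArg Subtype.val h)))
      have h2 : algebraMap A' L b * (c : L) = 1 := congrArg Subtype.val hc
      rw [div_eq_mul_inv, ← eq_inv_of_mul_eq_one_right h2]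
      exact mul_mem (hmem a) c.2
    exact Module.Finite.equiv ((Subalgebra.equivOfEq _ _ htop).trans Subalgebra.topEquiv).toLinearEquiv
  let B := integralClosure A L
  haveI : Module.Finite A B := Lib.Excellent.Nagata.finite_integralClosure_of_isN2
    (Lib.Cohen.CompleteNagata.isN2 A) (FractionRing A) L
  haveI : IsNoetherianRing B := IsNoetherianRing.of_finite A B
  haveI : IsIntegrallyClosed B :=
    integralClosure.isIntegrallyClosedOfFiniteExtension (R := A) (FractionRing A)
  haveI : Ring.DimensionLEOne B := inferInstance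
  haveI : IsDedekindDomain B := { }
  have hinjB : Function.Injective (algebraMap A B) := fun a b h => hinjL (congrArg Subtype.val h)
  haveI : HenselianLocalRing A :=
    Groth.Agent.Lib.Henselian.LocalRing.henselianLocalRing_iff_henselianRing.mpr inferInstance
  haveI : IsLocalRing B := by
    have hb := Groth.Agent.Lib.Henselian.Finite.toPiLocalization_bijective (A := A) (B := B)
    refine IsLocalRing.of_unique_max_ideal ?_
    obtain ⟨M, hM⟩ := Ideal.exists_maximal B
    refine ⟨M, hM, fun N hN => ?_⟩
    by_contra hne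
    obtain ⟨a, ha⟩ := hb.2 (Pi.single ⟨N, hN⟩ 1)
    obtain ⟨b, hb'⟩ := hb.2 (Pi.single ⟨M, hM⟩ 1)
    have hne' : (⟨N, hN⟩ : MaximalSpectrum B) ≠ ⟨M, hM⟩ :=
      fun h => hne (congrArg MaximalSpectrum.asIdeal h)
    have h0 : a * b = 0 := hb.1 (by
      rw [map_mul, ha, hb', map_zero]
      funext j
      rcases eq_or_ne j ⟨N, hN⟩ with rfl | hj
      · simp [Pi.single_eq_of_ne hne']
      · simp [Pi.single_eq_of_ne hj])
    rcases mul_eq_zero.1 h0 with rfl | rfl
    · rw [map_zero] at ha
      exact one_ne_zero (α := Localization.AtPrime N) (by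
        simpa using (congrFun ha ⟨N, hN⟩).symm)
    · rw [map_zero] at hb'
      exact one_ne_zero (α := Localization.AtPrime M) (by
        simpa using (congrFun hb' ⟨M, hM⟩).symm)
  have hnf : ¬ IsField B := fun hF => IsDiscreteValuationRing.not_isField A
    (isField_of_isIntegral_of_isField hinjB hF)
  haveI : IsDiscreteValuationRing B :=
    ((IsDiscreteValuationRing.TFAE B hnf).out 0 2).2 ‹IsDedekindDomain B›
  let j : A' →+* B := (algebraMap A' L).codRestrict B.toSubring fun a =>
    (Algebra.IsIntegral.isIntegral (R := A) a).algebraMap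
  have hj : j.comp (algebraMap A A') = algebraMap A B :=
    RingHom.ext fun a => Subtype.ext (IsScalarTower.algebraMap_apply A A' L a).symm
  exact ⟨B, inferInstance, inferInstance, inferInstance, j,
    hj ▸ RingHom.finite_algebraMap.2 inferInstance, hj ▸ hinjB,
    fun a b h => IsFractionRing.injective A' L (congrArg Subtype.val h)⟩

/-- Maps from spectra of fields with image a given point are determined on a surjection onto its
residue field. -/
theorem eq_of_factor_surjective {A F : Type u} [CommRing A] [Field F] {P : Scheme.{u}}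
    (s : P ⟶ Spec (CommRingCat.of A)) (p : P) (π : CommRingCat.of A ⟶ P.residueField p)
    (hπ : Spec.map π = P.fromSpecResidueField p ≫ s) (hπs : Function.Surjective π.hom)
    (q q' : Spec (CommRingCat.of F) ⟶ P) (hq : q (closedPoint F) = p) (hq' : q' (closedPoint F) = p)
    (h : q ≫ s = q' ≫ s) : q = q' := by
  obtain ⟨χ, hχ⟩ := UnivOpenTrdeg.exists_residue_factor q p hq
  obtain ⟨χ', hχ'⟩ := UnivOpenTrdeg.exists_residue_factor q' p hq'
  rw [← hχ, ← hχ', Category.assoc, Category.assoc, ← hπ, ← Spec.map_comp, ← Spec.map_comp] at h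
  have h1 := Spec.map_injective h
  have : χ = χ' := CommRingCat.hom_ext <| RingHom.ext fun c => by
    obtain ⟨a, rfl⟩ := hπs c
    exact congrArg (fun φ : CommRingCat.of A ⟶ CommRingCat.of F => φ.hom a) h1
  rw [← hχ, ← hχ', this]

variable {X Y : Scheme.{u}} [IsLocallyNoetherian Y] (f : X ⟶ Y) [LocallyOfFiniteType f]

theorem exists_lift {x : X} (h : EGA43.IsUnivOpenAt f x) (A : Type u) [CommRing A] [IsDomain A]
    [IsDiscreteValuationRing A] [IsAdicComplete (maximalIdeal A) A]
    (g : Spec (CommRingCat.of A) ⟶ Y) (hg : g (closedPoint A) = f x)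
    (u₀ : Spec (CommRingCat.of (ResidueField A)) ⟶ X)
    (hu₀ : u₀ ≫ f = Spec.map (CommRingCat.ofHom (residue A)) ≫ g) (hx : x ∈ Set.range u₀) :
    ∃ (B : CommRingCat.{u}) (_ : IsDomain B) (_ : IsDiscreteValuationRing B) (φ : A →+* B)
      (_ : IsLocalHom φ) (v : Spec B ⟶ X),
      φ.Finite ∧ v ≫ f = Spec.map (CommRingCat.ofHom φ) ≫ g ∧
      Spec.map (CommRingCat.ofHom (ResidueField.map φ)) ≫ u₀ =
        Spec.map (CommRingCat.ofHom (residue B)) ≫ v := by
  let f' := pullback.snd f g
  let u' := pullback.lift u₀ (Spec.map (CommRingCat.ofHom (residue A))) hu₀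
  let p := u' (closedPoint (ResidueField A))
  have hpA : f' p = closedPoint A := by
    show (u' ≫ pullback.snd f g) (closedPoint (ResidueField A)) = _
    rw [pullback.lift_snd]
    exact comap_closedPoint (residue A)
  have hpX : pullback.fst f g p = x := by
    show (u' ≫ pullback.fst f g) (closedPoint (ResidueField A)) = _
    rw [pullback.lift_fst]
    obtain ⟨s, rfl⟩ := hx
    exact congrArg u₀ (Subsingleton.elim (α := PrimeSpectrum (ResidueField A)) _ _)
  let π : CommRingCat.of A ⟶ (pullback f g).residueField p :=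
    Spec.preimage ((pullback f g).fromSpecResidueField p ≫ f')
  have hπ : Spec.map π = (pullback f g).fromSpecResidueField p ≫ f' := Spec.map_preimage _
  have hπs : Function.Surjective π.hom := by
    obtain ⟨χ, hχ⟩ := UnivOpenTrdeg.exists_residue_factor u' p rfl
    have h1 : π ≫ χ = CommRingCat.ofHom (residue A) := by
      apply Spec.map_injective
      rw [Spec.map_comp, hπ, reassoc_of% hχ, pullback.lift_snd]
    intro c
    obtain ⟨a, ha⟩ := residue_surjective (χ.hom c)
    refine ⟨a, χ.hom.injective ?_⟩
    rw [← ha]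
    exact congrArg (fun φ : CommRingCat.of A ⟶ CommRingCat.of (ResidueField A) => φ.hom a) h1
  -- the special point is closed in its fibre
  have hp0 : trd f' p = 0 := by
    have hsurj : Function.Surjective (f'.residueFieldMap p).hom := by
      let π₀ : CommRingCat.of A ⟶ (Spec (CommRingCat.of A)).residueField (f' p) :=
        Spec.preimage ((Spec (CommRingCat.of A)).fromSpecResidueField (f' p))
      have h1 : π = π₀ ≫ f'.residueFieldMap p := by
        apply Spec.map_injective
        rw [hπ, Spec.map_comp, Spec.map_preimage,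
          Scheme.Hom.SpecMap_residueFieldMap_fromSpecResidueField]
      intro c
      obtain ⟨a, rfl⟩ := hπs c
      exact ⟨π₀.hom a, (congrArg (fun φ : CommRingCat.of A ⟶ _ => φ.hom a) h1).symm⟩
    letI : Algebra ((Spec (CommRingCat.of A)).residueField (f' p))
        ((pullback f g).residueField p) := (f'.residueFieldMap p).hom.toAlgebra
    haveI : Algebra.IsAlgebraic ((Spec (CommRingCat.of A)).residueField (f' p))
        ((pullback f g).residueField p) :=
      ⟨fun c => by obtain ⟨b, rfl⟩ := hsurj c; exact isAlgebraic_algebraMap b⟩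
    have h0 : Residue.trdegAt f' p = 0 := trdeg_eq_zero
    rw [trdegAt_eq f'] at h0
    exact_mod_cast h0
  obtain ⟨z, hz, hzg⟩ := (DvrScheme.isUnivOpenAt_iff_dvr f x).1 h A g hg p hpX hpA
  let W : TopologicalSpace.Closeds ↥(pullback f g) := ⟨closure {z}, isClosed_closure⟩
  let i := (Scheme.IdealSheafData.vanishingIdeal W).subschemeι
  have hr : Set.range i = closure {z} := by
    rw [Scheme.IdealSheafData.range_subschemeι, Scheme.IdealSheafData.coe_support_vanishingIdeal]
    rfl
  obtain ⟨w, hw⟩ : p ∈ Set.range i := by rw [hr]; exact hz.mem_closure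
  obtain ⟨w₀, hw₀⟩ : z ∈ Set.range i := by rw [hr]; exact subset_closure rfl
  have hgen : ∀ a, w₀ ⤳ a := fun a => by
    rw [← i.isEmbedding.isInducing.specializes_iff, hw₀, specializes_iff_mem_closure, ← hr]
    exact ⟨a, rfl⟩
  have hw₀g : (i ≫ f') w₀ = genericPoint (Spec (CommRingCat.of A)) := by
    rw [Scheme.Hom.comp_apply, hw₀]; exact hzg
  have hw₀max : DimFun.IsMaxPt ((i ≫ f') w₀) := by
    rw [hw₀g]
    exact fun y hy => (hy.antisymm (genericPoint_specializes y)).eq
  have hgenPt : (i ≫ f') w₀ = Lib.Subtrusive.Valuation.genPt A := by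
    rw [hw₀g]
    exact (genericPoint_spec _).eq (isGenericPoint_iff_specializes.2 fun y =>
      ⟨fun _ => trivial, fun _ => Lib.Subtrusive.Valuation.genPt_specializes y⟩)
  have heq : EGA43.IsEquidimAt (i ≫ f') w := by
    refine DimData.isEquidimAt_of_components (i ≫ f') w fun v hv _ => ?_
    obtain rfl := hv w₀ (hgen v)
    refine ⟨hw₀max, le_antisymm (DimData.trd_le_fe (i ≫ f') (hgen w)) ?_⟩
    obtain ⟨a, ha, -, -, hae⟩ := DimData.exists_fe_eq (i ≫ f') w
    obtain ⟨b, -, hbg, hb⟩ := UnivOpenTrdeg.trd_le_over_valuationRing A (i ≫ f') a w₀ (hgen a)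
      (by rw [ha, Scheme.Hom.comp_apply, hw]; exact hpA) hgenPt
    rw [← hae]
    exact hb.trans (trd_le (i ≫ f') (hgen b) (hgenPt.trans hbg.symm))
  obtain ⟨A', _, _, _, _, _, hinj, hA', hA'f, -, hA'w⟩ := Groth.Agent.S4974.result (i ≫ f') w
    (by show f' (i w) = _; rw [hw]; exact hpA) heq fun w' hw' hs =>
      (eq_of_trd_le (i ≫ f') hs hw'.symm (by rw [trd_comp, trd_comp, hw, hp0]; exact Nat.zero_le _)).symm
  obtain ⟨B, _, _, _, j, hfin, hjinj, hjinj'⟩ := exists_dvr_of_finite (A := A) hinj
  set φ := j.comp (algebraMap A A') with hφ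
  haveI : IsLocalHom φ := hfin.to_isIntegral.isLocalHom hjinj
  haveI : IsLocalHom j := (hfin.to_isIntegral.tower_top (algebraMap A A') j).isLocalHom hjinj'
  let v' : Spec (CommRingCat.of B) ⟶ pullback f g := Spec.map (CommRingCat.ofHom j) ≫ hA' ≫ i
  have hv's : v' ≫ f' = Spec.map (CommRingCat.ofHom φ) := by
    rw [Category.assoc, Category.assoc, hA'f, ← Spec.map_comp, ← CommRingCat.ofHom_comp]
  have hv'p : v' (closedPoint B) = p := by
    obtain ⟨s, hs⟩ := hA'w
    have hA'loc : hA' (closedPoint A') = w := by
      have hsp : s ⤳ closedPoint A' := IsLocalRing.specializes_closedPoint s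
      refine (eq_of_trd_le (i ≫ f') (x := hA' (closedPoint A')) (x' := w)
        (hs ▸ hsp.map hA'.continuous) ?_ ?_).symm
      · show f' (i w) = (hA' ≫ i ≫ f') (closedPoint A')
        rw [hA'f, hw, hpA]
        haveI : IsLocalHom (algebraMap A A') :=
          isLocalHom_of_comp (algebraMap A A') j
        exact (comap_closedPoint (algebraMap A A')).symm
      · rw [trd_comp, trd_comp, hw, hp0]; exact Nat.zero_le _
    show i (hA' ((Spec.map (CommRingCat.ofHom j)) (closedPoint B))) = p
    rw [show (Spec.map (CommRingCat.ofHom j)) (closedPoint B) = closedPoint A' from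
      comap_closedPoint j, hA'loc, hw]
  refine ⟨CommRingCat.of B, inferInstance, inferInstance, φ, inferInstance,
    v' ≫ pullback.fst f g, hfin, ?_, ?_⟩
  · rw [Category.assoc, pullback.condition, reassoc_of% hv's]
  · have key := eq_of_factor_surjective f' p π hπ hπs
      (Spec.map (CommRingCat.ofHom (ResidueField.map φ)) ≫ u')
      (Spec.map (CommRingCat.ofHom (residue B)) ≫ v')
      (congrArg u' (Subsingleton.elim (α := PrimeSpectrum (ResidueField A)) _ _))
      (by
        show v' ((Spec.map (CommRingCat.ofHom (residue B))) (closedPoint (ResidueField B))) = p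
        rw [show (Spec.map (CommRingCat.ofHom (residue B))) (closedPoint (ResidueField B)) =
          closedPoint B from comap_closedPoint (residue B), hv'p])
      (by rw [Category.assoc, Category.assoc, pullback.lift_snd, hv's, ← Spec.map_comp,
        ← Spec.map_comp]; rfl)
    have := congrArg (· ≫ pullback.fst f g) key
    simp only [Category.assoc, u', pullback.lift_fst] at this
    exact this

theorem isUnivOpenAt_of_lift {x : X}
    (H : ∀ (A : Type u) [CommRing A] [IsDomain A] [IsDiscreteValuationRing A]
        [IsAdicComplete (maximalIdeal A) A] [IsAlgClosed (ResidueField A)]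
        (g : Spec (CommRingCat.of A) ⟶ Y), g (closedPoint A) = f x →
        ∀ u₀ : Spec (CommRingCat.of (ResidueField A)) ⟶ X,
          u₀ ≫ f = Spec.map (CommRingCat.ofHom (residue A)) ≫ g → x ∈ Set.range u₀ →
          ∃ (B : CommRingCat.{u}) (_ : IsDomain B) (_ : IsDiscreteValuationRing B) (φ : A →+* B)
            (_ : IsLocalHom φ) (v : Spec B ⟶ X),
            φ.Finite ∧ v ≫ f = Spec.map (CommRingCat.ofHom φ) ≫ g ∧
            Spec.map (CommRingCat.ofHom (ResidueField.map φ)) ≫ u₀ =
              Spec.map (CommRingCat.ofHom (residue B)) ≫ v) :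
    EGA43.IsUnivOpenAt f x := by
  rw [DvrScheme.isUnivOpenAt_iff_dvr]
  intro A _ _ _ g hg p hpX hpA
  let π : CommRingCat.of A ⟶ (pullback f g).residueField p :=
    Spec.preimage ((pullback f g).fromSpecResidueField p ≫ pullback.snd f g)
  have hπ : Spec.map π = (pullback f g).fromSpecResidueField p ≫ pullback.snd f g :=
    Spec.map_preimage _
  let Ω := AlgebraicClosure ((pullback f g).residueField p)
  let ω : CommRingCat.of A ⟶ CommRingCat.of Ω :=
    π ≫ CommRingCat.ofHom (algebraMap ((pullback f g).residueField p) Ω)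
  haveI : IsLocalHom ω.hom := by
    refine ((IsLocalRing.local_hom_TFAE ω.hom).out 0 4).2 (IsLocalRing.eq_maximalIdeal ?_)
    have hpt : Spec.map ω (closedPoint Ω) = closedPoint A := by
      have h1 : Spec.map ω = Spec.map (CommRingCat.ofHom
          (algebraMap ((pullback f g).residueField p) Ω)) ≫ Spec.map π := Spec.map_comp _ _
      rw [hπ] at h1
      refine (congrArg (fun m : Spec (CommRingCat.of Ω) ⟶ Spec (CommRingCat.of A) =>
        m (closedPoint Ω)) h1).trans ?_
      exact (congrArg _ (Scheme.fromSpecResidueField_apply _ _)).trans hpA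
    have := congrArg PrimeSpectrum.asIdeal hpt
    show ((maximalIdeal Ω).comap ω.hom).IsMaximal
    rw [show (maximalIdeal Ω).comap ω.hom = maximalIdeal A from this]
    exact maximalIdeal.isMaximal A
  obtain ⟨B, _, _, _, _, φ, _, e, hφinj, he⟩ :=
    exists_complete_dvr_extension Ω (ResidueField.lift ω.hom)
  haveI : IsAlgClosed (ResidueField B) := IsAlgClosed.of_ringEquiv Ω _ e.symm
  let s : Spec (CommRingCat.of (ResidueField B)) ⟶ pullback f g :=
    Spec.map (CommRingCat.ofHom (e.symm.toRingHom.comp
      (algebraMap ((pullback f g).residueField p) Ω))) ≫ (pullback f g).fromSpecResidueField p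
  have hss : s ≫ pullback.snd f g =
      Spec.map (CommRingCat.ofHom (residue B)) ≫ Spec.map (CommRingCat.ofHom φ) := by
    rw [Category.assoc, ← hπ, ← Spec.map_comp, ← Spec.map_comp]
    congr 1
    ext a
    show e.symm (algebraMap _ Ω (π.hom a)) = residue B (φ a)
    rw [RingEquiv.symm_apply_eq, he, ResidueField.lift_residue_apply]
    rfl
  have hsp : ∀ q, s q = p := fun q => by
    rw [Scheme.Hom.comp_apply]; exact Scheme.fromSpecResidueField_apply _ _
  have hφc : Spec.map (CommRingCat.ofHom φ) (closedPoint B) = closedPoint A := comap_closedPoint φ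
  obtain ⟨B', _, _, ψ, _, v, hfin, hv, hvu⟩ := H B (Spec.map (CommRingCat.ofHom φ) ≫ g)
    (show g ((Spec.map (CommRingCat.ofHom φ)) (closedPoint B)) = f x by rw [hφc, hg])
    (s ≫ pullback.fst f g)
    (by rw [Category.assoc, pullback.condition, reassoc_of% hss])
    ⟨closedPoint (ResidueField B), (congrArg _ (hsp _)).trans hpX⟩
  have hψinj : Function.Injective ψ := by
    rw [RingHom.injective_iff_ker_eq_bot]
    by_contra hne
    have hk : RingHom.ker ψ = maximalIdeal B :=
      IsLocalRing.eq_maximalIdeal ((RingHom.ker_isPrime ψ).isMaximal hne)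
    letI : Algebra B B' := ψ.toAlgebra
    have hle : maximalIdeal B ≤ RingHom.ker (algebraMap B B') := hk.ge
    let χ : ResidueField B →+* B' := Ideal.Quotient.lift (maximalIdeal B) ψ hle
    letI : Algebra (ResidueField B) B' := χ.toAlgebra
    haveI : IsScalarTower B (ResidueField B) B' := IsScalarTower.of_algebraMap_eq fun _ => rfl
    haveI : Module.Finite B B' := hfin
    haveI : Module.Finite (ResidueField B) B' := Module.Finite.of_restrictScalars_finite B _ _
    exact IsDiscreteValuationRing.not_isField B'
      (isField_of_isIntegral_of_isField' (R := ResidueField B) (Field.toIsField _))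
  let V := pullback.lift v (Spec.map (CommRingCat.ofHom (ψ.comp φ))) (by
    rw [hv, ← Spec.map_comp_assoc, ← CommRingCat.ofHom_comp])
  have hclosed : V (closedPoint B') = p := by
    have hV : Spec.map (CommRingCat.ofHom (residue B')) ≫ V =
        Spec.map (CommRingCat.ofHom (ResidueField.map ψ)) ≫ s := by
      refine pullback.hom_ext ?_ ?_
      · rw [Category.assoc, Category.assoc, pullback.lift_fst]; exact hvu.symm
      · rw [Category.assoc, Category.assoc, pullback.lift_snd, hss, ← Spec.map_comp,
          ← Spec.map_comp, ← Spec.map_comp]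
        rfl
    have := congrArg (fun m : Spec (CommRingCat.of (ResidueField B')) ⟶ pullback f g =>
      m (closedPoint (ResidueField B'))) hV
    exact ((congrArg V (comap_closedPoint (residue B')).symm).trans this).trans (hsp _)
  refine ⟨V (Lib.Subtrusive.Valuation.genPt B'),
    hclosed ▸ (Lib.Subtrusive.Valuation.genPt_specializes (closedPoint B')).map V.continuous, ?_⟩
  rw [← Scheme.Hom.comp_apply, pullback.lift_snd, specMap_genPt (ψ.comp φ) (by rw [RingHom.coe_comp]; exact hψinj.comp hφinj)]
  exact ((genericPoint_spec _).eq (isGenericPoint_iff_specializes.2 fun y =>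
    ⟨fun _ => trivial, fun _ => Lib.Subtrusive.Valuation.genPt_specializes y⟩)).symm

end Groth.Agent.H46.DvrPoints
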