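import Groth.Agent.S14379
import Groth.Agent.S14383
import Groth.Agent.S0444
import Groth.Agent.H82.Contract.Dim
import Groth.Agent.Lib.JacCrit.Minimal
import Groth.Agent.Lib.Unram.BranchHenselian
import Mathlib.RingTheory.TensorProduct.MvPolynomial
import Mathlib.LinearAlgebra.TensorProduct.RightExactness

/-!
# η-étale morphisms to affine space that are finite on both fibres
-/

set_option autoImplicit false

universe u

open scoped TensorProduct
open AlgebraicGeometry

namespace Groth.Agent.H46.EtaEtale

/-- Smooth of relative dimension `d` over a field forces dimension at most `d`. -/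
theorem ringKrullDim_le_of_smooth (K G : Type u) [Field K] [CommRing G] [Algebra K G]
    [Algebra.FiniteType K G] (d : ℕ)
    (h : SmoothOfRelativeDimension d (Spec.map (CommRingCat.ofHom (algebraMap K G)))) :
    ringKrullDim G ≤ d := by
  rw [HasRingHomProperty.Spec_iff (P := @SmoothOfRelativeDimension d)] at h
  obtain ⟨s, hs, ht⟩ := h
  haveI : IsNoetherianRing G := Algebra.FiniteType.isNoetherianRing K G
  refine iSup_le fun l => ?_
  let P := l.last
  obtain ⟨t, hts, htP⟩ : ∃ t ∈ s, t ∉ P.asIdeal := by
    by_contra hcon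
    push Not at hcon
    exact P.2.ne_top (top_le_iff.mp (hs.ge.trans (Ideal.span_le.mpr hcon)))
  haveI hstd : Algebra.IsStandardSmoothOfRelativeDimension d K (Localization.Away t) :=
    RingHom.isStandardSmoothOfRelativeDimension_algebraMap d |>.mp (by
      have h := ht t hts
      rwa [CommRingCat.hom_ofHom, ← IsScalarTower.algebraMap_eq] at h)
  haveI := Algebra.IsStandardSmoothOfRelativeDimension.isStandardSmooth (R := K) (S := Localization.Away t) d
  obtain ⟨P', hP'⟩ : P ∈ Set.range (PrimeSpectrum.comap (algebraMap G (Localization.Away t))) := by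
    rw [PrimeSpectrum.localization_away_comap_range (Localization.Away t) t]
    exact htP
  have h1 := Lib.JacCrit.Minimal.dimAt_away K t (Localization.Away t) P'
  rw [hP', Lib.Kaehler.SmoothDim.dimAt_eq (n := d) K P'.asIdeal] at h1
  have h2 : P.asIdeal.height.toNat ≤ d := h1 ▸ Nat.le_add_right _ _
  have h3 : (l.length : ℕ∞) ≤ (d : ℕ∞) := by
    refine (Order.length_le_height_last (p := l)).trans ?_
    rw [← PrimeSpectrum.height_eq_orderHeight P, ← Lib.Dim.Local.coe_height_toNat K P.asIdeal]
    exact_mod_cast h2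
  exact_mod_cast h3

variable (V : Type u) [CommRing V] [IsDomain V] [IsDiscreteValuationRing V]

/-- The special fibre of a flat algebra is no bigger than the generic fibre. -/
theorem ringKrullDim_special_le (R : Type u) [CommRing R] [Algebra V R] [Module.Flat V R]
    [Algebra.FiniteType V R] (d : ℕ) (hη : ringKrullDim (FractionRing V ⊗[V] R) ≤ d) :
    ringKrullDim (IsLocalRing.ResidueField V ⊗[V] R) ≤ d := by
  refine iSup_le fun l => ?_
  let κ := IsLocalRing.ResidueField V
  let ι : R →ₐ[V] κ ⊗[V] R := Algebra.TensorProduct.includeRight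
  obtain ⟨Q, hQ, hQl⟩ := Ideal.exists_minimalPrimes_le (I := (⊥ : Ideal R))
    (J := l.head.asIdeal.comap ι) bot_le
  haveI := hQ.1.1
  have hinj : Function.Injective (algebraMap V (R ⧸ Q)) := by
    have h0 : Q.comap (algebraMap V R) = ⊥ := le_bot_iff.mp
      ((Lib.Unram.BranchHenselian.comap_minimalPrime_mem V R hQ).2 ⟨Ideal.isPrime_bot, le_rfl⟩ bot_le)
    refine (injective_iff_map_eq_zero _).mpr fun v hv => ?_
    rw [IsScalarTower.algebraMap_apply V R (R ⧸ Q), Ideal.Quotient.algebraMap_eq,
      Ideal.Quotient.eq_zero_iff_mem] at hv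
    exact Ideal.mem_bot.mp (h0 ▸ hv)
  let π : κ ⊗[V] R →ₐ[V] κ ⊗[V] (R ⧸ Q) :=
    Algebra.TensorProduct.map (AlgHom.id V κ) (Ideal.Quotient.mkₐ V Q)
  have hπ : Function.Surjective π :=
    TensorProduct.map_surjective Function.surjective_id (Ideal.Quotient.mkₐ_surjective V Q)
  have hker : RingHom.ker π ≤ l.head.asIdeal := by
    erw [Algebra.TensorProduct.map_ker _ _ Function.surjective_id (Ideal.Quotient.mkₐ_surjective V Q)]
    refine sup_le (Ideal.map_le_iff_le_comap.mpr fun c hc => ?_) (Ideal.map_le_iff_le_comap.mpr fun r hr => ?_)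
    · rw [RingHom.mem_ker] at hc
      rw [show c = 0 from hc]
      exact Ideal.zero_mem _
    · refine hQl ?_
      rw [RingHom.mem_ker] at hr
      exact Ideal.Quotient.eq_zero_iff_mem.mp hr
  have hle : ∀ i, RingHom.ker π ≤ (l i).asIdeal := fun i => hker.trans (l.head_le i)
  have hcm : ∀ i, ((l i).asIdeal.map π).comap π = (l i).asIdeal := fun i => by
    rw [Ideal.comap_map_of_surjective _ hπ]
    exact sup_eq_left.mpr (hle i)
  have hprime : ∀ i, ((l i).asIdeal.map π).IsPrime := fun i =>
    Ideal.map_isPrime_of_surjective hπ (hle i)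
  let l' : LTSeries (PrimeSpectrum (κ ⊗[V] (R ⧸ Q))) := LTSeries.mk l.length
    (fun i => ⟨(l i).asIdeal.map π, hprime i⟩) fun i j hij => by
      refine lt_of_le_of_ne (Ideal.map_mono (l.strictMono hij).le) fun he => (l.strictMono hij).ne ?_
      refine PrimeSpectrum.ext ?_
      rw [← hcm i, ← hcm j]
      exact congrArg (Ideal.comap π) (congrArg PrimeSpectrum.asIdeal he)
  haveI : Nontrivial (κ ⊗[V] (R ⧸ Q)) := (l' 0).nontrivial
  haveI : Algebra.FiniteType V (R ⧸ Q) := Algebra.FiniteType.trans ‹_› inferInstance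
  have h1 := Groth.Agent.S0444.result (R := V) (S := R ⧸ Q) hinj
  let π' : FractionRing V ⊗[V] R →ₐ[V] FractionRing V ⊗[V] (R ⧸ Q) :=
    Algebra.TensorProduct.map (AlgHom.id V _) (Ideal.Quotient.mkₐ V Q)
  have hπ' : Function.Surjective π' :=
    TensorProduct.map_surjective Function.surjective_id (Ideal.Quotient.mkₐ_surjective V Q)
  have h2 : ringKrullDim (FractionRing V ⊗[V] (R ⧸ Q)) ≤ ringKrullDim (FractionRing V ⊗[V] R) :=
    ringKrullDim_le_of_surjective π'.toRingHom hπ'
  calc (l.length : WithBot ℕ∞) = (l'.length : WithBot ℕ∞) := rfl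
    _ ≤ ringKrullDim (κ ⊗[V] (R ⧸ Q)) := Order.LTSeries.length_le_krullDim l'
    _ ≤ d := (h1.le.trans h2).trans hη

open Submodule in
/-- The η-étaleness condition read off in `Ω[R⁄V]`. -/
theorem le_iff {R : Type u} [CommRing R] [Algebra V R] {d : ℕ} (x : Fin d → R) (c c' : R) :
    letI := (MvPolynomial.aeval x : MvPolynomial (Fin d) V →ₐ[V] R).toRingHom.toAlgebra
    (Ideal.span {c} • (⊤ : Submodule R Ω[R⁄MvPolynomial (Fin d) V]) ≤ Ideal.span {c'} • ⊤) ↔
      ∀ w : Ω[R⁄V], c • w ∈ Ideal.span {c'} • (⊤ : Submodule R Ω[R⁄V]) ⊔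
        span R (Set.range fun i => KaehlerDifferential.D V R (x i)) := by
  letI := (MvPolynomial.aeval x : MvPolynomial (Fin d) V →ₐ[V] R).toRingHom.toAlgebra
  haveI : IsScalarTower V (MvPolynomial (Fin d) V) R :=
    IsScalarTower.of_algebraMap_eq fun v => ((MvPolynomial.aeval x).commutes v).symm
  let f := KaehlerDifferential.map V (MvPolynomial (Fin d) V) R R
  have hf : Function.Surjective f := KaehlerDifferential.map_surjective V _ R
  have hker : LinearMap.ker f = span R (Set.range fun i => KaehlerDifferential.D V R (x i)) := by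
    rw [← KaehlerDifferential.range_mapBaseChange]
    refine le_antisymm ?_ (span_le.mpr ?_)
    · rintro _ ⟨z, rfl⟩
      induction z using TensorProduct.induction_on with
      | zero => rw [map_zero]; exact zero_mem _
      | add a b ha hb => rw [map_add]; exact add_mem ha hb
      | tmul r w =>
        rw [KaehlerDifferential.mapBaseChange_tmul]
        refine smul_mem _ _ ?_
        have hw : w ∈ span (MvPolynomial (Fin d) V)
            (Set.range (KaehlerDifferential.D V (MvPolynomial (Fin d) V))) :=
          KaehlerDifferential.span_range_derivation V (MvPolynomial (Fin d) V) ▸ mem_top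
        induction hw using span_induction with
        | zero => rw [map_zero]; exact zero_mem _
        | add a b _ _ ha hb => rw [map_add]; exact add_mem ha hb
        | smul q a _ ha => rw [map_smul, ← algebraMap_smul R q]; exact smul_mem _ _ ha
        | mem a ha =>
          obtain ⟨P, rfl⟩ := ha
          rw [KaehlerDifferential.map_D]
          show KaehlerDifferential.D V R (MvPolynomial.aeval x P) ∈ _
          induction P using MvPolynomial.induction_on with
          | C v =>
            rw [(MvPolynomial.aeval_C x v : MvPolynomial.aeval x (MvPolynomial.C v) = algebraMap V R v),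
              Derivation.map_algebraMap]
            exact zero_mem _
          | add a b ha hb => rw [map_add, map_add]; exact add_mem ha hb
          | mul_X P i hP =>
            rw [map_mul, MvPolynomial.aeval_X, Derivation.leibniz]
            exact add_mem (smul_mem _ _ (subset_span ⟨i, rfl⟩)) (smul_mem _ _ hP)
    · rintro _ ⟨i, rfl⟩
      refine ⟨1 ⊗ₜ KaehlerDifferential.D V (MvPolynomial (Fin d) V) (MvPolynomial.X i), ?_⟩
      rw [KaehlerDifferential.mapBaseChange_tmul, one_smul, KaehlerDifferential.map_D]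
      exact congrArg _ (MvPolynomial.aeval_X x i)
  have hmap : (Ideal.span {c'} • (⊤ : Submodule R Ω[R⁄V])).map f = Ideal.span {c'} • ⊤ := by
    rw [map_smul'', Submodule.map_top, LinearMap.range_eq_top.mpr hf]
  rw [← hker, ← comap_map_eq f, hmap]
  constructor
  · intro h w
    rw [mem_comap, map_smul]
    exact h (smul_mem_smul (Ideal.mem_span_singleton_self c) mem_top)
  · intro h
    rw [smul_le]
    intro a ha w' _
    obtain ⟨b, rfl⟩ := Ideal.mem_span_singleton'.mp ha
    obtain ⟨w, rfl⟩ := hf w'
    rw [mul_smul, ← map_smul]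
    exact smul_mem _ _ (h w)

/-- Differentials of the subring generated by `N`-th powers are divisible by `N`. -/
theorem D_mem_of_closure_pow {R : Type u} [CommRing R] [Algebra V R] {N : ℕ} {y : R}
    (hy : y ∈ Subring.closure (Set.range fun r : R => r ^ N)) :
    KaehlerDifferential.D V R y ∈ Ideal.span {(N : R)} • (⊤ : Submodule R Ω[R⁄V]) := by
  induction hy using Subring.closure_induction with
  | mem a ha =>
    obtain ⟨r, rfl⟩ := ha
    rw [Derivation.leibniz_pow, ← Nat.cast_smul_eq_nsmul R]
    exact Submodule.smul_mem_smul (Ideal.mem_span_singleton_self _) Submodule.mem_top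
  | zero => rw [map_zero]; exact zero_mem _
  | one => rw [Derivation.map_one_eq_zero]; exact zero_mem _
  | add a b _ _ ha hb => rw [map_add]; exact add_mem ha hb
  | neg a _ ha => rw [map_neg]; exact neg_mem ha
  | mul a b _ _ ha hb =>
    rw [Derivation.leibniz]
    exact add_mem (Submodule.smul_mem _ _ hb) (Submodule.smul_mem _ _ ha)

/-- The generic fibre of affine space is smooth of relative dimension `d`. -/
theorem smooth_mvPolynomial (K : Type u) [Field K] [Algebra V K] (d : ℕ) :
    SmoothOfRelativeDimension d (Spec.map (CommRingCat.ofHom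
      (algebraMap K (K ⊗[V] MvPolynomial (Fin d) V)))) := by
  refine H82.Contract.smoothOfRelativeDimension_spec (n := d) _ ?_
  let e := MvPolynomial.algebraTensorAlgEquiv (R := V) (σ := Fin d) K
  have h := RingHom.IsStandardSmoothOfRelativeDimension.comp
    (RingHom.IsStandardSmoothOfRelativeDimension.equiv e.symm.toRingEquiv)
    ((RingHom.isStandardSmoothOfRelativeDimension_algebraMap _).mpr
      (Groth.Agent.Lib.ProjSpace.Basic.isStandardSmoothOfRelativeDimension_mvPolynomial K d))
  rw [zero_add] at h
  convert h using 1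
  exact RingHom.ext fun x => (e.symm.commutes x).symm

theorem main [CharZero V] (ϖ : V) (hϖ : Irreducible ϖ) (p : ℕ) [Fact p.Prime]
    [CharP (IsLocalRing.ResidueField V) p] [PerfectField (IsLocalRing.ResidueField V)]
    (R : Type u) [CommRing R] [Algebra V R] [Module.Flat V R] [Algebra.FiniteType V R] (d : ℕ)
    (hsm : SmoothOfRelativeDimension d
      (Spec.map (CommRingCat.ofHom (algebraMap (FractionRing V) (FractionRing V ⊗[V] R)))))
    (x' : Fin d → R) (hx' : (∃ a : R, Ideal.span {a} ⊔ Ideal.span {algebraMap V R ϖ} = ⊤ ∧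
        ((algebraMap R (Localization.Away (a * algebraMap V R ϖ))).comp
          (MvPolynomial.aeval x' : MvPolynomial (Fin d) V →ₐ[V] R).toRingHom).Etale)) :
    ∃ x : Fin d → R, (∃ a : R, Ideal.span {a} ⊔ Ideal.span {algebraMap V R ϖ} = ⊤ ∧
        ((algebraMap R (Localization.Away (a * algebraMap V R ϖ))).comp
          (MvPolynomial.aeval x : MvPolynomial (Fin d) V →ₐ[V] R).toRingHom).Etale) ∧
      (MvPolynomial.aeval (fun i => (1 : IsLocalRing.ResidueField V) ⊗ₜ[V] x i) :
          MvPolynomial (Fin d) (IsLocalRing.ResidueField V) →ₐ[IsLocalRing.ResidueField V]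
            IsLocalRing.ResidueField V ⊗[V] R).toRingHom.Finite ∧
      (MvPolynomial.aeval (fun i => (1 : FractionRing V) ⊗ₜ[V] x i) :
          MvPolynomial (Fin d) (FractionRing V) →ₐ[FractionRing V] FractionRing V ⊗[V] R).toRingHom.Finite := by
  obtain ⟨n, hn⟩ : ∃ n : ℕ, ∀ w : Ω[R⁄V], (p : R) ^ n • w ∈
      Ideal.span {algebraMap V R ϖ * (p : R) ^ n} • (⊤ : Submodule R Ω[R⁄V]) ⊔
        Submodule.span R (Set.range fun i => KaehlerDifferential.D V R (x' i)) := by
    letI := (MvPolynomial.aeval x' : MvPolynomial (Fin d) V →ₐ[V] R).toRingHom.toAlgebra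
    haveI : IsScalarTower V (MvPolynomial (Fin d) V) R :=
      IsScalarTower.of_algebraMap_eq fun v => ((MvPolynomial.aeval x').commutes v).symm
    obtain ⟨n, hn⟩ := (Groth.Agent.S14383.result V ϖ hϖ p (MvPolynomial (Fin d) V) R).1 hx'
    exact ⟨n, (le_iff V x' _ _).mp hn⟩
  haveI : Algebra.FiniteType (FractionRing V) (FractionRing V ⊗[V] R) := inferInstance
  have hη := ringKrullDim_le_of_smooth (FractionRing V) (FractionRing V ⊗[V] R) d hsm
  have hs := ringKrullDim_special_le V R d hη
  obtain ⟨y, hy, hfs, hfη⟩ := Groth.Agent.S14379.result V R d hs hη x' (p ^ (n + 1))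
    (Nat.one_le_pow _ _ (Fact.out : p.Prime).pos)
  refine ⟨fun i => x' i + y i, ?_, hfs, hfη⟩
  letI := (MvPolynomial.aeval fun i => x' i + y i : MvPolynomial (Fin d) V →ₐ[V] R).toRingHom.toAlgebra
  haveI : IsScalarTower V (MvPolynomial (Fin d) V) R :=
    IsScalarTower.of_algebraMap_eq fun v => ((MvPolynomial.aeval fun i => x' i + y i).commutes v).symm
  refine (Groth.Agent.S14383.result V ϖ hϖ p (MvPolynomial (Fin d) V) R).2 d
    (smooth_mvPolynomial V (FractionRing V) d) hsm ⟨n, (le_iff V _ _ _).mpr fun w => ?_⟩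
  obtain ⟨u, e, he, hp⟩ := Groth.Agent.S14383.natCast_eq V ϖ hϖ p
  have hdvd : Ideal.span {((p ^ (n + 1) : ℕ) : R)} ≤ Ideal.span {algebraMap V R ϖ * (p : R) ^ n} := by
    rw [Ideal.span_singleton_le_span_singleton, Nat.cast_pow, pow_succ, mul_comm ((p : R) ^ n),
      ← map_natCast (algebraMap V R) p, hp, map_mul, map_pow]
    exact mul_dvd_mul_right ((dvd_pow_self _ he.ne').mul_left _) _
  refine (?_ : Ideal.span {algebraMap V R ϖ * (p : R) ^ n} • (⊤ : Submodule R Ω[R⁄V]) ⊔
      Submodule.span R (Set.range fun i => KaehlerDifferential.D V R (x' i)) ≤ _) (hn w)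
  refine sup_le le_sup_left (Submodule.span_le.mpr ?_)
  rintro _ ⟨i, rfl⟩
  show KaehlerDifferential.D V R (x' i) ∈ _
  rw [show x' i = (x' i + y i) - y i by abel, map_sub]
  refine sub_mem (Submodule.mem_sup_right (Submodule.subset_span ⟨i, rfl⟩)) (Submodule.mem_sup_left ?_)
  exact Submodule.smul_mono_left hdvd (D_mem_of_closure_pow V (hy i))

end Groth.Agent.H46.EtaEtale
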