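import Groth.Agent.H46.UnibranchLift
import Groth.Agent.Lib.FEt.NormalAlg
import Mathlib.RingTheory.Ideal.GoingUp
import Mathlib.RingTheory.LocalRing.ResidueField.Ideal

/-!
# Étale algebras over geometrically unibranch points are locally domains
-/

universe u

open TensorProduct Groth.Agent.H46.UnibranchLift

namespace Groth.Agent.H46.EtaleGUB

set_option linter.style.haveILetI false

theorem isDomain_localization {R E : Type u} [CommRing R] [CommRing E] [Algebra R E]
    [Algebra.Etale R E] (N : Ideal E) [N.IsPrime] (h : GUB R (N.under R))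
    (L : Type u) [CommRing L] [Algebra E L] [IsLocalization.AtPrime L N] : IsDomain L := by
  classical
  obtain ⟨R', _, _, _, hinj, _, _, -, m, hm, q, hq, hmp, huniq, hpi⟩ := h
  let E' := R' ⊗[R] E
  let il : R' →ₐ[R] E' := Algebra.TensorProduct.includeLeft
  let ir : E →ₐ[R] E' := Algebra.TensorProduct.includeRight
  letI : Algebra E E' := ir.toRingHom.toAlgebra
  haveI : Algebra.IsIntegral E E' := ⟨fun z => by
    induction z using TensorProduct.induction_on with
    | zero => exact isIntegral_zero
    | tmul c e =>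
      rw [show c ⊗ₜ[R] e = il c * ir e by
        show c ⊗ₜ[R] e = c ⊗ₜ[R] (1 : E) * (1 : R') ⊗ₜ[R] e
        rw [Algebra.TensorProduct.tmul_mul_tmul, mul_one, one_mul]]
      refine IsIntegral.mul ?_ isIntegral_algebraMap
      obtain ⟨P, hP, hPc⟩ := Algebra.IsIntegral.isIntegral (R := R) c
      refine ⟨P.map (algebraMap R E), hP.map _, ?_⟩
      rw [Polynomial.eval₂_map,
        show (algebraMap E E').comp (algebraMap R E) = il.toRingHom.comp (algebraMap R R') from
          ir.comp_algebraMap.trans il.comp_algebraMap.symm,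
        show il c = il.toRingHom c from rfl, ← Polynomial.hom_eval₂, hPc, map_zero]
    | add x y hx hy => exact hx.add hy⟩
  haveI : Module.Flat R E := inferInstance
  have hirinj : Function.Injective ir := by
    intro a b hab
    have h1 : ((Algebra.linearMap R R').rTensor E) ((1 : R) ⊗ₜ[R] a) =
        ((Algebra.linearMap R R').rTensor E) ((1 : R) ⊗ₜ[R] b) := by
      rw [LinearMap.rTensor_tmul, LinearMap.rTensor_tmul, Algebra.linearMap_apply, map_one]
      exact hab
    have h2 := congrArg (TensorProduct.lid R E)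
      (Module.Flat.rTensor_preserves_injective_linearMap (M := E) _ hinj h1)
    simpa using h2
  -- uniqueness of the prime over `N`
  have hsub : ∀ P Q : Ideal E', P.IsPrime → Q.IsPrime → P.comap ir.toRingHom = N →
      Q.comap ir.toRingHom = N → P ≤ Q := by
    intro P Q hP hQ hPN hQN
    let g₁ : N.ResidueField →+* P.ResidueField := Ideal.ResidueField.map N P ir.toRingHom hPN.symm
    let g₂ : N.ResidueField →+* Q.ResidueField := Ideal.ResidueField.map N Q ir.toRingHom hQN.symm
    obtain ⟨Ω, _, j₁, j₂, hj⟩ := exists_common_field g₁ g₂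
    let χ₁ : E' →+* Ω := j₁.comp (algebraMap E' P.ResidueField)
    let χ₂ : E' →+* Ω := j₂.comp (algebraMap E' Q.ResidueField)
    have hE : ∀ e, χ₁ (ir e) = χ₂ (ir e) := fun e => by
      show j₁ (algebraMap E' P.ResidueField (ir.toRingHom e)) =
        j₂ (algebraMap E' Q.ResidueField (ir.toRingHom e))
      rw [← Ideal.ResidueField.map_algebraMap N P ir.toRingHom hPN.symm e,
        ← Ideal.ResidueField.map_algebraMap N Q ir.toRingHom hQN.symm e]
      exact RingHom.congr_fun hj _
    have hk₁ : ∀ z, χ₁ z = 0 ↔ z ∈ P := fun z =>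
      (map_eq_zero j₁).trans Ideal.algebraMap_residueField_eq_zero
    have hk₂ : ∀ z, χ₂ z = 0 ↔ z ∈ Q := fun z =>
      (map_eq_zero j₂).trans Ideal.algebraMap_residueField_eq_zero
    have hover : ∀ P : Ideal E', P.IsPrime → P.comap ir.toRingHom = N →
        P.comap il.toRingHom = m := fun P _ hPN => by
      refine huniq _ (Ideal.comap_isPrime _ _) ?_
      rw [Ideal.comap_comap, show il.toRingHom.comp (algebraMap R R') =
        ir.toRingHom.comp (algebraMap R E) from il.comp_algebraMap.trans ir.comp_algebraMap.symm,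
        ← Ideal.comap_comap, hPN]
    haveI : ExpChar Ω q := expChar_of_injective_ringHom
      (f := Ideal.Quotient.lift m (χ₁.comp il.toRingHom) fun a ha =>
        (hk₁ _).2 ((hover P hP hPN).ge ha))
      (RingHom.lift_injective_of_ker_le_ideal _ _ fun a ha =>
        (hover P hP hPN).le ((hk₁ _).1 ha)) q
    have hR : ∀ c, χ₁ (il c) = χ₂ (il c) := by
      intro c
      obtain ⟨j, r, s, hs, hrs⟩ := hpi c
      have e₁ : χ₁ (il (algebraMap R R' s * c ^ q ^ j - algebraMap R R' r)) = 0 :=
        (hk₁ _).2 ((hover P hP hPN).ge hrs)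
      have e₂ : χ₂ (il (algebraMap R R' s * c ^ q ^ j - algebraMap R R' r)) = 0 :=
        (hk₂ _).2 ((hover Q hQ hQN).ge hrs)
      simp only [map_sub, map_mul, map_pow, AlgHom.commutes, sub_eq_zero] at e₁ e₂
      have hc : ∀ a : R, χ₁ (algebraMap R E' a) = χ₂ (algebraMap R E' a) := fun a => by
        rw [← ir.commutes]; exact hE _
      rw [hc s, hc r, ← e₂] at e₁
      refine iterateFrobenius_inj Ω q j (mul_left_cancel₀ ?_ e₁)
      rw [← ir.commutes]
      exact fun h0 => hs (by rw [← hQN]; exact (hk₂ _).1 h0)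
    have hall : χ₁ = χ₂ := RingHom.ext fun z => by
      induction z using TensorProduct.induction_on with
      | zero => rw [map_zero, map_zero]
      | tmul c e =>
        rw [show c ⊗ₜ[R] e = il c * ir e by
          show c ⊗ₜ[R] e = c ⊗ₜ[R] (1 : E) * (1 : R') ⊗ₜ[R] e
          rw [Algebra.TensorProduct.tmul_mul_tmul, mul_one, one_mul], map_mul, map_mul, hR, hE]
      | add x y hx hy => rw [map_add, map_add, hx, hy]
    intro z hz
    rw [← hk₂, ← hall, hk₁]
    exact hz
  obtain ⟨P, -, hPp, hPN⟩ := Ideal.exists_ideal_over_prime_of_isIntegral N (⊥ : Ideal E')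
    (fun e he => by
      have : ir e = 0 := (Submodule.mem_bot E').1 he
      rw [(map_eq_zero_iff ir hirinj).1 this]
      exact N.zero_mem)
  haveI := hPp
  haveI : IsDomain (Localization.AtPrime P) :=
    (Groth.Agent.Lib.FEt.NormalAlg.normal_localization R' E' P (Localization.AtPrime P)).1
  let ψ : E →+* Localization.AtPrime P := (algebraMap E' _).comp ir.toRingHom
  have hψu : ∀ y : N.primeCompl, IsUnit (ψ y) := fun y =>
    IsLocalization.map_units (Localization.AtPrime P)
      (⟨ir y, fun h => y.2 (hPN.le h)⟩ : P.primeCompl)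
  have hkill : ∀ e, ψ e = 0 → ∃ t ∉ N, t * e = 0 := by
    intro e he
    obtain ⟨⟨u, hu⟩, hue⟩ := (IsLocalization.map_eq_zero_iff P.primeCompl _ (ir e)).1 he
    by_contra hc
    push Not at hc
    let J : Ideal E' := Submodule.comap (LinearMap.mulRight E' (ir e)) ⊥
    have hdisj : Disjoint (J : Set E') (N.primeCompl.map ir.toRingHom : Submonoid E') := by
      rw [Set.disjoint_left]
      rintro _ hzI ⟨t, ht, rfl⟩
      have h0 : ir t * ir e = 0 := (Submodule.mem_bot E').1 hzI
      rw [← map_mul] at h0
      exact hc t ht ((map_eq_zero_iff ir hirinj).1 h0)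
    obtain ⟨P₀, hP₀, hJP₀, hdP₀⟩ := Ideal.exists_le_prime_disjoint J _ hdisj
    obtain ⟨P₁, h1, h2, h3⟩ := Ideal.exists_ideal_over_prime_of_isIntegral N P₀ (fun a ha => by
      by_contra haN
      exact Set.disjoint_left.1 hdP₀ ha ⟨a, haN, rfl⟩)
    exact hu (hsub P₁ P h2 hPp h3 hPN
      (h1 (hJP₀ (show u ∈ J from (Submodule.mem_bot E').2 hue))))
  haveI : IsLocalRing L := IsLocalization.AtPrime.isLocalRing L N
  refine Function.Injective.isDomain (IsLocalization.lift (S := L) hψu) ?_
  rw [injective_iff_map_eq_zero]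
  intro z hz
  obtain ⟨⟨e, s⟩, rfl⟩ := IsLocalization.mk'_surjective N.primeCompl z
  rw [IsLocalization.lift_mk'_spec, mul_zero] at hz
  obtain ⟨t, ht, hte⟩ := hkill e hz
  rw [IsLocalization.mk'_eq_zero_iff]
  exact ⟨⟨t, ht⟩, hte⟩

end Groth.Agent.H46.EtaleGUB
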