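import Groth.Agent.H46.DimData
import Groth.Agent.H46.Lift
import Groth.Agent.H46.UnivOpenFinite
import Groth.Agent.H2.FibreDimPullback
import Groth.Agent.Lib.FibreDim.Global
import Mathlib.RingTheory.Extension.Presentation.Core

/-!
# Constructibility of the fibre dimension for morphisms of finite presentation
-/

universe u

open CategoryTheory AlgebraicGeometry Limits Topology TensorProduct
open Groth.Agent.H46.FibreTrdeg Groth.Agent.H46.DimData Groth.Agent.Lib.FibreDim

namespace Groth.Agent.H46.FibreDimCons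

set_option linter.style.haveILetI false

variable {X Y Z : Scheme.{u}}

/-- A lower bound for the fibre dimension valid at all generizations holds nearby. -/
theorem mem_nhds_of_generizations (f : X ⟶ Y) [LocallyOfFinitePresentation f] (g : Z ⟶ X) (z₀ : Z)
    (n : ℕ) (H : ∀ q, q ⤳ z₀ → (n : WithBot ℕ∞) ≤ FlatMor.fibreDimAt f (g q)) :
    {z : Z | (n : WithBot ℕ∞) ≤ FlatMor.fibreDimAt f (g z)} ∈ 𝓝 z₀ := by
  classical
  obtain ⟨V, hV, hxV, -⟩ :=
    exists_isAffineOpen_mem_and_subset (X := Y) (x := f (g z₀)) (U := ⊤) trivial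
  obtain ⟨W, hW, hxW, hWV⟩ :=
    exists_isAffineOpen_mem_and_subset (X := X) (x := g z₀) (U := f ⁻¹ᵁ V) hxV
  obtain ⟨U, hU, hzU, hUW⟩ :=
    exists_isAffineOpen_mem_and_subset (X := Z) (x := z₀) (U := g ⁻¹ᵁ W) hxW
  let R := Γ(Y, V)
  let A := Γ(X, W)
  let φ := f.appLE V W hWV
  let φg := g.appLE W U hUW
  letI : Algebra R A := φ.hom.toAlgebra
  haveI : Algebra.FinitePresentation R A :=
    RingHom.finitePresentation_algebraMap.1
      (LocallyOfFinitePresentation.finitePresentation_appLE f hV hW hWV)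
  let P := Algebra.Presentation.ofFinitePresentation R A
  let R₀ := P.Core
  let A₀ := P.ModelOfHasCoeffs R₀
  haveI : IsNoetherianRing R₀ := Algebra.FiniteType.isNoetherianRing ℤ R₀
  haveI : IsNoetherianRing A₀ := Algebra.FiniteType.isNoetherianRing R₀ A₀
  let A' := R ⊗[R₀] A₀
  let e : A' ≃ₐ[R] A := P.tensorModelOfHasCoeffsEquiv R₀
  haveI := hV.isOpenImmersion_fromSpec
  haveI := hW.isOpenImmersion_fromSpec
  let σ : A ⟶ CommRingCat.of A' := e.symm.toRingEquiv.toCommRingCatIso.hom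
  let w : Spec (CommRingCat.of A') ⟶ X := Spec.map σ ≫ hW.fromSpec
  have hw : Spec.map (CommRingCat.ofHom (algebraMap R A')) ≫ hV.fromSpec = w ≫ f := by
    rw [show CommRingCat.ofHom (algebraMap R A') = φ ≫ σ from
      CommRingCat.hom_ext e.symm.toAlgHom.comp_algebraMap.symm, Spec.map_comp, Category.assoc,
      hV.SpecMap_appLE_fromSpec f hW hWV, Category.assoc]
  haveI : LocallyOfFiniteType (UnivOpenFinite.sm R₀ A₀) :=
    (HasRingHomProperty.Spec_iff (P := @LocallyOfFiniteType)).2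
      (RingHom.finiteType_algebraMap.2 inferInstance)
  have hdim : ∀ Q : PrimeSpectrum A', FlatMor.fibreDimAt f (w.base Q) =
      FlatMor.fibreDimAt (UnivOpenFinite.sm R₀ A₀) (UnivOpenFinite.pr R₀ R A₀ Q) := fun Q => by
    rw [H2.FibreDimPullback.fibreDimAt_eq_fdim f hV.fromSpec w hw Q,
      ← H2.FibreDimPullback.fibreDimAt_eq_fdim (UnivOpenFinite.sm R A') (𝟙 _) (𝟙 _) rfl Q]
    exact H2.FibreDimPullback.fibreDimAt_of_isPullback (UnivOpenFinite.isPullback_pr R) Q
  let ψ : A₀ →+* Γ(Z, U) := (φg.hom.comp e.toRingEquiv.toRingHom).comp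
    (Algebra.TensorProduct.includeRight : A₀ →ₐ[R₀] A').toRingHom
  have hg : ∀ q : PrimeSpectrum Γ(Z, U), FlatMor.fibreDimAt f (g (hU.fromSpec q)) =
      FlatMor.fibreDimAt (UnivOpenFinite.sm R₀ A₀) (PrimeSpectrum.comap ψ q) := fun q => by
    let Q : PrimeSpectrum A' := PrimeSpectrum.comap (φg.hom.comp e.toRingEquiv.toRingHom) q
    have h1 : w.base Q = g (hU.fromSpec q) := by
      have h2 : Spec.map (CommRingCat.ofHom (φg.hom.comp e.toRingEquiv.toRingHom)) ≫ w =
          hU.fromSpec ≫ g := by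
        rw [← hW.SpecMap_appLE_fromSpec g hU hUW, ← Category.assoc, ← Spec.map_comp]
        congr 2
        ext a
        show φg.hom (e (e.symm a)) = φg.hom a
        rw [e.apply_symm_apply]
      exact congrArg (fun m : Spec Γ(Z, U) ⟶ X => m q) h2
    rw [← h1, hdim]
    rfl
  let F₀ : Set (PrimeSpectrum A₀) :=
    {a | (n : WithBot ℕ∞) ≤ FlatMor.fibreDimAt (UnivOpenFinite.sm R₀ A₀) a}
  have hF₀ : IsClosed F₀ := Global.isClosed_setOf_le_fibreDimAt (UnivOpenFinite.sm R₀ A₀) n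
  obtain ⟨I, hI⟩ := (PrimeSpectrum.isClosed_iff_zeroLocus_ideal F₀).1 hF₀
  obtain ⟨t, ht⟩ := (inferInstance : IsNoetherianRing A₀).noetherian I
  let S : Set (PrimeSpectrum Γ(Z, U)) :=
    {q | (n : WithBot ℕ∞) ≤ FlatMor.fibreDimAt f (g (hU.fromSpec q))}
  have hS : IsConstructible S := by
    have : S = PrimeSpectrum.zeroLocus (ψ '' (t : Set A₀)) := by
      rw [← PrimeSpectrum.preimage_comap_zeroLocus, ← PrimeSpectrum.zeroLocus_span,
        show Ideal.span (t : Set A₀) = I from ht, ← hI]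
      ext q
      show (n : WithBot ℕ∞) ≤ FlatMor.fibreDimAt f (g (hU.fromSpec q)) ↔
        (n : WithBot ℕ∞) ≤ FlatMor.fibreDimAt (UnivOpenFinite.sm R₀ A₀) (PrimeSpectrum.comap ψ q)
      rw [hg]
    rw [this, ← compl_compl (PrimeSpectrum.zeroLocus _)]
    exact ((PrimeSpectrum.isRetrocompact_zeroLocus_compl
      (t.finite_toSet.image ψ)).isConstructible
        (PrimeSpectrum.isClosed_zeroLocus _).isOpen_compl).compl
  let q₀ : PrimeSpectrum Γ(Z, U) := hU.primeIdealOf ⟨z₀, hzU⟩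
  have hq₀ : hU.fromSpec q₀ = z₀ := hU.fromSpec_primeIdealOf ⟨z₀, hzU⟩
  have hmem : S ∈ 𝓝 q₀ := Lift.mem_nhds_of_isConstructible hS q₀ fun q hq =>
    H _ (hq₀ ▸ hq.map hU.fromSpec.continuous)
  haveI := hU.isOpenImmersion_fromSpec
  have := hU.fromSpec.isOpenEmbedding.isOpenMap.image_mem_nhds hmem
  rw [hq₀] at this
  refine Filter.mem_of_superset this ?_
  rintro _ ⟨q, hq, rfl⟩
  exact hq

end Groth.Agent.H46.FibreDimCons
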