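import Groth.Prelude.Def_CAlg
import Groth.Prelude.Def_EGA4b
import Groth.Agent.Lib.QDepth.Sk
import Groth.Agent.Lib.QDepth.Two
import Mathlib.RingTheory.Flat.EquationalCriterion

/-!
# Flatness from codimension one over an Artinian base
-/

universe u

open IsLocalRing LocCoh Groth.Agent.Lib

namespace Groth.Agent.H46.ReducedFibreS2

variable {A B : Type u} [CommRing A] [CommRing B] [Algebra A B]

/-- `x` lies in `K` locally at `p`. -/
def LMem (p : Ideal B) (K : Ideal B) (x : B) : Prop := ∃ s ∉ p, s * x ∈ K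

theorem lmem_mono {p K K' : Ideal B} (h : K ≤ K') {x : B} : LMem p K x → LMem p K' x :=
  fun ⟨s, hs, hx⟩ => ⟨s, hs, h hx⟩

theorem lmem_iff (p : Ideal B) [p.IsPrime] (K : Ideal B) (x : B) :
    LMem p K x ↔ algebraMap B (Localization.AtPrime p) x ∈ K.map (algebraMap B _) := by
  rw [IsLocalization.algebraMap_mem_map_algebraMap_iff p.primeCompl]
  exact ⟨fun ⟨s, hs, h⟩ => ⟨s, hs, h⟩, fun ⟨s, hs, h⟩ => ⟨s, hs, h⟩⟩

theorem lmem_add {p : Ideal B} [hp : p.IsPrime] {K : Ideal B} {x y : B} (hx : LMem p K x)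
    (hy : LMem p K y) : LMem p K (x + y) := by
  rw [lmem_iff] at hx hy ⊢
  rw [map_add]
  exact add_mem hx hy

theorem lmem_neg {p : Ideal B} {K : Ideal B} {x : B} (hx : LMem p K x) : LMem p K (-x) := by
  obtain ⟨s, hs, h⟩ := hx
  exact ⟨s, hs, by rw [mul_neg]; exact neg_mem h⟩

theorem lmem_mul {p : Ideal B} {K : Ideal B} {x : B} (a : B) (hx : LMem p K x) :
    LMem p K (a * x) := by
  obtain ⟨s, hs, h⟩ := hx
  exact ⟨s, hs, by rw [mul_left_comm]; exact K.mul_mem_left a h⟩

/-- An element outside `K` has a multiple whose transporter into `K` is prime. -/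
theorem exists_prime_colon [IsNoetherianRing B] (K : Ideal B) {x : B} (hx : x ∉ K) :
    ∃ (b : B) (p : Ideal B), p.IsPrime ∧ ∀ a, a ∈ p ↔ a * (b * x) ∈ K := by
  let col : B → Ideal B := fun y => Submodule.comap (LinearMap.mulRight B y) K
  let S : Set (Ideal B) := {I | ∃ b, b * x ∉ K ∧ I = col (b * x)}
  obtain ⟨I, ⟨b, hb, rfl⟩, hmax⟩ :=
    set_has_maximal_iff_noetherian.mpr inferInstance S ⟨_, 1, by simpa using hx, rfl⟩
  refine ⟨b, col (b * x), ⟨fun h => hb ?_, fun {r s} hrs => ?_⟩, fun a => Iff.rfl⟩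
  · have : (1 : B) ∈ col (b * x) := h ▸ Submodule.mem_top
    simpa [col] using this
  · by_contra hc
    rw [not_or] at hc
    have h1 : s * b * x ∉ K := by
      intro h
      exact hc.2 (show s * (b * x) ∈ K by rw [← mul_assoc]; exact h)
    have hle : col (b * x) ≤ col (s * b * x) := fun a (ha : a * (b * x) ∈ K) => by
      show a * (s * b * x) ∈ K
      rw [show a * (s * b * x) = s * (a * (b * x)) by ring]
      exact K.mul_mem_left _ ha
    have heq := (hle.lt_or_eq).resolve_left (hmax _ ⟨s * b, h1, rfl⟩)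
    apply hc.1
    rw [heq]
    show r * (s * b * x) ∈ K
    rw [show r * (s * b * x) = r * s * (b * x) by ring]
    exact hrs

variable [IsArtinianRing A] [IsLocalRing A]

theorem eq_top_or_le (I : Ideal A) : I = ⊤ ∨ I ≤ maximalIdeal A :=
  (em (I = ⊤)).imp id IsLocalRing.le_maximalIdeal

theorem isNilpotent_maxIdeal : IsNilpotent (maximalIdeal A) := by
  have := IsArtinianRing.isNilpotent_jacobson_bot (R := A)
  rwa [IsLocalRing.jacobson_eq_maximalIdeal ⊥ bot_ne_top] at this

theorem map_le_nilradical : (maximalIdeal A).map (algebraMap A B) ≤ nilradical B := by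
  obtain ⟨n, hn⟩ := isNilpotent_maxIdeal (A := A)
  refine Ideal.map_le_iff_le_comap.2 fun a ha => ?_
  refine IsNilpotent.map ⟨n, ?_⟩ _
  have := Ideal.pow_mem_pow ha n
  rw [hn] at this
  exact this

/-- The hypotheses in codimension one. -/
def CodimOne (A B : Type u) [CommRing A] [CommRing B] [Algebra A B] : Prop :=
  ∀ (q : Ideal B) [q.IsPrime], q.height ≤ 1 →
    Module.Flat A (Localization.AtPrime q) ∧ IsReduced (EGA4.FibLocRing A B q)

variable (hcd : CodimOne A B)
include hcd

omit [IsArtinianRing A] in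
theorem lmem_colon {I : Ideal A} {t : A} (ht : t ∉ I) {p : Ideal B} [p.IsPrime]
    (hp : p.height ≤ 1) {c : B} (h : LMem p (I.map (algebraMap A B)) (algebraMap A B t * c)) :
    LMem p ((maximalIdeal A).map (algebraMap A B)) c := by
  haveI := (hcd p hp).1
  let L := Localization.AtPrime p
  rw [lmem_iff, Ideal.map_map, ← IsScalarTower.algebraMap_eq, map_mul,
    ← IsScalarTower.algebraMap_apply] at h
  rw [lmem_iff, Ideal.map_map, ← IsScalarTower.algebraMap_eq]
  rw [Ideal.map, Ideal.span, Submodule.mem_span_set'] at h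
  obtain ⟨n, f, g, hg⟩ := h
  choose i hi hgi using fun j => (g j).2
  obtain ⟨k, a, y, hxy, hfa⟩ := Module.Flat.isTrivialRelation_of_sum_smul_eq_zero (R := A)
    (f := fun j : Option (Fin n) => j.elim t fun j => -i j)
    (x := fun j : Option (Fin n) => j.elim (algebraMap B L c) f) (by
      rw [Fintype.sum_option]
      simp only [Option.elim, Algebra.smul_def, map_neg, neg_mul, Finset.sum_neg_distrib]
      rw [← hg, ← Finset.sum_add_distrib]
      refine Finset.sum_eq_zero fun j _ => ?_
      rw [smul_eq_mul, ← hgi, neg_mul, mul_comm, add_neg_cancel])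
  have h0 := hxy none
  simp only [Option.elim] at h0
  rw [h0]
  refine Ideal.sum_mem _ fun j _ => ?_
  rw [Algebra.smul_def]
  refine Ideal.mul_mem_right _ _ (Ideal.mem_map_of_mem _ ?_)
  by_contra hu
  have hu' : IsUnit (a none j) := IsLocalRing.notMem_maximalIdeal.1 hu
  have := hfa j
  rw [Fintype.sum_option] at this
  simp only [Option.elim, neg_mul, Finset.sum_neg_distrib, ← sub_eq_add_neg, sub_eq_zero] at this
  refine ht ((Ideal.mul_unit_mem_iff_mem I hu').1 ?_)
  rw [this]
  exact Ideal.sum_mem _ fun l _ => I.mul_mem_right _ (hi l)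

theorem lmem_of_nilradical {p : Ideal B} [p.IsPrime] (hp : p.height ≤ 1) {x : B}
    (hx : x ∈ nilradical B) : LMem p ((maximalIdeal A).map (algebraMap A B)) x := by
  haveI := (hcd p hp).2
  have hpm : p.comap (algebraMap A B) = maximalIdeal A :=
    IsLocalRing.eq_maximalIdeal ((Ideal.IsPrime.isMaximal'
      (inferInstance : (p.comap (algebraMap A B)).IsPrime)))
  rw [lmem_iff, Ideal.map_map, ← IsScalarTower.algebraMap_eq, ← hpm,
    ← Ideal.Quotient.eq_zero_iff_mem]
  exact (((mem_nilradical.1 hx).map (algebraMap B (Localization.AtPrime p))).map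
    (Ideal.Quotient.mk _)).eq_zero

theorem lmem_base {p : Ideal B} [p.IsPrime] (hp : p.height ≤ 1) (hp' : p ∉ minimalPrimes B)
    {y : B} (h : ∀ a ∈ p, LMem p ((maximalIdeal A).map (algebraMap A B)) (a * y)) :
    LMem p ((maximalIdeal A).map (algebraMap A B)) y := by
  by_cases hy : y ∈ p
  · obtain ⟨s, hs, hsy⟩ := h y hy
    have : s * y ∈ nilradical B :=
      mem_nilradical.2 (IsNilpotent.of_pow (m := 2) (mem_nilradical.1
        ((show s * (s * (y * y)) = (s * y) ^ 2 by ring) ▸
          Ideal.mul_mem_left (nilradical B) s (map_le_nilradical hsy))))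
    obtain ⟨s', hs', h'⟩ := lmem_of_nilradical hcd hp this
    exact ⟨s' * s, fun hm => (Ideal.IsPrime.mem_or_mem ‹_› hm).elim hs' hs, by rwa [mul_assoc]⟩
  · exfalso
    obtain ⟨q, hq, hqp⟩ := Ideal.exists_minimalPrimes_le (bot_le : (⊥ : Ideal B) ≤ p)
    haveI := hq.1.1
    refine hp' ((le_antisymm hqp fun a ha => ?_) ▸ hq)
    obtain ⟨s, hs, hsa⟩ := h a ha
    have h1 : s * (a * y) ∈ q := nilradical_le_prime q (map_le_nilradical hsa)
    refine ((hq.1.1.mem_or_mem h1).resolve_left fun hm => hs (hqp hm)) |> fun h2 => ?_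
    exact (hq.1.1.mem_or_mem h2).resolve_right fun hm => hy (hqp hm)

/-- Codimension one points are not embedded in `B/IB`. -/
theorem lmem_codimOne {p : Ideal B} [p.IsPrime] (hp : p.height ≤ 1) (hp' : p ∉ minimalPrimes B) :
    ∀ (I : Ideal A) (y : B), (∀ a ∈ p, LMem p (I.map (algebraMap A B)) (a * y)) →
      LMem p (I.map (algebraMap A B)) y := by
  intro I
  induction I using WellFoundedGT.induction with
  | ind I IH =>
    intro y hy
    rcases eq_top_or_le I with rfl | hI
    · exact ⟨1, fun h => Ideal.IsPrime.ne_top ‹_› ((Ideal.eq_top_iff_one _).2 h), by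
        rw [Ideal.map_top]; trivial⟩
    rcases hI.lt_or_eq with hI' | rfl
    swap
    · exact lmem_base hcd hp hp' hy
    obtain ⟨t, ht, hmt⟩ : ∃ t, t ∉ I ∧ ∀ u ∈ maximalIdeal A, u * t ∈ I := by
      classical
      obtain ⟨n, hn⟩ := isNilpotent_maxIdeal (A := A)
      have hex : ∃ n, maximalIdeal A ^ n ≤ I := ⟨n, by rw [hn]; exact bot_le⟩
      have h0 : Nat.find hex ≠ 0 := fun h => by
        have := Nat.find_spec hex
        rw [h, pow_zero, Ideal.one_eq_top, top_le_iff] at this
        exact (hI.trans_lt (lt_top_iff_ne_top.2 Ideal.IsPrime.ne_top')).ne this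
      obtain ⟨k, hk⟩ := Nat.exists_eq_succ_of_ne_zero h0
      obtain ⟨t, htk, ht⟩ := SetLike.not_le_iff_exists.1
        (Nat.find_min hex (show k < Nat.find hex by omega))
      refine ⟨t, ht, fun u hu => ?_⟩
      have := Nat.find_spec hex
      rw [hk, pow_succ'] at this
      exact this (Ideal.mul_mem_mul hu htk)
    let J := I ⊔ Ideal.span {t}
    have hIJ : I < J := left_lt_sup.2 fun h => ht (h (Ideal.mem_span_singleton_self t))
    have hmap : J.map (algebraMap A B) =
        I.map (algebraMap A B) ⊔ Ideal.span {algebraMap A B t} := by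
      rw [Ideal.map_sup, Ideal.map_span, Set.image_singleton]
    obtain ⟨s, hs, hsy⟩ := IH J hIJ y fun a ha => lmem_mono (Ideal.map_mono hIJ.le) (hy a ha)
    rw [hmap, Submodule.mem_sup] at hsy
    obtain ⟨i, hi, w, hw, hiw⟩ := hsy
    obtain ⟨c, rfl⟩ := Ideal.mem_span_singleton'.1 hw
    have hc : LMem p (Ideal.map (algebraMap A B) (maximalIdeal A)) c := by
      refine lmem_base hcd hp hp' fun a ha => lmem_colon hcd ht hp ?_
      have : algebraMap A B t * (a * c) = s * (a * y) + -(a * i) := by
        linear_combination a * hiw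
      rw [this]
      exact lmem_add (lmem_mul s (hy a ha))
        ⟨1, fun h => Ideal.IsPrime.ne_top ‹_› ((Ideal.eq_top_iff_one _).2 h), by
          rw [one_mul]; exact neg_mem (Ideal.mul_mem_left _ _ hi)⟩
    obtain ⟨s', hs', hc⟩ := hc
    refine ⟨s' * s, fun hm => (Ideal.IsPrime.mem_or_mem ‹_› hm).elim hs' hs, ?_⟩
    rw [mul_assoc, ← hiw, mul_add, ← mul_assoc s' c]
    refine add_mem (Ideal.mul_mem_left _ _ hi) ?_
    have hle : (maximalIdeal A).map (algebraMap A B) ≤
        Submodule.comap (LinearMap.mulRight B (algebraMap A B t)) (I.map (algebraMap A B)) :=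
      Ideal.map_le_iff_le_comap.2 fun u hu => by
        show algebraMap A B u * algebraMap A B t ∈ I.map (algebraMap A B)
        rw [← map_mul]
        exact Ideal.mem_map_of_mem _ (hmt u hu)
    exact hle hc

theorem colon_le_nilradical {I : Ideal A} {t : A} (ht : t ∉ I) {c : B}
    (h : algebraMap A B t * c ∈ I.map (algebraMap A B)) : c ∈ nilradical B := by
  rw [nilradical_eq_sInf, Ideal.mem_sInf]
  intro p (hp : p.IsPrime)
  obtain ⟨q, hq, hqp⟩ := Ideal.exists_minimalPrimes_le (bot_le : (⊥ : Ideal B) ≤ p)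
  haveI := hq.1.1
  have h0 : q.height ≤ 1 := by
    have : q.height = 0 := Ideal.height_eq_zero_iff.2 hq
    simp [this]
  obtain ⟨s, hs, hsc⟩ := lmem_colon hcd ht h0 (c := c)
    ⟨1, fun h => hq.1.1.ne_top ((Ideal.eq_top_iff_one _).2 h), by rwa [one_mul]⟩
  exact hqp ((hq.1.1.mem_or_mem (nilradical_le_prime q (map_le_nilradical hsc))).resolve_left hs)

variable [IsNoetherianRing B] (hS1 : HasSk 1 B B) (hS2 : HasSk 2 (B ⧸ nilradical B) (B ⧸ nilradical B))

omit hcd [IsArtinianRing A] [IsLocalRing A] in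
include hS1 in
theorem eq_zero_of_lmem {x : B} (h : ∀ q ∈ minimalPrimes B, LMem q ⊥ x) : x = 0 := by
  by_contra hx
  obtain ⟨b, p, hp, hpc⟩ := exists_prime_colon ⊥ (x := x) hx
  have hpmin : p ∉ minimalPrimes B := fun hm => by
    obtain ⟨s, hs, hsx⟩ := lmem_mul b (h p hm)
    exact hs ((hpc s).2 hsx)
  obtain ⟨q, hq, hqp⟩ := Ideal.exists_minimalPrimes_le (bot_le : (⊥ : Ideal B) ≤ p)
  haveI := hq.1.1
  have h1 : 1 ≤ p.height :=
    le_add_self.trans (Ideal.height_add_one_le_of_lt_of_isPrime
      (lt_of_le_of_ne hqp fun e => hpmin (e ▸ hq)))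
  let L := Localization.AtPrime p
  have hd : ((1 : ℕ∞) : WithBot ℕ∞) ≤
      Module.supportDim L (LocalizedModule p.primeCompl B) := by
    refine le_of_le_of_eq ?_ (Module.supportDim_self_eq_ringKrullDim (R := L)).symm
    rw [IsLocalization.AtPrime.ringKrullDim_eq_height p L]
    exact WithBot.coe_le_coe.2 h1
  have hdep := QDepth.le_depth_of_hasSk hS1 p (j := 1) le_rfl (by exact_mod_cast hd)
  have hz := QDepth.eq_zero_of_one_le (maximalIdeal L) (M := LocalizedModule p.primeCompl B)
    (by exact_mod_cast hdep) (LocalizedModule.mk (b * x) 1) fun a ha => by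
      obtain ⟨r, s, rfl⟩ := IsLocalization.exists_mk'_eq p.primeCompl a
      have hr : r ∈ p := (IsLocalization.AtPrime.mk'_mem_maximal_iff L p r s).1 ha
      rw [← Localization.mk_eq_mk', LocalizedModule.mk_smul_mk, smul_eq_mul,
        Ideal.mem_bot.1 ((hpc r).1 hr), LocalizedModule.zero_mk]
  rw [← LocalizedModule.zero_mk 1, LocalizedModule.mk_eq] at hz
  obtain ⟨u, hu⟩ := hz
  refine u.2 ((hpc u).2 (Ideal.mem_bot.2 ?_))
  simpa [Submonoid.smul_def] using hu

omit hcd [IsArtinianRing A] [IsLocalRing A] in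
include hS2 in
theorem two_nilradical {p : Ideal B} [p.IsPrime] (hp : 2 ≤ p.height) :
    QDepth.Two (p.map (Ideal.Quotient.mk (nilradical B))) (B ⧸ nilradical B) := by
  refine QDepth.two_of_two_le _ ((QDepth.le_idealDepth_iff_forall _ _ 2).2 fun q hq => ?_)
  refine QDepth.le_depth_of_hasSk hS2 q.asIdeal le_rfl ?_
  let L := Localization.AtPrime q.asIdeal
  refine le_of_le_of_eq ?_ (Module.supportDim_self_eq_ringKrullDim (R := L)).symm
  rw [IsLocalization.AtPrime.ringKrullDim_eq_height q.asIdeal L]
  refine WithBot.coe_le_coe.2 (hp.trans ?_)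
  let Q : PrimeSpectrum B := PrimeSpectrum.comap (Ideal.Quotient.mk (nilradical B)) q
  refine (Ideal.height_mono (J := Q.asIdeal) (Ideal.map_le_iff_le_comap.1 hq)).trans ?_
  rw [PrimeSpectrum.height_eq_orderHeight, PrimeSpectrum.height_eq_orderHeight]
  let f : PrimeSpectrum B → PrimeSpectrum (B ⧸ nilradical B) := fun P =>
    ⟨P.asIdeal.map (Ideal.Quotient.mk _),
      Ideal.map_isPrime_of_surjective Ideal.Quotient.mk_surjective (by
        rw [Ideal.mk_ker]; exact nilradical_le_prime _)⟩
  have hinv : ∀ P : PrimeSpectrum B, (f P).asIdeal.comap (Ideal.Quotient.mk _) = P.asIdeal :=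
    fun P => by
      rw [Ideal.comap_map_of_surjective _ Ideal.Quotient.mk_surjective, ← RingHom.ker_eq_comap_bot,
        Ideal.mk_ker, sup_eq_left]
      exact nilradical_le_prime _
  refine (Order.height_le_height_apply_of_strictMono f (fun P P' h => ?_) Q).trans (le_of_eq ?_)
  · refine lt_of_le_of_ne (Ideal.map_mono h.le) fun he => h.ne (PrimeSpectrum.ext ?_)
    rw [← hinv P, ← hinv P', he]
  · congr 1
    exact PrimeSpectrum.ext (Ideal.map_comap_of_surjective _ Ideal.Quotient.mk_surjective _)

include hS1 hS2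

/-- `B/IB` has no embedded points, for every ideal `I` of `A`. -/
theorem mem_of_lmem : ∀ (I : Ideal A) (x : B),
    (∀ q ∈ minimalPrimes B, LMem q (I.map (algebraMap A B)) x) → x ∈ I.map (algebraMap A B) := by
  intro I
  induction I using WellFoundedLT.induction with
  | ind I IH =>
    intro x hx
    rcases eq_top_or_le I with rfl | hI
    · rw [Ideal.map_top]; trivial
    rcases eq_or_ne I ⊥ with rfl | hI0
    · rw [Ideal.map_bot] at hx ⊢
      exact Ideal.mem_bot.2 (eq_zero_of_lmem hS1 hx)
    obtain ⟨(J : Ideal A), hJI, hJmax⟩ := set_has_maximal_iff_noetherian.mpr inferInstance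
      (Set.Iio I) ⟨⊥, hI0.bot_lt⟩
    obtain ⟨t, htI, htJ⟩ := SetLike.exists_of_lt (Set.mem_Iio.1 hJI)
    have hsup : J ⊔ Ideal.span {t} = I := by
      refine (sup_le (Set.mem_Iio.1 hJI).le ((Ideal.span_singleton_le_iff_mem _).2 htI)).lt_or_eq
        |>.resolve_left fun h => hJmax _ h ?_
      exact left_lt_sup.2 fun h' => htJ (h' (Ideal.mem_span_singleton_self t))
    have hmt : ∀ u ∈ maximalIdeal A, u * t ∈ J := fun u hu => by
      by_contra hut
      have h1 : J ⊔ Ideal.span {u * t} = I := by
        refine (sup_le (Set.mem_Iio.1 hJI).le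
          ((Ideal.span_singleton_le_iff_mem _).2 (I.mul_mem_left u htI))).lt_or_eq
          |>.resolve_left fun h => hJmax _ h ?_
        exact left_lt_sup.2 fun h' => hut (h' (Ideal.mem_span_singleton_self _))
      obtain ⟨j, hj, w, hw, hjw⟩ := Submodule.mem_sup.1 (h1.ge htI)
      obtain ⟨v, rfl⟩ := Ideal.mem_span_singleton'.1 hw
      refine htJ ?_
      obtain ⟨e, he⟩ := IsLocalRing.isUnit_one_sub_self_of_mem_nonunits (v * u)
        (Ideal.mul_mem_left _ v hu)
      have : (e : A) * t ∈ J := by
        rw [he, show (1 - v * u) * t = j by linear_combination -hjw]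
        exact hj
      exact (Ideal.unit_mul_mem_iff_mem J e.isUnit).1 this
    have hN : ∀ n ∈ nilradical B, n * algebraMap A B t ∈ J.map (algebraMap A B) := fun n hn => by
      refine IH J hJI _ fun q hq => ?_
      haveI := hq.1.1
      obtain ⟨s, hs, hsn⟩ := lmem_of_nilradical hcd (p := q) (x := n)
        (by have : q.height = 0 := Ideal.height_eq_zero_iff.2 hq
            simp [this]) hn
      refine ⟨s, hs, ?_⟩
      have hle : (maximalIdeal A).map (algebraMap A B) ≤
          Submodule.comap (LinearMap.mulRight B (algebraMap A B t)) (J.map (algebraMap A B)) :=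
        Ideal.map_le_iff_le_comap.2 fun u hu => by
          show algebraMap A B u * algebraMap A B t ∈ J.map (algebraMap A B)
          rw [← map_mul]
          exact Ideal.mem_map_of_mem _ (hmt u hu)
      rw [← mul_assoc]
      exact hle hsn
    by_contra hxI
    obtain ⟨b, p, hp, hpc⟩ := exists_prime_colon _ hxI
    have hloc := fun q (hq : q ∈ minimalPrimes B) => lmem_mul b (hx q hq)
    have hpmin : p ∉ minimalPrimes B := fun hm => by
      obtain ⟨s, hs, hsx⟩ := hloc p hm
      exact hs ((hpc s).2 hsx)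
    set y := b * x with hy
    rcases lt_or_ge p.height 2 with hp2 | hp2
    · obtain ⟨s, hs, hsy⟩ := lmem_codimOne hcd (Order.le_of_lt_add_one (by
        rw [one_add_one_eq_two]; exact hp2)) hpmin I y fun a ha =>
          ⟨1, fun h => hp.ne_top ((Ideal.eq_top_iff_one _).2 h), by
            rw [one_mul]; exact (hpc a).1 ha⟩
      exact hs ((hpc s).2 hsy)
    have hmap : I.map (algebraMap A B) =
        J.map (algebraMap A B) ⊔ Ideal.span {algebraMap A B t} := by
      rw [← hsup, Ideal.map_sup, Ideal.map_span, Set.image_singleton]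
    let π := Ideal.Quotient.mk (nilradical B)
    have hex : ∀ a : p.map π, ∃ c : B, ∃ a₀ ∈ p, π a₀ = a.1 ∧
        a₀ * y - algebraMap A B t * c ∈ J.map (algebraMap A B) := fun a => by
      obtain ⟨a₀, ha₀, he⟩ := (Ideal.mem_map_iff_of_surjective π Ideal.Quotient.mk_surjective).1 a.2
      obtain ⟨j, hj, w, hw, hjw⟩ := Submodule.mem_sup.1 (hmap.le ((hpc a₀).1 ha₀))
      obtain ⟨c, rfl⟩ := Ideal.mem_span_singleton'.1 hw
      exact ⟨c, a₀, ha₀, he, by rw [show a₀ * y - algebraMap A B t * c = j by
        linear_combination -hjw]; exact hj⟩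
    -- nilpotent elements contribute nilpotent coefficients
    have hnil : ∀ n ∈ nilradical B, ∀ c : B,
        n * y - algebraMap A B t * c ∈ J.map (algebraMap A B) → c ∈ nilradical B := by
      intro n hn c hc
      rw [nilradical_eq_sInf, Ideal.mem_sInf]
      intro P (hP : P.IsPrime)
      obtain ⟨q, hq, hqP⟩ := Ideal.exists_minimalPrimes_le (bot_le : (⊥ : Ideal B) ≤ P)
      haveI := hq.1.1
      obtain ⟨s, hs, hsy⟩ := hloc q hq
      obtain ⟨j, hj, w, hw, hjw⟩ := Submodule.mem_sup.1 (hmap.le hsy)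
      obtain ⟨e, rfl⟩ := Ideal.mem_span_singleton'.1 hw
      have h1 : algebraMap A B t * (s * c - n * e) ∈ J.map (algebraMap A B) := by
        rw [show algebraMap A B t * (s * c - n * e) =
          n * j - s * (n * y - algebraMap A B t * c) by linear_combination -n * hjw]
        exact sub_mem (Ideal.mul_mem_left _ _ hj) (Ideal.mul_mem_left _ _ hc)
      have h2 : s * c ∈ nilradical B := by
        have := add_mem (colon_le_nilradical hcd htJ h1) (Ideal.mul_mem_right e _ hn)
        rwa [sub_add_cancel] at this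
      exact hqP ((hq.1.1.mem_or_mem (nilradical_le_prime q h2)).resolve_left hs)
    choose c a₀ ha₀ hπ hca using hex
    have huniq : ∀ (a : p.map π) (a' c' : B), π a' = a.1 →
        a' * y - algebraMap A B t * c' ∈ J.map (algebraMap A B) → π (c a) = π c' := by
      intro a a' c' ha' hc'
      refine Ideal.Quotient.eq.2 (hnil (a₀ a - a') (Ideal.Quotient.eq.1 ((hπ a).trans ha'.symm)) _ ?_)
      rw [show (a₀ a - a') * y - algebraMap A B t * (c a - c') =
        (a₀ a * y - algebraMap A B t * c a) - (a' * y - algebraMap A B t * c') by ring]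
      exact sub_mem (hca a) hc'
    let φ : p.map π →ₗ[B ⧸ nilradical B] B ⧸ nilradical B :=
      { toFun := fun a => π (c a)
        map_add' := fun a a' => by
          rw [huniq (a + a') (a₀ a + a₀ a') (c a + c a') (by rw [map_add, hπ, hπ]; rfl) ?_, map_add]
          rw [show (a₀ a + a₀ a') * y - algebraMap A B t * (c a + c a') =
            (a₀ a * y - algebraMap A B t * c a) + (a₀ a' * y - algebraMap A B t * c a') by ring]
          exact add_mem (hca a) (hca a')
        map_smul' := fun r a => by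
          obtain ⟨r, rfl⟩ := Ideal.Quotient.mk_surjective r
          rw [huniq _ (r * a₀ a) (r * c a) (by rw [map_mul, hπ]; rfl) ?_, map_mul]
          · rfl
          rw [show r * a₀ a * y - algebraMap A B t * (r * c a) =
            r * (a₀ a * y - algebraMap A B t * c a) by ring]
          exact Ideal.mul_mem_left _ _ (hca a) }
    obtain ⟨e, he⟩ := (two_nilradical hS2 hp2).ext φ
    obtain ⟨e, rfl⟩ := Ideal.Quotient.mk_surjective e
    have hz : ∀ a ∈ p, a * (y - algebraMap A B t * e) ∈ J.map (algebraMap A B) := by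
      intro a ha
      let a' : p.map π := ⟨π a, Ideal.mem_map_of_mem π ha⟩
      obtain ⟨j, hj, w, hw, hjw⟩ := Submodule.mem_sup.1 (hmap.le ((hpc a).1 ha))
      obtain ⟨c', rfl⟩ := Ideal.mem_span_singleton'.1 hw
      have h1 : a * y - algebraMap A B t * c' ∈ J.map (algebraMap A B) := by
        rw [show a * y - algebraMap A B t * c' = j by linear_combination -hjw]; exact hj
      have h2 : π c' = π (a * e) := by
        rw [← huniq a' a c' rfl h1, map_mul]
        exact he a'
      rw [show a * (y - algebraMap A B t * e) =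
        (a * y - algebraMap A B t * c') + (c' - a * e) * algebraMap A B t by ring]
      exact add_mem h1 (hN _ (Ideal.Quotient.eq.1 h2))
    have hyJ := IH J hJI _ fun q hq => by
      haveI := hq.1.1
      obtain ⟨a, hap, haq⟩ := SetLike.not_le_iff_exists.1
        (fun hle : p ≤ q => hpmin ((le_antisymm hle (hq.2 ⟨hp, bot_le⟩ hle)) ▸ hq))
      exact ⟨a, haq, hz a hap⟩
    refine hp.ne_top ((Ideal.eq_top_iff_one _).2 ((hpc 1).2 ?_))
    rw [one_mul, hmap]
    have := Submodule.add_mem_sup hyJ
      (Ideal.mem_span_singleton'.2 ⟨e, rfl⟩ : e * algebraMap A B t ∈ Ideal.span {algebraMap A B t})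
    rwa [show y - algebraMap A B t * e + e * algebraMap A B t = y by ring] at this

theorem map_maximalIdeal_eq :
    (maximalIdeal A).map (algebraMap A B) = nilradical B := by
  refine le_antisymm map_le_nilradical fun n hn => mem_of_lmem hcd hS1 hS2 _ n fun q hq => ?_
  haveI := hq.1.1
  exact lmem_of_nilradical hcd (by
    have : q.height = 0 := Ideal.height_eq_zero_iff.2 hq
    simp [this]) hn

theorem mem_maximalIdeal_of_sum {ι : Type u} [Fintype ι] (b : ι → B)
    (hb : ∀ a : ι → A, (∑ i, algebraMap A B (a i) * b i) ∈ (maximalIdeal A).map (algebraMap A B) →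
      ∀ i, a i ∈ maximalIdeal A) :
    ∀ (I : Ideal A), I ≤ maximalIdeal A → ∀ a : ι → A,
      (∑ i, algebraMap A B (a i) * b i) ∈ I.map (algebraMap A B) → ∀ i, a i ∈ I := by
  classical
  intro I
  induction I using WellFoundedGT.induction with
  | ind I IH =>
    intro hI a ha
    rcases hI.lt_or_eq with hI' | rfl
    swap
    · exact hb a ha
    obtain ⟨(J : Ideal A), ⟨hIJ, hJm⟩, hJmin⟩ := (wellFounded_lt (α := Ideal A)).has_min
      (Set.Ioc I (maximalIdeal A)) ⟨_, hI', le_rfl⟩
    obtain ⟨t, htJ, htI⟩ := SetLike.exists_of_lt hIJ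
    have hsup : I ⊔ Ideal.span {t} = J :=
      (sup_le hIJ.le ((Ideal.span_singleton_le_iff_mem _).2 htJ)).lt_or_eq.resolve_left fun h =>
        hJmin _ ⟨left_lt_sup.2 fun h' => htI (h' (Ideal.mem_span_singleton_self t)),
          h.le.trans hJm⟩ h
    have hmap : J.map (algebraMap A B) =
        I.map (algebraMap A B) ⊔ Ideal.span {algebraMap A B t} := by
      rw [← hsup, Ideal.map_sup, Ideal.map_span, Set.image_singleton]
    have hj := IH J hIJ hJm a (Ideal.map_mono hIJ.le ha)
    have hdec : ∀ i, ∃ z ∈ I, ∃ u, z + u * t = a i := fun i => by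
      obtain ⟨z, hz, w, hw, h⟩ := Submodule.mem_sup.1 (hsup.ge (hj i))
      obtain ⟨u, rfl⟩ := Ideal.mem_span_singleton'.1 hw
      exact ⟨z, hz, u, h⟩
    choose z hz u hu using hdec
    have h1 : algebraMap A B t * ∑ i, algebraMap A B (u i) * b i ∈ I.map (algebraMap A B) := by
      rw [show algebraMap A B t * ∑ i, algebraMap A B (u i) * b i =
        (∑ i, algebraMap A B (a i) * b i) - ∑ i, algebraMap A B (z i) * b i by
          rw [Finset.mul_sum, ← Finset.sum_sub_distrib]
          refine Finset.sum_congr rfl fun i _ => ?_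
          rw [← hu i, map_add, map_mul]; ring]
      exact sub_mem ha (Ideal.sum_mem _ fun i _ =>
        Ideal.mul_mem_right _ _ (Ideal.mem_map_of_mem _ (hz i)))
    have h2 := colon_le_nilradical hcd htI h1
    rw [← map_maximalIdeal_eq hcd hS1 hS2] at h2
    intro i
    rw [← hu i]
    refine add_mem (hz i) ?_
    by_contra hut
    obtain ⟨n, hn⟩ := isNilpotent_maxIdeal (A := A)
    have hmI : I ⊔ Ideal.span {u i * t} = J := by
      refine (sup_le hIJ.le ((Ideal.span_singleton_le_iff_mem _).2
        (J.mul_mem_left _ htJ))).lt_or_eq.resolve_left fun h =>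
          hJmin _ ⟨left_lt_sup.2 fun h' => hut (h' (Ideal.mem_span_singleton_self _)),
            h.le.trans hJm⟩ h
    obtain ⟨z', hz', w, hw, h⟩ := Submodule.mem_sup.1 (hmI.ge htJ)
    obtain ⟨v, rfl⟩ := Ideal.mem_span_singleton'.1 hw
    obtain ⟨e, he⟩ := IsLocalRing.isUnit_one_sub_self_of_mem_nonunits (v * u i)
      (Ideal.mul_mem_left _ v (hb u h2 i))
    refine htI ((Ideal.unit_mul_mem_iff_mem I e.isUnit).1 ?_)
    rw [he, show (1 - v * u i) * t = z' by linear_combination -h]
    exact hz'

theorem flat : Module.Flat A B := by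
  classical
  let mB := (maximalIdeal A).map (algebraMap A B)
  have hker : ∀ a ∈ maximalIdeal A, algebraMap A (B ⧸ mB) a = 0 := fun a ha =>
    Ideal.Quotient.eq_zero_iff_mem.2 (Ideal.mem_map_of_mem _ ha)
  letI : Algebra (ResidueField A) (B ⧸ mB) := (Ideal.Quotient.lift _ (algebraMap A (B ⧸ mB)) hker).toAlgebra
  let bk := Module.Basis.ofVectorSpace (ResidueField A) (B ⧸ mB)
  choose b hb using fun i => Ideal.Quotient.mk_surjective (bk i)
  have hsm : ∀ (a : A) i, Ideal.Quotient.mk mB (algebraMap A B a * b i) =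
      residue A a • bk i := fun a i => by
    rw [map_mul, hb, Algebra.smul_def]; rfl
  have hfin : ∀ (s : Finset (Module.Basis.ofVectorSpaceIndex (ResidueField A) (B ⧸ mB))) (a : s → A),
      (∑ i, algebraMap A B (a i) * b i) ∈ mB → ∀ i, a i ∈ maximalIdeal A := by
    intro s a h i
    have hli := bk.linearIndependent.comp ((↑) : s → _) Subtype.val_injective
    rw [Fintype.linearIndependent_iff] at hli
    rw [← Ideal.Quotient.eq_zero_iff_mem, map_sum] at h
    simp only [hsm] at h
    exact Ideal.Quotient.eq_zero_iff_mem.1 (hli (fun i => residue A (a i)) h i)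
  have hli : LinearIndependent A b := by
    rw [linearIndependent_iff']
    intro s g hg i hi
    let b' : s → B := fun j => b j.1
    have := mem_maximalIdeal_of_sum hcd hS1 hS2 b' (hfin s) ⊥ bot_le (fun j => g j.1) (by
      rw [Ideal.map_bot, Ideal.mem_bot, ← hg, ← Finset.sum_coe_sort s]
      simp [b', Algebra.smul_def]) ⟨i, hi⟩
    exact Ideal.mem_bot.1 this
  have hspan : ⊤ ≤ Submodule.span A (Set.range b) := by
    let S := Submodule.span A (Set.range b)
    have hstep : ∀ x : B, ∃ y ∈ S, x - y ∈ maximalIdeal A • (⊤ : Submodule A B) := fun x => by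
      have hx := bk.mem_span (Ideal.Quotient.mk mB x)
      obtain ⟨l, hl⟩ := Finsupp.mem_span_range_iff_exists_finsupp.1 hx
      choose a ha using fun i => residue_surjective (l i)
      refine ⟨∑ i ∈ l.support, a i • b i,
        Submodule.sum_mem _ fun i _ => Submodule.smul_mem _ _ (Submodule.subset_span ⟨i, rfl⟩), ?_⟩
      rw [Ideal.smul_top_eq_map]
      show _ ∈ mB
      rw [← Ideal.Quotient.eq_zero_iff_mem, map_sub, map_sum, sub_eq_zero, ← hl, Finsupp.sum]
      refine Finset.sum_congr rfl fun i _ => ?_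
      rw [Algebra.smul_def (a i), hsm, ha]
    obtain ⟨n, hn⟩ := isNilpotent_maxIdeal (A := A)
    have hpow : ∀ k, (⊤ : Submodule A B) ≤ S ⊔ maximalIdeal A ^ k • ⊤ := by
      intro k
      induction k with
      | zero => rw [pow_zero, Ideal.one_eq_top, Submodule.top_smul]; exact le_sup_right
      | succ k ih =>
        intro x hx
        obtain ⟨y, hy, z, hz, rfl⟩ := Submodule.mem_sup.1 (ih hx)
        refine add_mem (Submodule.mem_sup_left hy) ?_
        have : maximalIdeal A ^ k • (⊤ : Submodule A B) ≤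
            S ⊔ maximalIdeal A ^ (k + 1) • ⊤ := by
          refine Submodule.smul_le.2 fun r hr w _ => ?_
          obtain ⟨y', hy', hw⟩ := hstep w
          rw [show r • w = r • y' + r • (w - y') by rw [smul_sub, add_sub_cancel]]
          refine add_mem (Submodule.mem_sup_left (S.smul_mem r hy')) (Submodule.mem_sup_right ?_)
          rw [pow_succ, Submodule.mul_smul]
          exact Submodule.smul_mem_smul hr hw
        exact this hz
    refine (hpow n).trans (le_of_eq ?_)
    rw [hn, Submodule.zero_eq_bot, Submodule.bot_smul, sup_bot_eq]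
  haveI := Module.Free.of_basis (Module.Basis.mk hli hspan)
  infer_instance

theorem isReduced : IsReduced (B ⧸ (maximalIdeal A).map (algebraMap A B)) := by
  rw [map_maximalIdeal_eq hcd hS1 hS2]
  exact (Ideal.isRadical_iff_quotient_reduced _).1 (Ideal.radical_isRadical _)

end Groth.Agent.H46.ReducedFibreS2
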