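import Groth.Agent.Lib.LocalFlat.Criterion
import Groth.Agent.H46.ReducedFibreS2
import Mathlib.RingTheory.HopkinsLevitzki
import Mathlib.RingTheory.TensorProduct.Quotient
import Mathlib.RingTheory.RingHom.Flat

/-!
# Flatness from the minimal primes of a reduced special fibre
-/

universe u

open IsLocalRing TensorProduct Groth.Agent.H46.ReducedFibreS2

namespace Groth.Agent.H46.FlatFromMin

set_option linter.style.haveILetI false

/-- `(IB : t) ⊆ mB` for all `t ∉ I`. -/
def Colon (A B : Type u) [CommRing A] [CommRing B] [Algebra A B] [IsLocalRing A] : Prop :=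
  ∀ (I : Ideal A) (t : A), t ∉ I → ∀ c : B,
    algebraMap A B t * c ∈ I.map (algebraMap A B) → c ∈ (maximalIdeal A).map (algebraMap A B)

section artinian

variable {A B : Type u} [CommRing A] [CommRing B] [Algebra A B] [IsArtinianRing A] [IsLocalRing A]
  (hcol : Colon A B)
include hcol

theorem mem_maximalIdeal_of_sum {ι : Type u} [Fintype ι] (b : ι → B)
    (hb : ∀ a : ι → A, (∑ i, algebraMap A B (a i) * b i) ∈ (maximalIdeal A).map (algebraMap A B) →
      ∀ i, a i ∈ maximalIdeal A) :
    ∀ (I : Ideal A), I ≤ maximalIdeal A → ∀ a : ι → A,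
      (∑ i, algebraMap A B (a i) * b i) ∈ I.map (algebraMap A B) → ∀ i, a i ∈ I := by
  classical
  intro I
  induction I using WellFoundedGT.induction with
  | ind I IH =>
    intro hI a ha
    rcases hI.lt_or_eq with hI' | rfl
    swap
    · exact hb a ha
    obtain ⟨(J : Ideal A), ⟨hIJ, hJm⟩, hJmin⟩ := (wellFounded_lt (α := Ideal A)).has_min
      (Set.Ioc I (maximalIdeal A)) ⟨_, hI', le_rfl⟩
    obtain ⟨t, htJ, htI⟩ := SetLike.exists_of_lt hIJ
    have hsup : I ⊔ Ideal.span {t} = J :=
      (sup_le hIJ.le ((Ideal.span_singleton_le_iff_mem _).2 htJ)).lt_or_eq.resolve_left fun h =>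
        hJmin _ ⟨left_lt_sup.2 fun h' => htI (h' (Ideal.mem_span_singleton_self t)),
          h.le.trans hJm⟩ h
    have hmap : J.map (algebraMap A B) =
        I.map (algebraMap A B) ⊔ Ideal.span {algebraMap A B t} := by
      rw [← hsup, Ideal.map_sup, Ideal.map_span, Set.image_singleton]
    have hj := IH J hIJ hJm a (Ideal.map_mono hIJ.le ha)
    have hdec : ∀ i, ∃ z ∈ I, ∃ u, z + u * t = a i := fun i => by
      obtain ⟨z, hz, w, hw, h⟩ := Submodule.mem_sup.1 (hsup.ge (hj i))
      obtain ⟨u, rfl⟩ := Ideal.mem_span_singleton'.1 hw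
      exact ⟨z, hz, u, h⟩
    choose z hz u hu using hdec
    have h1 : algebraMap A B t * ∑ i, algebraMap A B (u i) * b i ∈ I.map (algebraMap A B) := by
      rw [show algebraMap A B t * ∑ i, algebraMap A B (u i) * b i =
        (∑ i, algebraMap A B (a i) * b i) - ∑ i, algebraMap A B (z i) * b i by
          rw [Finset.mul_sum, ← Finset.sum_sub_distrib]
          refine Finset.sum_congr rfl fun i _ => ?_
          rw [← hu i, map_add, map_mul]; ring]
      exact sub_mem ha (Ideal.sum_mem _ fun i _ =>
        Ideal.mul_mem_right _ _ (Ideal.mem_map_of_mem _ (hz i)))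
    have h2 := hcol I t htI _ h1
    intro i
    rw [← hu i]
    refine add_mem (hz i) ?_
    by_contra hut
    obtain ⟨n, hn⟩ := isNilpotent_maxIdeal (A := A)
    have hmI : I ⊔ Ideal.span {u i * t} = J := by
      refine (sup_le hIJ.le ((Ideal.span_singleton_le_iff_mem _).2
        (J.mul_mem_left _ htJ))).lt_or_eq.resolve_left fun h =>
          hJmin _ ⟨left_lt_sup.2 fun h' => hut (h' (Ideal.mem_span_singleton_self _)),
            h.le.trans hJm⟩ h
    obtain ⟨z', hz', w, hw, h⟩ := Submodule.mem_sup.1 (hmI.ge htJ)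
    obtain ⟨v, rfl⟩ := Ideal.mem_span_singleton'.1 hw
    obtain ⟨e, he⟩ := IsLocalRing.isUnit_one_sub_self_of_mem_nonunits (v * u i)
      (Ideal.mul_mem_left _ v (hb u h2 i))
    refine htI ((Ideal.unit_mul_mem_iff_mem I e.isUnit).1 ?_)
    rw [he, show (1 - v * u i) * t = z' by linear_combination -h]
    exact hz'

/-- Flatness over an Artinian local ring from the colon condition. -/
theorem flat_artinian : Module.Flat A B := by
  classical
  let mB := (maximalIdeal A).map (algebraMap A B)
  have hker : ∀ a ∈ maximalIdeal A, algebraMap A (B ⧸ mB) a = 0 := fun a ha =>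
    Ideal.Quotient.eq_zero_iff_mem.2 (Ideal.mem_map_of_mem _ ha)
  letI : Algebra (ResidueField A) (B ⧸ mB) := (Ideal.Quotient.lift _ (algebraMap A (B ⧸ mB)) hker).toAlgebra
  let bk := Module.Basis.ofVectorSpace (ResidueField A) (B ⧸ mB)
  choose b hb using fun i => Ideal.Quotient.mk_surjective (bk i)
  have hsm : ∀ (a : A) i, Ideal.Quotient.mk mB (algebraMap A B a * b i) =
      residue A a • bk i := fun a i => by
    rw [map_mul, hb, Algebra.smul_def]; rfl
  have hfin : ∀ (s : Finset (Module.Basis.ofVectorSpaceIndex (ResidueField A) (B ⧸ mB))) (a : s → A),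
      (∑ i, algebraMap A B (a i) * b i) ∈ mB → ∀ i, a i ∈ maximalIdeal A := by
    intro s a h i
    have hli := bk.linearIndependent.comp ((↑) : s → _) Subtype.val_injective
    rw [Fintype.linearIndependent_iff] at hli
    rw [← Ideal.Quotient.eq_zero_iff_mem, map_sum] at h
    simp only [hsm] at h
    exact Ideal.Quotient.eq_zero_iff_mem.1 (hli (fun i => residue A (a i)) h i)
  have hli : LinearIndependent A b := by
    rw [linearIndependent_iff']
    intro s g hg i hi
    let b' : s → B := fun j => b j.1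
    have := mem_maximalIdeal_of_sum hcol b' (hfin s) ⊥ bot_le (fun j => g j.1) (by
      rw [Ideal.map_bot, Ideal.mem_bot, ← hg, ← Finset.sum_coe_sort s]
      simp [b', Algebra.smul_def]) ⟨i, hi⟩
    exact Ideal.mem_bot.1 this
  have hspan : ⊤ ≤ Submodule.span A (Set.range b) := by
    let S := Submodule.span A (Set.range b)
    have hstep : ∀ x : B, ∃ y ∈ S, x - y ∈ maximalIdeal A • (⊤ : Submodule A B) := fun x => by
      have hx := bk.mem_span (Ideal.Quotient.mk mB x)
      obtain ⟨l, hl⟩ := Finsupp.mem_span_range_iff_exists_finsupp.1 hx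
      choose a ha using fun i => residue_surjective (l i)
      refine ⟨∑ i ∈ l.support, a i • b i,
        Submodule.sum_mem _ fun i _ => Submodule.smul_mem _ _ (Submodule.subset_span ⟨i, rfl⟩), ?_⟩
      rw [Ideal.smul_top_eq_map]
      show _ ∈ mB
      rw [← Ideal.Quotient.eq_zero_iff_mem, map_sub, map_sum, sub_eq_zero, ← hl, Finsupp.sum]
      refine Finset.sum_congr rfl fun i _ => ?_
      rw [Algebra.smul_def (a i), hsm, ha]
    obtain ⟨n, hn⟩ := isNilpotent_maxIdeal (A := A)
    have hpow : ∀ k, (⊤ : Submodule A B) ≤ S ⊔ maximalIdeal A ^ k • ⊤ := by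
      intro k
      induction k with
      | zero => rw [pow_zero, Ideal.one_eq_top, Submodule.top_smul]; exact le_sup_right
      | succ k ih =>
        intro x hx
        obtain ⟨y, hy, z, hz, rfl⟩ := Submodule.mem_sup.1 (ih hx)
        refine add_mem (Submodule.mem_sup_left hy) ?_
        have : maximalIdeal A ^ k • (⊤ : Submodule A B) ≤
            S ⊔ maximalIdeal A ^ (k + 1) • ⊤ := by
          refine Submodule.smul_le.2 fun r hr w _ => ?_
          obtain ⟨y', hy', hw⟩ := hstep w
          rw [show r • w = r • y' + r • (w - y') by rw [smul_sub, add_sub_cancel]]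
          refine add_mem (Submodule.mem_sup_left (S.smul_mem r hy')) (Submodule.mem_sup_right ?_)
          rw [pow_succ, Submodule.mul_smul]
          exact Submodule.smul_mem_smul hr hw
        exact this hz
    refine (hpow n).trans (le_of_eq ?_)
    rw [hn, Submodule.zero_eq_bot, Submodule.bot_smul, sup_bot_eq]
  haveI := Module.Free.of_basis (Module.Basis.mk hli hspan)
  infer_instance

end artinian

variable {A B : Type u} [CommRing A] [CommRing B] [Algebra A B]

/-- In a flat local algebra the colon ideals lie in the maximal ideal. -/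
theorem colon_of_flat {L : Type u} [CommRing L] [IsLocalRing L] [Algebra A L] [IsLocalRing A]
    [Module.Flat A L] [IsLocalHom (algebraMap A L)] {I : Ideal A} {t : A} (ht : t ∉ I) {c : L}
    (h : algebraMap A L t * c ∈ I.map (algebraMap A L)) : c ∈ maximalIdeal L := by
  refine map_maximalIdeal_le (algebraMap A L) ?_
  rw [Ideal.map, Ideal.span, Submodule.mem_span_set'] at h
  obtain ⟨n, f, g, hg⟩ := h
  choose i hi hgi using fun j => (g j).2
  obtain ⟨k, a, y, hxy, hfa⟩ := Module.Flat.isTrivialRelation_of_sum_smul_eq_zero (R := A)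
    (f := fun j : Option (Fin n) => j.elim t fun j => -i j)
    (x := fun j : Option (Fin n) => j.elim c f) (by
      rw [Fintype.sum_option]
      simp only [Option.elim, Algebra.smul_def, map_neg, neg_mul, Finset.sum_neg_distrib]
      rw [← hg, ← sub_eq_add_neg, ← Finset.sum_sub_distrib]
      refine Finset.sum_eq_zero fun j _ => ?_
      rw [smul_eq_mul, ← hgi, mul_comm, sub_self])
  have h0 := hxy none
  simp only [Option.elim] at h0
  rw [h0]
  refine Ideal.sum_mem _ fun j _ => ?_
  rw [Algebra.smul_def]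
  refine Ideal.mul_mem_right _ _ (Ideal.mem_map_of_mem _ ?_)
  by_contra hu
  have hu' : IsUnit (a none j) := IsLocalRing.notMem_maximalIdeal.1 hu
  have := hfa j
  rw [Fintype.sum_option] at this
  simp only [Option.elim, neg_mul, Finset.sum_neg_distrib, ← sub_eq_add_neg, sub_eq_zero] at this
  refine ht ((Ideal.mul_unit_mem_iff_mem I hu').1 ?_)
  rw [this]
  exact Ideal.sum_mem _ fun l _ => I.mul_mem_right _ (hi l)

/-- The colon condition passes to `A/J → (A/J) ⊗ B`. -/
theorem colon_quotient [IsLocalRing A] (J : Ideal A) [IsLocalRing (A ⧸ J)] (hcol : Colon A B) :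
    Colon (A ⧸ J) ((A ⧸ J) ⊗[A] B) := by
  intro I t ht c hc
  obtain ⟨t, rfl⟩ := Ideal.Quotient.mk_surjective t
  let e := Algebra.TensorProduct.quotIdealMapEquivQuotTensor B J
  let π : B →+* (A ⧸ J) ⊗[A] B := e.toRingEquiv.toRingHom.comp (Ideal.Quotient.mk _)
  have hπs : Function.Surjective π := e.toRingEquiv.surjective.comp Ideal.Quotient.mk_surjective
  have hπ : π.comp (algebraMap A B) =
      (algebraMap (A ⧸ J) ((A ⧸ J) ⊗[A] B)).comp (Ideal.Quotient.mk J) := RingHom.ext fun a => by
    show e (Ideal.Quotient.mk _ (algebraMap A B a)) = _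
    exact e.commutes (Ideal.Quotient.mk J a)
  have hker : RingHom.ker π = J.map (algebraMap A B) := by
    ext b
    show e (Ideal.Quotient.mk _ b) = 0 ↔ _
    rw [map_eq_zero_iff _ e.injective, Ideal.Quotient.eq_zero_iff_mem]
  obtain ⟨c, rfl⟩ := hπs c
  let I' := I.comap (Ideal.Quotient.mk J)
  have hJ : J ≤ I' := fun a ha => by
    show Ideal.Quotient.mk J a ∈ I
    rw [Ideal.Quotient.eq_zero_iff_mem.2 ha]
    exact I.zero_mem
  have hI : I.map (algebraMap (A ⧸ J) ((A ⧸ J) ⊗[A] B)) =
      (I'.map (algebraMap A B)).map π := by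
    rw [Ideal.map_map, hπ, ← Ideal.map_map,
      Ideal.map_comap_of_surjective _ Ideal.Quotient.mk_surjective]
  have hc' : algebraMap A B t * c ∈ I'.map (algebraMap A B) := by
    have h1 : π (algebraMap A B t * c) ∈ (I'.map (algebraMap A B)).map π := by
      rw [← hI, map_mul, show π (algebraMap A B t) = _ from RingHom.congr_fun hπ t]
      exact hc
    have h2 := Ideal.mem_comap.2 h1
    rw [Ideal.comap_map_of_surjective _ hπs, ← RingHom.ker_eq_comap_bot, hker,
      sup_eq_left.2 (Ideal.map_mono hJ)] at h2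
    exact h2
  have h3 := Ideal.mem_map_of_mem π (hcol I' t ht c hc')
  rw [Ideal.map_map, hπ, ← Ideal.map_map] at h3
  refine Ideal.map_mono ?_ h3
  exact Ideal.map_le_iff_le_comap.2
    (((local_hom_TFAE (Ideal.Quotient.mk J)).out 0 3).1
      (IsLocalHom.of_surjective _ Ideal.Quotient.mk_surjective))

/-- If the special fibre is reduced and `B` is flat at its minimal primes then `B` is flat. -/
theorem flat [IsNoetherianRing A] [IsNoetherianRing B] [IsLocalRing A] [IsLocalRing B]
    [IsLocalHom (algebraMap A B)]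
    (hred : ((maximalIdeal A).map (algebraMap A B)).IsRadical)
    (hmin : ∀ z ∈ ((maximalIdeal A).map (algebraMap A B)).minimalPrimes,
      ∃ (L : Type u) (_ : CommRing L) (_ : IsLocalRing L) (ψ : B →+* L),
        (maximalIdeal L).comap ψ = z ∧ (ψ.comp (algebraMap A B)).Flat) :
    Module.Flat A B := by
  have hcol : Colon A B := by
    intro I t ht c hc
    rw [← hred.radical, ← Ideal.sInf_minimalPrimes, Submodule.mem_sInf]
    intro z hz
    obtain ⟨L, _, _, ψ, hψ, hfl⟩ := hmin z hz
    letI : Algebra A L := (ψ.comp (algebraMap A B)).toAlgebra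
    haveI : Module.Flat A L := hfl
    haveI : IsLocalHom (algebraMap A L) := ⟨fun a ha => by
      by_contra hu
      have : ψ (algebraMap A B a) ∈ maximalIdeal L := by
        rw [← Ideal.mem_comap, hψ]
        exact hz.1.2 (Ideal.mem_map_of_mem _ hu)
      exact this ha⟩
    rw [← hψ, Ideal.mem_comap]
    refine colon_of_flat ht (I := I) ?_
    have h1 := Ideal.mem_map_of_mem ψ hc
    rw [map_mul, Ideal.map_map] at h1
    exact h1
  refine Lib.LocalFlat.Criterion.flat_of_flat_quotient_pow B (M := B) (maximalIdeal A)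
    (Lib.LocalFlat.Criterion.map_le_jacobson_bot_of_isLocalHom (maximalIdeal.isMaximal A).ne_top)
    fun n => ?_
  rcases Nat.eq_zero_or_pos n with rfl | hn
  · haveI : Subsingleton (A ⧸ maximalIdeal A ^ 0) :=
      Ideal.Quotient.subsingleton_iff.2 (by rw [pow_zero, Ideal.one_eq_top])
    haveI : Subsingleton ((A ⧸ maximalIdeal A ^ 0) ⊗[A] B) := Module.subsingleton (A ⧸ maximalIdeal A ^ 0) _
    infer_instance
  let J := maximalIdeal A ^ n
  haveI : Nontrivial (A ⧸ J) := Ideal.Quotient.nontrivial_iff.2 fun h =>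
    (maximalIdeal.isMaximal A).ne_top (top_le_iff.1 (h ▸ Ideal.pow_le_self hn.ne'))
  haveI : IsLocalRing (A ⧸ J) := .of_surjective' (Ideal.Quotient.mk J) Ideal.Quotient.mk_surjective
  haveI : IsArtinianRing (A ⧸ J) := by
    rw [isArtinianRing_iff_isNilpotent_maximalIdeal]
    refine ⟨n, ?_⟩
    rw [← IsLocalRing.map_maximalIdeal_of_surjective (Ideal.Quotient.mk J) Ideal.Quotient.mk_surjective,
      ← Ideal.map_pow, Ideal.zero_eq_bot, Ideal.map_eq_bot_iff_le_ker, Ideal.mk_ker]
  exact flat_artinian (colon_quotient J hcol)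

/-- An ideal below `mB` killed at the minimal primes of the special fibre vanishes. -/
theorem eq_bot_of_forall_kill [IsNoetherianRing A] [IsNoetherianRing B] [IsLocalRing A] [IsLocalRing B]
    [IsLocalHom (algebraMap A B)] (N : Ideal B)
    (hNle : N ≤ (maximalIdeal A).map (algebraMap A B))
    (hred : ((maximalIdeal A).map (algebraMap A B)).IsRadical)
    (hmin : ∀ z ∈ ((maximalIdeal A).map (algebraMap A B)).minimalPrimes,
      ∃ (L : Type u) (_ : CommRing L) (_ : IsLocalRing L) (ψ : B →+* L),
        (maximalIdeal L).comap ψ = z ∧ (ψ.comp (algebraMap A B)).Flat ∧ ∀ a ∈ N, ψ a = 0) :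
    N = ⊥ := by
  let B' := B ⧸ N
  let q : B →+* B' := Ideal.Quotient.mk N
  have hqs : Function.Surjective q := Ideal.Quotient.mk_surjective
  have hNm : N ≤ maximalIdeal B := hNle.trans (map_maximalIdeal_le (algebraMap A B))
  haveI : Nontrivial B' := Ideal.Quotient.nontrivial_iff.2 fun h =>
    (maximalIdeal.isMaximal B).ne_top (top_le_iff.1 (h ▸ hNm))
  haveI : IsLocalRing B' := .of_surjective' q hqs
  haveI : IsLocalHom q := IsLocalHom.of_surjective _ hqs
  haveI : IsLocalHom (algebraMap A B') := by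
    show IsLocalHom (q.comp (algebraMap A B))
    infer_instance
  have hmap : (maximalIdeal A).map (algebraMap A B') =
      ((maximalIdeal A).map (algebraMap A B)).map q := (Ideal.map_map _ _).symm
  have hcomap : ((maximalIdeal A).map (algebraMap A B')).comap q =
      (maximalIdeal A).map (algebraMap A B) := by
    rw [hmap, Ideal.comap_map_of_surjective _ hqs, ← RingHom.ker_eq_comap_bot, Ideal.mk_ker,
      sup_eq_left.2 hNle]
  haveI : Module.Flat A B' := by
    refine flat ?_ fun z hz => ?_
    · rintro x ⟨n, hn⟩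
      obtain ⟨x, rfl⟩ := hqs x
      rw [← map_pow, ← Ideal.mem_comap, hcomap] at hn
      rw [← Ideal.mem_comap, hcomap]
      exact hred ⟨n, hn⟩
    · have hz' : z.comap q ∈ ((maximalIdeal A).map (algebraMap A B)).minimalPrimes := by
        haveI := hz.1.1
        refine ⟨⟨inferInstance, ?_⟩, fun w hw hwz => ?_⟩
        · rw [← hcomap]; exact Ideal.comap_mono hz.1.2
        · have hNw : N ≤ w := hNle.trans hw.2
          haveI := hw.1
          haveI : (w.map q).IsPrime :=
            Ideal.map_isPrime_of_surjective hqs (by rwa [Ideal.mk_ker])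
          have h1 : z ≤ w.map q := hz.2 ⟨inferInstance, by rw [hmap]; exact Ideal.map_mono hw.2⟩
            ((Ideal.map_mono hwz).trans Ideal.map_comap_le)
          refine (Ideal.comap_mono h1).trans (le_of_eq ?_)
          rw [Ideal.comap_map_of_surjective _ hqs, ← RingHom.ker_eq_comap_bot, Ideal.mk_ker,
            sup_eq_left.2 hNw]
      obtain ⟨L, _, _, ψ, hψ, hfl, hkill⟩ := hmin _ hz'
      let ψ' : B' →+* L := Ideal.Quotient.lift N ψ hkill
      refine ⟨L, inferInstance, inferInstance, ψ', Ideal.comap_injective_of_surjective q hqs ?_, hfl⟩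
      rw [Ideal.comap_comap]
      exact hψ
  -- `N ∩ mB = mN`
  have hle : N ≤ (maximalIdeal B) * N := by
    intro x hx
    have hxm := hNle hx
    rw [Ideal.map, Ideal.span, Submodule.mem_span_set'] at hxm
    obtain ⟨n, b, g, hg⟩ := hxm
    choose a ha hag using fun j => (g j).2
    obtain ⟨k, c, y, hby, hac⟩ := Module.Flat.isTrivialRelation_of_sum_smul_eq_zero (R := A)
      (f := a) (x := fun j => q (b j)) (by
        have h0 : q x = 0 := Ideal.Quotient.eq_zero_iff_mem.2 hx
        rw [← hg, map_sum] at h0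
        rw [← h0]
        refine Finset.sum_congr rfl fun j _ => ?_
        rw [smul_eq_mul, map_mul, ← hag, Algebra.smul_def]
        exact mul_comm _ _)
    choose y' hy' using fun j => hqs (y j)
    have hn : ∀ i, b i - ∑ j, algebraMap A B (c i j) * y' j ∈ N := fun i => by
      rw [← Ideal.Quotient.eq_zero_iff_mem]
      show q _ = 0
      rw [map_sub, map_sum, show q (b i) = _ from hby i, sub_eq_zero]
      refine Finset.sum_congr rfl fun j _ => ?_
      rw [map_mul, hy', Algebra.smul_def]
      rfl
    have hx' : x = ∑ i, algebraMap A B (a i) * (b i - ∑ j, algebraMap A B (c i j) * y' j) := by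
      simp only [mul_sub, Finset.sum_sub_distrib, Finset.mul_sum]
      rw [Finset.sum_comm, Finset.sum_eq_zero (s := Finset.univ)
        (f := fun j => ∑ i, algebraMap A B (a i) * (algebraMap A B (c i j) * y' j)) fun j _ => by
          rw [show (∑ i, algebraMap A B (a i) * (algebraMap A B (c i j) * y' j)) =
            algebraMap A B (∑ i, a i * c i j) * y' j by
              rw [map_sum, Finset.sum_mul]
              exact Finset.sum_congr rfl fun i _ => by rw [map_mul, mul_assoc],
            hac j, map_zero, zero_mul], sub_zero, ← hg]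
      exact Finset.sum_congr rfl fun i _ => by rw [smul_eq_mul, ← hag, mul_comm]
    rw [hx']
    exact Ideal.sum_mem _ fun i _ => Ideal.mul_mem_mul
      (map_nonunit (algebraMap A B) _ (ha i)) (hn i)
  exact Submodule.eq_bot_of_le_smul_of_le_jacobson_bot (maximalIdeal B) N
    (IsNoetherian.noetherian N) (by rwa [smul_eq_mul])
    (IsLocalRing.jacobson_eq_maximalIdeal (⊥ : Ideal B) bot_ne_top).ge

/-- If moreover `B` is reduced at those minimal primes then `B` is reduced. -/
theorem isReduced [IsNoetherianRing A] [IsNoetherianRing B] [IsLocalRing A] [IsLocalRing B]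
    [IsLocalHom (algebraMap A B)]
    (hred : ((maximalIdeal A).map (algebraMap A B)).IsRadical)
    (hmin : ∀ z ∈ ((maximalIdeal A).map (algebraMap A B)).minimalPrimes,
      ∃ (L : Type u) (_ : CommRing L) (_ : IsLocalRing L) (ψ : B →+* L),
        (maximalIdeal L).comap ψ = z ∧ (ψ.comp (algebraMap A B)).Flat ∧ _root_.IsReduced L) :
    _root_.IsReduced B := by
  have hN : nilradical B = ⊥ := eq_bot_of_forall_kill _
    (fun x hx => hred (by obtain ⟨n, hn⟩ := hx; exact ⟨n, hn ▸ Ideal.zero_mem _⟩)) hred fun z hz => by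
      obtain ⟨L, i1, i2, ψ, h1, h2, h3⟩ := hmin z hz
      haveI := h3
      exact ⟨L, i1, i2, ψ, h1, h2, fun a ha => ((mem_nilradical.1 ha).map ψ).eq_zero⟩
  exact ⟨fun x hx => by
    have h : x ∈ nilradical B := mem_nilradical.2 hx
    rwa [hN, Ideal.mem_bot] at h⟩

/-- Every minimal prime lies below a minimal prime of the special fibre. -/
theorem minimalPrimes_le [IsNoetherianRing A] [IsNoetherianRing B] [IsLocalRing A] [IsLocalRing B]
    [IsLocalHom (algebraMap A B)]
    (hred : ((maximalIdeal A).map (algebraMap A B)).IsRadical)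
    (hmin : ∀ z ∈ ((maximalIdeal A).map (algebraMap A B)).minimalPrimes,
      ∃ (L : Type u) (_ : CommRing L) (_ : IsLocalRing L) (ψ : B →+* L),
        (maximalIdeal L).comap ψ = z ∧ (ψ.comp (algebraMap A B)).Flat ∧ _root_.IsReduced L)
    {P : Ideal B} (hP : P ∈ minimalPrimes B) :
    ∃ z ∈ ((maximalIdeal A).map (algebraMap A B)).minimalPrimes, P ≤ z := by
  classical
  haveI := isReduced hred hmin
  by_contra hcon
  push Not at hcon
  let mins := ((maximalIdeal A).map (algebraMap A B)).minimalPrimes
  let K : Ideal B :=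
    { carrier := {c | ∀ z ∈ mins, ∃ t ∉ z, t * c = 0}
      zero_mem' := fun z hz => ⟨1, fun h => hz.1.1.ne_top ((Ideal.eq_top_iff_one _).2 h), mul_zero _⟩
      add_mem' := fun {a b} ha hb z hz => by
        obtain ⟨s, hs, hsa⟩ := ha z hz
        obtain ⟨t, ht, htb⟩ := hb z hz
        exact ⟨s * t, fun h => (hz.1.1.mem_or_mem h).elim hs ht,
          by linear_combination t * hsa + s * htb⟩
      smul_mem' := fun r a ha z hz => by
        obtain ⟨s, hs, hsa⟩ := ha z hz
        exact ⟨s, hs, by rw [smul_eq_mul]; linear_combination r * hsa⟩ }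
  have hKle : K ≤ (maximalIdeal A).map (algebraMap A B) := fun c hc => by
    rw [← hred.radical, ← Ideal.sInf_minimalPrimes, Submodule.mem_sInf]
    intro z hz
    obtain ⟨t, ht, htc⟩ := hc z hz
    exact (hz.1.1.mem_or_mem (htc ▸ z.zero_mem)).resolve_left ht
  have hK : K = ⊥ := eq_bot_of_forall_kill K hKle hred fun z hz => by
    obtain ⟨L, i1, i2, ψ, h1, h2, -⟩ := hmin z hz
    refine ⟨L, i1, i2, ψ, h1, h2, fun a ha => ?_⟩
    obtain ⟨t, ht, hta⟩ := ha z hz
    have hu : IsUnit (ψ t) := IsLocalRing.notMem_maximalIdeal.1 fun h => ht (h1 ▸ h)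
    exact hu.mul_right_eq_zero.1 (by rw [← map_mul, hta, map_zero])
  let others := (minimalPrimes.finite_of_isNoetherianRing B).toFinset.erase P
  have hne : ∀ Q : others, ∃ q ∈ (Q : Ideal B), q ∉ P := fun Q => by
    have hQ := Finset.mem_erase.1 Q.2
    have hQm := (Set.Finite.mem_toFinset _).1 hQ.2
    exact SetLike.not_le_iff_exists.1 fun h => hQ.1 (le_antisymm h (hP.2 hQm.1 h))
  choose q hq hqP using hne
  haveI := hP.1.1
  have hcP : ∏ Q, q Q ∉ P := fun h => by
    obtain ⟨Q, -, hQ⟩ := (Ideal.IsPrime.prod_mem_iff (p := P)).1 h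
    exact hqP Q hQ
  refine hcP (?_ : _ ∈ P)
  have hc : ∏ Q, q Q ∈ K := fun z hz => by
    obtain ⟨t, htP, htz⟩ := SetLike.not_le_iff_exists.1 (hcon z hz)
    refine ⟨t, htz, ?_⟩
    rw [← Ideal.mem_bot, ← Ideal.zero_eq_bot, ← nilradical_eq_zero B, nilradical_eq_sInf, Submodule.mem_sInf]
    intro (Q : Ideal B) hQ
    haveI : Ideal.IsPrime Q := hQ
    obtain ⟨Q', hQ', hle⟩ := Ideal.exists_minimalPrimes_le (I := (⊥ : Ideal B)) (J := Q) bot_le
    refine hle ?_
    by_cases hQP : Q' = P
    · exact hQP ▸ P.mul_mem_right _ htP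
    · refine Q'.mul_mem_left _ ?_
      have hm : Q' ∈ others := Finset.mem_erase.2 ⟨hQP, (Set.Finite.mem_toFinset _).2 hQ'⟩
      exact Ideal.mem_of_dvd _ (Finset.dvd_prod_of_mem q (Finset.mem_univ (⟨Q', hm⟩ : others))) (hq ⟨Q', hm⟩)
  rw [hK, Ideal.mem_bot] at hc
  rw [hc]; exact P.zero_mem

end Groth.Agent.H46.FlatFromMin
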