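import Groth.Agent.H46.UnivOpenFinite
import Groth.Agent.H46.UnivOpenTrdeg
import Groth.Agent.H46.OpenAt
import Groth.Agent.H46.UnibranchQF
import Groth.Agent.H46.EtaleGUB
import Groth.Agent.Lib.FEt.NormalAlg
import Groth.Agent.Lib.Excellent.GenericNormal
import Groth.Agent.Lib.EtaPt.SpecResidue
import Mathlib.RingTheory.Unramified.LocalStructure
import Mathlib.LinearAlgebra.TensorProduct.Pi

/-!
# Flatness at a maximal fibre point with separably generated residue field

Let `A` be Noetherian reduced, `B` of finite type over `R = A[T₁,…,T_d]`, unramified over `R` at a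
prime `Q` with `d = trdeg κ(Q)/κ(Q ∩ A)` at which `Spec B → Spec A` is universally open.  Then
`B_Q` is flat over `A`.
-/

universe u

open CategoryTheory AlgebraicGeometry TensorProduct
open Groth.Agent.H46.FibreTrdeg Groth.Agent.H46.UnivOpenFinite Groth.Agent.Lib.Cyc

namespace Groth.Agent.H46.FlatGeomRed

set_option linter.style.haveILetI false

/-- `Residue.trdegAt` of a map of spectra. -/
theorem trdegAt_sm {R S : Type u} [CommRing R] [CommRing S] [Algebra R S] (x : PrimeSpectrum S) :
    letI := (Ideal.ResidueField.map (x.comap (algebraMap R S)).asIdeal x.asIdeal (algebraMap R S)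
      rfl).toAlgebra
    Residue.trdegAt (sm R S) x =
      Algebra.trdeg (x.comap (algebraMap R S)).asIdeal.ResidueField x.asIdeal.ResidueField := by
  letI := (Ideal.ResidueField.map (x.comap (algebraMap R S)).asIdeal x.asIdeal (algebraMap R S)
      rfl).toAlgebra
  let y : PrimeSpectrum R := x.comap (algebraMap R S)
  let K' := y.asIdeal.ResidueField
  let L' := x.asIdeal.ResidueField
  let K := (Spec (CommRingCat.of R)).residueField ((sm R S) x)
  let L := (Spec (CommRingCat.of S)).residueField x
  let eK : K' ≃+* K :=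
    (Scheme.Spec.residueFieldIso (CommRingCat.of R) y).symm.commRingCatIsoToRingEquiv
  let eL : L' ≃+* L :=
    (Scheme.Spec.residueFieldIso (CommRingCat.of S) x).symm.commRingCatIsoToRingEquiv
  let ρ : K →+* L := ((sm R S).residueFieldMap x).hom
  have hsq : ρ.comp eK.toRingHom =
      eL.toRingHom.comp (Ideal.ResidueField.map y.asIdeal x.asIdeal (algebraMap R S) rfl) :=
    congrArg CommRingCat.Hom.hom
      (Groth.Agent.Lib.EtaPt.SpecResidue.residueFieldIso_square (algebraMap R S) x)
  haveI : IsDomain L := eL.symm.toMulEquiv.isDomain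
  haveI : IsDomain K := eK.symm.toMulEquiv.isDomain
  letI : Algebra K L := ρ.toAlgebra
  haveI : FaithfulSMul K L := (faithfulSMul_iff_algebraMap_injective _ _).2 fun a b h => eK.symm.injective ((RingHom.injective (Ideal.ResidueField.map y.asIdeal x.asIdeal (algebraMap R S) rfl)) (eL.injective (by
      have ha := RingHom.congr_fun hsq (eK.symm a)
      have hb := RingHom.congr_fun hsq (eK.symm b)
      simp only [RingHom.comp_apply, RingEquiv.toRingHom_eq_coe, RingHom.coe_coe, RingEquiv.apply_symm_apply] at ha hb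
      rw [← ha, ← hb]; exact h)))
  haveI : FaithfulSMul K' L' := (faithfulSMul_iff_algebraMap_injective _ _).2 (RingHom.injective _)
  show Algebra.trdeg K L = Algebra.trdeg K' L'
  obtain ⟨ι, t, ht⟩ := exists_isTranscendenceBasis' K' L'
  obtain ⟨ι', t', ht'⟩ := exists_isTranscendenceBasis' K L
  refine le_antisymm ?_ ?_
  · rw [← ht'.cardinalMk_eq_trdeg]
    have h : AlgebraicIndependent K' (eL.symm ∘ t') :=
      ht'.1.ringHom_of_comp_eq eK.symm.toRingHom eL.symm.toRingHom eK.symm.surjective
        eL.symm.injective (RingHom.ext fun a => eL.injective (by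
          obtain ⟨c, rfl⟩ := eK.surjective a
          have := RingHom.congr_fun hsq c
          simp only [RingHom.comp_apply, RingEquiv.toRingHom_eq_coe, RingHom.coe_coe,
            RingEquiv.symm_apply_apply, RingEquiv.apply_symm_apply] at this ⊢
          exact this.symm))
    exact h.cardinalMk_le_trdeg
  · rw [← ht.cardinalMk_eq_trdeg]
    have h : AlgebraicIndependent K (eL ∘ t) :=
      ht.1.ringHom_of_comp_eq eK.toRingHom eL.toRingHom eK.surjective eL.injective hsq
    exact h.cardinalMk_le_trdeg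

theorem trd_sm_eq {R S : Type u} [CommRing R] [CommRing S] [Algebra R S]
    [Algebra.FiniteType R S] (x : PrimeSpectrum S) :
    letI := (Ideal.ResidueField.map (x.comap (algebraMap R S)).asIdeal x.asIdeal (algebraMap R S)
      rfl).toAlgebra
    Algebra.trdeg (x.comap (algebraMap R S)).asIdeal.ResidueField x.asIdeal.ResidueField =
      (trd (sm R S) x : Cardinal) := by
  haveI := lft_sm R S
  rw [← trdegAt_sm x, trdegAt_eq (sm R S) x]

/-- `d` elements generating an extension of transcendence degree at least `d` up to algebraic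
extensions are algebraically independent. -/
theorem algebraicIndependent_of_le {K L : Type u} [Field K] [Field L] [Algebra K L] {d : ℕ}
    (b : Fin d → L) [Algebra.IsAlgebraic (IntermediateField.adjoin K (Set.range b)) L]
    (h : (d : Cardinal) ≤ Algebra.trdeg K L) : AlgebraicIndependent K b := by
  haveI : Algebra.IsAlgebraic (Algebra.adjoin K (Set.range b)) L :=
    IntermediateField.isAlgebraic_adjoin_iff_top.1 inferInstance
  obtain ⟨t, hts, ht⟩ := exists_isTranscendenceBasis_subset (R := K) (Set.range b)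
  have hfin : (Set.range b).Finite := Set.finite_range b
  have hcard : (d : Cardinal) ≤ Cardinal.mk t := ht.cardinalMk_eq_trdeg.symm ▸ h
  haveI : Finite t := (hfin.subset hts).to_subtype
  rw [← Nat.cast_card, Nat.cast_le, Nat.card_coe_set_eq] at hcard
  have h1 : (Set.range b).ncard ≤ d := by
    rw [← Nat.card_coe_set_eq]
    exact (Finite.card_range_le b).trans_eq (Nat.card_fin d)
  have h2 : t = Set.range b :=
    Set.eq_of_subset_of_ncard_le hts (h1.trans hcard) hfin
  have hinj : Function.Injective b := by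
    have hsurj : Function.Surjective (Set.rangeFactorization b) := Set.rangeFactorization_surjective
    have hle : d ≤ (Set.range b).ncard := hcard.trans (h2 ▸ le_rfl)
    haveI : Finite (Set.range b) := hfin.to_subtype
    have hbij : Function.Bijective (Set.rangeFactorization b) :=
      (Nat.bijective_iff_surjective_and_card _).2 ⟨hsurj, by
        rw [Nat.card_fin, Nat.card_coe_set_eq]; exact le_antisymm hle h1⟩
    exact fun i k h => hbij.1 (Subtype.ext h)
  subst h2
  exact (algebraicIndependent_subtype_range hinj).1 ht.1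

theorem eq_zero_of_forall_tmul {R E ι : Type u} [CommRing R] [CommRing E] [Algebra R E]
    [Module.Flat R E] [Fintype ι] (M : ι → Type u) [∀ i, CommRing (M i)] [∀ i, Algebra R (M i)]
    (hinj : ∀ r : R, (∀ i, algebraMap R (M i) r = 0) → r = 0) (w : E)
    (hw : ∀ i, (1 : M i) ⊗ₜ[R] w = 0) : w = 0 := by
  classical
  let Δ : R →ₗ[R] (∀ i, M i) := LinearMap.pi fun i => Algebra.linearMap R (M i)
  have hΔ : Function.Injective Δ := by
    rw [injective_iff_map_eq_zero]
    exact fun r hr => hinj r fun i => congrFun hr i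
  have h := Module.Flat.rTensor_preserves_injective_linearMap (M := E) Δ hΔ
  have h1 : Δ.rTensor E ((1 : R) ⊗ₜ[R] w) = 0 := by
    apply (TensorProduct.comm R (∀ i, M i) E).injective
    apply (TensorProduct.piRight R R E M).injective
    funext i
    rw [map_zero, map_zero, LinearMap.rTensor_tmul, TensorProduct.comm_tmul,
      TensorProduct.piRight_apply, TensorProduct.piRightHom_tmul]
    show w ⊗ₜ[R] (algebraMap R (M i) 1) = 0
    rw [map_one]
    apply (TensorProduct.comm R E (M i)).injective
    rw [TensorProduct.comm_tmul, map_zero]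
    exact hw i
  have h2 := congrArg (TensorProduct.lid R E) (h (h1.trans (map_zero _).symm))
  simpa using h2

section

variable {A B : Type u} [CommRing A] [CommRing B] [Algebra A B] [Algebra.FiniteType A B] {d : ℕ}
  [Algebra (MvPolynomial (Fin d) A) B] [IsScalarTower A (MvPolynomial (Fin d) A) B]
  {E : Type u} [CommRing E] [Algebra (MvPolynomial (Fin d) A) E]
  [Algebra.Etale (MvPolynomial (Fin d) A) E] {f : B}
  (φ : E →ₐ[MvPolynomial (Fin d) A] Localization.Away f)

attribute [local instance] MvPolynomial.algebraMvPolynomial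

theorem isIntegral_includeRight (C : Type u) [CommRing C] [Algebra A C] [Algebra.IsIntegral A C] :
    ((Algebra.TensorProduct.includeRight : E →ₐ[MvPolynomial (Fin d) A]
      MvPolynomial (Fin d) C ⊗[MvPolynomial (Fin d) A] E)).toRingHom.IsIntegral := by
  let R := MvPolynomial (Fin d) A
  let ir : E →ₐ[R] MvPolynomial (Fin d) C ⊗[R] E := Algebra.TensorProduct.includeRight
  let il : MvPolynomial (Fin d) C →+* MvPolynomial (Fin d) C ⊗[R] E :=
    Algebra.TensorProduct.includeLeftRingHom
  have hbal : ∀ r : R, il (MvPolynomial.map (algebraMap A C) r) = ir (algebraMap R E r) := fun r => by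
    rw [ir.commutes]
    exact (Algebra.TensorProduct.algebraMap_apply (S := R) r).symm
  have hl : ∀ c : MvPolynomial (Fin d) C, ir.toRingHom.IsIntegralElem (il c) := by
    intro c
    induction c using MvPolynomial.induction_on with
    | C a =>
      obtain ⟨P, hP, hPa⟩ := Algebra.IsIntegral.isIntegral (R := A) a
      refine ⟨P.map ((algebraMap R E).comp MvPolynomial.C), hP.map _, ?_⟩
      rw [Polynomial.eval₂_map, show ir.toRingHom.comp ((algebraMap R E).comp MvPolynomial.C) =
        (il.comp MvPolynomial.C).comp (algebraMap A C) from RingHom.ext fun x => by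
          show ir (algebraMap R E (MvPolynomial.C x)) = il (MvPolynomial.C (algebraMap A C x))
          rw [← hbal, MvPolynomial.map_C],
        show il (MvPolynomial.C a) = (il.comp MvPolynomial.C) a from rfl,
        ← Polynomial.hom_eval₂, hPa, map_zero]
    | add p q hp hq => rw [map_add]; exact RingHom.IsIntegralElem.add _ hp hq
    | mul_X p i hp =>
      rw [map_mul]
      refine RingHom.IsIntegralElem.mul _ hp ?_
      have : il (MvPolynomial.X i) = ir (algebraMap R E (MvPolynomial.X i)) := by
        rw [← hbal, MvPolynomial.map_X]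
      rw [this]
      exact RingHom.isIntegralElem_map _
  intro z
  induction z with
  | zero => exact RingHom.isIntegralElem_zero _
  | tmul c e =>
    rw [show c ⊗ₜ[R] e = il c * ir e by simp [il, ir]]
    exact RingHom.IsIntegralElem.mul _ (hl c) (RingHom.isIntegralElem_map _)
  | add x y hx hy => exact RingHom.IsIntegralElem.add _ hx hy

/-- The kernel of `φ` dies near `Q` after base change to a normal integral domain `C`. -/
theorem exists_smul_eq_zero (hφ : Function.Surjective φ) (Q : PrimeSpectrum B)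
    (hu : EGA43.IsUnivOpenAt (sm A B) Q) (hd : d ≤ trd (sm A B) Q) (hf : f ∉ Q.asIdeal)
    (N : Ideal E) [N.IsPrime]
    (hN : ∀ (e : E) (x : B), φ e = algebraMap B _ x → (e ∈ N ↔ x ∈ Q.asIdeal))
    (hJN : RingHom.ker φ.toRingHom ≤ N)
    (C : Type u) [CommRing C] [IsDomain C] [IsIntegrallyClosed C] [Algebra A C]
    [Algebra.IsIntegral A C] (j : E) (hj : IsNilpotent (φ j)) :
    ∃ s ∉ N, (1 : MvPolynomial (Fin d) C) ⊗ₜ[MvPolynomial (Fin d) A] (s * j) = 0 := by
  classical
  let R := MvPolynomial (Fin d) A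
  let R' := MvPolynomial (Fin d) C
  let E' := R' ⊗[R] E
  let ir : E →ₐ[R] E' := Algebra.TensorProduct.includeRight
  let il : R' →+* E' := Algebra.TensorProduct.includeLeftRingHom
  have hbal : ∀ r : R, il (MvPolynomial.map (algebraMap A C) r) = ir (algebraMap R E r) := fun r => by
    rw [ir.commutes]
    exact (Algebra.TensorProduct.algebraMap_apply (S := R) r).symm
  let I : Ideal E' := Submodule.comap (LinearMap.mulRight E' (ir j)) ⊥
  by_contra hc
  push Not at hc
  have hdisj : Disjoint (I : Set E') (N.primeCompl.map ir.toRingHom : Submonoid E') := by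
    rw [Set.disjoint_left]
    rintro _ hzI ⟨s, hs, rfl⟩
    refine hc s hs ?_
    have h0 : ir s * ir j = 0 := (Submodule.mem_bot E').1 hzI
    rw [← map_mul] at h0
    exact h0
  obtain ⟨P₀, hP₀, hIP₀, hdP₀⟩ := Ideal.exists_le_prime_disjoint I _ hdisj
  -- going up
  obtain ⟨P, hP₀P, hPp, hPN⟩ : ∃ P : Ideal E', P₀ ≤ P ∧ P.IsPrime ∧ P.comap ir.toRingHom = N := by
    letI : Algebra E E' := ir.toRingHom.toAlgebra
    haveI : Algebra.IsIntegral E E' := algebraMap_isIntegral_iff.1 (isIntegral_includeRight C)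
    obtain ⟨P, h1, h2, h3⟩ := Ideal.exists_ideal_over_prime_of_isIntegral N P₀ (fun e he => by
      by_contra heN
      exact Set.disjoint_left.1 hdP₀ he ⟨e, heN, rfl⟩)
    exact ⟨P, h1, h2, h3⟩
  haveI := hPp
  let π : E' →+* P.ResidueField := algebraMap E' P.ResidueField
  have hπ : ∀ z, π z = 0 ↔ z ∈ P := fun z => Ideal.algebraMap_residueField_eq_zero
  let χC : C →+* P.ResidueField := (π.comp il).comp MvPolynomial.C
  let χE : E →+* P.ResidueField := π.comp ir.toRingHom
  have hχE : ∀ e, χE e = 0 ↔ e ∈ N := fun e => by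
    show π (ir e) = 0 ↔ _
    rw [hπ, ← hPN]
    rfl
  let χf : Localization.Away f →+* P.ResidueField :=
    φ.toRingHom.liftOfSurjective hφ ⟨χE, fun e he => (hχE e).2 (hJN he)⟩
  have hχf : ∀ e, χf (φ e) = χE e := fun e =>
    RingHom.liftOfRightInverse_comp_apply _ _ _ ⟨χE, fun e he => (hχE e).2 (hJN he)⟩ e
  let χB : B →+* P.ResidueField := χf.comp (algebraMap B _)
  have hχR : ∀ r : R, χB (algebraMap R B r) = π (il (MvPolynomial.map (algebraMap A C) r)) := fun r => by
    show χf (algebraMap B (Localization.Away f) (algebraMap R B r)) = _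
    rw [← IsScalarTower.algebraMap_apply, ← φ.commutes, hχf, hbal]
    rfl
  have hχB : ∀ x, χB x = 0 ↔ x ∈ Q.asIdeal := fun x => by
    obtain ⟨e, he⟩ := hφ (algebraMap B _ x)
    show χf (algebraMap B _ x) = 0 ↔ _
    rw [← he, hχf, hχE, hN e x he]
  have hA : ∀ a : A, χC (algebraMap A C a) = algebraMap A P.ResidueField a := fun a => by
    rw [IsScalarTower.algebraMap_apply A E' P.ResidueField,
      Algebra.TensorProduct.algebraMap_apply, IsScalarTower.algebraMap_apply A C R']
    rfl
  let χC' : C →ₐ[A] P.ResidueField := { χC with commutes' := hA }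
  let χB' : B →ₐ[A] P.ResidueField :=
    { χB with
      commutes' := fun a => by
        show χB (algebraMap A B a) = algebraMap A P.ResidueField a
        rw [← hA, IsScalarTower.algebraMap_apply A R B, hχR, MvPolynomial.algebraMap_eq,
          MvPolynomial.map_C]
        rfl }
  let χ : C ⊗[A] B →ₐ[A] P.ResidueField :=
    Algebra.TensorProduct.lift χC' χB' fun _ _ => Commute.all _ _
  let P' : PrimeSpectrum (C ⊗[A] B) := ⟨RingHom.ker χ.toRingHom, RingHom.ker_isPrime _⟩
  have hP'Q : pr A C B P' = Q := by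
    refine PrimeSpectrum.ext (Ideal.ext fun x => ?_)
    show χ (1 ⊗ₜ[A] x) = 0 ↔ _
    rw [Algebra.TensorProduct.lift_tmul, map_one, one_mul]
    exact hχB x
  haveI := lft_sm C (C ⊗[A] B)
  let η : PrimeSpectrum C := ⟨⊥, Ideal.isPrime_bot⟩
  obtain ⟨ξ₀, hξP, hξη, hξtrd⟩ := UnivOpenTrdeg.exists_trd_le (sm C (C ⊗[A] B)) P'
    (OpenAt.isUnivOpenAt_baseChange hu (isPullback_pr C) P' hP'Q) η
    ((PrimeSpectrum.le_iff_specializes η _).1 bot_le)
  let ξ : PrimeSpectrum (C ⊗[A] B) := ξ₀
  rw [trd_baseChange C P', hP'Q] at hξtrd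
  replace hξtrd := hd.trans hξtrd
  have hξle : ξ.asIdeal ≤ RingHom.ker χ.toRingHom :=
    (PrimeSpectrum.le_iff_specializes ξ P').2 hξP
  let L := ξ.asIdeal.ResidueField
  let γ : C ⊗[A] B →+* L := algebraMap _ _
  have hγ : ∀ z, γ z = 0 ↔ z ∈ ξ.asIdeal := fun z => Ideal.algebraMap_residueField_eq_zero
  let g : C ⊗[A] B := (1 : C) ⊗ₜ[A] f
  have hgχ : χ g ≠ 0 := by
    rw [Algebra.TensorProduct.lift_tmul, map_one, one_mul]
    exact fun h => hf ((hχB f).1 h)
  have hgγ : IsUnit (γ g) := isUnit_iff_ne_zero.2 fun h => hgχ (hξle ((hγ g).1 h))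
  let Cf := Localization.Away g
  let αC : C →+* Cf := (algebraMap (C ⊗[A] B) Cf).comp Algebra.TensorProduct.includeLeftRingHom
  let αB : B →+* Cf := (algebraMap (C ⊗[A] B) Cf).comp
    (Algebra.TensorProduct.includeRight : B →ₐ[A] C ⊗[A] B).toRingHom
  have hαf : IsUnit (αB f) := IsLocalization.map_units Cf (⟨g, 1, pow_one g⟩ : Submonoid.powers g)
  let αf : Localization.Away f →+* Cf := IsLocalization.Away.lift f hαf
  have hαA : ∀ a : A, αC (algebraMap A C a) = αB (algebraMap A B a) := fun a => by
    show algebraMap _ Cf (algebraMap A C a ⊗ₜ[A] (1 : B)) =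
      algebraMap _ Cf ((1 : C) ⊗ₜ[A] algebraMap A B a)
    congr 1
    rw [← Algebra.TensorProduct.algebraMap_apply]
    exact ((Algebra.TensorProduct.includeRight : B →ₐ[A] C ⊗[A] B).commutes a).symm
  let bT : Fin d → B := fun i => algebraMap R B (MvPolynomial.X i)
  let αR : R' →+* Cf := MvPolynomial.eval₂Hom αC fun i => αB (bT i)
  letI : Algebra R Cf := (αB.comp (algebraMap R B)).toAlgebra
  have hαR : αR.comp (MvPolynomial.map (algebraMap A C)) = αB.comp (algebraMap R B) := by
    refine MvPolynomial.ringHom_ext (fun a => ?_) fun i => ?_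
    · show αR (MvPolynomial.map (algebraMap A C) (MvPolynomial.C a)) = αB (algebraMap R B (MvPolynomial.C a))
      rw [MvPolynomial.map_C, MvPolynomial.eval₂Hom_C, hαA, IsScalarTower.algebraMap_apply A R B]
      rfl
    · show αR (MvPolynomial.map (algebraMap A C) (MvPolynomial.X i)) = αB (algebraMap R B (MvPolynomial.X i))
      rw [MvPolynomial.map_X, MvPolynomial.eval₂Hom_X']
  let αR' : R' →ₐ[R] Cf := { αR with commutes' := fun r => RingHom.congr_fun hαR r }
  let αE : E →ₐ[R] Cf :=
    { αf.comp φ.toRingHom with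
      commutes' := fun r => by
        show αf (φ (algebraMap R E r)) = αB (algebraMap R B r)
        rw [φ.commutes, IsScalarTower.algebraMap_apply R B (Localization.Away f)]
        exact IsLocalization.Away.lift_eq f hαf _ }
  let Ψ : E' →ₐ[R] Cf := Algebra.TensorProduct.lift αR' αE fun _ _ => Commute.all _ _
  let χCf : Cf →+* P.ResidueField :=
    IsLocalization.Away.lift (S := Cf) g (g := χ.toRingHom) (isUnit_iff_ne_zero.2 hgχ)
  let γCf : Cf →+* L := IsLocalization.Away.lift (S := Cf) g hgγ
  have hχCf : ∀ z, χCf (algebraMap _ Cf z) = χ z := fun z => IsLocalization.Away.lift_eq _ _ z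
  have hγCf : ∀ z, γCf (algebraMap _ Cf z) = γ z := fun z => IsLocalization.Away.lift_eq _ _ z
  have hfac : ∀ z : E', χCf (Ψ z) = π z := by
    have hR : (χCf.comp αR) = π.comp il := by
      refine MvPolynomial.ringHom_ext (fun c => ?_) fun i => ?_
      · simp only [RingHom.comp_apply, αR, MvPolynomial.eval₂Hom_C]
        refine (hχCf _).trans ?_
        show χ (c ⊗ₜ[A] (1 : B)) = _
        rw [Algebra.TensorProduct.lift_tmul, map_one, mul_one]
        rfl
      · simp only [RingHom.comp_apply, αR, MvPolynomial.eval₂Hom_X']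
        refine (hχCf _).trans ?_
        show χ ((1 : C) ⊗ₜ[A] bT i) = _
        rw [Algebra.TensorProduct.lift_tmul, map_one, one_mul]
        show χB (bT i) = _
        rw [hχR, MvPolynomial.map_X]
    have hE : χCf.comp αf = χf := by
      refine IsLocalization.ringHom_ext (Submonoid.powers f) (RingHom.ext fun x => ?_)
      show χCf (αf (algebraMap B _ x)) = _
      rw [IsLocalization.Away.lift_eq f hαf]
      refine (hχCf _).trans ?_
      show χ ((1 : C) ⊗ₜ[A] x) = _
      rw [Algebra.TensorProduct.lift_tmul, map_one, one_mul]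
      rfl
    intro z
    induction z using TensorProduct.induction_on with
    | zero => simp
    | tmul c e =>
      rw [show c ⊗ₜ[R] e = il c * ir e by
        show c ⊗ₜ[R] e = c ⊗ₜ[R] (1 : E) * (1 : R') ⊗ₜ[R] e
        rw [Algebra.TensorProduct.tmul_mul_tmul, mul_one, one_mul], map_mul, map_mul, map_mul]
      refine congrArg₂ (· * ·) ?_ ?_
      · rw [show il c = c ⊗ₜ[R] (1 : E) from rfl, Algebra.TensorProduct.lift_tmul, map_one, mul_one]
        exact RingHom.congr_fun hR c
      · rw [show ir e = (1 : R') ⊗ₜ[R] e from rfl, Algebra.TensorProduct.lift_tmul, map_one, one_mul]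
        show χCf (αf (φ e)) = χE e
        rw [← hχf e, ← hE]
        rfl
    | add x y hx hy => rw [map_add, map_add, map_add, hx, hy]
  let θ : E' →+* L := γCf.comp Ψ.toRingHom
  let ξE : Ideal E' := RingHom.ker θ
  haveI : ξE.IsPrime := RingHom.ker_isPrime _
  have hjξ : ir j ∈ ξE := by
    show γCf (Ψ ((1 : R') ⊗ₜ[R] j)) = 0
    rw [Algebra.TensorProduct.lift_tmul, map_one, one_mul]
    show γCf (αf (φ j)) = 0
    exact (hj.map (γCf.comp αf)).eq_zero
  have hξP' : ξE ≤ P := by
    intro z hz
    rw [← hπ, ← hfac]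
    obtain ⟨⟨w, ⟨_, n, rfl⟩⟩, hw⟩ := IsLocalization.surj (Submonoid.powers g) (Ψ z)
    have h1 : γ w = 0 := by
      rw [← hγCf, ← hw, map_mul, show γCf (Ψ z) = θ z from rfl, RingHom.mem_ker.1 hz, zero_mul]
    have h2 : χ w = 0 := hξle ((hγ w).1 h1)
    rw [← hχCf, ← hw, map_mul, hχCf] at h2
    exact (mul_eq_zero.1 h2).resolve_right (by rw [map_pow]; exact pow_ne_zero n hgχ)
  -- independence in `L`
  let q₀ : PrimeSpectrum C := ξ.comap (algebraMap C (C ⊗[A] B))
  have hq₀ : q₀.asIdeal = ⊥ := congrArg PrimeSpectrum.asIdeal hξη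
  let K := q₀.asIdeal.ResidueField
  letI : Algebra K L :=
    (Ideal.ResidueField.map q₀.asIdeal ξ.asIdeal (algebraMap C (C ⊗[A] B)) rfl).toAlgebra
  have hKL : ∀ c : C, algebraMap K L (algebraMap C K c) = γCf (αC c) := fun c =>
    (Ideal.ResidueField.map_algebraMap q₀.asIdeal ξ.asIdeal (algebraMap C (C ⊗[A] B)) rfl c).trans
      (hγCf _).symm
  let β : Fin d → L := fun i => γCf (αB (bT i))
  let S := IntermediateField.adjoin K (Set.range β)
  have hθR : ∀ c : R', θ (il c) = MvPolynomial.aeval β (MvPolynomial.map (algebraMap C K) c) := by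
    intro c
    show γCf (Ψ (c ⊗ₜ[R] (1 : E))) = _
    rw [Algebra.TensorProduct.lift_tmul, map_one, mul_one]
    refine RingHom.congr_fun (show γCf.comp αR =
      (MvPolynomial.aeval β).toRingHom.comp (MvPolynomial.map (algebraMap C K)) from ?_) c
    refine MvPolynomial.ringHom_ext (fun a => ?_) fun i => ?_
    · simp [αR, hKL]
    · simp [αR, β]
  haveI : Algebra.IsAlgebraic S L := by
    have hmem : ∀ c : R', θ (il c) ∈ S := fun c => by
      rw [hθR]
      refine IntermediateField.algebra_adjoin_le_adjoin K _ ?_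
      rw [Algebra.adjoin_range_eq_range_aeval]
      exact ⟨_, rfl⟩
    letI : Algebra R' S := ((θ.comp il).codRestrict S hmem).toAlgebra
    letI : Algebra R' L := (θ.comp il).toAlgebra
    haveI : IsScalarTower R' S L := IsScalarTower.of_algebraMap_eq' rfl
    let θ' : E' →ₐ[R'] L := { θ with commutes' := fun r => rfl }
    let T := S ⊗[R'] E'
    let Φ : T →ₐ[S] L := Algebra.TensorProduct.lift (Algebra.ofId S L) θ' fun _ _ => Commute.all _ _
    haveI : Module.Finite S T := Algebra.FormallyUnramified.finite_of_free S T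
    have hint : ∀ z : E', IsIntegral S (θ z) := fun z => by
      have h1 : IsIntegral S (Φ ((1 : S) ⊗ₜ[R'] z)) :=
        (Algebra.IsIntegral.isIntegral (R := S) ((1 : S) ⊗ₜ[R'] z)).map Φ
      rw [Algebra.TensorProduct.lift_tmul, map_one, one_mul] at h1
      exact h1
    have hγint : ∀ w : C ⊗[A] B, IsIntegral S (γ w) := by
      intro w
      induction w with
      | zero => rw [map_zero]; exact isIntegral_zero
      | tmul c x =>
        obtain ⟨e, he⟩ := hφ (algebraMap B _ x)
        have : γ (c ⊗ₜ[A] x) = θ (il (MvPolynomial.C c)) * θ (ir e) := by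
          show _ = γCf (Ψ (MvPolynomial.C c ⊗ₜ[R] (1 : E))) * γCf (Ψ ((1 : R') ⊗ₜ[R] e))
          rw [Algebra.TensorProduct.lift_tmul, Algebra.TensorProduct.lift_tmul, map_one, map_one,
            mul_one, one_mul]
          show _ = γCf (αR (MvPolynomial.C c)) * γCf (αf (φ e))
          rw [he, IsLocalization.Away.lift_eq f hαf, MvPolynomial.eval₂Hom_C, ← map_mul, ← hγCf]
          congr 1
          show _ = algebraMap _ Cf (c ⊗ₜ[A] (1 : B)) * algebraMap _ Cf ((1 : C) ⊗ₜ[A] x)
          rw [← map_mul, Algebra.TensorProduct.tmul_mul_tmul, mul_one, one_mul]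
        rw [this]
        exact (hint _).mul (hint _)
      | add x y hx hy => rw [map_add]; exact hx.add hy
    refine Algebra.isAlgebraic_iff_isIntegral.mpr ⟨fun l => ?_⟩
    obtain ⟨r, a, hr, hra⟩ := UnibranchQF.exists_fraction ξ.asIdeal l
    rw [eq_inv_mul_iff_mul_eq₀ hr |>.2 hra]
    exact (hγint r).inv.mul (hγint a)
  have hind : AlgebraicIndependent K β := by
    refine algebraicIndependent_of_le β ?_
    rw [trd_sm_eq (R := C) ξ]
    exact_mod_cast hξtrd
  have hξR : ∀ c : R', il c ∈ ξE → c = 0 := by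
    intro c hc
    have h1 : MvPolynomial.aeval β (MvPolynomial.map (algebraMap C K) c) = 0 := by
      rw [← hθR]; exact hc
    have h2 := algebraicIndependent_iff.1 hind _ h1
    refine MvPolynomial.map_injective _ ?_ (h2.trans (map_zero _).symm)
    rw [RingHom.injective_iff_ker_eq_bot, Ideal.ker_algebraMap_residueField]
    exact hq₀
  -- the localization at `P` is a domain
  haveI : IsIntegrallyClosed R' :=
    Groth.Agent.Lib.Excellent.GenericNormal.isIntegrallyClosed_mvPolynomial_fin d
  haveI : IsDomain (Localization.AtPrime P) :=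
    (Groth.Agent.Lib.FEt.NormalAlg.normal_localization R' E' P (Localization.AtPrime P)).1
  let z0 : Ideal E' := RingHom.ker (algebraMap E' (Localization.AtPrime P))
  haveI : z0.IsPrime := RingHom.ker_isPrime _
  have hz0 : z0 ≤ ξE := by
    intro z hz
    obtain ⟨⟨t, ht⟩, htz⟩ := (IsLocalization.map_eq_zero_iff P.primeCompl _ z).1 hz
    exact (‹ξE.IsPrime›.mem_or_mem (show t * z ∈ ξE from htz.symm ▸ ξE.zero_mem)).resolve_left
      fun h => ht (hξP' h)
  have hbot : ξE.under R' = ⊥ := (Submodule.eq_bot_iff _).2 fun c hc => hξR c hc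
  have heq : z0 = ξE := Algebra.QuasiFinite.eq_of_le_of_under_eq (R := R') z0 ξE hz0
    ((le_bot_iff.1 ((Ideal.comap_mono hz0).trans_eq hbot)).trans hbot.symm)
  obtain ⟨⟨t, ht⟩, htz⟩ := (IsLocalization.map_eq_zero_iff P.primeCompl _ (ir j)).1
    (show ir j ∈ z0 from heq ▸ hjξ)
  exact ht (hP₀P (hIP₀ (show t ∈ I from (Submodule.mem_bot E').2 htz)))

set_option synthInstance.maxHeartbeats 200000 in
set_option maxHeartbeats 1000000 in
theorem flat_of_surjective [IsNoetherianRing A] [IsReduced A] (hφ : Function.Surjective φ)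
    (Q : PrimeSpectrum B) (hu : EGA43.IsUnivOpenAt (sm A B) Q) (hd : d ≤ trd (sm A B) Q)
    (hf : f ∉ Q.asIdeal) :
    Module.Flat A (Localization.AtPrime Q.asIdeal) ∧
      Module.Flat (MvPolynomial (Fin d) A) (Localization.AtPrime Q.asIdeal) ∧
      IsReduced (Localization.AtPrime Q.asIdeal) ∧
      (UnibranchLift.GUB A (Q.asIdeal.under A) → IsDomain (Localization.AtPrime Q.asIdeal)) := by
  classical
  let R := MvPolynomial (Fin d) A
  let L := Localization.AtPrime Q.asIdeal
  have hfL : IsUnit (algebraMap B L f) :=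
    IsLocalization.map_units L (⟨f, hf⟩ : Q.asIdeal.primeCompl)
  let ν : Localization.Away f →+* L := IsLocalization.Away.lift f hfL
  have hν : ∀ x, ν (algebraMap B _ x) = algebraMap B L x :=
    IsLocalization.Away.lift_eq f hfL
  let N : Ideal E := (IsLocalRing.maximalIdeal L).comap (ν.comp φ.toRingHom)
  have hN : ∀ (e : E) (x : B), φ e = algebraMap B _ x → (e ∈ N ↔ x ∈ Q.asIdeal) := by
    intro e x h
    show ν (φ e) ∈ IsLocalRing.maximalIdeal L ↔ _
    rw [h, hν]
    exact IsLocalization.AtPrime.to_map_mem_maximal_iff L Q.asIdeal x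
  have hJN : RingHom.ker φ.toRingHom ≤ N := fun e he => by
    show ν (φ e) ∈ IsLocalRing.maximalIdeal L
    rw [show φ e = 0 from he, map_zero]
    exact zero_mem _
  haveI : Finite (minimalPrimes A) := (minimalPrimes.finite_of_isNoetherianRing A).to_subtype
  haveI := Fintype.ofFinite (minimalPrimes A)
  haveI : ∀ q : minimalPrimes A, q.1.IsPrime := fun q => q.2.1.1
  let C : minimalPrimes A → Type u := fun q =>
    integralClosure (A ⧸ q.1) (FractionRing (A ⧸ q.1))
  letI : ∀ q, CommRing (C q) := fun q =>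
    inferInstanceAs (CommRing (integralClosure (A ⧸ q.1) (FractionRing (A ⧸ q.1))))
  haveI : ∀ q, IsDomain (C q) := fun q =>
    inferInstanceAs (IsDomain (integralClosure (A ⧸ q.1) (FractionRing (A ⧸ q.1))))
  haveI : ∀ q, IsIntegrallyClosed (C q) := fun q =>
    integralClosure.isIntegrallyClosedOfFiniteExtension (R := A ⧸ q.1) (FractionRing (A ⧸ q.1))
  letI : ∀ q, Algebra A (C q) := fun q =>
    ((algebraMap (A ⧸ q.1) (integralClosure (A ⧸ q.1) (FractionRing (A ⧸ q.1)))).comp
      (Ideal.Quotient.mk q.1)).toAlgebra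
  haveI : ∀ q, Algebra.IsIntegral A (C q) := fun q =>
    algebraMap_isIntegral_iff.1 (RingHom.IsIntegral.trans _ _
      (RingHom.isIntegral_of_surjective _ Ideal.Quotient.mk_surjective)
      (algebraMap_isIntegral_iff.2 inferInstance))
  have hkill : ∀ j, IsNilpotent (φ j) → ∃ s ∉ N, s * j = 0 := by
    intro j hj
    have hex := fun q => exists_smul_eq_zero φ hφ Q hu hd hf N hN hJN (C q) j hj
    choose s hs hs0 using hex
    refine ⟨∏ q, s q, fun h => ?_, eq_zero_of_forall_tmul (R := R)
      (fun q => MvPolynomial (Fin d) (C q)) (fun r hr => ?_) _ (fun q => ?_)⟩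
    · obtain ⟨q, -, hq⟩ := Ideal.IsPrime.prod_mem_iff.1 h
      exact hs q hq
    · refine MvPolynomial.ext _ _ fun m => ?_
      rw [MvPolynomial.coeff_zero]
      have hall : ∀ q : minimalPrimes A, MvPolynomial.coeff m r ∈ q.1 := by
        intro q
        have h1 : MvPolynomial.coeff m (MvPolynomial.map (algebraMap A (C q)) r) = 0 := by
          rw [show MvPolynomial.map (algebraMap A (C q)) r = 0 from hr q, MvPolynomial.coeff_zero]
        rw [MvPolynomial.coeff_map] at h1
        have h2 : algebraMap (A ⧸ q.1) (FractionRing (A ⧸ q.1))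
            (Ideal.Quotient.mk q.1 (MvPolynomial.coeff m r)) = 0 := congrArg Subtype.val h1
        exact Ideal.Quotient.eq_zero_iff_mem.1
          ((map_eq_zero_iff _ (IsFractionRing.injective _ _)).1 h2)
      have : MvPolynomial.coeff m r ∈ nilradical A := by
        rw [nilradical, ← Ideal.sInf_minimalPrimes]
        exact Submodule.mem_sInf.2 fun q hq => hall ⟨q, hq⟩
      rwa [nilradical_eq_zero, Ideal.zero_eq_bot, Ideal.mem_bot] at this
    · obtain ⟨c, hc⟩ := Finset.dvd_prod_of_mem s (Finset.mem_univ q)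
      rw [hc, show s q * c * j = c * (s q * j) by ring]
      rw [show (1 : MvPolynomial (Fin d) (C q)) ⊗ₜ[R] (c * (s q * j)) =
        ((1 : MvPolynomial (Fin d) (C q)) ⊗ₜ[R] c) * ((1 : MvPolynomial (Fin d) (C q)) ⊗ₜ[R] (s q * j))
        by rw [Algebra.TensorProduct.tmul_mul_tmul, one_mul], hs0 q, mul_zero]
  -- `B_Q = E_N`
  let ω : E →+* L := ν.comp φ.toRingHom
  letI : Algebra E L := ω.toAlgebra
  have hNL : ∀ e, e ∉ N → IsUnit (ω e) := fun e he => by
    by_contra h
    exact he h
  have hnot : ∀ (e : E) (x : B), φ e = algebraMap B _ x → x ∉ Q.asIdeal → e ∉ N :=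
    fun e x h hx he => hx ((hN e x h).1 he)
  haveI : IsLocalization N.primeCompl L := by
    refine ⟨⟨fun y => hNL y.1 y.2, fun z => ?_, fun {x y} hxy => ?_⟩⟩
    · obtain ⟨⟨b, s⟩, hbs⟩ := IsLocalization.surj Q.asIdeal.primeCompl z
      obtain ⟨e, he⟩ := hφ (algebraMap B _ b)
      obtain ⟨t, ht⟩ := hφ (algebraMap B _ s.1)
      refine ⟨⟨e, t, hnot t s ht s.2⟩, ?_⟩
      show z * ν (φ t) = ν (φ e)
      rw [he, ht, hν, hν]
      exact hbs
    · have hxy' : ν (φ (x - y)) = 0 := by
        rw [map_sub, map_sub]; exact sub_eq_zero.2 hxy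
      obtain ⟨⟨b, ⟨_, n, rfl⟩⟩, hb⟩ := IsLocalization.surj (Submonoid.powers f) (φ (x - y))
      have hb0 : algebraMap B L b = 0 := by
        rw [← hν, ← hb, map_mul, hxy', zero_mul]
      obtain ⟨⟨s, hs⟩, hsb⟩ := (IsLocalization.map_eq_zero_iff Q.asIdeal.primeCompl L b).1 hb0
      obtain ⟨t, ht⟩ := hφ (algebraMap B _ (s * f ^ n))
      have htN : t ∉ N := hnot t _ ht fun h =>
        (Q.isPrime.mem_or_mem h).elim hs fun h' => hf (Q.isPrime.mem_of_pow_mem n h')
      have hj : φ (t * (x - y)) = 0 := by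
        rw [map_mul, ht, map_mul, mul_assoc, mul_comm (algebraMap B (Localization.Away f) (f ^ n)), hb,
          ← map_mul]
        rw [show s * b = 0 from hsb, map_zero]
      obtain ⟨r, hr, hr0⟩ := hkill _ (by rw [hj]; exact IsNilpotent.zero)
      refine ⟨⟨r * t, N.primeCompl.mul_mem hr htN⟩, ?_⟩
      show r * t * x = r * t * y
      linear_combination hr0
  haveI : Module.Flat E L := IsLocalization.flat L N.primeCompl
  haveI : IsScalarTower R E L := IsScalarTower.of_algebraMap_eq fun r => by
    show algebraMap R L r = ν (φ (algebraMap R E r))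
    rw [φ.commutes, IsScalarTower.algebraMap_apply R B (Localization.Away f), hν,
      ← IsScalarTower.algebraMap_apply]
  haveI : Module.Flat R L := Module.Flat.trans R E L
  haveI : N.IsPrime := Ideal.IsPrime.comap _
  refine ⟨Module.Flat.trans A R L, inferInstance, ⟨fun z ⟨n, hn⟩ => ?_⟩, fun hgub => ?_⟩
  swap
  · refine EtaleGUB.isDomain_localization N (hgub.poly d (N.under R) ?_) L
    ext a
    show algebraMap R E (MvPolynomial.C a) ∈ N ↔ algebraMap A B a ∈ Q.asIdeal
    refine hN _ _ ?_
    rw [φ.commutes, ← MvPolynomial.algebraMap_eq, ← IsScalarTower.algebraMap_apply,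
      ← IsScalarTower.algebraMap_apply]
  obtain ⟨⟨e, t⟩, het⟩ := IsLocalization.surj N.primeCompl z
  have h1 : algebraMap E L (e ^ n) = 0 := by
    rw [map_pow, ← het, mul_pow, hn, zero_mul]
  obtain ⟨⟨r, hr⟩, hre⟩ := (IsLocalization.map_eq_zero_iff N.primeCompl L _).1 h1
  obtain ⟨r', hr', hr0⟩ := hkill (r * e) ⟨n + 1, by
    rw [← map_pow, show (r * e) ^ (n + 1) = (r ^ n * e) * (r * e ^ n) by ring,
      show r * e ^ n = 0 from hre, mul_zero, map_zero]⟩
  have h2 : algebraMap E L e = 0 := (IsLocalization.map_eq_zero_iff N.primeCompl L _).2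
    ⟨⟨r' * r, N.primeCompl.mul_mem hr' hr⟩, by rw [← hr0]; ring⟩
  rw [h2] at het
  exact (IsLocalization.map_units L t).mul_left_eq_zero.1 het

end

theorem flat_of_isUnramifiedAt {A B : Type u} [CommRing A] [CommRing B] [Algebra A B]
    [IsNoetherianRing A] [IsReduced A] [Algebra.FiniteType A B] {d : ℕ}
    [Algebra (MvPolynomial (Fin d) A) B] [IsScalarTower A (MvPolynomial (Fin d) A) B]
    (Q : PrimeSpectrum B) (hu : EGA43.IsUnivOpenAt (sm A B) Q) (hd : d ≤ trd (sm A B) Q)
    [Algebra.IsUnramifiedAt (MvPolynomial (Fin d) A) Q.asIdeal] :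
    Module.Flat A (Localization.AtPrime Q.asIdeal) ∧
      Module.Flat (MvPolynomial (Fin d) A) (Localization.AtPrime Q.asIdeal) ∧
      IsReduced (Localization.AtPrime Q.asIdeal) ∧
      (UnibranchLift.GUB A (Q.asIdeal.under A) → IsDomain (Localization.AtPrime Q.asIdeal)) := by
  haveI : Algebra.FiniteType (MvPolynomial (Fin d) A) B :=
    Algebra.FiniteType.of_restrictScalars_finiteType A (MvPolynomial (Fin d) A) B
  obtain ⟨f, hf, SP, φ, hφ⟩ := Algebra.IsUnramifiedAt.exists_hasStandardEtaleSurjectionOn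
    (R := MvPolynomial (Fin d) A) Q.asIdeal
  exact flat_of_surjective φ hφ Q hu hd hf

end Groth.Agent.H46.FlatGeomRed
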