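import Groth.Agent.H46.FlatGeomRed
import Groth.Agent.H21.SepGen
import Mathlib.RingTheory.Kaehler.Basic
import Mathlib.RingTheory.Unramified.Field

/-!
# Flatness at a maximal fibre point with geometrically reduced local ring of the fibre
-/

universe u

open CategoryTheory AlgebraicGeometry
open Groth.Agent.H46.FibreTrdeg Groth.Agent.H46.UnivOpenFinite

namespace Groth.Agent.H46.FlatGeomRed

set_option linter.style.haveILetI false

attribute [local instance] Localization.AtPrime.algebraOfLiesOver

section Kaehler

variable {k L : Type u} [Field k] [Field L] [Algebra k L]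

theorem D_mem_of_adjoin {S : Submodule L (KaehlerDifferential k L)} {s : Set L}
    (hs : ∀ x ∈ s, KaehlerDifferential.D k L x ∈ S) {x : L}
    (hx : x ∈ IntermediateField.adjoin k s) : KaehlerDifferential.D k L x ∈ S := by
  induction hx using IntermediateField.adjoin_induction with
  | mem x hx => exact hs x hx
  | algebraMap c => rw [Derivation.map_algebraMap]; exact zero_mem _
  | add x y _ _ hx hy => rw [map_add]; exact add_mem hx hy
  | inv x _ hx => rw [Derivation.leibniz_inv]; exact S.smul_mem _ hx
  | mul x y _ _ hx hy =>
    rw [Derivation.leibniz]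
    exact add_mem (S.smul_mem _ hy) (S.smul_mem _ hx)

/-- A separating basis spans the differentials. -/
theorem span_D_eq_top (s : Set L) [Algebra.IsSeparable (IntermediateField.adjoin k s) L] :
    Submodule.span L (KaehlerDifferential.D k L '' s) = ⊤ := by
  let F := IntermediateField.adjoin k s
  haveI : Algebra.FormallyUnramified F L := Algebra.FormallyUnramified.of_isSeparable F L
  rw [eq_top_iff]
  intro ω hω
  clear hω
  obtain ⟨t, rfl⟩ := (KaehlerDifferential.exact_mapBaseChange_map k F L ω).1
    (Subsingleton.elim _ _)
  induction t using TensorProduct.induction_on with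
  | zero => rw [map_zero]; exact zero_mem _
  | add x y hx hy => rw [map_add]; exact add_mem hx hy
  | tmul l η =>
    rw [KaehlerDifferential.mapBaseChange_tmul]
    refine Submodule.smul_mem _ _ ?_
    have hη : η ∈ Submodule.span F (Set.range (KaehlerDifferential.D k F)) := by
      rw [KaehlerDifferential.span_range_derivation]; trivial
    induction hη using Submodule.span_induction with
    | mem y hy =>
      obtain ⟨y, rfl⟩ := hy
      rw [KaehlerDifferential.map_D]
      exact D_mem_of_adjoin (fun x hx => Submodule.subset_span (Set.mem_image_of_mem _ hx)) y.2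
    | zero => rw [map_zero]; exact zero_mem _
    | add a b _ _ ha hb => rw [map_add]; exact add_mem ha hb
    | smul c a _ ha =>
      rw [map_smul, algebra_compatible_smul L c]
      exact Submodule.smul_mem _ _ ha

end Kaehler

variable {A B : Type u} [CommRing A] [CommRing B] [Algebra A B] [Algebra.FiniteType A B]

/-- Elements of `B` whose differentials span `Ω_{κ(Q)/κ(p)}`. -/
theorem exists_spanning (Q : PrimeSpectrum B)
    [Algebra.IsGeometricallyReduced (Q.asIdeal.under A).ResidueField Q.asIdeal.ResidueField] :
    ∃ (d : ℕ) (b : Fin d → B), d ≤ trd (sm A B) Q ∧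
      Submodule.span Q.asIdeal.ResidueField
        (Set.range fun i => KaehlerDifferential.D (Q.asIdeal.under A).ResidueField
          Q.asIdeal.ResidueField (algebraMap B _ (b i))) = ⊤ := by
  classical
  let k := (Q.asIdeal.under A).ResidueField
  let L := Q.asIdeal.ResidueField
  haveI : Algebra.EssFiniteType A L := Algebra.EssFiniteType.comp A B L
  haveI : Algebra.EssFiniteType k L := Algebra.EssFiniteType.of_comp A k L
  obtain ⟨s, hs, hsep⟩ := Groth.Agent.H21.SepGen.exists_separatingBasis k L
  have htop := span_D_eq_top (k := k) (s : Set L)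
  have hcard : (s.card : Cardinal) = (trd (sm A B) Q : Cardinal) := by
    have h1 := hs.cardinalMk_eq_trdeg
    rw [Cardinal.mk_coe_finset] at h1
    rw [h1]
    exact trd_sm_eq Q
  have hrank : Module.finrank L (KaehlerDifferential k L) ≤ trd (sm A B) Q := by
    rw [← finrank_top L (KaehlerDifferential k L), ← htop,
      show KaehlerDifferential.D k L '' (s : Set L) = ↑(s.image (KaehlerDifferential.D k L)) by simp]
    exact (finrank_span_finset_le_card _).trans (Finset.card_image_le.trans_eq (Nat.cast_inj.1 hcard))
  haveI : Module.Finite L (KaehlerDifferential k L) :=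
    ⟨⟨s.image (KaehlerDifferential.D k L), by rw [Finset.coe_image]; exact htop⟩⟩
  let T := Submodule.span L (Set.range fun b : B => KaehlerDifferential.D k L (algebraMap B L b))
  have hT : T = ⊤ := by
    rw [eq_top_iff, ← KaehlerDifferential.span_range_derivation, Submodule.span_le]
    rintro _ ⟨l, rfl⟩
    obtain ⟨r, a, hr, hra⟩ := UnibranchQF.exists_fraction Q.asIdeal l
    have h := congrArg (KaehlerDifferential.D k L) hra
    rw [Derivation.leibniz] at h
    have h2 : algebraMap B L r • KaehlerDifferential.D k L l ∈ T := by
      rw [eq_sub_of_add_eq h]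
      exact sub_mem (Submodule.subset_span ⟨a, rfl⟩)
        (T.smul_mem _ (Submodule.subset_span ⟨r, rfl⟩))
    exact (Submodule.smul_mem_iff _ hr).1 h2
  obtain ⟨κ, g, -, hsp, hli⟩ := exists_linearIndependent' L
    fun b : B => KaehlerDifferential.D k L (algebraMap B L b)
  haveI : Finite κ := hli.finite
  haveI := Fintype.ofFinite κ
  let e := Fintype.equivFin κ
  refine ⟨Fintype.card κ, g ∘ e.symm, hli.fintype_card_le_finrank.trans hrank, ?_⟩
  rw [← hT, show T = _ from hsp.symm]
  congr 1
  exact e.symm.surjective.range_comp
    (fun i => KaehlerDifferential.D k L (algebraMap B L (g i)))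

/-- Elements whose differentials span bound the transcendence degree. -/
theorem trd_le_of_spanning (Q : PrimeSpectrum B) {d : ℕ} (b : Fin d → B)
    (hspan : Submodule.span Q.asIdeal.ResidueField
        (Set.range fun i => KaehlerDifferential.D (Q.asIdeal.under A).ResidueField
          Q.asIdeal.ResidueField (algebraMap B _ (b i))) = ⊤) :
    trd (sm A B) Q ≤ d := by
  classical
  let k := (Q.asIdeal.under A).ResidueField
  let L := Q.asIdeal.ResidueField
  let β : Fin d → L := fun i => algebraMap B L (b i)
  let F := IntermediateField.adjoin k (Set.range β)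
  haveI : Algebra.EssFiniteType A L := Algebra.EssFiniteType.comp A B L
  haveI : Algebra.EssFiniteType k L := Algebra.EssFiniteType.of_comp A k L
  haveI : Algebra.EssFiniteType F L := Algebra.EssFiniteType.of_comp k F L
  have hb : ∀ i, KaehlerDifferential.D F L (β i) = 0 := fun i =>
    Derivation.map_algebraMap (KaehlerDifferential.D F L)
      (⟨β i, IntermediateField.subset_adjoin k _ ⟨i, rfl⟩⟩ : F)
  haveI : Algebra.FormallyUnramified F L := by
    refine ⟨subsingleton_of_forall_eq 0 fun ω => ?_⟩
    have hω : ω ∈ Submodule.span L (Set.range (KaehlerDifferential.D F L)) := by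
      rw [KaehlerDifferential.span_range_derivation]; trivial
    induction hω using Submodule.span_induction with
    | mem y hy =>
      obtain ⟨l, rfl⟩ := hy
      rw [show KaehlerDifferential.D F L l = KaehlerDifferential.map k F L L (KaehlerDifferential.D k L l) from
        (KaehlerDifferential.map_D k F L L l).symm]
      have hl : KaehlerDifferential.D k L l ∈ Submodule.span L (Set.range fun i =>
          KaehlerDifferential.D k L (algebraMap B L (b i))) := by
        rw [hspan]; trivial
      generalize KaehlerDifferential.D k L l = z at hl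
      induction hl using Submodule.span_induction with
      | mem y hy =>
        obtain ⟨i, rfl⟩ := hy
        rw [KaehlerDifferential.map_D]
        exact hb i
      | zero => rw [map_zero]
      | add a c _ _ ha hc => rw [map_add, ha, hc, add_zero]
      | smul c a _ ha => rw [map_smul, ha, smul_zero]
    | zero => rfl
    | add a c _ _ ha hc => rw [ha, hc, add_zero]
    | smul c a _ ha => rw [ha, smul_zero]
  haveI : Algebra.IsSeparable F L := Algebra.FormallyUnramified.isSeparable F L
  haveI : Algebra.IsAlgebraic (Algebra.adjoin k (Set.range β)) L :=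
    IntermediateField.isAlgebraic_adjoin_iff_top.1
      (inferInstanceAs (Algebra.IsAlgebraic F L))
  haveI : FaithfulSMul k L :=
    (faithfulSMul_iff_algebraMap_injective _ _).2 (RingHom.injective _)
  obtain ⟨t, hts, ht⟩ := exists_isTranscendenceBasis_subset (R := k) (Set.range β)
  have h1 : (trd (sm A B) Q : Cardinal) = Cardinal.mk t := by
    rw [ht.cardinalMk_eq_trdeg]
    exact (trd_sm_eq Q).symm
  have h2 : Cardinal.mk t ≤ (d : Cardinal) := by
    haveI : Finite t := ((Set.finite_range β).subset hts).to_subtype
    rw [← Nat.cast_card, Nat.cast_le]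
    exact (Nat.card_mono (Set.finite_range β) hts).trans
      ((Finite.card_range_le β).trans_eq (Nat.card_fin d))
  rw [← h1] at h2
  exact_mod_cast h2

/-- Minimal primes below a point of flatness over `A[T]` keep the transcendence degree. -/
theorem le_trd_of_flat {d : ℕ} [Algebra (MvPolynomial (Fin d) A) B]
    [IsScalarTower A (MvPolynomial (Fin d) A) B] (Q : PrimeSpectrum B)
    [Module.Flat (MvPolynomial (Fin d) A) (Localization.AtPrime Q.asIdeal)]
    (ξ : PrimeSpectrum B) (hξ : ξ.asIdeal ∈ minimalPrimes B) (hle : ξ.asIdeal ≤ Q.asIdeal) :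
    d ≤ trd (sm A B) ξ := by
  classical
  let R := MvPolynomial (Fin d) A
  let L := Localization.AtPrime Q.asIdeal
  let q := ξ.asIdeal.under A
  let q' : Ideal R := q.map MvPolynomial.C
  have hq'le : q' ≤ ξ.asIdeal.under R := Ideal.map_le_iff_le_comap.2 fun a ha => by
    show algebraMap R B (MvPolynomial.C a) ∈ ξ.asIdeal
    rw [← MvPolynomial.algebraMap_eq, ← IsScalarTower.algebraMap_apply]
    exact ha
  haveI : q'.IsPrime := by
    show (q.map (MvPolynomial.C : A →+* R)).IsPrime
    rw [← Ideal.mk_ker (I := q), ← MvPolynomial.ker_map]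
    exact RingHom.ker_isPrime _
  have hdisj : Disjoint (Q.asIdeal.primeCompl : Set B) (ξ.asIdeal : Set B) :=
    Set.disjoint_left.2 fun x hx hxξ => hx (hle hxξ)
  let ξL : Ideal L := ξ.asIdeal.map (algebraMap B L)
  haveI : ξL.IsPrime :=
    IsLocalization.isPrime_of_isPrime_disjoint Q.asIdeal.primeCompl L _ ξ.isPrime hdisj
  have hcomapξ : ξL.comap (algebraMap B L) = ξ.asIdeal :=
    IsLocalization.comap_map_of_isPrime_disjoint Q.asIdeal.primeCompl L ξ.isPrime hdisj
  haveI : ξL.LiesOver (ξ.asIdeal.under R) := ⟨by
    show ξ.asIdeal.comap (algebraMap R B) = ξL.comap (algebraMap R L)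
    rw [IsScalarTower.algebraMap_eq R B L, ← Ideal.comap_comap, hcomapξ]⟩
  obtain ⟨P, hP, hPp, hPo⟩ := Ideal.exists_ideal_le_liesOver_of_le (p := q')
    (q := ξ.asIdeal.under R) ξL hq'le
  haveI := hPp
  have hPξ : P.comap (algebraMap B L) ≤ ξ.asIdeal := (Ideal.comap_mono hP).trans_eq hcomapξ
  have hPe : ξ.asIdeal ≤ P.comap (algebraMap B L) :=
    hξ.2 ⟨Ideal.IsPrime.comap _, bot_le⟩ hPξ
  have hker : ξ.asIdeal.under R ≤ q' := by
    intro r hr
    rw [hPo.over]
    show algebraMap R L r ∈ P
    rw [IsScalarTower.algebraMap_apply R B L]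
    exact hPe hr
  let K := q.ResidueField
  let E := ξ.asIdeal.ResidueField
  let β : Fin d → E := fun i => algebraMap B E (algebraMap R B (MvPolynomial.X i))
  have hind : AlgebraicIndependent K β := by
    letI : Algebra (A ⧸ q) E := ((algebraMap K E).comp (algebraMap (A ⧸ q) K)).toAlgebra
    haveI : IsScalarTower (A ⧸ q) K E := IsScalarTower.of_algebraMap_eq' rfl
    have h1 : AlgebraicIndependent (A ⧸ q) β := by
      rw [algebraicIndependent_iff]
      intro p hp
      obtain ⟨p, rfl⟩ := MvPolynomial.map_surjective (Ideal.Quotient.mk q) Ideal.Quotient.mk_surjective p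
      have he : (MvPolynomial.aeval (R := A ⧸ q) β).toRingHom.comp (MvPolynomial.map (Ideal.Quotient.mk q)) =
          (algebraMap B E).comp (algebraMap R B) := by
        refine MvPolynomial.ringHom_ext (fun a => ?_) fun i => ?_
        · show MvPolynomial.aeval β (MvPolynomial.map (Ideal.Quotient.mk q) (MvPolynomial.C a)) = _
          rw [MvPolynomial.map_C, MvPolynomial.aeval_C]
          show algebraMap K E (algebraMap A K a) = algebraMap B E (algebraMap R B (MvPolynomial.C a))
          rw [← MvPolynomial.algebraMap_eq, ← IsScalarTower.algebraMap_apply A R B,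
            ← IsScalarTower.algebraMap_apply, ← IsScalarTower.algebraMap_apply]
        · show MvPolynomial.aeval β (MvPolynomial.map (Ideal.Quotient.mk q) (MvPolynomial.X i)) = _
          rw [MvPolynomial.map_X, MvPolynomial.aeval_X]
          rfl
      have hmem : p ∈ q' := hker ((Ideal.algebraMap_residueField_eq_zero (I := ξ.asIdeal)).1
        ((RingHom.congr_fun he p).symm.trans hp))
      refine MvPolynomial.ext _ _ fun m => ?_
      rw [MvPolynomial.coeff_map, MvPolynomial.coeff_zero, Ideal.Quotient.eq_zero_iff_mem]
      exact MvPolynomial.mem_map_C_iff.1 hmem m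
    haveI : Algebra.IsAlgebraic (A ⧸ q) K :=
      IsLocalization.isAlgebraic K (nonZeroDivisors (A ⧸ q))
    exact h1.extendScalars K
  have h2 := hind.lift_cardinalMk_le_trdeg
  rw [Cardinal.mk_fin, Cardinal.lift_natCast, Cardinal.lift_id'] at h2
  have h3 : Algebra.trdeg K E = (trd (sm A B) ξ : Cardinal) := trd_sm_eq ξ
  rw [h3] at h2
  exact_mod_cast h2

/-- `A` Noetherian reduced, `B` of finite type, `Q` a point where `Spec B → Spec A` is universally
open, at which the fibre's local ring is a geometrically reduced field extension: then `B_Q` is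
flat. -/
theorem flat_of_geomReduced [IsNoetherianRing A] [IsReduced A] (Q : PrimeSpectrum B)
    (hu : EGA43.IsUnivOpenAt (sm A B) Q)
    [Algebra.IsGeometricallyReduced (Q.asIdeal.under A).ResidueField Q.asIdeal.ResidueField]
    (hpm : (Q.asIdeal.under A).map (algebraMap A (Localization.AtPrime Q.asIdeal)) =
      IsLocalRing.maximalIdeal _) :
    Module.Flat A (Localization.AtPrime Q.asIdeal) ∧
      _root_.IsReduced (Localization.AtPrime Q.asIdeal) ∧
      (∀ ξ : PrimeSpectrum B, ξ.asIdeal ∈ minimalPrimes B → ξ.asIdeal ≤ Q.asIdeal →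
        trd (sm A B) Q ≤ trd (sm A B) ξ) ∧
      (UnibranchLift.GUB A (Q.asIdeal.under A) → IsDomain (Localization.AtPrime Q.asIdeal)) := by
  classical
  obtain ⟨d, b, hd, hspan⟩ := exists_spanning (A := A) Q
  let R := MvPolynomial (Fin d) A
  let φ : R →ₐ[A] B := MvPolynomial.aeval b
  letI : Algebra R B := φ.toRingHom.toAlgebra
  haveI : IsScalarTower A R B := IsScalarTower.of_algebraMap_eq' φ.comp_algebraMap.symm
  haveI : Algebra.FiniteType R B := Algebra.FiniteType.of_restrictScalars_finiteType A R B
  let p := Q.asIdeal.under A
  let P := Q.asIdeal.under R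
  haveI : P.LiesOver p := ⟨by
    show Q.asIdeal.under A = (Q.asIdeal.under R).under A
    rw [Ideal.under_under]⟩
  let k := p.ResidueField
  let F := P.ResidueField
  let L := Q.asIdeal.ResidueField
  haveI : IsScalarTower k F L := inferInstance
  haveI : Algebra.EssFiniteType R L := Algebra.EssFiniteType.comp R B L
  haveI : Algebra.EssFiniteType F L := Algebra.EssFiniteType.of_comp R F L
  have hb : ∀ i, KaehlerDifferential.D F L (algebraMap B L (b i)) = 0 := fun i => by
    rw [show algebraMap B L (b i) = algebraMap F L (algebraMap R F (MvPolynomial.X i)) by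
      rw [← IsScalarTower.algebraMap_apply R F L, IsScalarTower.algebraMap_apply R B L]
      exact congrArg _ (MvPolynomial.aeval_X b i).symm]
    exact Derivation.map_algebraMap _ _
  haveI : Algebra.FormallyUnramified F L := by
    refine ⟨subsingleton_of_forall_eq 0 fun ω => ?_⟩
    have hω : ω ∈ Submodule.span L (Set.range (KaehlerDifferential.D F L)) := by
      rw [KaehlerDifferential.span_range_derivation]; trivial
    induction hω using Submodule.span_induction with
    | mem y hy =>
      obtain ⟨l, rfl⟩ := hy
      rw [show KaehlerDifferential.D F L l = KaehlerDifferential.map k F L L (KaehlerDifferential.D k L l) from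
        (KaehlerDifferential.map_D k F L L l).symm]
      have hl : KaehlerDifferential.D k L l ∈ Submodule.span L (Set.range fun i =>
          KaehlerDifferential.D k L (algebraMap B L (b i))) := by
        rw [hspan]; trivial
      generalize KaehlerDifferential.D k L l = z at hl
      induction hl using Submodule.span_induction with
      | mem y hy =>
        obtain ⟨i, rfl⟩ := hy
        rw [KaehlerDifferential.map_D]
        exact hb i
      | zero => rw [map_zero]
      | add a c _ _ ha hc => rw [map_add, ha, hc, add_zero]
      | smul c a _ ha => rw [map_smul, ha, smul_zero]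
    | zero => rfl
    | add a c _ _ ha hc => rw [ha, hc, add_zero]
    | smul c a _ ha => rw [ha, smul_zero]
  haveI : Algebra.IsUnramifiedAt R Q.asIdeal := by
    refine (Algebra.isUnramifiedAt_iff_map_eq R P Q.asIdeal).2
      ⟨Algebra.FormallyUnramified.isSeparable F L, le_antisymm ?_ ?_⟩
    · refine Ideal.map_le_iff_le_comap.2 fun r hr => ?_
      rw [Ideal.mem_comap, IsScalarTower.algebraMap_apply R B,
        IsLocalization.AtPrime.to_map_mem_maximal_iff _ Q.asIdeal]
      exact hr
    · rw [← hpm]
      refine Ideal.map_le_iff_le_comap.2 fun a ha => ?_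
      rw [Ideal.mem_comap, IsScalarTower.algebraMap_apply A R]
      refine Ideal.mem_map_of_mem _ ?_
      show algebraMap R B (algebraMap A R a) ∈ Q.asIdeal
      rw [← IsScalarTower.algebraMap_apply]
      exact ha
  obtain ⟨h1, h2, h3, h4⟩ := flat_of_isUnramifiedAt Q hu hd
  refine ⟨h1, h3, fun ξ hξ hle => (trd_le_of_spanning Q b hspan).trans ?_, h4⟩
  haveI := h2
  exact le_trd_of_flat Q ξ hξ hle

end Groth.Agent.H46.FlatGeomRed
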