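import Groth.Agent.H46.UnibranchLift
import Groth.Prelude.Def_CAlg2

/-!
# From unibranch local rings to unibranch points
-/

universe u

namespace Groth.Agent.H46.UnibranchLocal

open Groth.Agent.H46.UnibranchCore Groth.Agent.H46.UnibranchLift

variable {R O : Type u} [CommRing R] [CommRing O] [IsLocalRing O] (p : Ideal R) [p.IsPrime]

theorem ub_gub_of_red (f : R →+* CAlg2.red O) (hf : Function.Injective f)
    (hp : ∀ s : R, s ∉ p ↔ IsUnit (f s))
    (hsurj : ∀ z : CAlg2.red O, ∃ r s : R, s ∉ p ∧ f s * z = f r) (hO : CAlg2.IsUnibranch O) :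
    UB R p ∧ (CAlg2.IsGeomUnibranch O → GUB R p) := by
  obtain ⟨hdom, hloc⟩ := hO
  haveI := hdom
  haveI := hloc
  haveI : IsDomain R := hf.isDomain f
  let A := CAlg2.red O
  letI : Algebra R A := f.toAlgebra
  haveI : IsLocalization p.primeCompl A := by
    constructor
    constructor
    · exact fun y => (hp y.1).1 y.2
    · intro z
      obtain ⟨r, s, hs, h⟩ := hsurj z
      exact ⟨(r, ⟨s, hs⟩), by rw [mul_comm]; exact h⟩
    · exact fun {x y} h => ⟨1, by rw [hf h]⟩
  haveI : IsLocalRing A := IsLocalization.AtPrime.isLocalRing A p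
  let K := FractionRing A
  have hjK : ∀ x : R, algebraMap R K x = algebraMap A K (f x) :=
    fun x => IsScalarTower.algebraMap_apply R A K x
  have hKinj : Function.Injective (algebraMap R K) := fun a b h =>
    hf (IsFractionRing.injective A K (by rwa [hjK, hjK] at h))
  haveI : IsFractionRing R K := by
    constructor
    constructor
    · rintro ⟨y, hy⟩
      exact isUnit_iff_ne_zero.2 ((map_ne_zero_iff _ hKinj).2 (nonZeroDivisors.ne_zero hy))
    · intro z
      obtain ⟨a, b, hb, rfl⟩ := IsFractionRing.div_surjective (A := A) z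
      obtain ⟨r, s, hs, hrs⟩ := hsurj a
      obtain ⟨r', s', hs', hrs'⟩ := hsurj b
      have hr' : r' ≠ 0 := by
        rintro rfl
        rw [map_zero] at hrs'
        exact nonZeroDivisors.ne_zero hb (((hp s').1 hs').mul_right_eq_zero.1 hrs')
      have hs0 : s ≠ 0 := fun h => hs (h ▸ p.zero_mem)
      refine ⟨(r * s', ⟨r' * s, mem_nonZeroDivisors_of_ne_zero (mul_ne_zero hr' hs0)⟩), ?_⟩
      have hbK : algebraMap A K b ≠ 0 :=
        (map_ne_zero_iff _ (IsFractionRing.injective A K)).2 (nonZeroDivisors.ne_zero hb)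
      show algebraMap A K a / algebraMap A K b * algebraMap R K (r' * s) = algebraMap R K (r * s')
      rw [hjK, hjK, div_mul_eq_mul_div, div_eq_iff hbK, map_mul f, map_mul f, ← hrs, ← hrs']
      simp only [map_mul]
      ring
    · intro x y h
      exact ⟨1, by simpa using hKinj h⟩
  let R' := integralClosure R K
  let N := CAlg2.normRed O
  haveI : IsIntegrallyClosed R' := integralClosure.isIntegrallyClosedOfFiniteExtension K
  have hinjR' : Function.Injective (algebraMap R R') := fun a b h =>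
    IsFractionRing.injective R K (congrArg Subtype.val h)
  have hint : Algebra.IsIntegral R R' := inferInstance
  have hbir : ∀ x : R', ∃ a b : R, b ≠ 0 ∧ algebraMap R R' b * x = algebraMap R R' a := by
    intro x
    obtain ⟨a, b, hb, hab⟩ := IsFractionRing.div_surjective (A := R) (x : K)
    refine ⟨a, b, nonZeroDivisors.ne_zero hb, Subtype.ext ?_⟩
    show algebraMap R K b * (x : K) = algebraMap R K a
    rw [← hab, mul_div_cancel₀ _ ((map_ne_zero_iff _ (IsFractionRing.injective R K)).2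
      (nonZeroDivisors.ne_zero hb))]
  let j : R' →+* N := (algebraMap R' K).codRestrict (integralClosure A K).toSubring
    fun x => IsIntegral.tower_top (show IsIntegral R (x : K) from x.2)
  have hjR : ∀ r : R, j (algebraMap R R' r) = algebraMap A N (f r) := fun r =>
    Subtype.ext (IsScalarTower.algebraMap_apply R A K r)
  haveI hNint : Algebra.IsIntegral A N := inferInstance
  let mN := IsLocalRing.maximalIdeal N
  have hmN : mN.comap (algebraMap A N) = IsLocalRing.maximalIdeal A :=
    IsLocalRing.eq_maximalIdeal (Ideal.isMaximal_comap_of_isIntegral_of_isMaximal mN)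
  let m : Ideal R' := mN.comap j
  have hm : m.comap (algebraMap R R') = p := by
    rw [← IsLocalization.AtPrime.under_maximalIdeal A p, Ideal.comap_comap,
      Ideal.under_def, ← hmN, Ideal.comap_comap]
    congr 1
  have huniq : ∀ P : Ideal R', P.IsPrime → P.comap (algebraMap R R') = p → P = m := by
    intro P hP hPp
    have hclear : ∀ z : N, ∃ s : R, s ∉ p ∧ ∃ w : R', j w = j (algebraMap R R' s) * z := by
      intro z
      obtain ⟨⟨s, hs⟩, h⟩ := IsIntegral.exists_multiple_integral_of_isLocalization p.primeCompl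
        (z : K) z.2
      refine ⟨s, hs, ⟨_, h⟩, Subtype.ext ?_⟩
      show (⟨s, hs⟩ : p.primeCompl) • (z : K) = algebraMap R K s * (z : K)
      rw [Submonoid.smul_def, Algebra.smul_def]
    have hle : P ≤ m := by
      intro x hx
      by_contra hxm
      obtain ⟨y, hy⟩ := (IsLocalRing.notMem_maximalIdeal.1 hxm).exists_left_inv
      obtain ⟨s, hs, w, hw⟩ := hclear y
      refine hs ?_
      rw [← hPp, Ideal.mem_comap]
      have : algebraMap R R' s = w * x := by
        have h1 : j (algebraMap R R' s) = j (w * x) := by rw [map_mul, hw, mul_assoc, hy, mul_one]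
        exact Subtype.ext (congrArg (fun t : N => (t : K)) h1)
      rw [this]
      exact P.mul_mem_left _ hx
    by_contra hne
    obtain ⟨x, hxm, hxP⟩ := SetLike.exists_of_lt (lt_of_le_of_ne hle hne)
    have := Ideal.comap_lt_comap_of_integral_mem_sdiff (R := R) hle ⟨hxm, hxP⟩
      (Algebra.IsIntegral.isIntegral x)
    rw [hPp, hm] at this
    exact lt_irrefl _ this
  refine ⟨⟨R', inferInstance, inferInstance, inferInstance, hinjR', hint, inferInstance, hbir,
    fun P Q hP hQ h1 h2 => (huniq P hP h1).trans (huniq Q hQ h2).symm⟩, fun hG => ?_⟩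
  let κ : R' ⧸ m →+* N ⧸ mN := Ideal.quotientMap mN j le_rfl
  have hκ : Function.Injective κ := Ideal.quotientMap_injective
  refine ⟨R', inferInstance, inferInstance, inferInstance, hinjR', hint, inferInstance, hbir,
    m, inferInstance, ringExpChar (N ⧸ mN), κ.expChar hκ _, hm, huniq, fun a => ?_⟩
  obtain ⟨n, o, ho⟩ := hG.2 mN (Ideal.Quotient.mk mN (j a))
  obtain ⟨r, s, hs, hrs⟩ := hsurj (Ideal.Quotient.mk (nilradical O) o)
  refine ⟨n, r, s, hs, ?_⟩
  show j _ ∈ mN
  rw [map_sub, map_mul, map_pow, hjR, hjR, ← hrs, map_mul, ← Ideal.Quotient.eq, map_mul, map_mul,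
    map_pow]
  congr 1
  exact ho.symm

/-- Version for a reduced quotient of a ring localised at a prime. -/
theorem ub_gub_of_isLocalization {R₀ : Type u} [CommRing R₀] [Algebra R₀ O] (p₀ : Ideal R₀)
    [p₀.IsPrime] [IsLocalization.AtPrime O p₀] (hO : CAlg2.IsUnibranch O) :
    ∃ 𝔮 : Ideal R₀, 𝔮.IsPrime ∧ 𝔮 ≤ p₀ ∧ (∀ 𝔮' : Ideal R₀, 𝔮'.IsPrime → 𝔮' ≤ p₀ → 𝔮 ≤ 𝔮') ∧
      UB (R₀ ⧸ 𝔮) (p₀.map (Ideal.Quotient.mk 𝔮)) ∧
      (CAlg2.IsGeomUnibranch O → GUB (R₀ ⧸ 𝔮) (p₀.map (Ideal.Quotient.mk 𝔮))) := by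
  haveI := hO.1
  let g : R₀ →+* CAlg2.red O := (Ideal.Quotient.mk (nilradical O)).comp (algebraMap R₀ O)
  have hnilp : nilradical O ≤ IsLocalRing.maximalIdeal O :=
    nilradical_le_prime _
  have hqp : RingHom.ker g ≤ p₀ := by
    intro x hx
    rw [RingHom.mem_ker, RingHom.comp_apply, Ideal.Quotient.eq_zero_iff_mem] at hx
    exact (IsLocalization.AtPrime.to_map_mem_maximal_iff O p₀ x).1 (hnilp hx)
  haveI hq : (RingHom.ker g).IsPrime := RingHom.ker_isPrime g
  have hmin : ∀ 𝔮' : Ideal R₀, 𝔮'.IsPrime → 𝔮' ≤ p₀ → RingHom.ker g ≤ 𝔮' := by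
    intro q' hq' hle x hx
    rw [RingHom.mem_ker, RingHom.comp_apply, Ideal.Quotient.eq_zero_iff_mem, mem_nilradical] at hx
    obtain ⟨k, hk⟩ := hx
    rw [← map_pow, IsLocalization.map_eq_zero_iff p₀.primeCompl] at hk
    obtain ⟨⟨c, hc⟩, hcx⟩ := hk
    exact hq'.mem_of_pow_mem k
      ((hq'.mem_or_mem (by rw [show c * x ^ k = 0 from hcx]; exact q'.zero_mem)).resolve_left
        fun h => hc (hle h))
  have hmap : (p₀.map (Ideal.Quotient.mk (RingHom.ker g))).IsPrime :=
    Ideal.map_isPrime_of_surjective Ideal.Quotient.mk_surjective (by rwa [Ideal.mk_ker])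
  have hcm : ∀ x : R₀, Ideal.Quotient.mk (RingHom.ker g) x ∈
      p₀.map (Ideal.Quotient.mk (RingHom.ker g)) ↔ x ∈ p₀ := fun x => by
    rw [← Ideal.mem_comap, Ideal.comap_map_of_surjective' _ Ideal.Quotient.mk_surjective,
      Ideal.mk_ker, sup_eq_left.2 hqp]
  haveI := hmap
  haveI : IsLocalHom (Ideal.Quotient.mk (nilradical O)) :=
    IsLocalHom.of_surjective _ Ideal.Quotient.mk_surjective
  refine ⟨RingHom.ker g, hq, hqp, hmin, ub_gub_of_red _ (RingHom.kerLift g)
    (RingHom.kerLift_injective g) ?_ ?_ hO⟩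
  · intro s
    obtain ⟨x, rfl⟩ := Ideal.Quotient.mk_surjective s
    rw [RingHom.kerLift_mk, hcm]
    show _ ↔ IsUnit (Ideal.Quotient.mk (nilradical O) (algebraMap R₀ O x))
    rw [isUnit_map_iff]
    exact (IsLocalization.AtPrime.isUnit_to_map_iff O p₀ x).symm
  · intro z
    obtain ⟨o, rfl⟩ := Ideal.Quotient.mk_surjective z
    obtain ⟨⟨r, s⟩, h⟩ := IsLocalization.surj p₀.primeCompl o
    refine ⟨Ideal.Quotient.mk _ r, Ideal.Quotient.mk _ s, fun hs => s.2 ((hcm _).1 hs), ?_⟩
    rw [RingHom.kerLift_mk, RingHom.kerLift_mk]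
    show Ideal.Quotient.mk _ (algebraMap R₀ O s) * _ = Ideal.Quotient.mk _ (algebraMap R₀ O r)
    rw [← map_mul, mul_comm]
    exact congrArg _ h

end Groth.Agent.H46.UnibranchLocal
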