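import Groth.Agent.H46.FlatGeomRed2
import Groth.Agent.H46.FlatFromMin
import Groth.Agent.H46.FiberStalk
import Groth.Agent.H46.QFin
import Groth.Agent.H46.UnivOpen
import Groth.Agent.H46.UnibranchLocal
import Groth.Agent.H52.FBase.GeomPtSch
import Mathlib.CategoryTheory.Limits.Shapes.KernelPair
import Mathlib.RingTheory.Flat.Localization

/-!
# Flatness from universal openness and geometric reducedness of the fibre (EGA IV 15.2.2)
-/

universe u

open CategoryTheory AlgebraicGeometry Limits TensorProduct IsLocalRing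
open Groth.Agent.H46.FibreTrdeg Groth.Agent.H46.UnivOpenFinite
open Groth.Agent.H52.FBase

namespace Groth.Agent.H46.FlatUnivOpen

set_option linter.style.haveILetI false

/-- Geometric reducedness along an isomorphism of base fields and an embedding. -/
theorem isGeometricallyReduced_of_comp {k k' L L' : Type u} [Field k] [Field k'] [Field L]
    [CommRing L'] [Nontrivial L'] [Algebra k L] [Algebra k' L']
    [Algebra.IsGeometricallyReduced k' L'] (e : k →+* k') (he : Function.Surjective e)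
    (ψ : L →+* L') (h : ψ.comp (algebraMap k L) = (algebraMap k' L').comp e) :
    Algebra.IsGeometricallyReduced k L := by
  let ee : k ≃+* k' := RingEquiv.ofBijective e ⟨e.injective, he⟩
  letI : Algebra k k' := e.toAlgebra
  letI : Algebra k L' := ((algebraMap k' L').comp e).toAlgebra
  haveI : IsScalarTower k k' L' := IsScalarTower.of_algebraMap_eq' rfl
  let ψ' : L →ₐ[k] L' := { ψ with commutes' := fun c => RingHom.congr_fun h c }
  haveI : Algebra.IsGeometricallyReduced k L' := by
    rw [Algebra.isGeometricallyReduced_field_iff]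
    let K := AlgebraicClosure k
    letI : Algebra k' K := ((algebraMap k K).comp ee.symm.toRingHom).toAlgebra
    haveI : IsScalarTower k k' K := IsScalarTower.of_algebraMap_eq fun c => by
      show algebraMap k K c = algebraMap k K (ee.symm (ee c))
      rw [RingEquiv.symm_apply_apply]
    haveI : TensorProduct.CompatibleSMul k k' K L' := ⟨fun r m n => by
      obtain ⟨c, rfl⟩ := ee.surjective r
      have h1 : ee c • m = c • m := algebraMap_smul k' c m
      have h2 : ee c • n = c • n := algebraMap_smul k' c n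
      rw [h1, h2, TensorProduct.smul_tmul]⟩
    haveI : TensorProduct.CompatibleSMul k' k K L' := inferInstance
    haveI : _root_.IsReduced (L' ⊗[k'] K) := GeomRed.isReduced_tensor_field K
    haveI : _root_.IsReduced (K ⊗[k'] L') :=
      isReduced_of_injective (Algebra.TensorProduct.comm k' K L') (AlgEquiv.injective _)
    exact isReduced_of_injective (Algebra.TensorProduct.equivOfCompatibleSMul k' k k K L')
      (AlgEquiv.injective _)
  exact Algebra.IsGeometricallyReduced.of_injective ψ' ψ.injective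

/-- The residue extension at `Q` is geometrically reduced if it embeds compatibly into a
geometrically reduced local ring. -/
theorem isGeometricallyReduced_residueField {k : Type u} [Field k] {F : Scheme.{u}}
    (g : F ⟶ Spec (CommRingCat.of k)) (a : F) (hgr : _root_.FBase.IsGeomReducedAt g a)
    {A B : Type u} [CommRing A] [CommRing B] [Algebra A B] (Q : Ideal B) [Q.IsPrime]
    [Algebra (Localization.AtPrime (Q.under A)) (Localization.AtPrime Q)]
    [Localization.AtPrime.IsLiesOverAlgebra (Q.under A) Q]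
    (ψ₀ : B →+* F.presheaf.stalk a) (hψp : Q ≤ RingHom.ker ψ₀)
    (hψu : Q.primeCompl ≤ (IsUnit.submonoid _).comap ψ₀) (e₀ : A →+* k)
    (hep : Q.under A ≤ RingHom.ker e₀)
    (heu : (Q.under A).primeCompl ≤ (IsUnit.submonoid _).comap e₀)
    (hes : ∀ c : k, ∃ n d, d ∉ Q.under A ∧ c * e₀ d = e₀ n)
    (hcomm : ψ₀.comp (algebraMap A B) = (StalkBC.φ g a).comp e₀) :
    Algebra.IsGeometricallyReduced (Q.under A).ResidueField Q.ResidueField := by
  haveI := GeomPt.isGeometricallyReduced_of_isGeomReducedAt (f := g) hgr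
  let ψ : Q.ResidueField →+* StalkBC.Ox g a := Ideal.ResidueField.lift Q ψ₀ hψp hψu
  let e : (Q.under A).ResidueField →+* k := Ideal.ResidueField.lift (Q.under A) e₀ hep heu
  refine isGeometricallyReduced_of_comp e (fun c => ?_) ψ (Ideal.ResidueField.ringHom_ext
    (RingHom.ext fun x => ?_))
  · obtain ⟨n, d, hd, h⟩ := hes c
    refine ⟨algebraMap A _ n / algebraMap A _ d, ?_⟩
    rw [map_div₀, Ideal.ResidueField.lift_algebraMap, Ideal.ResidueField.lift_algebraMap, div_eq_iff]
    · exact h.symm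
    · exact (heu hd).ne_zero
  · show ψ (algebraMap (Q.under A).ResidueField Q.ResidueField (algebraMap A _ x)) =
      StalkBC.φ g a (e (algebraMap A _ x))
    rw [← IsScalarTower.algebraMap_apply, IsScalarTower.algebraMap_apply A B,
      Ideal.ResidueField.lift_algebraMap]
    show ψ₀ (algebraMap A B x) = StalkBC.φ g a (Ideal.ResidueField.lift (Q.under A) e₀ hep heu
      (algebraMap A _ x))
    rw [Ideal.ResidueField.lift_algebraMap]
    exact RingHom.congr_fun hcomm x

variable {X Y : Scheme.{u}} (f : X ⟶ Y)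

theorem isUnivOpenAt_openImmersion {U : Scheme.{u}} (j : U ⟶ X) [IsOpenImmersion j] (x : U) :
    EGA43.IsUnivOpenAt j x := UnivOpen.isUnivOpenAt_of_universallyOpen j x

theorem isReduced_stalk_of_geomRed {k : Type u} [Field k] {F : Scheme.{u}}
    (g : F ⟶ Spec (CommRingCat.of k)) (a : F) (h : _root_.FBase.IsGeomReducedAt g a) :
    _root_.IsReduced (F.presheaf.stalk a) := by
  haveI := GeomPt.isGeometricallyReduced_of_isGeomReducedAt (f := g) h
  haveI : _root_.IsReduced (StalkBC.Ox g a ⊗[k] k) := GeomRed.isReduced_tensor_field k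
  show _root_.IsReduced (StalkBC.Ox g a)
  exact isReduced_of_injective (Algebra.TensorProduct.rid k k (StalkBC.Ox g a)).symm
    (AlgEquiv.injective _)

/-- At a maximal point of a fibre. -/
theorem flat_stalkMap_of_isMaxFib [IsLocallyNoetherian Y] [LocallyOfFiniteType f] (z : X) (y : Y)
    (hzy : f z = y) (hmax : IsMaxFib f z) (hu : EGA43.IsUnivOpenAt f z)
    (hred : _root_.IsReduced (Y.presheaf.stalk y)) (a : f.fiber y) (ha : f.fiberι y a = z)
    (hgr : _root_.FBase.IsGeomReducedAt (f.fiberToSpecResidueField y) a) :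
    (f.stalkMap z).hom.Flat ∧ _root_.IsReduced (X.presheaf.stalk z) ∧
      (∀ ξ : X, Groth.Agent.Lib.Cyc.DimFun.IsMaxPt ξ → ξ ⤳ z → trd f z ≤ trd f ξ) ∧
      ∀ (O : Type u) [CommRing O] [IsLocalRing O], CAlg2.IsGeomUnibranch O →
        Nonempty (Y.presheaf.stalk y ≃+* CAlg2.red O) → IsDomain (X.presheaf.stalk z) := by
  subst ha
  have hy0 : y = f (f.fiberι y a) := hzy.symm
  replace hred : _root_.IsReduced (Y.presheaf.stalk (f (f.fiberι y a))) := by rw [hzy]; exact hred
  set z := f.fiberι y a with hzdef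
  haveI : IsLocallyNoetherian X := LocallyOfFiniteType.isLocallyNoetherian f
  obtain ⟨V, hV, hyV, hinj⟩ := GeomPtSch.exists_injective_germ (f z)
  haveI : IsNoetherianRing Γ(Y, V) := IsLocallyNoetherian.component_noetherian ⟨V, hV⟩
  haveI : _root_.IsReduced Γ(Y, V) :=
    haveI := hred
    isReduced_of_injective (Y.presheaf.germ V (f z) hyV).hom hinj
  obtain ⟨U, hU, hzU, hUV⟩ := exists_isAffineOpen_mem_and_subset (X := X) (x := z)
    (U := f ⁻¹ᵁ V) hyV
  let φ := f.appLE V U hUV
  letI : Algebra Γ(Y, V) Γ(X, U) := φ.hom.toAlgebra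
  haveI : Algebra.FiniteType Γ(Y, V) Γ(X, U) :=
    RingHom.finiteType_algebraMap.1 (LocallyOfFiniteType.finiteType_appLE f hV hU hUV)
  have hfac : sm Γ(Y, V) Γ(X, U) ≫ hV.fromSpec = hU.fromSpec ≫ f :=
    hV.SpecMap_appLE_fromSpec f hU hUV
  haveI := hU.isOpenImmersion_fromSpec
  haveI := hV.isOpenImmersion_fromSpec
  let Q : PrimeSpectrum Γ(X, U) := hU.primeIdealOf ⟨z, hzU⟩
  have hQz : hU.fromSpec Q = z := hU.fromSpec_primeIdealOf ⟨z, hzU⟩
  have huQ : EGA43.IsUnivOpenAt (sm Γ(Y, V) Γ(X, U)) Q := by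
    have h1 : EGA43.IsUnivOpenAt (sm Γ(Y, V) Γ(X, U) ≫ hV.fromSpec) Q := by
      rw [hfac]
      refine OpenAt.isUnivOpenAt_comp hU.fromSpec f Q (isUnivOpenAt_openImmersion _ _) ?_
      show EGA43.IsUnivOpenAt f (hU.fromSpec Q)
      rw [hQz]; exact hu
    exact OpenAt.isUnivOpenAt_baseChange h1
      (((IsPullback.id_horiz (sm Γ(Y, V) Γ(X, U))).paste_vert
        (IsKernelPair.id_of_mono hV.fromSpec))) Q rfl
  letI : Algebra Γ(X, U) (X.presheaf.stalk z) := (X.presheaf.germ U z hzU).hom.toAlgebra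
  haveI : IsLocalization.AtPrime (X.presheaf.stalk z) Q.asIdeal := hU.isLocalization_stalk ⟨z, hzU⟩
  let R := Y.presheaf.stalk (f z)
  letI : Algebra Γ(Y, V) R := Y.presheaf.algebra_section_stalk ⟨f z, hyV⟩
  let p := Q.asIdeal.under Γ(Y, V)
  have hp : p = (hV.primeIdealOf ⟨f z, hyV⟩).asIdeal := by
    have h1 : hV.fromSpec (PrimeSpectrum.comap φ.hom Q) = f z :=
      (congrArg (fun m : Spec Γ(X, U) ⟶ Y => m Q) hfac).trans (congrArg f hQz)
    exact congrArg PrimeSpectrum.asIdeal
      (hV.fromSpec.isEmbedding.injective (h1.trans (hV.fromSpec_primeIdealOf ⟨f z, hyV⟩).symm))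
  haveI hlocR : IsLocalization.AtPrime R p := by
    show IsLocalization p.primeCompl R
    rw [show p.primeCompl = (hV.primeIdealOf ⟨f z, hyV⟩).asIdeal.primeCompl from
      Submonoid.ext fun x => by simp [Ideal.primeCompl, hp]]
    exact hV.isLocalization_stalk ⟨f z, hyV⟩
  letI : Algebra R (X.presheaf.stalk z) := (f.stalkMap z).hom.toAlgebra
  letI : Algebra Γ(Y, V) (X.presheaf.stalk z) :=
    ((algebraMap Γ(X, U) (X.presheaf.stalk z)).comp φ.hom).toAlgebra
  haveI : IsScalarTower Γ(Y, V) Γ(X, U) (X.presheaf.stalk z) :=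
    IsScalarTower.of_algebraMap_eq' rfl
  have hgerm : (Y.presheaf.germ V (f z) hyV) ≫ f.stalkMap z = φ ≫ X.presheaf.germ U z hzU :=
    (Scheme.Hom.germ_stalkMap f V z hyV).trans
      ((congrArg (f.app V ≫ ·) (X.presheaf.germ_res (homOfLE hUV) z hzU).symm).trans
        (Category.assoc _ _ _).symm)
  haveI : IsScalarTower Γ(Y, V) R (X.presheaf.stalk z) :=
    IsScalarTower.of_algebraMap_eq' (congrArg CommRingCat.Hom.hom hgerm).symm
  -- the fibre at `z`
  let tok := f.fiberToSpecResidueField y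
  have hπk := FiberStalk.ker_stalkMap_fiberι f y a
  let π := ((f.fiberι y).stalkMap a).hom
  have hm : (maximalIdeal R).map (f.stalkMap z).hom = maximalIdeal (X.presheaf.stalk z) := by
    refine le_antisymm (map_maximalIdeal_le (f.stalkMap z).hom) ?_
    have hrad : ((maximalIdeal R).map (f.stalkMap z).hom).IsRadical := by
      haveI := isReduced_stalk_of_geomRed (k := Y.residueField y) tok a hgr
      rw [← hπk]
      intro x ⟨n, hn⟩
      have : π x ^ n = 0 := by rw [← map_pow]; exact hn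
      exact IsReduced.eq_zero _ ⟨n, this⟩
    rw [← hrad.radical, ← Ideal.sInf_minimalPrimes]
    refine le_sInf fun q hq => ?_
    haveI := hq.1.1
    let qq : PrimeSpectrum (X.presheaf.stalk z) := ⟨q, hq.1.1⟩
    have hw : X.fromSpecStalk z qq ⤳ z := by
      have : X.fromSpecStalk z qq ∈ Set.range (X.fromSpecStalk z) := ⟨qq, rfl⟩
      rwa [Scheme.range_fromSpecStalk] at this
    have hcp : Spec.map (f.stalkMap z) qq = closedPoint R :=
      PrimeSpectrum.ext ((maximalIdeal.isMaximal R).eq_of_le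
        (Ideal.comap_ne_top _ hq.1.1.ne_top) (Ideal.map_le_iff_le_comap.1 hq.1.2)).symm
    have hfw : f (X.fromSpecStalk z qq) = f z :=
      ((congrArg (fun m : Spec (X.presheaf.stalk z) ⟶ Y => m qq)
          (Scheme.SpecMap_stalkMap_fromSpecStalk f (x := z))).symm.trans
        (congrArg (Y.fromSpecStalk (f z)) hcp)).trans Scheme.fromSpecStalk_closedPoint
    have : qq = closedPoint (X.presheaf.stalk z) :=
      (X.fromSpecStalk z).isEmbedding.injective
        ((hmax _ hfw hw).trans Scheme.fromSpecStalk_closedPoint.symm)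
    exact (congrArg PrimeSpectrum.asIdeal this).ge
  let ψ₀ : Γ(X, U) →+* (f.fiber y).presheaf.stalk a :=
    π.comp (algebraMap Γ(X, U) (X.presheaf.stalk z))
  let toκc : R ⟶ Y.residueField y :=
    Y.presheaf.stalkSpecializes (specializes_of_eq hzy.symm) ≫ Y.residue y
  let e₀ : Γ(Y, V) →+* Y.residueField y := toκc.hom.comp (algebraMap Γ(Y, V) R)
  haveI : IsLocalHom (Y.presheaf.stalkSpecializes (specializes_of_eq hzy.symm)).hom := by
    haveI : IsIso (Y.presheaf.stalkSpecializes (specializes_of_eq hzy.symm)) :=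
      ⟨Y.presheaf.stalkSpecializes (specializes_of_eq hzy), by simp, by simp⟩
    infer_instance
  have hcomm : f.stalkMap z ≫ (f.fiberι y).stalkMap a =
      toκc ≫ CommRingCat.ofHom (StalkBC.φ (k := Y.residueField y) tok a) := by
    apply Spec.map_injective
    rw [← cancel_mono (Y.fromSpecStalk (f z))]
    have e1 : Spec.map toκc ≫ Y.fromSpecStalk (f z) = Y.fromSpecResidueField y := by
      rw [Spec.map_comp, Category.assoc, Scheme.SpecMap_stalkSpecializes_fromSpecStalk]
      rfl
    have e2 := StalkBC.specMap_φ (k := Y.residueField y) tok a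
    rw [Spec.map_comp, Category.assoc, Scheme.SpecMap_stalkMap_fromSpecStalk f]
    refine Eq.trans ?_ (((congrArg (· ≫ Y.fromSpecStalk (f z)) (Spec.map_comp toκc
      (CommRingCat.ofHom (StalkBC.φ (k := Y.residueField y) tok a)))).trans
      (Category.assoc _ _ _)).trans (congrArg (Spec.map (CommRingCat.ofHom
        (StalkBC.φ (k := Y.residueField y) tok a)) ≫ ·) e1)).symm
    refine (Scheme.SpecMap_stalkMap_fromSpecStalk_assoc (f.fiberι y) (x := a) f).trans ?_
    rw [Scheme.Hom.fiber_fac, ← Category.assoc]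
    exact congrArg (· ≫ Y.fromSpecResidueField y) e2.symm
  letI : Algebra (Localization.AtPrime p) (Localization.AtPrime Q.asIdeal) :=
    Localization.AtPrime.algebraOfLiesOver p Q.asIdeal
  haveI : Localization.AtPrime.IsLiesOverAlgebra p Q.asIdeal := ⟨rfl⟩
  haveI : IsNoetherianRing Γ(Y, V) := IsLocallyNoetherian.component_noetherian ⟨V, hV⟩
  haveI : Algebra.IsGeometricallyReduced p.ResidueField Q.asIdeal.ResidueField := by
    refine isGeometricallyReduced_residueField (k := Y.residueField y) tok a hgr Q.asIdeal ψ₀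
      (fun x hx => ?_) (fun x hx => ?_) e₀ (fun x hx => ?_) (fun x hx => ?_) (fun c => ?_) ?_
    · show algebraMap Γ(X, U) (X.presheaf.stalk z) x ∈ RingHom.ker π
      rw [hπk]
      show _ ∈ (maximalIdeal R).map (f.stalkMap z).hom
      rw [hm]
      exact (IsLocalization.AtPrime.to_map_mem_maximal_iff _ Q.asIdeal x).2 hx
    · exact (IsLocalization.map_units (X.presheaf.stalk z) (⟨x, hx⟩ : Q.asIdeal.primeCompl)).map π
    · show (Y.residue y).hom ((Y.presheaf.stalkSpecializes (specializes_of_eq hzy.symm)).hom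
        (algebraMap Γ(Y, V) R x)) = 0
      exact Ideal.Quotient.eq_zero_iff_mem.2 (map_nonunit _ _
        ((IsLocalization.AtPrime.to_map_mem_maximal_iff R p x).2 hx))
    · exact (IsLocalization.map_units R (⟨x, hx⟩ : p.primeCompl)).map toκc.hom
    · haveI : IsIso (Y.presheaf.stalkSpecializes (specializes_of_eq hzy.symm)) :=
        ⟨Y.presheaf.stalkSpecializes (specializes_of_eq hzy), by simp, by simp⟩
      obtain ⟨r', rfl⟩ := Y.residue_surjective y c
      obtain ⟨r, rfl⟩ := (ConcreteCategory.bijective_of_isIso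
        (Y.presheaf.stalkSpecializes (specializes_of_eq hzy.symm))).2 r'
      obtain ⟨⟨n, d⟩, hnd⟩ := IsLocalization.surj p.primeCompl r
      refine ⟨n, d.1, d.2, ?_⟩
      show toκc.hom r * toκc.hom _ = toκc.hom _
      rw [← map_mul, hnd]
    · refine RingHom.ext fun x => ?_
      show π (algebraMap Γ(X, U) (X.presheaf.stalk z) (algebraMap Γ(Y, V) Γ(X, U) x)) = _
      rw [← IsScalarTower.algebraMap_apply, IsScalarTower.algebraMap_apply Γ(Y, V) R]
      exact RingHom.congr_fun (congrArg CommRingCat.Hom.hom hcomm) (algebraMap Γ(Y, V) R x)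
  let eL := IsLocalization.algEquiv Q.asIdeal.primeCompl (Localization.AtPrime Q.asIdeal)
    (X.presheaf.stalk z)
  have hpm : p.map (algebraMap Γ(Y, V) (Localization.AtPrime Q.asIdeal)) = maximalIdeal _ := by
    have h1 : (p.map (algebraMap Γ(Y, V) (Localization.AtPrime Q.asIdeal))).map
        eL.toRingEquiv.toRingHom = maximalIdeal (X.presheaf.stalk z) := by
      rw [Ideal.map_map,
        show eL.toRingEquiv.toRingHom.comp (algebraMap Γ(Y, V) (Localization.AtPrime Q.asIdeal)) =
          algebraMap Γ(Y, V) (X.presheaf.stalk z) from (eL.restrictScalars Γ(Y, V)).toAlgHom.comp_algebraMap,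
        IsScalarTower.algebraMap_eq Γ(Y, V) R, ← Ideal.map_map,
        IsLocalization.AtPrime.map_eq_maximalIdeal p R]
      exact hm
    rw [← Ideal.comap_map_of_bijective eL.toRingEquiv.toRingHom eL.bijective
      (I := p.map (algebraMap Γ(Y, V) (Localization.AtPrime Q.asIdeal))), h1]
    haveI : IsLocalHom eL.toRingEquiv.toRingHom :=
      ⟨fun x hx => (isUnit_map_iff eL x).1 hx⟩
    exact ((local_hom_TFAE eL.toRingEquiv.toRingHom).out 0 4).1 ‹IsLocalHom eL.toRingEquiv.toRingHom›
  obtain ⟨hflQ, hredQ, htrdQ, hdomQ⟩ := FlatGeomRed.flat_of_geomReduced Q huQ hpm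
  haveI : Module.Flat Γ(Y, V) (Localization.AtPrime Q.asIdeal) := hflQ
  haveI : Module.Flat Γ(Y, V) (X.presheaf.stalk z) :=
    .of_linearEquiv (eL.restrictScalars Γ(Y, V)).symm.toLinearEquiv
  haveI := hredQ
  refine ⟨(Module.flat_iff_of_isLocalization R p.primeCompl (X.presheaf.stalk z)).2 inferInstance,
    isReduced_of_injective eL.symm eL.symm.injective, fun ξ hξ hξz => ?_, fun O _ _ hO hne => ?_⟩
  swap
  · obtain ⟨e⟩ : Nonempty (R ≃+* CAlg2.red O) := by
      have key : ∀ y', y' = y → Nonempty (Y.presheaf.stalk y' ≃+* CAlg2.red O) := by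
        rintro _ rfl; exact hne
      exact key _ hy0.symm
    haveI := hdomQ (((UnibranchLocal.ub_gub_of_red p (e.toRingHom.comp (algebraMap Γ(Y, V) R))
      (e.injective.comp hinj)
      (fun s => by
        show s ∈ p.primeCompl ↔ IsUnit (e (algebraMap Γ(Y, V) R s))
        rw [isUnit_map_iff]
        exact (IsLocalization.AtPrime.isUnit_to_map_iff R p s).symm)
      (fun w => by
        obtain ⟨w, rfl⟩ := e.surjective w
        obtain ⟨⟨r, s⟩, h⟩ := IsLocalization.surj p.primeCompl w
        refine ⟨r, s.1, s.2, ?_⟩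
        show e (algebraMap Γ(Y, V) R s.1) * e w = e (algebraMap Γ(Y, V) R r)
        rw [← map_mul, mul_comm, h])) hO.1).2 hO)
    exact eL.toRingEquiv.symm.toMulEquiv.isDomain
  obtain ⟨ξ₀, hξ₀⟩ : ξ ∈ Set.range hU.fromSpec := by
    rw [hU.range_fromSpec]; exact hξz.mem_open U.2 hzU
  haveI := lft_sm Γ(Y, V) Γ(X, U)
  have htrd : ∀ w, trd (sm Γ(Y, V) Γ(X, U)) w = trd f (hU.fromSpec w) := fun w => by
    rw [← trd_comp f hU.fromSpec w, trd, trd,
      Lib.Cyc.FieldDim.trdegAt_congr hfac.symm w, Lib.Cyc.Residue.trdegAt_comp,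
      Lib.Cyc.FieldDim.trdegAt_eq_zero_of_surjective (f := hV.fromSpec) _
        (Lib.Cyc.FieldDim.residueFieldMap_surjective (f := hV.fromSpec) _), zero_add]
  have hle : ξ₀ ⤳ Q := hU.fromSpec.isEmbedding.isInducing.specializes_iff.1 (by
    rw [hξ₀, hQz]; exact hξz)
  have h := htrdQ (ξ₀ : PrimeSpectrum Γ(X, U)) ?_ ((PrimeSpectrum.le_iff_specializes _ _).2 hle)
  · rw [htrd, htrd, hQz, hξ₀] at h
    exact h
  · refine ⟨⟨(ξ₀ : PrimeSpectrum Γ(X, U)).isPrime, bot_le⟩, fun P hP hle' => ?_⟩
    let P' : ↥(Spec Γ(X, U)) := (⟨P, hP.1⟩ : PrimeSpectrum Γ(X, U))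
    have h1 := hξ (hU.fromSpec P')
      (hξ₀ ▸ ((PrimeSpectrum.le_iff_specializes (⟨P, hP.1⟩ : PrimeSpectrum Γ(X, U)) _).1 hle').map
        hU.fromSpec.continuous)
    have h2 : P' = ξ₀ := hU.fromSpec.isEmbedding.injective (h1.trans hξ₀.symm)
    exact (congrArg PrimeSpectrum.asIdeal h2).ge

/-- The minimal primes of `mO_x` give maximal points of the fibre. -/
theorem maxFib_of_minimalPrimes (x : X) (z : Ideal (X.presheaf.stalk x))
    (hz : z ∈ ((maximalIdeal (Y.presheaf.stalk (f x))).map (f.stalkMap x).hom).minimalPrimes) :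
    f (X.fromSpecStalk x ⟨z, hz.1.1⟩) = f x ∧ X.fromSpecStalk x ⟨z, hz.1.1⟩ ⤳ x ∧
      IsMaxFib f (X.fromSpecStalk x ⟨z, hz.1.1⟩) := by
  let R := Y.presheaf.stalk (f x)
  let B := X.presheaf.stalk x
  letI : Algebra R B := (f.stalkMap x).hom.toAlgebra
  let zz : PrimeSpectrum B := ⟨z, hz.1.1⟩
  let w := X.fromSpecStalk x zz
  have hws : w ⤳ x := by
    have : w ∈ Set.range (X.fromSpecStalk x) := ⟨zz, rfl⟩
    rwa [Scheme.range_fromSpecStalk] at this
  have hfib : ∀ q : PrimeSpectrum B,
      f (X.fromSpecStalk x q) = f x ↔ (maximalIdeal R).map (algebraMap R B) ≤ q.asIdeal := by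
    intro q
    rw [show f (X.fromSpecStalk x q) = Y.fromSpecStalk (f x) (Spec.map (f.stalkMap x) q) from
        (congrArg (fun m : Spec (X.presheaf.stalk x) ⟶ Y => m q)
          (Scheme.SpecMap_stalkMap_fromSpecStalk f (x := x))).symm,
      Ideal.map_le_iff_le_comap]
    constructor
    · intro h
      exact (congrArg PrimeSpectrum.asIdeal ((Y.fromSpecStalk (f x)).isEmbedding.injective
        (h.trans Scheme.fromSpecStalk_closedPoint.symm))).ge
    · intro h
      refine (congrArg _ (show Spec.map (f.stalkMap x) q = closedPoint R from ?_)).trans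
        Scheme.fromSpecStalk_closedPoint
      exact PrimeSpectrum.ext ((maximalIdeal.isMaximal R).eq_of_le
        (Ideal.comap_ne_top _ q.isPrime.ne_top) h).symm
  have hfw : f w = f x := (hfib zz).2 hz.1.2
  have hmax : IsMaxFib f w := by
    intro v hv hvw
    obtain ⟨q, rfl⟩ : v ∈ Set.range (X.fromSpecStalk x) := by
      rw [Scheme.range_fromSpecStalk]; exact hvw.trans hws
    have hqz : q.asIdeal ≤ z := (PrimeSpectrum.le_iff_specializes q zz).2
      ((X.fromSpecStalk x).isEmbedding.isInducing.specializes_iff.1 hvw)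
    have hq : (maximalIdeal R).map (algebraMap R B) ≤ q.asIdeal := (hfib q).1 (hv.trans hfw)
    exact congrArg _ (PrimeSpectrum.ext (le_antisymm hqz (hz.2 ⟨q.isPrime, hq⟩ hqz)))
  exact ⟨hfw, hws, hmax⟩

/-- Flatness and reducedness at the minimal primes of `mO_x`. -/
theorem minimalPrimes_data [IsLocallyNoetherian Y] [LocallyOfFiniteType f] (x : X)
    (hopen : ∀ ζ : X, f ζ = f x → ζ ⤳ x → IsMaxFib f ζ → EGA43.IsUnivOpenAt f ζ)
    (hgr : _root_.FBase.IsGeomReducedAt (f.fiberToSpecResidueField (f x)) (f.asFiber x))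
    (hred : _root_.IsReduced (Y.presheaf.stalk (f x))) :
    ((maximalIdeal (Y.presheaf.stalk (f x))).map (f.stalkMap x).hom).IsRadical ∧
    ∀ z ∈ ((maximalIdeal (Y.presheaf.stalk (f x))).map (f.stalkMap x).hom).minimalPrimes,
      ∃ (L : Type u) (_ : CommRing L) (_ : IsLocalRing L) (ψ : X.presheaf.stalk x →+* L),
        (maximalIdeal L).comap ψ = z ∧ (ψ.comp (f.stalkMap x).hom).Flat ∧
          _root_.IsReduced L := by
  haveI : IsLocallyNoetherian X := LocallyOfFiniteType.isLocallyNoetherian f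
  let R := Y.presheaf.stalk (f x)
  let B := X.presheaf.stalk x
  letI : Algebra R B := (f.stalkMap x).hom.toAlgebra
  haveI : IsLocalHom (algebraMap R B) := inferInstanceAs (IsLocalHom (f.stalkMap x).hom)
  have hrad : ((maximalIdeal R).map (algebraMap R B)).IsRadical := by
    haveI := isReduced_stalk_of_geomRed _ _ hgr
    exact (Ideal.isRadical_iff_quotient_reduced _).2
      (isReduced_of_injective (FiberStalk.quotientEquiv f x) (RingEquiv.injective _))
  refine ⟨hrad, fun z hz => ?_⟩
  let zz : PrimeSpectrum B := ⟨z, hz.1.1⟩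
  let w := X.fromSpecStalk x zz
  obtain ⟨hfw, hws, hmax⟩ : f w = f x ∧ w ⤳ x ∧ IsMaxFib f w :=
    maxFib_of_minimalPrimes f x z hz
  obtain ⟨a, ha⟩ : w ∈ Set.range (f.fiberι (f x)) := by
    rw [Scheme.Hom.range_fiberι]; exact hfw
  haveI := QFin.isLocallyNoetherian_fiber f (f x)
  have hga : _root_.FBase.IsGeomReducedAt (f.fiberToSpecResidueField (f x)) a := by
    have hs : a ⤳ f.asFiber x := (f.fiberι (f x)).isEmbedding.isInducing.specializes_iff.1 (by
      rw [ha, Scheme.Hom.fiberι_asFiber]; exact hws)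
    exact hs.mem_open (GeomPtSch.isOpen_geomReduced _) hgr
  obtain ⟨hfl, hredw, -, -⟩ := flat_stalkMap_of_isMaxFib f w (f x) hfw hmax (hopen w hfw hws hmax) hred a ha hga
  refine ⟨X.presheaf.stalk w, inferInstance, inferInstance,
    (X.presheaf.stalkSpecializes hws).hom, ?_, ?_, hredw⟩
  · have h1 : Spec.map (X.presheaf.stalkSpecializes hws) (closedPoint (X.presheaf.stalk w)) = zz := by
      apply (X.fromSpecStalk x).isEmbedding.injective
      exact (congrArg (fun m : Spec (X.presheaf.stalk w) ⟶ X => m (closedPoint (X.presheaf.stalk w)))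
        (Scheme.SpecMap_stalkSpecializes_fromSpecStalk hws)).trans Scheme.fromSpecStalk_closedPoint
    exact congrArg PrimeSpectrum.asIdeal h1
  · show ((f.stalkMap x ≫ X.presheaf.stalkSpecializes hws).hom).Flat
    rw [← Scheme.Hom.stalkSpecializes_stalkMap f w x hws]
    haveI : IsIso (Y.presheaf.stalkSpecializes (hws.map f.continuous)) :=
      ⟨Y.presheaf.stalkSpecializes (specializes_of_eq hfw.symm),
        by simp, by simp⟩
    exact RingHom.Flat.comp
      (RingHom.Flat.of_bijective (ConcreteCategory.bijective_of_isIso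
        (Y.presheaf.stalkSpecializes (hws.map f.continuous)))) hfl

/-- EGA IV 15.2.2. -/
theorem flat_stalkMap [IsLocallyNoetherian Y] [LocallyOfFiniteType f] (x : X)
    (hopen : ∀ ζ : X, f ζ = f x → ζ ⤳ x → IsMaxFib f ζ → EGA43.IsUnivOpenAt f ζ)
    (hgr : _root_.FBase.IsGeomReducedAt (f.fiberToSpecResidueField (f x)) (f.asFiber x))
    (hred : _root_.IsReduced (Y.presheaf.stalk (f x))) :
    (f.stalkMap x).hom.Flat ∧ _root_.IsReduced (X.presheaf.stalk x) := by
  haveI : IsLocallyNoetherian X := LocallyOfFiniteType.isLocallyNoetherian f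
  letI : Algebra (Y.presheaf.stalk (f x)) (X.presheaf.stalk x) := (f.stalkMap x).hom.toAlgebra
  haveI : IsLocalHom (algebraMap (Y.presheaf.stalk (f x)) (X.presheaf.stalk x)) :=
    inferInstanceAs (IsLocalHom (f.stalkMap x).hom)
  obtain ⟨hrad, hmin⟩ := minimalPrimes_data f x hopen hgr hred
  refine ⟨FlatFromMin.flat hrad fun z hz => ?_, FlatFromMin.isReduced hrad hmin⟩
  obtain ⟨L, i1, i2, ψ, h1, h2, -⟩ := hmin z hz
  exact ⟨L, i1, i2, ψ, h1, h2⟩

/-- Every component through `x` meets the fibre in a component of at most its dimension. -/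
theorem exists_maxFib_between [IsLocallyNoetherian Y] [LocallyOfFiniteType f] (x : X)
    (hopen : ∀ ζ : X, f ζ = f x → ζ ⤳ x → IsMaxFib f ζ → EGA43.IsUnivOpenAt f ζ)
    (hgr : _root_.FBase.IsGeomReducedAt (f.fiberToSpecResidueField (f x)) (f.asFiber x))
    (hred : _root_.IsReduced (Y.presheaf.stalk (f x)))
    (ξ : X) (hξ : Groth.Agent.Lib.Cyc.DimFun.IsMaxPt ξ) (hξx : ξ ⤳ x) :
    ∃ ζ, f ζ = f x ∧ ζ ⤳ x ∧ IsMaxFib f ζ ∧ ξ ⤳ ζ ∧ trd f ζ ≤ trd f ξ := by
  haveI : IsLocallyNoetherian X := LocallyOfFiniteType.isLocallyNoetherian f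
  letI : Algebra (Y.presheaf.stalk (f x)) (X.presheaf.stalk x) := (f.stalkMap x).hom.toAlgebra
  haveI : IsLocalHom (algebraMap (Y.presheaf.stalk (f x)) (X.presheaf.stalk x)) :=
    inferInstanceAs (IsLocalHom (f.stalkMap x).hom)
  obtain ⟨hrad, hmin⟩ := minimalPrimes_data f x hopen hgr hred
  obtain ⟨P, hPξ⟩ : ξ ∈ Set.range (X.fromSpecStalk x) := by
    rw [Scheme.range_fromSpecStalk]; exact hξx
  let P₀ : PrimeSpectrum (X.presheaf.stalk x) := P
  have hP : P₀.asIdeal ∈ minimalPrimes (X.presheaf.stalk x) := by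
    refine ⟨⟨P₀.isPrime, bot_le⟩, fun q hq hle => ?_⟩
    let qq : ↥(Spec (X.presheaf.stalk x)) := (⟨q, hq.1⟩ : PrimeSpectrum (X.presheaf.stalk x))
    have h1 := ((PrimeSpectrum.le_iff_specializes (⟨q, hq.1⟩ : PrimeSpectrum (X.presheaf.stalk x)) P₀).1
      hle).map (X.fromSpecStalk x).continuous
    have h2 : qq = P := (X.fromSpecStalk x).isEmbedding.injective
      ((hξ (X.fromSpecStalk x qq) (hPξ ▸ h1)).trans hPξ.symm)
    exact (congrArg PrimeSpectrum.asIdeal h2).ge
  obtain ⟨z, hz, hPz⟩ := FlatFromMin.minimalPrimes_le hrad hmin hP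
  obtain ⟨hfw, hws, hmax⟩ := maxFib_of_minimalPrimes f x z hz
  let zz : ↥(Spec (X.presheaf.stalk x)) := (⟨z, hz.1.1⟩ : PrimeSpectrum (X.presheaf.stalk x))
  have hξw : ξ ⤳ X.fromSpecStalk x zz :=
    hPξ ▸ ((PrimeSpectrum.le_iff_specializes P₀ (⟨z, hz.1.1⟩ : PrimeSpectrum (X.presheaf.stalk x))).1
      hPz).map (X.fromSpecStalk x).continuous
  obtain ⟨a, ha⟩ : X.fromSpecStalk x zz ∈ Set.range (f.fiberι (f x)) := by
    rw [Scheme.Hom.range_fiberι]; exact hfw
  haveI := QFin.isLocallyNoetherian_fiber f (f x)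
  have hga : _root_.FBase.IsGeomReducedAt (f.fiberToSpecResidueField (f x)) a := by
    have hs : a ⤳ f.asFiber x := (f.fiberι (f x)).isEmbedding.isInducing.specializes_iff.1 (by
      rw [ha, Scheme.Hom.fiberι_asFiber]; exact hws)
    exact hs.mem_open (GeomPtSch.isOpen_geomReduced _) hgr
  obtain ⟨-, -, htrd, -⟩ := flat_stalkMap_of_isMaxFib f _ (f x) hfw hmax (hopen _ hfw hws hmax) hred
    a ha hga
  exact ⟨_, hfw, hws, hmax, hξw, htrd ξ hξ hξw⟩

end Groth.Agent.H46.FlatUnivOpen
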