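import Groth.Agent.H46.UnivOpenTrdeg
import Groth.Agent.H52.FBase.GeomPtSch
import Mathlib.AlgebraicGeometry.Morphisms.Flat

/-!
# Geometric reducedness of fibres at a point, in base-change form
-/

universe u

open CategoryTheory AlgebraicGeometry Limits
open Groth.Agent.H52.FBase

namespace Groth.Agent.H46.GRAt

set_option linter.style.haveILetI false

variable {X Y : Scheme.{u}}

/-- All field-valued base changes of `f` are reduced above `x`. -/
def GRAt (f : X ⟶ Y) (x : X) : Prop :=
  ∀ (K : Type u) [Field K] (g : Spec (CommRingCat.of K) ⟶ Y) (p : ↥(pullback f g)),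
    pullback.fst f g p = x → _root_.IsReduced ((pullback f g).presheaf.stalk p)

theorem isReduced_stalk_of_iso {A B : Scheme.{u}} (j : A ⟶ B) [IsOpenImmersion j] (a : A)
    (h : _root_.IsReduced (B.presheaf.stalk (j a))) : _root_.IsReduced (A.presheaf.stalk a) := by
  haveI := h
  let e := (asIso (j.stalkMap a)).commRingCatIsoToRingEquiv
  exact isReduced_of_injective e.symm e.symm.injective

theorem isReduced_stalk_of_iso' {A B : Scheme.{u}} (j : A ⟶ B) [IsOpenImmersion j] (a : A)
    (h : _root_.IsReduced (A.presheaf.stalk a)) : _root_.IsReduced (B.presheaf.stalk (j a)) := by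
  haveI := h
  let e := (asIso (j.stalkMap a)).commRingCatIsoToRingEquiv
  exact isReduced_of_injective e e.injective

/-- A flat map can only descend reducedness. -/
theorem isReduced_stalk_of_flat {A B : Scheme.{u}} (j : A ⟶ B) [Flat j] (a : A)
    (h : _root_.IsReduced (A.presheaf.stalk a)) : _root_.IsReduced (B.presheaf.stalk (j a)) := by
  haveI := h
  letI : Algebra (B.presheaf.stalk (j a)) (A.presheaf.stalk a) := (j.stalkMap a).hom.toAlgebra
  haveI : Module.Flat (B.presheaf.stalk (j a)) (A.presheaf.stalk a) := Flat.stalkMap j a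
  haveI : IsLocalHom (algebraMap (B.presheaf.stalk (j a)) (A.presheaf.stalk a)) :=
    inferInstanceAs (IsLocalHom (j.stalkMap a).hom)
  haveI : Module.FaithfullyFlat (B.presheaf.stalk (j a)) (A.presheaf.stalk a) :=
    .of_flat_of_isLocalHom
  exact isReduced_of_injective (algebraMap (B.presheaf.stalk (j a)) (A.presheaf.stalk a))
    (FaithfulSMul.algebraMap_injective _ _)

/-- Reducedness of local rings passes to generisations. -/
theorem isReduced_stalk_of_specializes {A : Scheme.{u}} {a b : A} (h : b ⤳ a)
    (ha : _root_.IsReduced (A.presheaf.stalk a)) : _root_.IsReduced (A.presheaf.stalk b) := by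
  obtain ⟨q, rfl⟩ : b ∈ Set.range (A.fromSpecStalk a) := by
    rw [Scheme.range_fromSpecStalk]; exact h
  haveI := StalkBC.flat_fromSpecStalk a
  haveI := ha
  haveI : IsReduced (Spec (A.presheaf.stalk a)) := (affine_isReduced_iff _).mpr ha
  exact isReduced_stalk_of_flat (A.fromSpecStalk a) q inferInstance

theorem isReduced_of_isPullback {f : X ⟶ Y} {x : X} (h : GRAt f x) {K : Type u} [Field K]
    {P : Scheme.{u}} {fst : P ⟶ X} {snd : P ⟶ Spec (CommRingCat.of K)}
    {g : Spec (CommRingCat.of K) ⟶ Y} (sq : IsPullback fst snd f g) (p : P) (hp : fst p = x) :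
    _root_.IsReduced (P.presheaf.stalk p) := by
  refine isReduced_stalk_of_iso sq.isoPullback.hom p (h K g _ ?_)
  rw [← Scheme.Hom.comp_apply, sq.isoPullback_hom_fst]
  exact hp

/-- Comparison with geometric reducedness of the fibre. -/
theorem grAt_iff_fiber (f : X ⟶ Y) (y : Y) (a : f.fiber y) :
    GRAt f (f.fiberι y a) ↔
      _root_.FBase.IsGeomReducedAt (k := Y.residueField y) (f.fiberToSpecResidueField y) a := by
  have h₁ : IsPullback (f.fiberι y) (f.fiberToSpecResidueField y) f (Y.fromSpecResidueField y) :=
    IsPullback.of_hasPullback f _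
  constructor
  · intro h K _ _ x' hx'
    exact isReduced_of_isPullback h ((IsPullback.of_hasPullback (f.fiberToSpecResidueField y)
      (Spec.map (CommRingCat.ofHom (algebraMap (Y.residueField y) K)))).paste_horiz h₁) x'
      (congrArg (f.fiberι y) hx')
  · intro h K _ g p hp
    have hy : f (f.fiberι y a) = y := by
      have : f.fiberι y a ∈ Set.range (f.fiberι y) := ⟨a, rfl⟩
      rwa [Scheme.Hom.range_fiberι] at this
    have hg : g (IsLocalRing.closedPoint K) = y := by
      rw [← hy, ← hp, show IsLocalRing.closedPoint K = pullback.snd f g p from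
        Subsingleton.elim (α := PrimeSpectrum K) _ _, ← Scheme.Hom.comp_apply,
        ← pullback.condition, Scheme.Hom.comp_apply]
    obtain ⟨ρ, hρ⟩ := UnivOpenTrdeg.exists_residue_factor g y hg
    letI : Algebra (Y.residueField y) K := ρ.hom.toAlgebra
    let σ := Spec.map (CommRingCat.ofHom (algebraMap (Y.residueField y) K))
    have sq : IsPullback (pullback.fst (f.fiberToSpecResidueField y) σ ≫ f.fiberι y)
        (pullback.snd (f.fiberToSpecResidueField y) σ) f g := by
      have := (IsPullback.of_hasPullback (f.fiberToSpecResidueField y) σ).paste_horiz h₁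
      rwa [show σ ≫ Y.fromSpecResidueField y = g from hρ] at this
    let p' := sq.isoPullback.inv p
    have hp' : pullback.fst (f.fiberToSpecResidueField y) σ p' = a := by
      apply (f.fiberι y).isEmbedding.injective
      rw [← Scheme.Hom.comp_apply, ← Scheme.Hom.comp_apply, sq.isoPullback_inv_fst]
      exact hp
    have h2 := isReduced_stalk_of_iso' sq.isoPullback.hom p' (h K p' hp')
    rwa [show sq.isoPullback.hom p' = p by
      rw [← Scheme.Hom.comp_apply, sq.isoPullback.inv_hom_id]; rfl] at h2

theorem grAt_iff (f : X ⟶ Y) (x : X) :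
    GRAt f x ↔ _root_.FBase.IsGeomReducedAt (f.fiberToSpecResidueField (f x)) (f.asFiber x) := by
  have h := grAt_iff_fiber f (f x) (f.asFiber x)
  rw [Scheme.Hom.fiberι_asFiber] at h
  exact h

/-- Base change. -/
theorem baseChange {f : X ⟶ Y} {X' T : Scheme.{u}} {fst : X' ⟶ X} {snd : X' ⟶ T} {g : T ⟶ Y}
    (sq : IsPullback fst snd f g) (p : X') (h : GRAt f (fst p)) : GRAt snd p := by
  intro K _ s q hq
  exact isReduced_of_isPullback h ((IsPullback.of_hasPullback snd s).paste_horiz sq) q
    (by rw [Scheme.Hom.comp_apply, hq])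

theorem flat_specMap_field {K L : Type u} [Field K] [Field L] (φ : K →+* L) :
    Flat (Spec.map (CommRingCat.ofHom φ)) := by
  letI := φ.toAlgebra
  exact Descend.flat_specMap_field K L

/-- Descent along any base change. -/
theorem of_baseChange {f : X ⟶ Y} {X' T : Scheme.{u}} {fst : X' ⟶ X} {snd : X' ⟶ T} {g : T ⟶ Y}
    (sq : IsPullback fst snd f g) (p : X') (h : GRAt snd p) : GRAt f (fst p) := by
  intro K _ s q hq
  obtain ⟨w, hw₁, hw₂⟩ := Scheme.Pullback.exists_preimage_pullback (f := pullback.fst f s)
    (g := fst) q p hq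
  let W := pullback (pullback.fst f s) fst
  let L : Type u := W.residueField w
  let mK := W.fromSpecResidueField w ≫ pullback.fst (pullback.fst f s) fst
  let mT := W.fromSpecResidueField w ≫ pullback.snd (pullback.fst f s) fst
  have hm : mK ≫ pullback.fst f s = mT ≫ fst := by
    simp only [mK, mT, Category.assoc, pullback.condition]
  let δ : K →+* L := (Spec.preimage (mK ≫ pullback.snd f s)).hom
  have hδ : Spec.map (CommRingCat.ofHom δ) = mK ≫ pullback.snd f s := Spec.map_preimage _
  haveI := flat_specMap_field δ
  let τ : Spec (CommRingCat.of L) ⟶ T := mT ≫ snd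
  have hτ : Spec.map (CommRingCat.ofHom δ) ≫ s = τ ≫ g := by
    rw [hδ]
    exact (Category.assoc _ _ _).trans ((congrArg (mK ≫ ·) pullback.condition.symm).trans
      ((Category.assoc _ _ _).symm.trans ((congrArg (· ≫ f) hm).trans
        ((Category.assoc _ _ _).trans ((congrArg (mT ≫ ·) sq.w).trans (Category.assoc _ _ _).symm)))))
  let P := pullback snd τ
  have sqP : IsPullback (pullback.fst snd τ ≫ fst) (pullback.snd snd τ) f (τ ≫ g) :=
    (IsPullback.of_hasPullback snd τ).paste_horiz sq
  let r : P ⟶ pullback f s :=
    pullback.lift (pullback.fst snd τ ≫ fst) (pullback.snd snd τ ≫ Spec.map (CommRingCat.ofHom δ))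
      (by rw [Category.assoc (pullback.snd snd τ), hτ]; exact sqP.w)
  have sqr : IsPullback r (pullback.snd snd τ) (pullback.snd f s)
      (Spec.map (CommRingCat.ofHom δ)) := by
    refine IsPullback.of_right ?_ (pullback.lift_snd _ _ _) (IsPullback.of_hasPullback f s)
    rw [pullback.lift_fst, hτ]
    exact sqP
  haveI : Flat r := MorphismProperty.of_isPullback sqr.flip inferInstance
  let z : Spec (CommRingCat.of L) ⟶ P := pullback.lift mT (𝟙 _) (by rw [Category.id_comp])
  let z₀ := z (IsLocalRing.closedPoint L)
  have hz1 : pullback.fst snd τ z₀ = p := by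
    refine (congrArg (fun m : Spec (CommRingCat.of L) ⟶ X' => m (IsLocalRing.closedPoint L))
      (show z ≫ pullback.fst snd τ = mT from pullback.lift_fst _ _ _)).trans ?_
    exact (congrArg _ (Scheme.fromSpecResidueField_apply _ _)).trans hw₂
  have hz2 : r z₀ = q := by
    have : z ≫ r = mK := by
      apply pullback.hom_ext
      · rw [Category.assoc, pullback.lift_fst, pullback.lift_fst_assoc, hm]
      · rw [Category.assoc, pullback.lift_snd, pullback.lift_snd_assoc, Category.id_comp, hδ]
    refine (congrArg (fun m : Spec (CommRingCat.of L) ⟶ pullback f s => m (IsLocalRing.closedPoint L))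
      this).trans ?_
    exact (congrArg _ (Scheme.fromSpecResidueField_apply _ _)).trans hw₁
  rw [← hz2]
  exact isReduced_stalk_of_flat r z₀ (h L τ z₀ hz1)

/-- Open immersions at the source do not matter. -/
theorem openImmersion_iff (f : X ⟶ Y) {U : Scheme.{u}} (j : U ⟶ X) [IsOpenImmersion j] (u : U) :
    GRAt (j ≫ f) u ↔ GRAt f (j u) := by
  constructor
  · intro h K _ s q hq
    obtain ⟨w, hw₁, hw₂⟩ := Scheme.Pullback.exists_preimage_pullback (f := j)
      (g := pullback.fst f s) u q hq.symm
    have sq := (IsPullback.of_hasPullback j (pullback.fst f s)).flip.flip.paste_vert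
      (IsPullback.of_hasPullback f s)
    subst hw₂
    exact isReduced_stalk_of_iso' (pullback.snd j (pullback.fst f s)) w
      (isReduced_of_isPullback h sq w hw₁)
  · intro h K _ s q hq
    let r : pullback (j ≫ f) s ⟶ pullback f s :=
      pullback.lift (pullback.fst _ _ ≫ j) (pullback.snd _ _)
        (by rw [Category.assoc]; exact pullback.condition)
    have sq : IsPullback (pullback.fst (j ≫ f) s) r j (pullback.fst f s) :=
      IsPullback.of_bot (by rw [pullback.lift_snd]; exact IsPullback.of_hasPullback (j ≫ f) s)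
        (pullback.lift_fst _ _ _).symm (IsPullback.of_hasPullback f s)
    haveI : IsOpenImmersion r := MorphismProperty.of_isPullback sq inferInstance
    exact isReduced_stalk_of_iso r q (h K s (r q) (by
      rw [← Scheme.Hom.comp_apply, pullback.lift_fst, Scheme.Hom.comp_apply, hq]))

end Groth.Agent.H46.GRAt
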