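import Groth.Agent.H46.GRAt
import Groth.Agent.H46.FlatUnivOpen
import Groth.Agent.H56.NearGeneric.GeomReduced
import Groth.Agent.H19.FlatLocus.Scheme
import Mathlib.RingTheory.Algebraic.Integral

/-!
# The locus of flatness with geometrically reduced fibre is open (EGA IV 12.2.4, Noetherian base)
-/

universe u

open CategoryTheory AlgebraicGeometry Limits TensorProduct
open Groth.Agent.H52.FBase Groth.Agent.H46.GRAt

namespace Groth.Agent.H46.GRAtOpen

set_option linter.style.haveILetI false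

theorem isOpen_of_criterion {X : Type*} [TopologicalSpace X] [TopologicalSpace.NoetherianSpace X]
    [QuasiSober X] (E : Set X) (h1 : ∀ x ∈ E, ∀ x', x' ⤳ x → x' ∈ E)
    (h2 : ∀ ξ ∈ E, ∃ O : Set X, IsOpen O ∧ ξ ∈ O ∧ ∀ x ∈ O, ξ ⤳ x → x ∈ E) : IsOpen E := by
  rw [← isClosed_compl_iff]
  let S := Set.range fun W : irreducibleComponents (↥(closure Eᶜ)) =>
    closure (Subtype.val '' (W : Set ↥(closure Eᶜ)))
  rw [← closure_subset_iff_isClosed]
  intro x hx
  haveI : TopologicalSpace.NoetherianSpace (↥(closure Eᶜ)) :=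
    Topology.IsInducing.subtypeVal.noetherianSpace
  have hfin : (irreducibleComponents (↥(closure Eᶜ))).Finite :=
    TopologicalSpace.NoetherianSpace.finite_irreducibleComponents
  let x₀ : ↥(closure Eᶜ) := ⟨x, hx⟩
  let W := irreducibleComponent x₀
  have hW : W ∈ irreducibleComponents (↥(closure Eᶜ)) := irreducibleComponent_mem_irreducibleComponents x₀
  let W' : Set X := closure (Subtype.val '' W)
  have hW'i : IsIrreducible W' :=
    (isIrreducible_irreducibleComponent.image _ continuous_subtype_val.continuousOn).closure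
  obtain ⟨η, hη⟩ := QuasiSober.sober hW'i isClosed_closure
  by_contra hxE
  have hxE' : x ∈ E := Classical.not_not.1 hxE
  have hηx : η ⤳ x :=
    hη.specializes (subset_closure ⟨x₀, mem_irreducibleComponent, rfl⟩)
  have hηE : η ∈ E := h1 x hxE' η hηx
  obtain ⟨O, hO, hηO, hOE⟩ := h2 η hηE
  -- the other components
  let F : Set ↥(closure Eᶜ) := ⋃₀ (irreducibleComponents (↥(closure Eᶜ)) \ {W})
  have hFc : IsClosed F := by
    rw [show F = ⋃ V ∈ irreducibleComponents (↥(closure Eᶜ)) \ {W}, V from Set.sUnion_eq_biUnion]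
    exact Set.Finite.isClosed_biUnion (hfin.subset Set.diff_subset)
      fun V hV => isClosed_of_mem_irreducibleComponents V hV.1
  have hWF : ¬ W ⊆ F := by
    intro hsub
    obtain ⟨V, hV, hWV⟩ := isIrreducible_iff_sUnion_isClosed.1 isIrreducible_irreducibleComponent
      (hfin.subset Set.diff_subset).toFinset
      (fun V hV => isClosed_of_mem_irreducibleComponents V ((Set.Finite.mem_toFinset _).1 hV).1)
      (by rw [Set.Finite.coe_toFinset]; exact hsub)
    obtain ⟨hV1, hV2⟩ := (Set.Finite.mem_toFinset _).1 hV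
    exact hV2 (le_antisymm (hW.2 hV1.1 hWV) hWV)
  have hηZ : η ∈ closure Eᶜ := by
    have : W' ⊆ closure Eᶜ := closure_minimal (by rintro _ ⟨w, -, rfl⟩; exact w.2) isClosed_closure
    exact this hη.mem
  have hηF : (⟨η, hηZ⟩ : ↥(closure Eᶜ)) ∉ F := by
    intro h
    apply hWF
    intro w hw
    have hs : η ⤳ w.1 := hη.specializes (subset_closure ⟨w, hw, rfl⟩)
    exact ((subtype_specializes_iff (⟨η, hηZ⟩ : ↥(closure Eᶜ)) w).2 hs).mem_closed hFc h
  obtain ⟨O', hO', hFO'⟩ := isOpen_induced_iff.1 hFc.isOpen_compl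
  obtain ⟨z, hz, hzE⟩ := mem_closure_iff.1 hηZ (O ∩ O') (hO.inter hO')
    ⟨hηO, (Set.ext_iff.1 hFO' ⟨η, hηZ⟩).2 hηF⟩
  let z₀ : ↥(closure Eᶜ) := ⟨z, subset_closure hzE⟩
  have hzF : z₀ ∉ F := (Set.ext_iff.1 hFO' z₀).1 hz.2
  have hzW : irreducibleComponent z₀ = W := by
    by_contra hne
    exact hzF ⟨_, ⟨irreducibleComponent_mem_irreducibleComponents z₀, hne⟩, mem_irreducibleComponent⟩
  exact hzE (hOE z hz.1 (hη.specializes (subset_closure ⟨z₀, hzW ▸ mem_irreducibleComponent, rfl⟩)))

theorem mem_open_of_dense {T : Scheme.{u}} (η : T) (hη : IsGenericPoint η Set.univ) (V : T.Opens)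
    (hV : (V : Set T).Nonempty) : η ∈ V := by
  obtain ⟨t, ht⟩ := hV
  exact (hη.specializes trivial).mem_open V.2 ht

variable {X Y : Scheme.{u}}

/-- Points of `closure {ξ}` near `ξ`. -/
theorem exists_open_grAt [IsLocallyNoetherian Y] (f : X ⟶ Y) [LocallyOfFiniteType f] (ξ : X)
    (h : GRAt f ξ) : ∃ O : Set X, IsOpen O ∧ ξ ∈ O ∧ ∀ x ∈ O, ξ ⤳ x → GRAt f x := by
  obtain ⟨V, hV, hηV, -⟩ := exists_isAffineOpen_mem_and_subset (X := Y) (x := f ξ) (U := ⊤) trivial
  haveI := hV.isOpenImmersion_fromSpec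
  haveI : IsNoetherianRing Γ(Y, V) := IsLocallyNoetherian.component_noetherian ⟨V, hV⟩
  let η₀ : PrimeSpectrum Γ(Y, V) := hV.primeIdealOf ⟨f ξ, hηV⟩
  have hη₀ : hV.fromSpec η₀ = f ξ := hV.fromSpec_primeIdealOf ⟨f ξ, hηV⟩
  let A := Γ(Y, V) ⧸ η₀.asIdeal
  let qm : Γ(Y, V) ⟶ CommRingCat.of A := CommRingCat.ofHom (Ideal.Quotient.mk η₀.asIdeal)
  haveI : IsClosedImmersion (Spec.map qm) :=
    IsClosedImmersion.spec_of_surjective _ Ideal.Quotient.mk_surjective
  let g : Spec (CommRingCat.of A) ⟶ Y := Spec.map qm ≫ hV.fromSpec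
  haveI : IsDomain A := Ideal.Quotient.isDomain _
  let ηT : ↥(Spec (CommRingCat.of A)) := (⟨⊥, Ideal.isPrime_bot⟩ : PrimeSpectrum A)
  haveI : IrreducibleSpace ↥(Spec (CommRingCat.of A)) :=
    inferInstanceAs (IrreducibleSpace (PrimeSpectrum A))
  have hgenT : IsGenericPoint ηT Set.univ :=
    Set.eq_univ_of_forall fun t =>
      ((PrimeSpectrum.le_iff_specializes (⟨⊥, Ideal.isPrime_bot⟩ : PrimeSpectrum A) t).1 bot_le).mem_closure
  have hgη : g ηT = f ξ := by
    refine (congrArg hV.fromSpec (show Spec.map qm ηT = η₀ from PrimeSpectrum.ext ?_)).trans hη₀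
    exact (RingHom.ker_eq_comap_bot _).symm.trans Ideal.mk_ker
  let X' := pullback f g
  let a : X' ⟶ X := pullback.fst f g
  let f' : X' ⟶ Spec (CommRingCat.of A) := pullback.snd f g
  have sq : IsPullback a f' f g := IsPullback.of_hasPullback f g
  obtain ⟨ξ', hξ'a, hξ'f⟩ := Scheme.Pullback.exists_preimage_pullback (f := f) (g := g) ξ ηT hgη.symm
  -- the generic fibre
  haveI : LocallyOfFiniteType f' := inferInstanceAs (LocallyOfFiniteType (pullback.snd f g))
  haveI := QFin.isLocallyNoetherian_fiber f' ηT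
  have hE' : GRAt f' ξ' := baseChange sq ξ' (by rw [hξ'a]; exact h)
  obtain ⟨c, hc⟩ : ξ' ∈ Set.range (f'.fiberι ηT) := (Scheme.Hom.range_fiberι f' ηT).ge hξ'f
  have hlocus : IsOpen {c : ↥(f'.fiber ηT) | _root_.FBase.IsGeomReducedAt
      (k := (Spec (CommRingCat.of A)).residueField ηT) (f'.fiberToSpecResidueField ηT) c} :=
    GeomPtSch.isOpen_geomReduced _
  obtain ⟨W₀, hW₀, hW₀'⟩ :=
    (f'.fiberι ηT).isEmbedding.isInducing.isOpen_iff.1 hlocus
  have hξW₀ : ξ' ∈ W₀ := by
    rw [← hc]
    refine (Set.ext_iff.1 hW₀' c).2 ?_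
    refine (grAt_iff_fiber f' _ c).1 ?_
    rw [hc]; exact hE'
  obtain ⟨U, hU, hξU, hUW⟩ := exists_isAffineOpen_mem_and_subset (X := X') (x := ξ')
    (U := ⟨W₀, hW₀⟩) hξW₀
  haveI : IsAffine (U : Scheme.{u}) := hU
  let f'' : (U : Scheme.{u}) ⟶ Spec (CommRingCat.of A) := U.ι ≫ f'
  haveI : QuasiCompact f'' := inferInstance
  have hgen : GeometricallyReduced
      (f''.fiberToSpecResidueField ηT) := by
    refine ⟨?_⟩
    rw [geometrically_iff_of_isClosedUnderIsomorphisms]
    intro K _ σ
    have sq2 := (IsPullback.of_hasPullback (f''.fiberToSpecResidueField ηT) σ).paste_horiz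
      (show IsPullback (f''.fiberι ηT)
        (f''.fiberToSpecResidueField _) f'' _ from IsPullback.of_hasPullback _ _)
    haveI : ∀ p, _root_.IsReduced ((pullback
        (f''.fiberToSpecResidueField ηT) σ).presheaf.stalk p) := by
      intro p
      refine isReduced_of_isPullback ?_ sq2 p rfl
      rw [openImmersion_iff]
      set u := (pullback.fst _ σ ≫ f''.fiberι ηT) p with hu
      have hu' : f' (U.ι u) = ηT := by
        have : u ∈ Set.range (f''.fiberι ηT) := ⟨_, rfl⟩
        rw [Scheme.Hom.range_fiberι] at this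
        exact this
      obtain ⟨d, hd⟩ : U.ι u ∈ Set.range (f'.fiberι ηT) := by
        rw [Scheme.Hom.range_fiberι]; exact hu'
      rw [← hd]
      refine (grAt_iff_fiber f' _ d).2 ((Set.ext_iff.1 hW₀' d).1 ?_)
      show f'.fiberι _ d ∈ W₀
      rw [hd]
      exact hUW u.2
    exact isReduced_of_isReduced_stalk _
  obtain ⟨V', hV', hgr⟩ := Groth.Agent.H56.NearGeneric.exists_geometricallyReduced (f := f'')
    ηT hgenT hgen
  have hηV' := mem_open_of_dense _ hgenT V' hV'
  -- every point of `U ∩ f'⁻¹ V'`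
  have hall : ∀ x' : X', x' ∈ U → f' x' ∈ V' → GRAt f (a x') := by
    intro x' hxU hxV
    refine of_baseChange sq x' ?_
    let u : (U : Scheme.{u}) := ⟨x', hxU⟩
    rw [show x' = U.ι u from rfl, ← openImmersion_iff]
    let u' : ↥((f'' ⁻¹ᵁ V') : Scheme.{u}) := ⟨u, hxV⟩
    have h3 : GRAt (f'' ∣_ V') u' := by
      intro K _ s p _
      haveI := hgr
      haveI : IsReduced (pullback (f'' ∣_ V') s) :=
        GeometricallyReduced.geometrically_isReduced _ _ _ (IsPullback.of_hasPullback _ _)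
      infer_instance
    exact of_baseChange (isPullback_morphismRestrict f'' V').flip u' h3
  haveI : IsImmersion g := inferInstance
  haveI : IsImmersion a := inferInstanceAs (IsImmersion (pullback.fst f g))
  obtain ⟨O, hO, hOa⟩ := a.isEmbedding.isInducing.isOpen_iff.1
    (U.2.inter (V'.2.preimage f'.continuous))
  refine ⟨O ∩ f ⁻¹' (V : Set Y), hO.inter (V.2.preimage f.continuous), ⟨?_, hηV⟩, ?_⟩
  · rw [← hξ'a]
    refine (Set.ext_iff.1 hOa ξ').2 ⟨hξU, ?_⟩
    show f' ξ' ∈ V'
    rw [hξ'f]; exact hηV'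
  · rintro x ⟨hxO, hxV⟩ hs
    obtain ⟨t₀, ht₀⟩ : f x ∈ Set.range hV.fromSpec := by rw [hV.range_fromSpec]; exact hxV
    have hηt : η₀ ⤳ t₀ := by
      refine hV.fromSpec.isEmbedding.isInducing.specializes_iff.1 ?_
      rw [hη₀, ht₀]
      exact hs.map f.continuous
    obtain ⟨t, ht⟩ : t₀ ∈ Set.range (Spec.map qm) := by
      have hcl : IsClosed (Set.range (Spec.map qm)) := (Spec.map qm).isClosedEmbedding.isClosed_range
      refine hηt.mem_closed hcl ⟨ηT, PrimeSpectrum.ext ?_⟩
      exact (RingHom.ker_eq_comap_bot _).symm.trans Ideal.mk_ker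
    obtain ⟨x', hx'a, hx't⟩ := Scheme.Pullback.exists_preimage_pullback (f := f) (g := g) x t
      (show f x = g t by rw [← ht₀, ← ht]; rfl)
    rw [← hx'a]
    have hx'O : x' ∈ a ⁻¹' O := by
      show a x' ∈ O
      rw [show a x' = x from hx'a]; exact hxO
    rw [hOa] at hx'O
    exact hall x' hx'O.1 hx'O.2

/-- Test on finite extensions of the base field. -/
theorem isGeomReducedAt_of_finite {k : Type u} [Field k] {F : Scheme.{u}}
    (g : F ⟶ Spec (CommRingCat.of k)) (a : F)
    (h : ∀ (K : Type u) [Field K] [Algebra k K] [Module.Finite k K]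
      (q : ↥(_root_.FBase.bc g K)), (_root_.FBase.bcπ g K) q = a →
        _root_.IsReduced ((_root_.FBase.bc g K).presheaf.stalk q)) :
    _root_.FBase.IsGeomReducedAt g a := by
  refine GeomPt.isGeomReducedAt_of_isGeometricallyReduced (f := g) (x := a) ?_
  rw [Algebra.isGeometricallyReduced_field_iff]
  let kb := AlgebraicClosure k
  suffices _root_.IsReduced (StalkBC.Ox g a ⊗[k] kb) from
    isReduced_of_injective (Algebra.TensorProduct.comm k kb (StalkBC.Ox g a)) (AlgEquiv.injective _)
  refine IsReduced.tensorProduct_of_flat_of_forall_fg fun D hD => ?_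
  haveI : Algebra.FiniteType k D := (Subalgebra.fg_iff_finiteType D).1 hD
  haveI : Algebra.IsIntegral k D := Algebra.IsIntegral.of_injective D.val Subtype.val_injective
  haveI : Module.Finite k D := Algebra.IsIntegral.finite
  letI : Field D := (isField_of_isIntegral_of_isField' (Field.toIsField k)).toField
  refine isReduced_ofLocalizationMaximal _ fun Q _ => ?_
  let q : Spec (CommRingCat.of (StalkBC.Ox g a ⊗[k] D)) := (⟨Q, inferInstance⟩ : PrimeSpectrum _)
  have : Algebra.IsIntegral (StalkBC.Ox g a) (StalkBC.Ox g a ⊗[k] D) := inferInstance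
  have hq : (_root_.FBase.bcπ g D) (StalkBC.j g a D q) = a :=
    (StalkBC.j_π_eq_iff g a D q).mpr
      (IsLocalRing.eq_maximalIdeal (Ideal.isMaximal_comap_of_isIntegral_of_isMaximal Q))
  have := h D (StalkBC.j g a D q) hq
  exact isReduced_of_injective (StalkBC.stalkEquiv g a D q).symm (RingEquiv.injective _)

/-- A finite model of a finite extension. -/
theorem exists_finite_model {A : Type u} [CommRing A] (K : Type u) [Field K] [Algebra A K]
    (p : Ideal A) [p.IsPrime] (hp : RingHom.ker (algebraMap A K) = p)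
    [Algebra p.ResidueField K] [IsScalarTower A p.ResidueField K] [Module.Finite p.ResidueField K] :
    ∃ A' : Subalgebra A K, Module.Finite A A' ∧ IsFractionRing A' K := by
  classical
  obtain ⟨s, hs⟩ := (inferInstance : Module.Finite p.ResidueField K).fg_top
  haveI : Algebra.IsAlgebraic p.ResidueField K := Algebra.IsAlgebraic.of_finite _ _
  letI : Algebra (A ⧸ p) K := (Ideal.Quotient.lift p (algebraMap A K) fun a ha => by
    rwa [← hp, RingHom.mem_ker] at ha).toAlgebra
  haveI : IsScalarTower A (A ⧸ p) K := IsScalarTower.of_algebraMap_eq fun _ => rfl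
  haveI : IsScalarTower (A ⧸ p) p.ResidueField K := IsScalarTower.of_algebraMap_eq fun x => by
    obtain ⟨x, rfl⟩ := Ideal.Quotient.mk_surjective x
    show algebraMap A K x = algebraMap p.ResidueField K (algebraMap A p.ResidueField x)
    rw [← IsScalarTower.algebraMap_apply]
  haveI : Algebra.IsAlgebraic (A ⧸ p) K :=
    (IsFractionRing.comap_isAlgebraic_iff (A := A ⧸ p) (K := p.ResidueField)).2 inferInstance
  haveI : Algebra.IsIntegral A (A ⧸ p) :=
    algebraMap_isIntegral_iff.1 (RingHom.isIntegral_of_surjective _ Ideal.Quotient.mk_surjective)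
  choose m hm hint using fun z : K =>
    (Algebra.IsAlgebraic.isAlgebraic (R := A ⧸ p) z).exists_integral_multiple
  let T : Set K := (fun z => m z • z) '' (s : Set K)
  refine ⟨Algebra.adjoin A T, ?_, ?_⟩
  · exact Module.Finite.iff_fg.2 (fg_adjoin_of_finite (s.finite_toSet.image _) (by
      rintro _ ⟨z, -, rfl⟩
      exact isIntegral_trans _ (hint z)))
  let A' := Algebra.adjoin A T
  have hA : ∀ x : A ⧸ p, algebraMap (A ⧸ p) K x ∈ A' := fun x => by
    obtain ⟨x, rfl⟩ := Ideal.Quotient.mk_surjective x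
    exact A'.algebraMap_mem x
  let P : K → Prop := fun z => ∃ b ∈ A', b ≠ 0 ∧ b * z ∈ A'
  have hmulk : ∀ (c : p.ResidueField) z, P z → P (c • z) := by
    rintro c z ⟨b, hb, hb0, hbz⟩
    obtain ⟨n, d, hd, rfl⟩ := IsFractionRing.div_surjective (A ⧸ p) c
    have hd0 : algebraMap (A ⧸ p) K d ≠ 0 := by
      rw [IsScalarTower.algebraMap_apply (A ⧸ p) p.ResidueField K]
      exact (_root_.map_ne_zero _).2 fun h => nonZeroDivisors.ne_zero hd
        (IsFractionRing.injective (A ⧸ p) p.ResidueField (h.trans (map_zero _).symm))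
    refine ⟨algebraMap (A ⧸ p) K d * b, mul_mem (hA d) hb, mul_ne_zero hd0 hb0, ?_⟩
    rw [Algebra.smul_def, map_div₀, ← IsScalarTower.algebraMap_apply,
      ← IsScalarTower.algebraMap_apply,
      show algebraMap (A ⧸ p) K d * b * (algebraMap (A ⧸ p) K n / algebraMap (A ⧸ p) K d * z) =
        algebraMap (A ⧸ p) K n * (b * z) by field_simp]
    exact mul_mem (hA n) hbz
  have hall : ∀ z, P z := by
    intro z
    have hz : z ∈ Submodule.span p.ResidueField (s : Set K) := hs ▸ Submodule.mem_top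
    induction hz using Submodule.span_induction with
    | mem z hz =>
      refine ⟨algebraMap (A ⧸ p) K (m z), hA _, ?_, Algebra.subset_adjoin ⟨z, hz, Algebra.smul_def _ _⟩⟩
      rw [IsScalarTower.algebraMap_apply (A ⧸ p) p.ResidueField K]
      exact (_root_.map_ne_zero _).2 fun h => hm z
        (IsFractionRing.injective (A ⧸ p) p.ResidueField (h.trans (map_zero _).symm))
    | zero => exact ⟨1, one_mem A', one_ne_zero, by rw [mul_zero]; exact zero_mem A'⟩
    | add z w _ _ hz hw =>
      obtain ⟨b, hb, hb0, hbz⟩ := hz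
      obtain ⟨c, hc, hc0, hcw⟩ := hw
      refine ⟨b * c, mul_mem hb hc, mul_ne_zero hb0 hc0, ?_⟩
      rw [show b * c * (z + w) = c * (b * z) + b * (c * w) by ring]
      exact add_mem (mul_mem hc hbz) (mul_mem hb hcw)
    | smul c z _ hz => exact hmulk c z hz
  refine ⟨⟨fun y => ?_, fun z => ?_, fun {x y} hxy => ⟨1, ?_⟩⟩⟩
  · exact isUnit_iff_ne_zero.2 fun h => nonZeroDivisors.ne_zero y.2 (Subtype.ext h)
  · obtain ⟨b, hb, hb0, hbz⟩ := hall z
    exact ⟨(⟨b * z, hbz⟩, ⟨⟨b, hb⟩, mem_nonZeroDivisors_of_ne_zero fun h =>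
      hb0 (congrArg Subtype.val h)⟩), mul_comm _ _⟩
  · rw [Subtype.ext (show (x : K) = y from hxy)]

/-- Stability under generisation. -/
theorem grAt_of_specializes [IsLocallyNoetherian Y] (f : X ⟶ Y) [LocallyOfFiniteType f] [Flat f]
    {x x' : X} (hs : x' ⤳ x) (h : GRAt f x) : GRAt f x' := by
  obtain ⟨V, hV, hyV, -⟩ := exists_isAffineOpen_mem_and_subset (X := Y) (x := f x) (U := ⊤) trivial
  have hy'V : f x' ∈ V := (hs.map f.continuous).mem_open V.2 hyV
  haveI := hV.isOpenImmersion_fromSpec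
  haveI : IsNoetherianRing Γ(Y, V) := IsLocallyNoetherian.component_noetherian ⟨V, hV⟩
  let y₀ : PrimeSpectrum Γ(Y, V) := hV.primeIdealOf ⟨f x', hy'V⟩
  rw [← f.fiberι_asFiber x']
  refine (grAt_iff_fiber f (f x') (f.asFiber x')).2 ?_
  refine isGeomReducedAt_of_finite (k := Y.residueField (f x')) _ _ fun K _ _ _ q hq => ?_
  let s : Spec (CommRingCat.of K) ⟶ Y :=
    Spec.map (CommRingCat.ofHom (algebraMap (Y.residueField (f x')) K)) ≫ Y.fromSpecResidueField (f x')
  -- the model of `K`
  let ρ : Γ(Y, V) →+* Y.residueField (f x') :=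
    (Y.presheaf.germ V (f x') hy'V ≫ Y.residue (f x')).hom
  letI : Algebra Γ(Y, V) (Y.residueField (f x')) := ρ.toAlgebra
  letI : Algebra Γ(Y, V) K :=
    ((algebraMap (Y.residueField (f x')) K).comp ρ).toAlgebra
  have hρ : Spec.map (CommRingCat.ofHom ρ) ≫ hV.fromSpec = Y.fromSpecResidueField (f x') := by
    show Spec.map (Y.presheaf.germ V (f x') hy'V ≫ Y.residue (f x')) ≫ hV.fromSpec = _
    rw [Spec.map_comp, Category.assoc, ← IsAffineOpen.fromSpecStalk,
      hV.fromSpecStalk_eq_fromSpecStalk]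
    rfl
  obtain ⟨A', hA'fin, hA'frac⟩ : ∃ A' : Subalgebra Γ(Y, V) K,
      Module.Finite Γ(Y, V) A' ∧ IsFractionRing A' K := by
    have hker : RingHom.ker (algebraMap Γ(Y, V) K) = y₀.asIdeal := by
      ext z
      rw [RingHom.mem_ker, RingHom.algebraMap_toAlgebra, RingHom.comp_apply,
        map_eq_zero_iff _ (RingHom.injective _)]
      show (Y.residue (f x')).hom ((Y.presheaf.germ V (f x') hy'V).hom z) = 0 ↔ _
      letI := Y.presheaf.algebra_section_stalk (⟨f x', hy'V⟩ : V)
      haveI := hV.isLocalization_stalk ⟨f x', hy'V⟩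
      exact Ideal.Quotient.eq_zero_iff_mem.trans
        (IsLocalization.AtPrime.to_map_mem_maximal_iff (Y.presheaf.stalk (f x')) y₀.asIdeal z)
    have hρle : y₀.asIdeal ≤ RingHom.ker ρ := fun z hz => by
      rw [← hker] at hz
      exact (map_eq_zero_iff _ (RingHom.injective (algebraMap (Y.residueField (f x')) K))).1 hz
    have hρu : y₀.asIdeal.primeCompl ≤ (IsUnit.submonoid _).comap ρ := fun z hz => by
      refine isUnit_iff_ne_zero.2 fun h0 => hz ?_
      rw [← hker]
      show algebraMap (Y.residueField (f x')) K (ρ z) = 0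
      rw [h0, map_zero]
    let e : y₀.asIdeal.ResidueField →+* Y.residueField (f x') :=
      Ideal.ResidueField.lift y₀.asIdeal ρ hρle hρu
    have he : Function.Surjective e := by
      intro c
      obtain ⟨r, rfl⟩ := Y.residue_surjective (f x') c
      letI := Y.presheaf.algebra_section_stalk (⟨f x', hy'V⟩ : V)
      haveI := hV.isLocalization_stalk ⟨f x', hy'V⟩
      obtain ⟨⟨n, d⟩, hnd⟩ := IsLocalization.surj y₀.asIdeal.primeCompl r
      refine ⟨algebraMap _ _ n / algebraMap _ _ d.1, ?_⟩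
      rw [map_div₀, Ideal.ResidueField.lift_algebraMap, Ideal.ResidueField.lift_algebraMap, div_eq_iff]
      · show (Y.residue (f x')).hom _ = (Y.residue (f x')).hom r * (Y.residue (f x')).hom _
        rw [← map_mul]
        exact congrArg _ hnd.symm
      · exact (hρu d.2).ne_zero
    letI : Algebra y₀.asIdeal.ResidueField (Y.residueField (f x')) := e.toAlgebra
    letI : Algebra y₀.asIdeal.ResidueField K :=
      ((algebraMap (Y.residueField (f x')) K).comp e).toAlgebra
    haveI : IsScalarTower y₀.asIdeal.ResidueField (Y.residueField (f x')) K :=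
      IsScalarTower.of_algebraMap_eq fun _ => rfl
    haveI : Module.Finite y₀.asIdeal.ResidueField (Y.residueField (f x')) :=
      Module.Finite.of_surjective (Algebra.linearMap _ _) he
    haveI : Module.Finite y₀.asIdeal.ResidueField K :=
      Module.Finite.trans (Y.residueField (f x')) K
    haveI : IsScalarTower Γ(Y, V) y₀.asIdeal.ResidueField K :=
      IsScalarTower.of_algebraMap_eq fun z => by
        show algebraMap (Y.residueField (f x')) K (ρ z) = algebraMap (Y.residueField (f x')) K (e _)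
        rw [Ideal.ResidueField.lift_algebraMap]
    exact exists_finite_model K y₀.asIdeal hker
  haveI := hA'fin
  haveI := hA'frac
  haveI : IsNoetherianRing A' := IsNoetherianRing.of_finite Γ(Y, V) A'
  let γ : Spec (CommRingCat.of A') ⟶ Spec Γ(Y, V) :=
    Spec.map (CommRingCat.ofHom (algebraMap Γ(Y, V) A'))
  haveI : IsIntegralHom γ :=
    IsIntegralHom.SpecMap_iff.2 (algebraMap_isIntegral_iff.2 (Algebra.IsIntegral.of_finite _ _))
  let j : Spec (CommRingCat.of K) ⟶ Spec (CommRingCat.of A') :=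
    Spec.map (CommRingCat.ofHom (algebraMap A' K))
  haveI : IsPreimmersion j := IsPreimmersion.of_isLocalization (nonZeroDivisors A')
  haveI : Flat j := (HasRingHomProperty.Spec_iff (P := @Flat)).mpr
    (RingHom.flat_algebraMap_iff.2 (IsLocalization.flat K (nonZeroDivisors A')))
  have hjγ : j ≫ γ ≫ hV.fromSpec = s := by
    show _ = Spec.map _ ≫ _
    rw [← hρ, ← Category.assoc, ← Category.assoc, ← Spec.map_comp, ← Spec.map_comp,
      ← CommRingCat.ofHom_comp]
    rfl
  -- base change to `T = Spec A'`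
  let XV := pullback f hV.fromSpec
  let fV : XV ⟶ Spec Γ(Y, V) := pullback.snd f hV.fromSpec
  let XT := pullback fV γ
  let fT : XT ⟶ Spec (CommRingCat.of A') := pullback.snd fV γ
  let a : XT ⟶ X := pullback.fst fV γ ≫ pullback.fst f hV.fromSpec
  have sqT : IsPullback a fT f (γ ≫ hV.fromSpec) :=
    (IsPullback.of_hasPullback fV γ).paste_horiz (IsPullback.of_hasPullback f hV.fromSpec)
  -- `X_K → X_T`
  have sq₀ : IsPullback (_root_.FBase.bcπ (k := Y.residueField (f x')) (f.fiberToSpecResidueField (f x')) K ≫ f.fiberι (f x'))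
      (_root_.FBase.bcStr (k := Y.residueField (f x')) (f.fiberToSpecResidueField (f x')) K) f s :=
    (IsPullback.of_hasPullback _ _).paste_horiz (IsPullback.of_hasPullback f _)
  let l : _root_.FBase.bc (k := Y.residueField (f x')) (f.fiberToSpecResidueField (f x')) K ⟶ XT :=
    sqT.lift (_root_.FBase.bcπ (k := Y.residueField (f x')) (f.fiberToSpecResidueField (f x')) K ≫ f.fiberι (f x'))
      (_root_.FBase.bcStr (k := Y.residueField (f x')) (f.fiberToSpecResidueField (f x')) K ≫ j)
      (by rw [Category.assoc, Category.assoc, hjγ]; exact sq₀.w)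
  have sql : IsPullback l (_root_.FBase.bcStr (k := Y.residueField (f x')) (f.fiberToSpecResidueField (f x')) K) fT j := by
    refine IsPullback.of_right ?_ (IsPullback.lift_snd _ _ _ _) sqT
    rw [IsPullback.lift_fst, hjγ]
    exact sq₀
  haveI : Flat l := MorphismProperty.of_isPullback sql.flip inferInstance
  haveI : IsPreimmersion l := MorphismProperty.of_isPullback sql.flip inferInstance
  have haq : a (l q) = x' := by
    rw [← Scheme.Hom.comp_apply, IsPullback.lift_fst]
    exact (congrArg (f.fiberι (f x')) hq).trans (f.fiberι_asFiber x')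
  -- a point over `x`
  obtain ⟨x₀, hx₀⟩ : x ∈ Set.range (pullback.fst f hV.fromSpec) := by
    rw [Scheme.Pullback.range_fst, hV.range_fromSpec]; exact hyV
  have hsp : pullback.fst fV γ (l q) ⤳ x₀ := by
    refine (pullback.fst f hV.fromSpec).isEmbedding.isInducing.specializes_iff.1 ?_
    rw [hx₀, ← Scheme.Hom.comp_apply]
    exact (specializes_of_eq haq).trans hs
  obtain ⟨p, hp, hpx⟩ := (pullback.fst fV γ).isClosedMap.specializingMap hsp
  have hap : a p = x := by
    show (pullback.fst fV γ ≫ pullback.fst f hV.fromSpec) p = x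
    rw [Scheme.Hom.comp_apply, hpx, hx₀]
  haveI : LocallyOfFiniteType fT := inferInstanceAs (LocallyOfFiniteType (pullback.snd fV γ))
  haveI : LocallyOfFinitePresentation f := inferInstance
  have hu : ∀ ζ, EGA43.IsUnivOpenAt fT ζ := fun ζ =>
    OpenAt.isUnivOpenAt_baseChange (UnivOpen.isUnivOpenAt_of_universallyOpen f (a ζ)) sqT ζ rfl
  haveI : IsReduced (Spec (CommRingCat.of A')) := (affine_isReduced_iff _).mpr inferInstance
  have hgrp : GRAt fT p := baseChange sqT p (by rw [hap]; exact h)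
  have hred := (FlatUnivOpen.flat_stalkMap fT p (fun ζ _ _ _ => hu ζ)
    ((grAt_iff fT p).1 hgrp) inferInstance).2
  haveI := isReduced_stalk_of_specializes hp hred
  let e := RingEquiv.ofBijective (l.stalkMap q).hom (StalkBC.bijective_stalkMap l q)
  exact isReduced_of_injective e.symm e.symm.injective

theorem isOpen_grAt_of_flat [IsLocallyNoetherian Y] (f : X ⟶ Y) [LocallyOfFiniteType f] [Flat f]
    [TopologicalSpace.NoetherianSpace X] : IsOpen {x : X | GRAt f x} :=
  isOpen_of_criterion _ (fun _ hx _ hs => grAt_of_specializes f hs hx)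
    fun ξ hξ => exists_open_grAt f ξ hξ

/-- The locus of flatness with geometrically reduced fibre is open. -/
theorem isOpen_flat_grAt [IsLocallyNoetherian Y] (f : X ⟶ Y) [LocallyOfFiniteType f] :
    IsOpen {x : X | (f.stalkMap x).hom.Flat ∧ GRAt f x} := by
  haveI : IsLocallyNoetherian X := LocallyOfFiniteType.isLocallyNoetherian f
  haveI : LocallyOfFinitePresentation f := inferInstance
  rw [isOpen_iff_mem_nhds]
  rintro x ⟨hfl, hgr⟩
  obtain ⟨W, hW, hxW, hWfl⟩ := exists_isAffineOpen_mem_and_subset (X := X) (x := x)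
    (U := ⟨_, H19.FlatLocus.Scheme.isOpen_flat_stalkMap (f := f)⟩) hfl
  haveI : IsAffine (W : Scheme.{u}) := hW
  haveI : IsNoetherian (W : Scheme.{u}) := ⟨⟩
  haveI : Flat (W.ι ≫ f) := (Flat.iff_flat_stalkMap _).2 fun w => by
    rw [Scheme.Hom.stalkMap_comp]
    exact RingHom.Flat.comp (f := (f.stalkMap (W.ι w)).hom) (hWfl w.2)
      (RingHom.Flat.of_bijective (ConcreteCategory.bijective_of_isIso (W.ι.stalkMap w)))
  have ho := W.ι.isOpenEmbedding.isOpenMap _ (isOpen_grAt_of_flat (W.ι ≫ f))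
  refine Filter.mem_of_superset (ho.mem_nhds ⟨⟨x, hxW⟩, (openImmersion_iff f W.ι _).2 hgr, rfl⟩) ?_
  rintro _ ⟨w, hw, rfl⟩
  exact ⟨hWfl w.2, (openImmersion_iff f W.ι w).1 hw⟩

end Groth.Agent.H46.GRAtOpen
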