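import Groth.Agent.S1339
import Groth.Agent.Lib.Unram.UnibranchBirational
import Groth.Agent.Lib.Unram.OneBranch
import Groth.Agent.Lib.Unram.Radicial
import Groth.Agent.H34.GeomPts.Count
import Groth.Agent.H54.GeomFibre
import Groth.Agent.H20.UltraProd
import Groth.Agent.Lib.NormalTensor.Basic
import Groth.Agent.Lib.Cyc.Ord
import Groth.Agent.Lib.Henselian.StrictHenselization

/-!
# The geometrically unibranch locus is locally constructible
-/

set_option autoImplicit false

universe u

open CategoryTheory AlgebraicGeometry Limits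
open Groth.Agent.Lib.Unram

namespace Groth.Agent.H46.GeomUniLC

theorem isPurelyInseparable_of_finite {F E : Type u} [Field F] [Field E] [IsSepClosed F]
    (f : F →+* E) (hf : f.Finite) : f.IsPurelyInseparable := by
  algebraize [f]
  show IsPurelyInseparable F E
  infer_instance

theorem radicial_iff_subsingleton {X Y : Scheme.{u}} (f : X ⟶ Y) [LocallyQuasiFinite f] (y : Y) :
    RadPt.IsRadicialAt f y ↔ Subsingleton ↥(MoreMor.geomFiber f y) := by
  let S := SeparableClosure (Y.residueField y)
  let q : MoreMor.geomFiber f y ⟶ Spec (CommRingCat.of S) := pullback.snd _ _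
  have hlqf : LocallyQuasiFinite (f.fiberToSpecResidueField y) :=
    MorphismProperty.pullback_snd _ _ ‹LocallyQuasiFinite f›
  have : LocallyQuasiFinite q := inferInstanceAs (LocallyQuasiFinite (pullback.snd _ _))
  have hc : IsPullback (pullback.fst (f.fiberToSpecResidueField y) _ ≫ f.fiberι y) q f
      (Spec.map (CommRingCat.ofHom (algebraMap (Y.residueField y) S)) ≫ Y.fromSpecResidueField y) :=
    (IsPullback.of_hasPullback (f.fiberToSpecResidueField y) _).paste_horiz
      (IsPullback.of_hasPullback f (Y.fromSpecResidueField y))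
  let s : Spec (CommRingCat.of S) := IsLocalRing.closedPoint S
  have hs : (Spec.map (CommRingCat.ofHom (algebraMap (Y.residueField y) S)) ≫
      Y.fromSpecResidueField y) s = y := Y.fromSpecResidueField_apply y _
  have h := Radicial.isRadicialAt_iff_of_isPullback hc s
  rw [hs] at h
  rw [h]
  constructor
  · exact fun hr => ⟨fun a b => hr.1 a b (Subsingleton.elim (α := PrimeSpectrum S) _ _)
      (Subsingleton.elim (α := PrimeSpectrum S) _ _)⟩
  · refine fun hs => ⟨fun a b _ _ => hs.elim a b, fun x _ => ?_⟩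
    have hfin := Groth.Agent.H54.GeomLift.residueFieldMap_finite q x
    have : IsSepClosed ((Spec (CommRingCat.of S)).residueField (q x)) := by
      let φ : S →+* (Spec (CommRingCat.of S)).residueField (q x) :=
        ((Spec (CommRingCat.of S)).evaluation ⊤ (q x) trivial).hom.comp
          (Scheme.ΓSpecIso (CommRingCat.of S)).inv.hom
      refine Lib.Henselian.StrictHenselization.isSepClosed_of_ringEquiv
        (RingEquiv.ofBijective φ ⟨φ.injective, fun z => ?_⟩)
      obtain ⟨b, c, hc, hz⟩ := Lib.Cyc.Ord.exists_section_fraction ⊤ (isAffineOpen_top _) (q x) trivial z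
      have hφ := (ConcreteCategory.bijective_of_isIso (Scheme.ΓSpecIso (CommRingCat.of S)).inv).2
      obtain ⟨b, rfl⟩ := hφ b
      obtain ⟨c, rfl⟩ := hφ c
      refine ⟨b / c, ?_⟩
      rw [map_div₀, div_eq_iff (show φ c ≠ 0 from hc)]
      exact hz.symm
    exact isPurelyInseparable_of_finite _ hfin

theorem radicial_iff_count {X Y : Scheme.{u}} (f : X ⟶ Y) [LocallyQuasiFinite f]
    [LocallyOfFiniteType f] [Surjective f] (y : Y) :
    RadPt.IsRadicialAt f y ↔ MoreMor.nGeomConnComp f y = 1 := by
  have := Groth.Agent.H54.GeomFibre.discreteTopology_geomFiber f y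
  have hne : Nonempty ↥(MoreMor.geomFiber f y) := by
    have : Surjective (f.fiberToSpecResidueField y) := MorphismProperty.pullback_snd _ _ ‹Surjective f›
    have : Surjective (pullback.snd (f.fiberToSpecResidueField y)
        (Spec.map (CommRingCat.ofHom
          (algebraMap (Y.residueField y) (SeparableClosure (Y.residueField y)))))) :=
      MorphismProperty.pullback_snd _ _ ‹_›
    obtain ⟨a, -⟩ := (pullback.snd (f.fiberToSpecResidueField y)
        (Spec.map (CommRingCat.ofHom
          (algebraMap (Y.residueField y) (SeparableClosure (Y.residueField y)))))).surjective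
      (IsLocalRing.closedPoint (SeparableClosure (Y.residueField y)))
    exact ⟨a⟩
  rw [radicial_iff_subsingleton, MoreMor.nGeomConnComp, ENat.card_eq_one_iff_unique]
  constructor
  · intro h
    exact ⟨@uniqueOfSubsingleton _ inferInstance (hne.map ConnectedComponents.mk).some⟩
  · rintro ⟨hu⟩
    refine ⟨fun a b => ?_⟩
    have h1 := ConnectedComponents.coe_eq_coe.mp
      (Subsingleton.elim (α := ConnectedComponents ↥(MoreMor.geomFiber f y))
        (ConnectedComponents.mk a) (ConnectedComponents.mk b))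
    rwa [connectedComponent_eq_singleton, connectedComponent_eq_singleton,
      Set.singleton_eq_singleton_iff] at h1

section Ring

variable (A : Type u) [CommRing A] [IsNoetherianRing A]

theorem isNormalRing_normRed : EGA4.IsNormalRing (CAlg2.normRed A) := by
  obtain ⟨e, -⟩ := BranchSum.exists_normRed_equiv A (minimalPrimes.finite_of_isNoetherianRing A)
  have : ∀ p : minimalPrimes A, p.1.IsPrime := fun p => p.2.1.1
  have : ∀ p : minimalPrimes A, IsDomain (CAlg2.red (A ⧸ p.1)) := fun p => by
    have : (nilradical (A ⧸ p.1)).IsPrime := by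
      rw [nilradical_eq_zero]; exact Ideal.isPrime_bot
    exact Ideal.Quotient.isDomain _
  have : ∀ p : minimalPrimes A, IsIntegrallyClosed (CAlg2.normRed (A ⧸ p.1)) := fun p =>
    integralClosure.isIntegrallyClosedOfFiniteExtension (FractionRing (CAlg2.red (A ⧸ p.1)))
  refine Lib.NormalTensor.Basic.isNormalRing_congr e.symm fun P hP => ?_
  exact ⟨H20.UltraProd.isDomain _ P, H20.UltraProd.isIntegrallyClosed _ P⟩

theorem comap_nonZeroDivisors {P : Ideal A} (hP : P ∈ minimalPrimes A) {x : A} (hx : x ∈ P) :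
    Ideal.Quotient.mk (nilradical A) x ∉ nonZeroDivisors (CAlg2.red A) := by
  intro h
  obtain ⟨-, b, hb, hb'⟩ := OneBranch.exists_separating A
    (minimalPrimes.finite_of_isNoetherianRing A) hP
  apply hb
  have h0 : Ideal.Quotient.mk (nilradical A) b = 0 := mem_nonZeroDivisors_iff_right.mp h _ (by
    rw [← map_mul, Ideal.Quotient.eq_zero_iff_mem, OneBranch.mem_nilradical_iff_forall]
    intro Q hQ
    by_cases hQp : Q = P
    · subst hQp; exact Ideal.mul_mem_left _ _ hx
    · exact Ideal.mul_mem_right _ _ (hb' Q hQ hQp))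
  exact (OneBranch.mem_nilradical_iff_forall A b).mp (Ideal.Quotient.eq_zero_iff_mem.mp h0) P hP

theorem mem_nonZeroDivisors_of_forall {x : A} (h : ∀ P ∈ minimalPrimes A, x ∉ P) :
    Ideal.Quotient.mk (nilradical A) x ∈ nonZeroDivisors (CAlg2.red A) := by
  rw [mem_nonZeroDivisors_iff_right]
  intro z hz
  obtain ⟨z, rfl⟩ := Ideal.Quotient.mk_surjective z
  rw [← map_mul, Ideal.Quotient.eq_zero_iff_mem, OneBranch.mem_nilradical_iff_forall] at hz
  rw [Ideal.Quotient.eq_zero_iff_mem, OneBranch.mem_nilradical_iff_forall]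
  exact fun Q hQ => (hQ.1.1.mem_or_mem (hz Q hQ)).resolve_right (h Q hQ)

omit [IsNoetherianRing A] in
theorem exists_fraction (t : CAlg2.normRed A) : ∃ a s : A,
    Ideal.Quotient.mk (nilradical A) s ∈ nonZeroDivisors (CAlg2.red A) ∧
      BranchSum.toNorm A s * t = BranchSum.toNorm A a := by
  obtain ⟨⟨a, s, hs⟩, h⟩ := IsLocalization.surj (nonZeroDivisors (CAlg2.red A)) t.1
  obtain ⟨a, rfl⟩ := Ideal.Quotient.mk_surjective a
  obtain ⟨s, rfl⟩ := Ideal.Quotient.mk_surjective s
  refine ⟨a, s, hs, Subtype.ext ?_⟩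
  exact (mul_comm _ _).trans h

omit [IsNoetherianRing A] in
theorem exists_over (P : Ideal A) [P.IsPrime] (halg : (BranchSum.toNorm A).IsIntegral) :
    ∃ q : Ideal (CAlg2.normRed A), q.IsPrime ∧ q.comap (BranchSum.toNorm A) = P := by
  algebraize [BranchSum.toNorm A]
  obtain ⟨q, -, hq, hqP⟩ := Ideal.exists_ideal_over_prime_of_isIntegral P
    (⊥ : Ideal (CAlg2.normRed A)) (fun x hx =>
      nilradical_le_prime P ((UnibranchBirationalAlg.toNorm_eq_zero_iff x).mp hx))
  exact ⟨q, hq, hqP⟩

theorem comap_mem_minimalPrimes {Q : Ideal (CAlg2.normRed A)} (hQ : Q ∈ minimalPrimes _) :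
    Q.comap (BranchSum.toNorm A) ∈ minimalPrimes A := by
  have := hQ.1.1
  set P := Q.comap (BranchSum.toNorm A) with hPdef
  have key : ∀ x ∈ P, ∃ P' ∈ minimalPrimes A, x ∈ P' := by
    intro x hx
    by_contra hne
    push_neg at hne
    have h1 := mem_nonZeroDivisors_of_forall A hne
    refine Set.disjoint_left.mp (Ideal.disjoint_nonZeroDivisors_of_mem_minimalPrimes hQ) hx ?_
    refine mem_nonZeroDivisors_iff_right.mpr fun z hz => Subtype.ext ?_
    have hu : IsUnit (algebraMap (CAlg2.red A) (FractionRing (CAlg2.red A))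
      (Ideal.Quotient.mk (nilradical A) x)) := IsLocalization.map_units _ (⟨_, h1⟩ : nonZeroDivisors _)
    exact hu.mul_left_eq_zero.mp (congrArg Subtype.val hz)
  have hfin := minimalPrimes.finite_of_isNoetherianRing A
  obtain ⟨P', hP', hle⟩ : ∃ P' ∈ hfin.toFinset, P ≤ P' :=
    (Ideal.subset_union_prime ⊥ ⊥ fun i hi _ _ => (hfin.mem_toFinset.mp hi).1.1).mp fun x hx => by
      obtain ⟨P', hP', hxP'⟩ := key x hx
      exact Set.mem_biUnion (hfin.mem_toFinset.mpr hP') hxP'
  rw [hfin.mem_toFinset] at hP'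
  rwa [le_antisymm hle (hP'.2 ⟨inferInstanceAs P.IsPrime, bot_le⟩ hle)]

theorem mem_iff_of_comap {P : Ideal A} (hP : P ∈ minimalPrimes A) {q : Ideal (CAlg2.normRed A)}
    [q.IsPrime] (hqP : q.comap (BranchSum.toNorm A) = P) (t : CAlg2.normRed A) {a s : A}
    (hs : Ideal.Quotient.mk (nilradical A) s ∈ nonZeroDivisors (CAlg2.red A))
    (h : BranchSum.toNorm A s * t = BranchSum.toNorm A a) : t ∈ q ↔ a ∈ P := by
  subst hqP
  have hsP : BranchSum.toNorm A s ∉ q := fun h' => comap_nonZeroDivisors A hP h' hs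
  rw [Ideal.mem_comap, ← h]
  exact ⟨Ideal.mul_mem_left _ _, fun h' => (‹q.IsPrime›.mem_or_mem h').resolve_left hsP⟩

theorem eq_of_comap {P : Ideal A} (hP : P ∈ minimalPrimes A) {q q' : Ideal (CAlg2.normRed A)}
    [q.IsPrime] [q'.IsPrime] (hqP : q.comap (BranchSum.toNorm A) = P)
    (hq'P : q'.comap (BranchSum.toNorm A) = P) : q = q' := by
  ext t
  obtain ⟨a, s, hs, h⟩ := exists_fraction A t
  rw [mem_iff_of_comap A hP hqP t hs h, mem_iff_of_comap A hP hq'P t hs h]

end Ring

section Spec

variable {A : Type u} [CommRing A] [IsNoetherianRing A]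

/-- The normalization of the spectrum. -/
noncomputable abbrev norm (A : Type u) [CommRing A] :
    Spec (CommRingCat.of (CAlg2.normRed A)) ⟶ Spec (CommRingCat.of A) :=
  Spec.map (CommRingCat.ofHom (BranchSum.toNorm A))

theorem minimal_iff (R : Type u) [CommRing R] (x : Spec (CommRingCat.of R)) :
    x ∈ genericPoints (Spec (CommRingCat.of R)) ↔
      (x : PrimeSpectrum R).asIdeal ∈ minimalPrimes R := by
  rw [BirationalBaseChange.mem_genericPoints_iff]
  constructor
  · intro h
    refine ⟨⟨(x : PrimeSpectrum R).2, bot_le⟩, fun q hq hle => ?_⟩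
    have h1 : (⟨q, hq.1⟩ : PrimeSpectrum R) ⤳ x := (PrimeSpectrum.le_iff_specializes _ _).mp hle
    have := h ⟨q, hq.1⟩ h1
    rw [← this]
  · intro h x' hx'
    have hle : (x' : PrimeSpectrum R).asIdeal ≤ (x : PrimeSpectrum R).asIdeal :=
      (PrimeSpectrum.le_iff_specializes _ _).mpr hx'
    exact PrimeSpectrum.ext (le_antisymm hle (h.2 ⟨(x' : PrimeSpectrum R).2, bot_le⟩ hle))

theorem isBirational (hint : (BranchSum.toNorm A).IsIntegral) : RadPt.IsBirational (norm A) := by
  have happ : ∀ x : Spec (CommRingCat.of (CAlg2.normRed A)),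
      ((norm A x : Spec (CommRingCat.of A)) : PrimeSpectrum A).asIdeal =
        (x : PrimeSpectrum (CAlg2.normRed A)).asIdeal.comap (BranchSum.toNorm A) := fun _ => rfl
  refine ⟨⟨fun x hx => ?_, fun x hx x' hx' h => ?_, fun y hy => ?_⟩, fun y hy => ⟨?_, ?_⟩⟩
  · rw [minimal_iff] at hx ⊢
    rw [happ]
    exact comap_mem_minimalPrimes A hx
  · rw [minimal_iff] at hx
    exact PrimeSpectrum.ext (eq_of_comap A (comap_mem_minimalPrimes A hx) (happ x)
      ((happ x').symm.trans (by rw [← h]; exact happ x)))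
  · rw [minimal_iff] at hy
    obtain ⟨q, hq, hqP⟩ := exists_over A (y : PrimeSpectrum A).asIdeal hint
    obtain ⟨q₀, hq₀, hle⟩ := Ideal.exists_minimalPrimes_le (bot_le : (⊥ : Ideal (CAlg2.normRed A)) ≤ q)
    refine ⟨⟨q₀, hq₀.1.1⟩, (minimal_iff _ _).mpr hq₀, PrimeSpectrum.ext ?_⟩
    rw [happ]
    exact le_antisymm ((Ideal.comap_mono hle).trans hqP.le)
      (hy.2 ⟨hq₀.1.1.comap _, bot_le⟩ ((Ideal.comap_mono hle).trans hqP.le))
  · intro x x' hx hx'
    rw [minimal_iff] at hy
    exact PrimeSpectrum.ext (eq_of_comap A hy (by rw [← happ, hx]) (by rw [← happ, hx']))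
  · rintro x rfl
    rw [minimal_iff, happ] at hy
    refine ⟨((norm A).residueFieldMap x).hom.injective, fun z => ?_⟩
    obtain ⟨b, c, hc, hz⟩ := Lib.Cyc.Ord.exists_section_fraction ⊤ (isAffineOpen_top _) x trivial z
    have key : ∀ b : Γ(Spec (CommRingCat.of (CAlg2.normRed A)), ⊤),
        ∃ w, ((norm A).residueFieldMap x).hom w =
          (Spec (CommRingCat.of (CAlg2.normRed A))).evaluation ⊤ x trivial b := by
      intro b
      obtain ⟨t, rfl⟩ := (ConcreteCategory.bijective_of_isIso
        (Scheme.ΓSpecIso (CommRingCat.of (CAlg2.normRed A))).inv).2 b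
      obtain ⟨a, s, hs, h⟩ := exists_fraction A t
      have hsx : BranchSum.toNorm A s ∉ (x : PrimeSpectrum (CAlg2.normRed A)).asIdeal := fun h' =>
        comap_nonZeroDivisors A hy h' hs
      have hn : ∀ r : A, (norm A).app ⊤ ((Scheme.ΓSpecIso (CommRingCat.of A)).inv r) =
          (Scheme.ΓSpecIso (CommRingCat.of (CAlg2.normRed A))).inv (BranchSum.toNorm A r) :=
        fun r => (congr($(Scheme.ΓSpecIso_inv_naturality
          (CommRingCat.ofHom (BranchSum.toNorm A))).hom r)).symm
      have hev : ∀ r : A, (Spec (CommRingCat.of (CAlg2.normRed A))).evaluation ⊤ x trivial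
          ((Scheme.ΓSpecIso (CommRingCat.of (CAlg2.normRed A))).inv (BranchSum.toNorm A r)) =
          ((norm A).residueFieldMap x).hom ((Spec (CommRingCat.of A)).evaluation ⊤ _ trivial
            ((Scheme.ΓSpecIso (CommRingCat.of A)).inv r)) := fun r => by
        rw [← hn]
        exact (Scheme.evaluation_naturality_apply (norm A) (V := ⊤) x trivial _).symm
      have hu : (Spec (CommRingCat.of (CAlg2.normRed A))).evaluation ⊤ x trivial
          ((Scheme.ΓSpecIso (CommRingCat.of (CAlg2.normRed A))).inv (BranchSum.toNorm A s)) ≠ 0 := by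
        rw [Scheme.evaluation_ne_zero_iff_mem_basicOpen, basicOpen_eq_of_affine]
        exact hsx
      refine ⟨(Spec (CommRingCat.of A)).evaluation ⊤ _ trivial
            ((Scheme.ΓSpecIso (CommRingCat.of A)).inv a) /
          (Spec (CommRingCat.of A)).evaluation ⊤ _ trivial
            ((Scheme.ΓSpecIso (CommRingCat.of A)).inv s), ?_⟩
      rw [map_div₀, ← hev, ← hev, div_eq_iff hu, ← h, map_mul, map_mul, mul_comm]
    obtain ⟨w₁, hw₁⟩ := key b
    obtain ⟨w₂, hw₂⟩ := key c
    refine ⟨w₁ / w₂, ?_⟩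
    rw [map_div₀, hw₁, hw₂, div_eq_iff hc]
    exact hz.symm

theorem isGeomUnibranch_stalk (R : Type u) [CommRing R] (x : Spec (CommRingCat.of R)) :
    CAlg2.IsGeomUnibranch ((Spec (CommRingCat.of R)).presheaf.stalk x) ↔
      CAlg2.IsGeomUnibranch (Localization.AtPrime (x : PrimeSpectrum R).asIdeal) :=
  ⟨UnibranchBirationalAlg.isGeomUnibranch_of_ringEquiv
      (AlgebraicGeometry.StructureSheaf.stalkIso R x).symm.toRingEquiv,
    UnibranchBirationalAlg.isGeomUnibranch_of_ringEquiv
      (AlgebraicGeometry.StructureSheaf.stalkIso R x).toRingEquiv⟩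

theorem main (A : Type u) [CommRing A] [IsNoetherianRing A]
    [Module.Finite (CAlg2.red A) (CAlg2.normRed A)] :
    Topology.IsLocallyConstructible
      {p : PrimeSpectrum A | CAlg2.IsGeomUnibranch (Localization.AtPrime p.asIdeal)} := by
  have hfin : (BranchSum.toNorm A).Finite :=
    RingHom.Finite.comp (RingHom.finite_algebraMap.mpr ‹_›)
      (RingHom.Finite.of_surjective _ Ideal.Quotient.mk_surjective)
  have hint := RingHom.IsIntegral.of_finite hfin
  have : IsFinite (norm A) := (IsFinite.SpecMap_iff _).mpr hfin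
  have : LocallyOfFinitePresentation (norm A) :=
    HasRingHomProperty.Spec_iff.mpr
      (RingHom.FinitePresentation.of_finiteType.mp hfin.finiteType)
  have : Surjective (norm A) := ⟨fun y => by
    obtain ⟨q, hq, hqP⟩ := exists_over A (y : PrimeSpectrum A).asIdeal hint
    exact ⟨⟨q, hq⟩, PrimeSpectrum.ext hqP⟩⟩
  suffices key : {p : Spec (CommRingCat.of A) |
      CAlg2.IsGeomUnibranch (Localization.AtPrime (p : PrimeSpectrum A).asIdeal)} =
        {y | MoreMor.nGeomConnComp (norm A) y = 1} by
    have h := S1339.result (norm A) 1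
    rw [← key] at h
    exact h
  refine Set.ext fun p => ?_
  have hN := isNormalRing_normRed A
  have h := (UnibranchBirational.stalk_iff (norm A) (isBirational hint) p).trans
    (and_iff_left fun x _ => by
      rw [isGeomUnibranch_stalk]
      obtain ⟨_, _⟩ := hN (x : PrimeSpectrum (CAlg2.normRed A)).asIdeal
      exact OneBranch.isGeomUnibranch_of_isIntegrallyClosed _)
  rw [isGeomUnibranch_stalk, radicial_iff_count] at h
  exact h

end Spec

end Groth.Agent.H46.GeomUniLC
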