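import Groth.Agent.H46.UnivOpenTrdeg
import Groth.Agent.H46.DimData
import Groth.Agent.H2.FibreDimPullback

/-!
# Dimensions of closures of images in fibres, under generization
-/

universe u

open CategoryTheory AlgebraicGeometry Limits Topology IsLocalRing
open Groth.Agent.H46.FibreTrdeg Groth.Agent.Lib.Cyc Groth.Agent.H46.UnivOpenTrdeg
open Groth.Agent.Lib.Subtrusive.Valuation

namespace Groth.Agent.H46.ImageDim

variable {X Y T : Scheme.{u}}

theorem trd_baseChange_aux (f : X ⟶ Y) [LocallyOfFiniteType f] (g : T ⟶ Y) (z : X) :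
    (∀ a : ↥(pullback f g), pullback.fst f g a = z → trd (pullback.snd f g) a ≤ trd f z) ∧
      ∀ t : T, g t = f z → ∃ a : ↥(pullback f g), pullback.fst f g a = z ∧
        pullback.snd f g a = t ∧ trd (pullback.snd f g) a = trd f z := by
  let W : TopologicalSpace.Closeds X := ⟨closure {z}, isClosed_closure⟩
  let j := (Scheme.IdealSheafData.vanishingIdeal W).subschemeι
  have hr : Set.range j = closure {z} := by
    rw [Scheme.IdealSheafData.range_subschemeι, Scheme.IdealSheafData.coe_support_vanishingIdeal]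
    rfl
  obtain ⟨w₀, hw₀⟩ : z ∈ Set.range j := by rw [hr]; exact subset_closure rfl
  have hmax : ∀ w, w ⤳ w₀ → w = w₀ := fun w hw => by
    refine j.isEmbedding.injective ?_
    rw [hw₀]
    exact ((hw.map j.continuous).trans (specializes_of_eq hw₀)).antisymm
      (specializes_iff_mem_closure.2 (hr.le ⟨w, rfl⟩)) |>.eq
  have hfe : DimData.fe (j ≫ f) w₀ = trd f z := by
    rw [DimData.fe_of_isMaxFib (j ≫ f) fun w _ hw => hmax w hw, trd_comp, hw₀]
  let j' : pullback j (pullback.fst f g) ⟶ pullback f g := pullback.snd j (pullback.fst f g)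
  have sq : IsPullback (pullback.fst j (pullback.fst f g)) (j' ≫ pullback.snd f g) (j ≫ f) g :=
    (IsPullback.of_hasPullback j (pullback.fst f g)).paste_vert (IsPullback.of_hasPullback f g)
  haveI : LocallyOfFiniteType (j' ≫ pullback.snd f g) := inferInstance
  have key : ∀ q, pullback.fst j (pullback.fst f g) q = w₀ →
      DimData.fe (j' ≫ pullback.snd f g) q = trd f z := fun q hq => by
    have := H2.FibreDimPullback.fibreDimAt_of_isPullback sq q
    rw [DimData.fibreDimAt_eq, DimData.fibreDimAt_eq, Nat.cast_inj] at this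
    rw [this, ← hfe, hq]
  refine ⟨fun a ha => ?_, fun t ht => ?_⟩
  · obtain ⟨q, hq₁, hq₂⟩ := Scheme.Pullback.exists_preimage_pullback (f := j)
      (g := pullback.fst f g) w₀ a (hw₀.trans ha.symm)
    have h := DimData.trd_le_fe (j' ≫ pullback.snd f g) (specializes_refl q)
    rw [key q hq₁, trd_comp] at h
    rw [← hq₂]
    exact h
  · obtain ⟨a₀, ha₀, ha₀'⟩ := Scheme.Pullback.exists_preimage_pullback (f := f) (g := g) z t ht.symm
    obtain ⟨q, hq₁, hq₂⟩ := Scheme.Pullback.exists_preimage_pullback (f := j)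
      (g := pullback.fst f g) w₀ a₀ (hw₀.trans ha₀.symm)
    obtain ⟨ζ, hζ, hζq, -, he⟩ := DimData.exists_fe_eq (j' ≫ pullback.snd f g) q
    have hζ₁ : pullback.fst j (pullback.fst f g) ζ = w₀ := hmax _ (by
      rw [← hq₁]; exact hζq.map (pullback.fst j (pullback.fst f g)).continuous)
    refine ⟨j' ζ, ?_, ?_, ?_⟩
    · show (pullback.snd j (pullback.fst f g) ≫ pullback.fst f g) ζ = z
      rw [← pullback.condition, Scheme.Hom.comp_apply, hζ₁, hw₀]
    · rw [← Scheme.Hom.comp_apply, hζ, Scheme.Hom.comp_apply,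
        show j' q = a₀ from hq₂, ha₀']
    · rw [← trd_comp, he, key q hq₁]

/-- A point of the closure of the images in a fibre is dominated by one over any generization. -/
theorem exists_mem_closure_trd_le {X S : Scheme.{u}} (f : X ⟶ S) [LocallyOfFiniteType f]
    [QuasiCompact f] {ι : Type u} (Y : ι → Scheme.{u}) (g : ∀ i, Y i ⟶ S)
    [∀ i, UniversallyOpen (g i)] (v : ∀ i, Y i ⟶ X) (hv : ∀ i, v i ≫ f = g i) (s s' : S)
    (hs : s' ⤳ s) (z : X) (hfz : f z = s)
    (hz : z ∈ closure ((⋃ i, Set.range (v i)) ∩ f ⁻¹' {s})) :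
    ∃ z', f z' = s' ∧ z' ∈ closure ((⋃ i, Set.range (v i)) ∩ f ⁻¹' {s'}) ∧ trd f z ≤ trd f z' := by
  obtain ⟨V, _, _, _, w, hw', hw⟩ := exists_valuationRing_of_specializes hs
  let a := pullback.fst f w
  let f' := pullback.snd f w
  obtain ⟨P, hP, hPc, hPe⟩ := (trd_baseChange_aux f w z).2 (clPt V) (hw.trans hfz.symm)
  let A : Set ↥(pullback f w) := {q | f' q = clPt V ∧ a q ∈ ⋃ i, Set.range (v i)}
  let B : Set ↥(pullback f w) := {q | f' q = genPt V ∧ a q ∈ ⋃ i, Set.range (v i)}
  -- the point lies in the closure of the special points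
  have hPA : P ∈ closure A := by
    let ρ := Spec.map (w.residueFieldMap (clPt V))
    let y := w (clPt V)
    let F := pullback (f.fiberToSpecResidueField y) ρ
    let l : F ⟶ pullback f w := pullback.lift (pullback.fst _ _ ≫ f.fiberι y)
      (pullback.snd _ _ ≫ (Spec (CommRingCat.of V)).fromSpecResidueField (clPt V)) (by
        have c₁ : f.fiberι y ≫ f = f.fiberToSpecResidueField y ≫ S.fromSpecResidueField y :=
          pullback.condition
        rw [Category.assoc, Category.assoc, c₁,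
          ← w.SpecMap_residueFieldMap_fromSpecResidueField, pullback.condition_assoc])
    have sq : IsPullback l (pullback.snd (f.fiberToSpecResidueField y) ρ) f'
        ((Spec (CommRingCat.of V)).fromSpecResidueField (clPt V)) := by
      refine IsPullback.of_right ?_ (pullback.lift_snd _ _ _) (IsPullback.of_hasPullback f w)
      have h₁ : IsPullback (f.fiberι y) (f.fiberToSpecResidueField y) f (S.fromSpecResidueField y) :=
        IsPullback.of_hasPullback f _
      rw [pullback.lift_fst, ← w.SpecMap_residueFieldMap_fromSpecResidueField]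
      exact (IsPullback.of_hasPullback _ _).paste_horiz h₁
    have hla : ∀ c, a (l c) = f.fiberι y (pullback.fst (f.fiberToSpecResidueField y) ρ c) :=
      fun c => by
        show (l ≫ pullback.fst f w) c = (pullback.fst _ _ ≫ f.fiberι y) c
        rw [pullback.lift_fst]
    have hlf : ∀ c, f' (l c) = clPt V := fun c => by
      rw [← Scheme.Hom.comp_apply, sq.w, Scheme.Hom.comp_apply]
      exact (Scheme.range_fromSpecResidueField (clPt V)).le ⟨_, rfl⟩
    obtain ⟨k, hk⟩ : clPt V ∈ Set.range ((Spec (CommRingCat.of V)).fromSpecResidueField (clPt V)) := by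
      rw [Scheme.range_fromSpecResidueField]; rfl
    obtain ⟨q, hq₁, -⟩ := Scheme.Pullback.exists_preimage_pullback (f := f')
      (g := (Spec (CommRingCat.of V)).fromSpecResidueField (clPt V)) P k (hPc.trans hk.symm)
    let c₀ := sq.isoPullback.inv q
    have hc₀ : l c₀ = P := by rw [← Scheme.Hom.comp_apply, sq.isoPullback_inv_fst]; exact hq₁
    have hopen : IsOpenMap (pullback.fst (f.fiberToSpecResidueField y) ρ) :=
      (pullback.fst (f.fiberToSpecResidueField y) ρ).isOpenMap
    have h1 : c₀ ∈ pullback.fst (f.fiberToSpecResidueField y) ρ ⁻¹'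
        closure (f.fiberι y ⁻¹' ((⋃ i, Set.range (v i)) ∩ f ⁻¹' {s})) := by
      show _ ∈ closure _
      rw [(f.fiberι y).isEmbedding.isInducing.closure_eq_preimage_closure_image, Set.mem_preimage,
        ← hla, hc₀, hP, Set.image_preimage_eq_inter_range, Scheme.Hom.range_fiberι]
      rw [show y = s from hw, Set.inter_assoc, Set.inter_self]
      exact hz
    have h2 := hopen.preimage_closure_subset_closure_preimage h1
    rw [← hc₀]
    refine closure_mono ?_ (image_closure_subset_closure_image l.continuous ⟨c₀, h2, rfl⟩)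
    rintro _ ⟨c, hc, rfl⟩
    exact ⟨hlf c, by rw [hla]; exact hc.1⟩
  -- special points are limits of generic ones
  have hAB : A ⊆ closure B := by
    rintro q ⟨hq, hqv⟩
    obtain ⟨i, yi, hy⟩ := Set.mem_iUnion.1 hqv
    obtain ⟨r, -, hr⟩ := Scheme.Pullback.exists_preimage_pullback (f := v i) (g := a) yi q hy
    let m : pullback (v i) a ⟶ pullback f w := pullback.snd (v i) a
    have sq : IsPullback (pullback.fst (v i) a) (m ≫ f') (g i) w := by
      rw [← hv i]
      exact (IsPullback.of_hasPullback (v i) a).paste_vert (IsPullback.of_hasPullback f w)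
    haveI : UniversallyOpen (m ≫ f') :=
      MorphismProperty.of_isPullback (P := @UniversallyOpen) sq inferInstance
    refine mem_closure_iff.2 fun O hO hqO => ?_
    have himg : IsOpen ((m ≫ f') '' (m ⁻¹' O)) :=
      (m ≫ f').isOpenMap _ (hO.preimage m.continuous)
    obtain ⟨r', hr', hr'g⟩ := (genPt_specializes (clPt V)).mem_open himg
      ⟨r, by rw [Set.mem_preimage, show m r = q from hr]; exact hqO, by
        rw [Scheme.Hom.comp_apply, show m r = q from hr, hq]⟩
    refine ⟨m r', hr', by rw [← Scheme.Hom.comp_apply]; exact hr'g, Set.mem_iUnion.2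
      ⟨i, pullback.fst (v i) a r', ?_⟩⟩
    rw [← Scheme.Hom.comp_apply, pullback.condition, Scheme.Hom.comp_apply]
  have hPB : P ∈ closure B := closure_minimal hAB isClosed_closure hPA
  -- a component of the closure in the generic fibre
  haveI := QFin.isLocallyNoetherian_fiber f' (genPt V)
  haveI : CompactSpace ↥(f'.fiber (genPt V)) := inferInstance
  haveI : IsNoetherian (f'.fiber (genPt V)) := ⟨⟩
  let C : Set ↥(f'.fiber (genPt V)) := f'.fiberι (genPt V) ⁻¹' closure B
  have hC : IsClosed C := isClosed_closure.preimage (f'.fiberι (genPt V)).continuous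
  have hfin := DimFun.finite_maxPts hC
  obtain ⟨ξ, hξB, hξP⟩ : ∃ ξ, f' ξ = genPt V ∧ ξ ∈ closure B ∧ ξ ⤳ P := by
    let M := f'.fiberι (genPt V) '' {x ∈ C | ∀ y ∈ C, y ⤳ x → y = x}
    have hBM : B ⊆ ⋃ m ∈ M, closure {m} := by
      rintro b hb
      obtain ⟨b', hb'⟩ := FieldDim.exists_fiberι_eq f' b (genPt V) hb.1
      let j := (Scheme.IdealSheafData.vanishingIdeal
        (⟨C, hC⟩ : TopologicalSpace.Closeds ↥(f'.fiber (genPt V)))).subschemeι
      have hj : Set.range j = C := by
        rw [Scheme.IdealSheafData.range_subschemeι, Scheme.IdealSheafData.coe_support_vanishingIdeal]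
        rfl
      obtain ⟨b₁, hb₁⟩ : b' ∈ Set.range j := by
        rw [hj]; show f'.fiberι _ b' ∈ closure B; rw [hb']; exact subset_closure hb
      obtain ⟨m₁, hm₁, hmax⟩ := DimFun.exists_isMaxPt_specializes b₁
      obtain ⟨m, hm, hmm, hs'⟩ : ∃ m ∈ C, (∀ y ∈ C, y ⤳ m → y = m) ∧ m ⤳ b' := by
        refine ⟨j m₁, hj.le ⟨m₁, rfl⟩, fun y hy hys => ?_, hb₁ ▸ hm₁.map j.continuous⟩
        obtain ⟨y₁, rfl⟩ := hj.ge hy
        rw [hmax y₁ (j.isEmbedding.isInducing.specializes_iff.1 hys)]
      exact Set.mem_biUnion ⟨m, ⟨hm, hmm⟩, rfl⟩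
        (hb' ▸ (hs'.map (f'.fiberι (genPt V)).continuous).mem_closure)
    have hcl : IsClosed (⋃ m ∈ M, closure ({m} : Set ↥(pullback f w))) :=
      (hfin.image _).isClosed_biUnion fun _ _ => isClosed_closure
    obtain ⟨m, ⟨m', hm', rfl⟩, hPm⟩ := Set.mem_iUnion₂.1 (closure_minimal hBM hcl hPB)
    exact ⟨_, FieldDim.apply_fiberι f' _ m', hm'.1, specializes_iff_mem_closure.2 hPm⟩
  let i := (Scheme.IdealSheafData.vanishingIdeal
    (⟨closure {ξ}, isClosed_closure⟩ : TopologicalSpace.Closeds ↥(pullback f w))).subschemeι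
  have hr : Set.range i = closure {ξ} := by
    rw [Scheme.IdealSheafData.range_subschemeι, Scheme.IdealSheafData.coe_support_vanishingIdeal]
    rfl
  obtain ⟨P₁, hP₁⟩ : P ∈ Set.range i := by rw [hr]; exact hξP.2.mem_closure
  obtain ⟨ξ₁, hξ₁⟩ : ξ ∈ Set.range i := by rw [hr]; exact subset_closure rfl
  obtain ⟨b, -, hbg, hbe⟩ := trd_le_over_valuationRing V (i ≫ f') P₁ ξ₁
    (i.isEmbedding.isInducing.specializes_iff.1 (by rw [hP₁, hξ₁]; exact hξP.2))
    (by rw [Scheme.Hom.comp_apply, hP₁]; exact hPc)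
    (by rw [Scheme.Hom.comp_apply, hξ₁]; exact hξB)
  rw [trd_comp, trd_comp, hP₁] at hbe
  have hbB : i b ∈ closure B :=
    closure_minimal (Set.singleton_subset_iff.2 hξP.1) isClosed_closure (hr.le ⟨b, rfl⟩)
  refine ⟨a (i b), ?_, ?_, ?_⟩
  · rw [← hw', ← show (i ≫ f') b = genPt V from hbg, Scheme.Hom.comp_apply]
    show (pullback.fst f w ≫ f) (i b) = (pullback.snd f w ≫ w) (i b)
    rw [pullback.condition]
  · refine closure_mono ?_ (image_closure_subset_closure_image a.continuous ⟨_, hbB, rfl⟩)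
    rintro _ ⟨c, hc, rfl⟩
    refine ⟨hc.2, ?_⟩
    show (pullback.fst f w ≫ f) c = s'
    rw [pullback.condition, Scheme.Hom.comp_apply, show pullback.snd f w c = genPt V from hc.1, hw']
  · rw [← hPe]
    exact hbe.trans ((trd_baseChange_aux f w (a (i b))).1 (i b) rfl)

theorem dim_le {X S : Scheme.{u}} (f : X ⟶ S) [LocallyOfFiniteType f]
    [QuasiCompact f] {ι : Type u} (Y : ι → Scheme.{u}) (g : ∀ i, Y i ⟶ S)
    [∀ i, UniversallyOpen (g i)] (v : ∀ i, Y i ⟶ X) (hv : ∀ i, v i ≫ f = g i) (s s' : S)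
    (hs : s' ⤳ s) :
    topologicalKrullDim ↥(f ⁻¹' {s} ∩ closure ((⋃ i, Set.range (v i)) ∩ f ⁻¹' {s})) ≤
      topologicalKrullDim ↥(f ⁻¹' {s'} ∩ closure ((⋃ i, Set.range (v i)) ∩ f ⁻¹' {s'})) := by
  have key := fun z hz hz' => exists_mem_closure_trd_le f Y g v hv s s' hs z hz hz'
  rcases isEmpty_or_nonempty ↥(f ⁻¹' {s} ∩ closure ((⋃ i, Set.range (v i)) ∩ f ⁻¹' {s})) with he | ⟨⟨z, hz, hz'⟩⟩
  · haveI : IsEmpty (TopologicalSpace.IrreducibleCloseds
        ↥(f ⁻¹' {s} ∩ closure ((⋃ i, Set.range (v i)) ∩ f ⁻¹' {s}))) :=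
      ⟨fun Z => he.elim Z.2.nonempty.some⟩
    rw [topologicalKrullDim, Order.krullDim_eq_bot]
    exact bot_le
  obtain ⟨z₁, hz₁, hz₁', -⟩ := key z hz hz'
  haveI : Nonempty ↥(f ⁻¹' {s'} ∩ closure ((⋃ i, Set.range (v i)) ∩ f ⁻¹' {s'})) :=
    ⟨⟨z₁, hz₁, hz₁'⟩⟩
  have hne := FibreTrdeg.topologicalKrullDim_ne_bot
    (α := ↥(f ⁻¹' {s'} ∩ closure ((⋃ i, Set.range (v i)) ∩ f ⁻¹' {s'})))
  generalize hd : topologicalKrullDim
    ↥(f ⁻¹' {s'} ∩ closure ((⋃ i, Set.range (v i)) ∩ f ⁻¹' {s'})) = d at hne ⊢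
  cases d with
  | bot => exact absurd rfl hne
  | coe d =>
    induction d using ENat.recTopCoe with
    | top => exact le_top
    | coe n =>
      rw [Set.inter_comm (f ⁻¹' {s})]
      refine (dim_closed_inter_le_iff f isClosed_closure s n).2 fun x hx hfx => ?_
      obtain ⟨x', hx', hx'c, hle⟩ := key x hfx hx
      rw [Set.inter_comm (f ⁻¹' {s'})] at hd
      exact hle.trans ((dim_closed_inter_le_iff f isClosed_closure s' n).1 hd.le x' hx'c hx')

end Groth.Agent.H46.ImageDim
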