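import Groth.Prelude.Def_EGA4b
import Groth.Agent.Lib.Henselian.NbhdFinite
import Groth.Agent.Lib.DescAlg.SmoothNormal
import Groth.Agent.Lib.Smoothing.LiftSmooth
import Mathlib.RingTheory.Kaehler.TensorProduct

/-!
# Lifting a finite étale algebra over a smooth algebra, after an étale neighbourhood
-/

set_option autoImplicit false
set_option linter.style.haveILetI false

universe u

open TensorProduct

namespace Groth.Agent.H46.LiftNbhd

open Groth.Agent.Lib

/-- Smooth algebras lift along a surjection. -/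
theorem exists_lift {R A₀ B₀ : Type u} [CommRing R] [CommRing A₀] [CommRing B₀] [Algebra A₀ B₀]
    [Algebra.Smooth A₀ B₀] (f : R →+* A₀) (hf : Function.Surjective f) :
    ∃ (A : Type u) (_ : CommRing A) (_ : Algebra R A) (_ : Algebra.Smooth R A) (g : A →+* B₀),
      Function.Surjective g ∧ RingHom.ker g = (RingHom.ker f).map (algebraMap R A) ∧
        g.comp (algebraMap R A) = (algebraMap A₀ B₀).comp f := by
  let q : R ⧸ RingHom.ker f ≃+* A₀ := RingHom.quotientKerEquivOfSurjective hf
  letI : Algebra (R ⧸ RingHom.ker f) A₀ := q.toRingHom.toAlgebra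
  letI : Algebra (R ⧸ RingHom.ker f) B₀ := ((algebraMap A₀ B₀).comp q.toRingHom).toAlgebra
  haveI : IsScalarTower (R ⧸ RingHom.ker f) A₀ B₀ := IsScalarTower.of_algebraMap_eq' rfl
  haveI : Algebra.Smooth (R ⧸ RingHom.ker f) A₀ :=
    Algebra.Smooth.of_equiv (AlgEquiv.ofBijective (Algebra.ofId (R ⧸ RingHom.ker f) A₀) q.bijective)
  haveI : Algebra.Smooth (R ⧸ RingHom.ker f) B₀ := Algebra.Smooth.comp (R ⧸ RingHom.ker f) A₀ B₀
  obtain ⟨A, _, _, hA, ⟨ψ⟩⟩ := Smoothing.LiftSmooth.exists_lift (A₀ := B₀) (RingHom.ker f)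
  refine ⟨A, inferInstance, inferInstance, hA,
    (ψ : (A ⧸ (RingHom.ker f).map (algebraMap R A)) →+* B₀).comp (Ideal.Quotient.mk _),
    fun b => ?_, ?_, ?_⟩
  · obtain ⟨x, rfl⟩ := ψ.surjective b
    obtain ⟨a, rfl⟩ := Ideal.Quotient.mk_surjective x
    exact ⟨a, rfl⟩
  · ext x
    rw [RingHom.mem_ker, RingHom.comp_apply]
    exact (map_eq_zero_iff _ ψ.injective).trans Ideal.Quotient.eq_zero_iff_mem
  · refine RingHom.ext fun r => ?_
    exact (ψ.commutes (Ideal.Quotient.mk (RingHom.ker f) r))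

/-- A map with kernel `J` extends to a neighbourhood of `V(J)`. -/
theorem exists_extend {R S T : Type u} [CommRing R] [CommRing S] [CommRing T] [Algebra R S] (J : Ideal R)
    (f : R →+* T) (hf : Function.Surjective f) (hk : RingHom.ker f = J)
    (hb : Function.Bijective (Ideal.quotientMap (J.map (algebraMap R S)) (algebraMap R S) Ideal.le_comap_map)) :
    ∃ g : S →+* T, Function.Surjective g ∧ RingHom.ker g = J.map (algebraMap R S) ∧
      g.comp (algebraMap R S) = f := by
  let q := RingEquiv.ofBijective _ hb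
  have h0 : ∀ x ∈ J, f x = 0 := fun x hx => by rwa [← hk] at hx
  let φ : R ⧸ J →+* T := Ideal.Quotient.lift J f h0
  have hφ : Function.Injective φ := (injective_iff_map_eq_zero φ).2 fun x hx => by
    obtain ⟨r, rfl⟩ := Ideal.Quotient.mk_surjective x
    rw [Ideal.Quotient.eq_zero_iff_mem, ← hk]
    exact hx
  refine ⟨φ.comp (q.symm.toRingHom.comp (Ideal.Quotient.mk _)), ?_, ?_, ?_⟩
  · exact (Ideal.Quotient.lift_surjective_of_surjective J h0 hf).comp
      (q.symm.surjective.comp Ideal.Quotient.mk_surjective)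
  · ext x
    rw [RingHom.mem_ker, RingHom.comp_apply, map_eq_zero_iff φ hφ]
    exact (map_eq_zero_iff q.symm q.symm.injective).trans Ideal.Quotient.eq_zero_iff_mem
  · refine RingHom.ext fun r => ?_
    show φ (q.symm (Ideal.Quotient.mk _ (algebraMap R S r))) = f r
    rw [show Ideal.Quotient.mk (J.map (algebraMap R S)) (algebraMap R S r) = q (Ideal.Quotient.mk J r) from rfl,
      q.symm_apply_apply]
    rfl

/-- A surjection with kernel generated by the kernel of a quotient of the base is a base change. -/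
theorem exists_equiv {R K C T : Type u} [CommRing R] [CommRing K] [CommRing C] [CommRing T] [Algebra R K]
    [Algebra R C] [Algebra K T] [Algebra R T] [IsScalarTower R K T]
    (hK : Function.Surjective (algebraMap R K)) (g : C →+* T)
    (hg : g.comp (algebraMap R C) = algebraMap R T) (hgs : Function.Surjective g)
    (hgk : RingHom.ker g = (RingHom.ker (algebraMap R K)).map (algebraMap R C)) :
    ∃ e : K ⊗[R] C ≃ₐ[K] T, ∀ (c : K) (x : C), e (c ⊗ₜ x) = algebraMap K T c * g x := by
  let gₐ : C →ₐ[R] T := { g with commutes' := RingHom.congr_fun hg }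
  let L : K ⊗[R] C →ₐ[K] T := Algebra.TensorProduct.lift (Algebra.ofId K T) gₐ fun _ _ => Commute.all _ _
  have hL : ∀ (c : K) (x : C), L (c ⊗ₜ x) = algebraMap K T c * g x := fun c x => by
    simp [L, Algebra.TensorProduct.lift_tmul, Algebra.ofId_apply]
    rfl
  have hone : ∀ z : K ⊗[R] C, ∃ x : C, z = 1 ⊗ₜ x := by
    intro z
    induction z using TensorProduct.induction_on with
    | zero => exact ⟨0, (TensorProduct.tmul_zero _ _).symm⟩
    | tmul c x =>
      obtain ⟨r, rfl⟩ := hK c
      exact ⟨r • x, by rw [Algebra.algebraMap_eq_smul_one, TensorProduct.smul_tmul]⟩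
    | add a b ha hb =>
      obtain ⟨x, rfl⟩ := ha
      obtain ⟨y, rfl⟩ := hb
      exact ⟨x + y, (TensorProduct.tmul_add _ _ _).symm⟩
  have hker : (RingHom.ker (algebraMap R K)).map (algebraMap R C) ≤
      RingHom.ker (Algebra.TensorProduct.includeRight : C →ₐ[R] K ⊗[R] C).toRingHom := by
    refine Ideal.map_le_iff_le_comap.2 fun r hr => ?_
    show (Algebra.TensorProduct.includeRight : C →ₐ[R] K ⊗[R] C) (algebraMap R C r) = 0
    rw [AlgHom.commutes, IsScalarTower.algebraMap_apply R K (K ⊗[R] C), RingHom.mem_ker.1 hr, map_zero]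
  refine ⟨AlgEquiv.ofBijective L ⟨(injective_iff_map_eq_zero L).2 fun z hz => ?_, fun t => ?_⟩, hL⟩
  · obtain ⟨x, rfl⟩ := hone z
    rw [hL, map_one, one_mul] at hz
    exact hker (hgk ▸ (RingHom.mem_ker.2 hz))
  · obtain ⟨x, rfl⟩ := hgs t
    exact ⟨1 ⊗ₜ x, by rw [hL, map_one, one_mul]⟩

/-- A finite algebra unramified on `V(I)` has differentials killed by an element `≡ 1` mod `I`. -/
theorem exists_kill {A C A₀ B₀ : Type u} [CommRing A] [CommRing C] [CommRing A₀] [CommRing B₀] [Algebra A C]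
    [Module.Finite A C] [Algebra A₀ B₀] [Algebra.Etale A₀ B₀]
    (f : A →+* A₀) (hf : Function.Surjective f) (g : C →+* B₀) (hg : Function.Surjective g)
    (hgk : RingHom.ker g = (RingHom.ker f).map (algebraMap A C))
    (hgf : g.comp (algebraMap A C) = (algebraMap A₀ B₀).comp f) :
    ∃ a : A, a - 1 ∈ RingHom.ker f ∧ ∀ w : Ω[C⁄A], a • w = 0 := by
  let K := A ⧸ RingHom.ker f
  let q : K ≃+* A₀ := RingHom.quotientKerEquivOfSurjective hf
  letI : Algebra K A₀ := q.toRingHom.toAlgebra
  letI : Algebra K B₀ := ((algebraMap A₀ B₀).comp q.toRingHom).toAlgebra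
  haveI : IsScalarTower K A₀ B₀ := IsScalarTower.of_algebraMap_eq' rfl
  haveI : Algebra.Etale K A₀ := Algebra.Etale.of_equiv (AlgEquiv.ofBijective (Algebra.ofId K A₀) q.bijective)
  haveI : Algebra.Etale K B₀ := Algebra.Etale.comp K A₀ B₀
  letI : Algebra A B₀ := ((algebraMap K B₀).comp (algebraMap A K)).toAlgebra
  haveI : IsScalarTower A K B₀ := IsScalarTower.of_algebraMap_eq' rfl
  obtain ⟨e, -⟩ := exists_equiv (R := A) (K := K) (C := C) (T := B₀) Ideal.Quotient.mk_surjective g
    hgf hg (by rw [hgk]; congr 1; exact Ideal.mk_ker.symm)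
  haveI : Algebra.FormallyUnramified K B₀ := inferInstance
  haveI : Algebra.FormallyUnramified K (K ⊗[A] C) := Algebra.FormallyUnramified.of_equiv e.symm
  letI : Algebra C (K ⊗[A] C) := Algebra.TensorProduct.rightAlgebra
  haveI : IsScalarTower A C (K ⊗[A] C) := inferInstance
  haveI : Subsingleton (K ⊗[A] Ω[C⁄A]) :=
    (KaehlerDifferential.tensorKaehlerEquivBase A K C (K ⊗[A] C)).injective.subsingleton
  haveI : Module.Finite A Ω[C⁄A] :=
    haveI : Algebra.FiniteType A C := inferInstance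
    Module.Finite.trans C _
  obtain ⟨a, ha, ha'⟩ := Submodule.exists_sub_one_mem_and_smul_eq_zero_of_fg_of_le_smul
    (RingHom.ker f) (⊤ : Submodule A Ω[C⁄A]) Module.Finite.fg_top (fun w _ => by
      haveI : Subsingleton (Ω[C⁄A] ⧸ (RingHom.ker f • ⊤ : Submodule A Ω[C⁄A])) :=
        (TensorProduct.quotTensorEquivQuotSMul Ω[C⁄A] (RingHom.ker f)).symm.injective.subsingleton
      exact (Submodule.Quotient.mk_eq_zero _).1 (Subsingleton.elim _ _))
  exact ⟨a, ha, fun w => ha' w trivial⟩

/-- A finite smooth algebra whose differentials are killed by an element of `T` is étale after inverting `T`. -/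
theorem etale_localization {A C : Type u} [CommRing A] [CommRing C] [Algebra A C] [Algebra.Smooth A C]
    (T : Submonoid A) (a : A) (ha : a ∈ T) (hkill : ∀ w : Ω[C⁄A], a • w = 0) :
    Algebra.Etale (Localization T) (Localization (Algebra.algebraMapSubmonoid C T)) := by
  let AT := Localization T
  let CT := Localization (Algebra.algebraMapSubmonoid C T)
  haveI hp : Algebra.IsPushout A AT C CT := (Algebra.isPushout_of_isLocalization T AT C CT).symm
  haveI : Algebra.Smooth AT CT := Algebra.Smooth.of_equiv (Algebra.IsPushout.equiv A AT C CT)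
  refine Algebra.Etale.iff_formallyUnramified_and_smooth.2 ⟨⟨?_⟩, inferInstance⟩
  let m : Ω[C⁄A] →ₗ[A] Ω[CT⁄AT] := (KaehlerDifferential.map A AT C CT).restrictScalars A
  haveI : IsLocalizedModule T m := KaehlerDifferential.isLocalizedModule A AT C CT T
  refine subsingleton_of_forall_eq 0 fun x => ?_
  obtain ⟨⟨w, s⟩, rfl⟩ := IsLocalizedModule.mk'_surjective T m x
  refine (IsLocalizedModule.mk'_cancel_left (f := m) w ⟨a, ha⟩ s).symm.trans ?_
  show IsLocalizedModule.mk' m (a • w) _ = 0
  rw [hkill, IsLocalizedModule.mk'_zero]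

theorem isNormalRing_of_domain (V : Type u) [CommRing V] [IsDomain V] [IsIntegrallyClosed V] :
    EGA4.IsNormalRing V := fun p _ =>
  ⟨IsLocalization.isDomain_localization p.primeCompl_le_nonZeroDivisors,
    isIntegrallyClosed_of_isLocalization (Localization.AtPrime p) p.primeCompl p.primeCompl_le_nonZeroDivisors⟩

/-- The lifts. -/
theorem exists_lifts {V K A₀ B₀ : Type u} [CommRing V] [CommRing K] [CommRing A₀] [CommRing B₀]
    [Algebra V K] [Algebra K A₀] [Algebra.Smooth K A₀] [Algebra A₀ B₀] [Module.Finite A₀ B₀]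
    [Algebra.Etale A₀ B₀] (hK : Function.Surjective (algebraMap V K)) (hV : EGA4.IsNormalRing V) :
    ∃ (A : Type u) (_ : CommRing A) (_ : Algebra V A) (_ : Algebra.Smooth V A) (f : A →+* A₀)
      (B : Type u) (_ : CommRing B) (_ : Algebra A B) (g : B →+* B₀),
      Function.Surjective f ∧ RingHom.ker f = (RingHom.ker (algebraMap V K)).map (algebraMap V A) ∧
      f.comp (algebraMap V A) = (algebraMap K A₀).comp (algebraMap V K) ∧
      Function.Surjective g ∧ RingHom.ker g = (RingHom.ker f).map (algebraMap A B) ∧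
      g.comp (algebraMap A B) = (algebraMap A₀ B₀).comp f ∧
      Module.Finite A B ∧ Algebra.Smooth A B ∧ EGA4.IsNormalRing B := by
  obtain ⟨A₁, _, _, hA₁, f₁, hf₁, hf₁k, hf₁c⟩ := exists_lift (B₀ := A₀) (algebraMap V K) hK
  obtain ⟨B₁, _, _, hB₁, g₁, hg₁, hg₁k, hg₁c⟩ := exists_lift (B₀ := B₀) f₁ hf₁
  let I := RingHom.ker f₁
  haveI : Module.Finite A₁ (B₁ ⧸ I.map (algebraMap A₁ B₁)) := by
    letI : Algebra A₁ A₀ := f₁.toAlgebra
    letI : Algebra A₁ B₀ := ((algebraMap A₀ B₀).comp f₁).toAlgebra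
    haveI : IsScalarTower A₁ A₀ B₀ := IsScalarTower.of_algebraMap_eq' rfl
    haveI : Module.Finite A₁ A₀ := Module.Finite.of_surjective (Algebra.linearMap A₁ A₀) hf₁
    haveI : Module.Finite A₁ B₀ := Module.Finite.trans A₀ B₀
    let g₁ₐ : B₁ →ₐ[A₁] B₀ := { g₁ with commutes' := RingHom.congr_fun hg₁c }
    exact Module.Finite.equiv ((Ideal.quotientEquivAlgOfEq A₁ hg₁k.symm).trans
      (Ideal.quotientKerAlgEquivOfSurjective (f := g₁ₐ) hg₁)).toLinearEquiv.symm
  obtain ⟨A, _, _, hAe, C, _, _, _, _, hVC, hBC, hnA, hCe, hfin, hnC⟩ :=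
    Henselian.NbhdFinite.exists_finite_nbhd (I := I) B₁
  obtain ⟨f, hf, hfk, hfc⟩ := exists_extend I f₁ hf₁ rfl hnA
  obtain ⟨g, hg, hgk, hgc⟩ := exists_extend (I.map (algebraMap A₁ B₁)) g₁ hg₁ hg₁k hnC
  letI : Algebra V A := ((algebraMap A₁ A).comp (algebraMap V A₁)).toAlgebra
  haveI : IsScalarTower V A₁ A := IsScalarTower.of_algebraMap_eq' rfl
  haveI : Algebra.Smooth V A := Algebra.Smooth.comp V A₁ A
  letI : Algebra V C := ((algebraMap A₁ C).comp (algebraMap V A₁)).toAlgebra
  haveI : IsScalarTower V A₁ C := IsScalarTower.of_algebraMap_eq' rfl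
  haveI : Algebra.Smooth A₁ C := Algebra.Smooth.comp A₁ B₁ C
  haveI : Algebra.Smooth V C := Algebra.Smooth.comp V A₁ C
  haveI : Algebra.Smooth A C :=
    { formallySmooth := Algebra.FormallySmooth.of_restrictScalars A₁ A C
      finitePresentation := Algebra.FinitePresentation.of_restrict_scalars_finitePresentation A₁ A C }
  have hker : RingHom.ker g = (RingHom.ker f).map (algebraMap A C) := by
    rw [hgk, hfk, Ideal.map_map, Ideal.map_map, ← IsScalarTower.algebraMap_eq, ← IsScalarTower.algebraMap_eq]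
  refine ⟨A, inferInstance, inferInstance, inferInstance, f, C, inferInstance, inferInstance, g, hf, ?_, ?_, hg,
    hker, ?_, hfin, inferInstance, DescAlg.SmoothNormal.isNormalRing_of_smooth hV⟩
  · rw [hfk]
    show Ideal.map (algebraMap A₁ A) (RingHom.ker f₁) = _
    rw [hf₁k, Ideal.map_map]
    rfl
  · show f.comp ((algebraMap A₁ A).comp (algebraMap V A₁)) = _
    rw [← RingHom.comp_assoc, hfc, hf₁c]
  · refine RingHom.ext fun x => ?_
    obtain ⟨y, hy⟩ := hf₁ (f x)
    have hmem : x - algebraMap A₁ A y ∈ RingHom.ker f := by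
      rw [RingHom.sub_mem_ker_iff, ← RingHom.comp_apply f, hfc, hy]
    have hmem' := hker.ge (Ideal.mem_map_of_mem (algebraMap A C) hmem)
    rw [map_sub, RingHom.sub_mem_ker_iff, ← IsScalarTower.algebraMap_apply,
      IsScalarTower.algebraMap_apply A₁ B₁ C, ← RingHom.comp_apply g (algebraMap B₁ C), hgc,
      ← RingHom.comp_apply g₁, hg₁c, RingHom.comp_apply, hy] at hmem'
    exact hmem'

end Groth.Agent.H46.LiftNbhd
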