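import Groth.Agent.H46.DomainStalk

/-!
# Closed subschemes universally open at a reduced maximal point of a fibre
-/

universe u

open CategoryTheory AlgebraicGeometry Limits IsLocalRing
open Groth.Agent.H46.FibreTrdeg Groth.Agent.Lib.Cyc Groth.Agent.H52.FBase

namespace Groth.Agent.H46.MaxFibClosed

set_option linter.style.haveILetI false

variable {X Y W : Scheme.{u}}

theorem maximalIdeal_le_nilradical {z : X} (hz : DimFun.IsMaxPt z) :
    maximalIdeal (X.presheaf.stalk z) ≤ nilradical (X.presheaf.stalk z) := by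
  rw [nilradical_eq_sInf]
  refine le_sInf fun (q : Ideal (X.presheaf.stalk z)) hq => ?_
  let qq : ↥(Spec (X.presheaf.stalk z)) := (⟨q, hq⟩ : PrimeSpectrum (X.presheaf.stalk z))
  have hs : X.fromSpecStalk z qq ⤳ z := by
    have : X.fromSpecStalk z qq ∈ Set.range (X.fromSpecStalk z) := ⟨qq, rfl⟩
    rwa [Scheme.range_fromSpecStalk] at this
  have h1 : qq = closedPoint (X.presheaf.stalk z) := (X.fromSpecStalk z).isEmbedding.injective
    ((hz _ hs).trans Scheme.fromSpecStalk_closedPoint.symm)
  exact (congrArg PrimeSpectrum.asIdeal h1).ge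

theorem isGeomReducedAt_comp {k : Type u} [Field k] {F G : Scheme.{u}} (j : G ⟶ F)
    [IsClosedImmersion j] (g : F ⟶ Spec (CommRingCat.of k)) (b : G) (hmax : DimFun.IsMaxPt (j b))
    (h : _root_.FBase.IsGeomReducedAt g (j b)) : _root_.FBase.IsGeomReducedAt (j ≫ g) b := by
  haveI := FlatUnivOpen.isReduced_stalk_of_geomRed g (j b) h
  haveI := GeomPt.isGeometricallyReduced_of_isGeomReducedAt (f := g) h
  let σ : F.presheaf.stalk (j b) →+* G.presheaf.stalk b := (j.stalkMap b).hom
  have hσ : Function.Bijective σ := by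
    refine ⟨(injective_iff_map_eq_zero σ).2 fun c hc => ?_, j.stalkMap_surjective b⟩
    have h1 : c ∈ maximalIdeal (F.presheaf.stalk (j b)) := fun hu => by
      have := (hu.map σ)
      rw [hc] at this
      exact not_isUnit_zero this
    exact (mem_nilradical.1 (maximalIdeal_le_nilradical hmax h1)).eq_zero
  have hφ : σ.comp (StalkBC.φ g (j b)) = StalkBC.φ (j ≫ g) b := by
    refine congrArg CommRingCat.Hom.hom (Spec.map_injective
      (a₁ := CommRingCat.ofHom (StalkBC.φ g (j b)) ≫ j.stalkMap b)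
      (a₂ := CommRingCat.ofHom (StalkBC.φ (j ≫ g) b)) ?_)
    rw [Spec.map_comp, StalkBC.specMap_φ]
    exact (Scheme.SpecMap_stalkMap_fromSpecStalk_assoc j g).trans (StalkBC.specMap_φ (j ≫ g) b).symm
  let σ' : StalkBC.Ox g (j b) →ₐ[k] StalkBC.Ox (j ≫ g) b :=
    { σ with commutes' := fun c => RingHom.congr_fun hφ c }
  exact GeomPt.isGeomReducedAt_of_isGeometricallyReduced
    (Algebra.IsGeometricallyReduced.of_injective (AlgEquiv.ofBijective σ' hσ).symm.toAlgHom
      (AlgEquiv.injective _))

variable (f : X ⟶ Y) [LocallyOfFiniteType f] (i : W ⟶ X) [IsClosedImmersion i]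

omit [LocallyOfFiniteType f] in
theorem grAt_comp (w : W) (hmax : IsMaxFib f (i w)) (hgr : GRAt.GRAt f (i w)) :
    GRAt.GRAt (i ≫ f) w := by
  let y := (i ≫ f) w
  obtain ⟨b, hb⟩ : w ∈ Set.range ((i ≫ f).fiberι y) := by
    rw [Scheme.Hom.range_fiberι]; rfl
  have sq : IsPullback (pullback.fst i (f.fiberι y))
      (pullback.snd i (f.fiberι y) ≫ f.fiberToSpecResidueField y) (i ≫ f)
      (Y.fromSpecResidueField y) :=
    (IsPullback.of_hasPullback i (f.fiberι y)).paste_vert
      (IsPullback.of_hasPullback f (Y.fromSpecResidueField y))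
  let j : (i ≫ f).fiber y ⟶ f.fiber y := sq.isoPullback.inv ≫ pullback.snd i (f.fiberι y)
  haveI : IsClosedImmersion j := inferInstance
  have hj : j ≫ f.fiberToSpecResidueField y = (i ≫ f).fiberToSpecResidueField y :=
    (Category.assoc _ _ _).trans sq.isoPullback_inv_snd
  have hjb : f.fiberι y (j b) = i w := by
    rw [← hb, ← Scheme.Hom.comp_apply, ← Scheme.Hom.comp_apply]
    refine congrArg (fun m : (i ≫ f).fiber y ⟶ X => m b) ?_
    exact (Category.assoc _ _ _).trans ((congrArg (sq.isoPullback.inv ≫ ·) pullback.condition.symm).trans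
      ((Category.assoc _ _ _).symm.trans (congrArg (· ≫ i) sq.isoPullback_inv_fst)))
  rw [← hb, GRAt.grAt_iff_fiber, ← hj]
  refine isGeomReducedAt_comp (k := Y.residueField y) j _ b
    ((FieldDim.isMaxFib_iff f y (j b)).1 (hjb.symm ▸ hmax)) ((GRAt.grAt_iff_fiber f y (j b)).1 ?_)
  rw [hjb]; exact hgr

/-- A closed subscheme universally open at a geometrically reduced maximal point of a fibre over a
reduced point contains all generizations of that point. -/
theorem mem_range [IsLocallyNoetherian Y] (w : W)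
    (hy : _root_.IsReduced (Y.presheaf.stalk (f (i w)))) (hmax : IsMaxFib f (i w))
    (hgr : GRAt.GRAt f (i w)) (hu : EGA43.IsUnivOpenAt (i ≫ f) w) (v : X) (hv : v ⤳ i w) :
    v ∈ Set.range i := by
  haveI : IsLocallyNoetherian X := LocallyOfFiniteType.isLocallyNoetherian f
  have hmax' : IsMaxFib (i ≫ f) w :=
    (isMaxFib_comp_iff f i w).2 fun a _ h1 h2 => hmax a h1 h2
  let R := Y.presheaf.stalk (f (i w))
  let B := X.presheaf.stalk (i w)
  let σ : B →+* W.presheaf.stalk w := (i.stalkMap w).hom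
  letI : Algebra R B := (f.stalkMap (i w)).hom.toAlgebra
  haveI : IsLocalHom (algebraMap R B) := inferInstanceAs (IsLocalHom (f.stalkMap (i w)).hom)
  haveI : IsLocalHom σ := inferInstanceAs (IsLocalHom (i.stalkMap w).hom)
  obtain ⟨hfl, -⟩ := FlatUnivOpen.flat_stalkMap (i ≫ f) w
    (fun ζ h1 h2 _ => (hmax' ζ h1 h2).symm ▸ hu) ((GRAt.grAt_iff (i ≫ f) w).1 (grAt_comp f i w hmax hgr))
    hy
  have hrad : ((maximalIdeal R).map (algebraMap R B)).IsRadical := by
    haveI := FlatUnivOpen.isReduced_stalk_of_geomRed _ _ ((GRAt.grAt_iff f (i w)).1 hgr)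
    exact (Ideal.isRadical_iff_quotient_reduced _).2
      (isReduced_of_injective (FiberStalk.quotientEquiv f (i w)) (RingEquiv.injective _))
  have hmins : ∀ z ∈ ((maximalIdeal R).map (algebraMap R B)).minimalPrimes, z = maximalIdeal B := by
    intro z hz
    obtain ⟨h1, h2, -⟩ := FlatUnivOpen.maxFib_of_minimalPrimes f (i w) z hz
    let zz : ↥(Spec B) := (⟨z, hz.1.1⟩ : PrimeSpectrum B)
    have : zz = closedPoint B := (X.fromSpecStalk (i w)).isEmbedding.injective
      ((hmax _ h1 h2).trans Scheme.fromSpecStalk_closedPoint.symm)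
    exact congrArg PrimeSpectrum.asIdeal this
  have hker : RingHom.ker σ = ⊥ := by
    refine FlatFromMin.eq_bot_of_forall_kill _ ?_ hrad fun z hz =>
      ⟨W.presheaf.stalk w, inferInstance, inferInstance, σ, ?_, ?_, fun a ha => ha⟩
    · rw [← hrad.radical, ← Ideal.sInf_minimalPrimes]
      refine le_sInf fun z hz => (hmins z hz).symm ▸ fun c hc hu => ?_
      have := hu.map σ
      rw [RingHom.mem_ker.1 hc] at this
      exact not_isUnit_zero this
    · rw [hmins z hz]
      exact ((local_hom_TFAE σ).out 0 4).1 ‹IsLocalHom σ›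
    · show (f.stalkMap (i w) ≫ i.stalkMap w).hom.Flat
      rw [← Scheme.Hom.stalkMap_comp]
      exact hfl
  obtain ⟨q, rfl⟩ : v ∈ Set.range (X.fromSpecStalk (i w)) := by
    rw [Scheme.range_fromSpecStalk]; exact hv
  haveI : IsIso (i.stalkMap w) := (ConcreteCategory.isIso_iff_bijective _).2
    ⟨(RingHom.injective_iff_ker_eq_bot σ).2 hker, i.stalkMap_surjective w⟩
  haveI hiso : IsIso (Spec.map (i.stalkMap w)) := inferInstance
  obtain ⟨q', rfl⟩ := (Spec.map (i.stalkMap w)).surjective q
  exact ⟨W.fromSpecStalk w q', (congrArg (fun m : Spec (W.presheaf.stalk w) ⟶ X => m q')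
    (Scheme.SpecMap_stalkMap_fromSpecStalk i (x := w))).symm⟩

/-- The same over an arbitrary base. -/
theorem mem_range' [IsLocallyNoetherian Y] (w : W) (hmax : IsMaxFib f (i w))
    (hgr : GRAt.GRAt f (i w)) (hu : EGA43.IsUnivOpenAt (i ≫ f) w) (v : X) (hv : v ⤳ i w) :
    v ∈ Set.range i := by
  obtain ⟨T, g, hgc, hgs, hT⟩ := NilRed.exists_red Y
  let a := pullback.fst f g
  let f' := pullback.snd f g
  have sq : IsPullback a f' f g := IsPullback.of_hasPullback f g
  haveI : IsClosedImmersion a := inferInstanceAs (IsClosedImmersion (pullback.fst f g))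
  haveI : Surjective a := inferInstanceAs (Surjective (pullback.fst f g))
  haveI : IsLocallyNoetherian T := LocallyOfFiniteType.isLocallyNoetherian g
  haveI : LocallyOfFiniteType f' := inferInstanceAs (LocallyOfFiniteType (pullback.snd f g))
  have sq₀ : IsPullback (pullback.fst i a) (pullback.snd i a) i a := IsPullback.of_hasPullback i a
  obtain ⟨z', hz'⟩ := a.surjective (i w)
  obtain ⟨w', hw₁, hw₂⟩ := Scheme.Pullback.exists_preimage_pullback (f := i) (g := a) w z' hz'.symm
  obtain ⟨v', rfl⟩ := a.surjective v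
  rw [← hz'] at hv hmax hgr
  subst hw₂
  obtain ⟨u, hu'⟩ := mem_range f' (pullback.snd i a) w' inferInstance
    ((NilRed.isMaxFib_of_isPullback sq a.surjective _).2 hmax) (GRAt.baseChange sq _ hgr)
    (OpenAt.isUnivOpenAt_baseChange hu (sq₀.paste_vert sq) w' hw₁) v'
    (a.isEmbedding.isInducing.specializes_iff.1 hv)
  refine ⟨pullback.fst i a u, ?_⟩
  rw [← hu', ← Scheme.Hom.comp_apply, ← Scheme.Hom.comp_apply, pullback.condition]

end Groth.Agent.H46.MaxFibClosed
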