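import Groth.Agent.H46.GRAtOpen
import Groth.Agent.H75.RedSub
import Groth.Agent.S4942

/-!
# Passing to a reduced base
-/

universe u

open CategoryTheory AlgebraicGeometry Limits
open Groth.Agent.H46.FibreTrdeg Groth.Agent.H46.GRAt

namespace Groth.Agent.H46.NilRed

set_option linter.style.haveILetI false

theorem exists_red (Y : Scheme.{u}) : ∃ (Y₀ : Scheme.{u}) (r : Y₀ ⟶ Y),
    IsClosedImmersion r ∧ Surjective r ∧ IsReduced Y₀ := by
  let I := Scheme.IdealSheafData.vanishingIdeal (X := Y) ⊤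
  refine ⟨I.subscheme, I.subschemeι, inferInstance, ⟨fun y => ?_⟩,
    H75.RedSub.isReduced_vanishingIdeal _⟩
  have : y ∈ Set.range I.subschemeι := by
    rw [Scheme.IdealSheafData.range_subschemeι, Scheme.IdealSheafData.coe_support_vanishingIdeal]
    trivial
  exact this

variable {X Y : Scheme.{u}}

theorem isMaxFib_of_isPullback {f : X ⟶ Y} {X' T : Scheme.{u}} {a : X' ⟶ X} {f' : X' ⟶ T}
    {g : T ⟶ Y} [IsClosedImmersion g] (sq : IsPullback a f' f g) (ha : Function.Surjective a)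
    (ζ : X') : IsMaxFib f' ζ ↔ IsMaxFib f (a ζ) := by
  haveI : IsClosedImmersion a := MorphismProperty.of_isPullback sq.flip inferInstance
  have hf : ∀ w, g (f' w) = f (a w) := fun w => by
    rw [← Scheme.Hom.comp_apply, ← sq.w, Scheme.Hom.comp_apply]
  constructor
  · intro h v hv hs
    obtain ⟨v, rfl⟩ := ha v
    refine congrArg a (h v (g.isEmbedding.injective ?_) (a.isEmbedding.isInducing.specializes_iff.1 hs))
    rw [hf, hf, hv]
  · intro h v hv hs
    refine a.isEmbedding.injective (h (a v) ?_ (hs.map a.continuous))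
    rw [← hf, ← hf, hv]

/-- The base change to the reduced base is flat with geometrically reduced fibre at the point. -/
theorem flat_red [IsLocallyNoetherian Y] {f : X ⟶ Y} [LocallyOfFiniteType f]
    {X' T : Scheme.{u}} {a : X' ⟶ X} {f' : X' ⟶ T} {g : T ⟶ Y} [IsClosedImmersion g] [IsReduced T]
    (sq : IsPullback a f' f g) (ha : Function.Surjective a) (x' : X')
    (hopen : ∀ ζ, f ζ = f (a x') → ζ ⤳ a x' → IsMaxFib f ζ → EGA43.IsUnivOpenAt f ζ)
    (hgr : GRAt f (a x')) :
    (f'.stalkMap x').hom.Flat ∧ GRAt f' x' ∧ _root_.IsReduced (X'.presheaf.stalk x') := by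
  haveI : LocallyOfFiniteType f' := MorphismProperty.of_isPullback sq inferInstance
  haveI : IsLocallyNoetherian T := LocallyOfFiniteType.isLocallyNoetherian g
  have hgr' := baseChange sq x' hgr
  have hf : ∀ w, g (f' w) = f (a w) := fun w => by
    rw [← Scheme.Hom.comp_apply, ← sq.w, Scheme.Hom.comp_apply]
  obtain ⟨h1, h2⟩ := FlatUnivOpen.flat_stalkMap f' x' (fun ζ hζ hs hmax =>
    OpenAt.isUnivOpenAt_baseChange (hopen (a ζ) (by rw [← hf, ← hf, hζ]) (hs.map a.continuous)
      ((isMaxFib_of_isPullback sq ha ζ).1 hmax)) sq ζ rfl)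
    ((grAt_iff f' x').1 hgr') inferInstance
  exact ⟨h1, hgr', h2⟩

/-- EGA IV 15.2.3: nearby, `f` is universally open with geometrically reduced fibres. -/
theorem exists_nhd [IsLocallyNoetherian Y] (f : X ⟶ Y) [LocallyOfFiniteType f] (x : X)
    (hopen : ∀ ζ, f ζ = f x → ζ ⤳ x → IsMaxFib f ζ → EGA43.IsUnivOpenAt f ζ)
    (hgr : GRAt f x) :
    ∃ U : X.Opens, x ∈ U ∧ UniversallyOpen (U.ι ≫ f) ∧ ∀ w ∈ U, GRAt f w := by
  obtain ⟨T, g, _, _, _⟩ := exists_red Y
  let a := pullback.fst f g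
  let f' := pullback.snd f g
  have sq : IsPullback a f' f g := IsPullback.of_hasPullback f g
  haveI : IsClosedImmersion a := inferInstanceAs (IsClosedImmersion (pullback.fst f g))
  haveI : Surjective a := inferInstanceAs (Surjective (pullback.fst f g))
  haveI : IsLocallyNoetherian T := LocallyOfFiniteType.isLocallyNoetherian g
  haveI : LocallyOfFiniteType f' := inferInstanceAs (LocallyOfFiniteType (pullback.snd f g))
  obtain ⟨x', rfl⟩ := a.surjective x
  obtain ⟨hfl, hgr', -⟩ := flat_red sq a.surjective x' hopen hgr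
  let U' : Set ↥(pullback f g) := {w | (f'.stalkMap w).hom.Flat ∧ GRAt f' w}
  have hU' : IsOpen U' := GRAtOpen.isOpen_flat_grAt f'
  obtain ⟨O, hO, hOU⟩ := a.isEmbedding.isInducing.isOpen_iff.1 hU'
  refine ⟨⟨O, hO⟩, (Set.ext_iff.1 hOU x').2 ⟨hfl, hgr'⟩, ?_, fun w hw => ?_⟩
  · refine UnivOpen.universallyOpen_of_forall _ fun u => OpenAt.isUnivOpenAt_comp _ f u
      (UnivOpen.isUnivOpenAt_of_universallyOpen _ u) ?_
    refine Groth.Agent.S4942.result g f _ fun x₁ hx₁ => ?_
    have h1 : x₁ ∈ U' := (Set.ext_iff.1 hOU x₁).1 (by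
      show a x₁ ∈ O
      rw [show a x₁ = _ from hx₁]; exact u.2)
    let W : (pullback f g).Opens := ⟨U', hU'⟩
    haveI : Flat (W.ι ≫ f') := (Flat.iff_flat_stalkMap _).2 fun v => by
      rw [Scheme.Hom.stalkMap_comp]
      exact RingHom.Flat.comp (f := (f'.stalkMap (W.ι v)).hom) v.2.1
        (RingHom.Flat.of_bijective (ConcreteCategory.bijective_of_isIso (W.ι.stalkMap v)))
    haveI : LocallyOfFinitePresentation f' := inferInstance
    exact OpenAt.isUnivOpenAt_of_comp W.ι f' (⟨x₁, h1⟩ : (W : Scheme.{u}))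
      (UnivOpen.isUnivOpenAt_of_universallyOpen _ _)
  · obtain ⟨w', rfl⟩ := a.surjective w
    exact of_baseChange sq w' ((Set.ext_iff.1 hOU w').1 hw).2

end Groth.Agent.H46.NilRed
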