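import Groth.Prelude.Def_MoreMor
import Groth.Prelude.Def_FDesc
import Mathlib.Topology.Semicontinuity.Basic
import Groth.Agent.H46.DimData
import Groth.Agent.H46.Lift
import Groth.Agent.H2.FibreDimPullback
import Groth.Agent.H46.UnivOpenTrdeg

/-!
# The connected component of a section in the fibres
-/

universe u

open CategoryTheory AlgebraicGeometry Limits Topology
open Groth.Agent.H46.FibreTrdeg Groth.Agent.H46.DimData Groth.Agent.Lib.Cyc

namespace Groth.Agent.H46.SectComp

set_option linter.style.haveILetI false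

variable {X Y : Scheme.{u}} (f : X ⟶ Y) (g : Y ⟶ X)

/-- `X⁰_y`. -/
abbrev C (y : Y) : Set X := connectedComponentIn (f.base ⁻¹' {y}) (g.base y)

theorem C_subset (y : Y) : C f g y ⊆ f ⁻¹' {y} := connectedComponentIn_subset _ _

variable {g} (hg : g ≫ f = 𝟙 Y)
include hg

theorem f_g (y : Y) : f (g y) = y := by
  rw [← Scheme.Hom.comp_apply, hg]; rfl

theorem mem_C (y : Y) : g y ∈ C f g y := mem_connectedComponentIn (f_g f hg y)

/-- Specializations inside a fibre do not leave the component. -/
theorem mem_C_of_specializes {y : Y} {a b : X} (h : a ⤳ b) (ha : f a = y) (hb : f b = y) :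
    (a ∈ C f g y ↔ b ∈ C f g y) := by
  have hpre : _root_.IsPreconnected ({a, b} : Set X) := isPreconnected_singleton.subset_closure
    (Set.singleton_subset_iff.2 (Set.mem_insert a _))
    (Set.insert_subset (subset_closure rfl) (Set.singleton_subset_iff.2 h.mem_closure))
  have hsub : ({a, b} : Set X) ⊆ f.base ⁻¹' {y} :=
    Set.insert_subset ha (Set.singleton_subset_iff.2 hb)
  constructor
  · intro h1
    rw [C, connectedComponentIn_eq h1]
    exact hpre.subset_connectedComponentIn (Set.mem_insert a _) hsub (Or.inr rfl)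
  · intro h1
    rw [C, connectedComponentIn_eq h1]
    exact hpre.subset_connectedComponentIn (Or.inr rfl) hsub (Set.mem_insert a _)

/-- The fibre of the closure of a point over the same point lies in the component. -/
theorem closure_inter_subset {y : Y} {a : X} (ha : a ∈ C f g y) :
    closure {a} ∩ f ⁻¹' {y} ⊆ C f g y := fun _ hw =>
  (mem_C_of_specializes f hg (specializes_iff_mem_closure.2 hw.1) (C_subset f g y ha) hw.2).1 ha

variable [LocallyOfFiniteType f]

theorem trd_le_dim_C {y : Y} {a : X} (ha : a ∈ C f g y) :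
    (trd f a : WithBot ℕ∞) ≤ topologicalKrullDim ↥(C f g y) := by
  rw [← dim_closure_inter f a, show f a = y from C_subset f g y ha]
  exact (IsInducing.subtypeVal.of_comp_iff.1
    (IsInducing.subtypeVal : IsInducing (fun w : ↥(closure {a} ∩ f ⁻¹' {y}) => (w : X))) :
      IsInducing (Set.inclusion (closure_inter_subset f hg ha))).topologicalKrullDim_le

theorem exists_generic {y : Y} (hirr : IsIrreducible (C f g y)) :
    ∃ θ ∈ C f g y, f θ = y ∧ θ ⤳ g y ∧ IsMaxFib f θ ∧ (∀ w ∈ C f g y, θ ⤳ w) ∧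
      trd f θ = fe f (g y) ∧ topologicalKrullDim ↥(C f g y) = (fe f (g y) : WithBot ℕ∞) := by
  obtain ⟨θ, hθ⟩ := QuasiSober.sober hirr.closure isClosed_closure
  have hs : ∀ w ∈ C f g y, θ ⤳ w := fun w hw => hθ.specializes (subset_closure hw)
  have hfθ : f θ = y := by
    have h1 : f θ ⤳ y := f_g f hg y ▸ (hs _ (mem_C f hg y)).map f.continuous
    have h2 : f θ ∈ closure (f '' C f g y) := image_closure_subset_closure_image f.continuous
      ⟨θ, hθ.mem, rfl⟩
    have h3 : y ⤳ f θ := specializes_iff_mem_closure.2 (closure_mono (by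
      rintro _ ⟨w, hw, rfl⟩; exact C_subset f g y hw) h2)
    exact (h1.antisymm h3).eq
  have hθC : θ ∈ C f g y :=
    (mem_C_of_specializes f hg (hs _ (mem_C f hg y)) hfθ (f_g f hg y)).2 (mem_C f hg y)
  have hmax : IsMaxFib f θ := by
    intro v hv hvs
    have hvC : v ∈ C f g y := (mem_C_of_specializes f hg hvs (hv.trans hfθ) hfθ).2 hθC
    exact (hvs.antisymm (hs v hvC)).eq
  have hfe : trd f θ = fe f (g y) := by
    obtain ⟨ζ, h1, h2, h3, h4⟩ := exists_fe_eq f (g y)
    have hζC : ζ ∈ C f g y :=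
      (mem_C_of_specializes f hg h2 (h1.trans (f_g f hg y)) (f_g f hg y)).2 (mem_C f hg y)
    rw [← h4, h3 θ (hfθ.trans (C_subset f g y hζC).symm) (hs ζ hζC)]
  refine ⟨θ, hθC, hfθ, hs _ (mem_C f hg y), hmax, hs, hfe, ?_⟩
  rw [← hfe, ← dim_closure_inter f θ, hfθ]
  exact congrArg (fun S : Set X => topologicalKrullDim ↥S) (Set.Subset.antisymm
    (fun w hw => ⟨(hs w hw).mem_closure, C_subset f g y hw⟩) (closure_inter_subset f hg hθC))

/-- A maximal irreducible subset of the fibre through `g y'`. -/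
theorem exists_generic_of_maximal {y' : Y} {Z : Set X} (hZf : Z ⊆ f.base ⁻¹' {y'})
    (hZ : IsIrreducible Z)
    (hmax : ∀ Z' : Set X, IsIrreducible Z' → Z' ⊆ f.base ⁻¹' {y'} → Z ⊆ Z' → Z' = Z)
    (hgZ : g.base y' ∈ Z) :
    ∃ ξ ∈ C f g y', f ξ = y' ∧ ξ ⤳ g y' ∧
      topologicalKrullDim ↥Z = (trd f ξ : WithBot ℕ∞) := by
  obtain ⟨ξ, hξ⟩ := QuasiSober.sober hZ.closure isClosed_closure
  have hs : ξ ⤳ g y' := hξ.specializes (subset_closure hgZ)
  have hfξ : f ξ = y' := by
    have h1 : f ξ ⤳ y' := f_g f hg y' ▸ hs.map f.continuous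
    have h2 : f ξ ∈ closure (f '' Z) := image_closure_subset_closure_image f.continuous
      ⟨ξ, hξ.mem, rfl⟩
    have h3 : y' ⤳ f ξ := specializes_iff_mem_closure.2 (closure_mono (by
      rintro _ ⟨w, hw, rfl⟩; exact hZf hw) h2)
    exact (h1.antisymm h3).eq
  have heq : closure {ξ} ∩ f.base ⁻¹' {y'} = Z := by
    refine hmax _ ?_ Set.inter_subset_right fun w hw => ⟨hξ.def.ge (subset_closure hw), hZf hw⟩
    rw [isIrreducible_iff_closure.symm,
      show closure (closure {ξ} ∩ f.base ⁻¹' {y'}) = closure {ξ} from Set.Subset.antisymm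
        (closure_minimal Set.inter_subset_left isClosed_closure)
        (closure_mono (Set.singleton_subset_iff.2 ⟨subset_closure rfl, hfξ⟩))]
    exact isIrreducible_singleton.closure
  refine ⟨ξ, (mem_C_of_specializes f hg hs hfξ (f_g f hg y')).2 (mem_C f hg y'), hfξ, hs, ?_⟩
  rw [← dim_closure_inter f ξ, hfξ]
  exact congrArg (fun S : Set X => topologicalKrullDim ↥S) heq.symm

/-- Generization does not increase the dimension; equality forces specialization. -/
theorem exists_trd_le {y y' : Y} (hy : y' ⤳ y) {ξ : X} (hξ : ξ ⤳ g y') :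
    ∃ z, ξ ⤳ z ∧ z ∈ C f g y ∧ trd f ξ ≤ trd f z := by
  obtain ⟨z, h1, h2, h3, h4⟩ := exists_specializes_trd_le f (hξ.trans (hy.map g.continuous))
  rw [f_g f hg] at h2
  exact ⟨z, h1, (mem_C_of_specializes f hg h3 h2 (f_g f hg y)).2 (mem_C f hg y), h4⟩

theorem subset_closure_of_trd {y y' : Y} (hy : y' ⤳ y) {ξ : X} (hξ : ξ ⤳ g y')
    (hirr : IsIrreducible (C f g y)) (hle : fe f (g y) ≤ trd f ξ) : C f g y ⊆ closure {ξ} := by
  obtain ⟨θ, hθ, hfθ, -, -, hgen, hfe, -⟩ := exists_generic f hg hirr
  obtain ⟨z, h1, h2, h3⟩ := exists_trd_le f hg hy hξ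
  have hz := eq_of_trd_le f (hgen z h2) (hfθ.trans (C_subset f g y h2).symm) (by omega)
  intro w hw
  exact (h1.trans ((specializes_of_eq hz.symm).trans (hgen w hw))).mem_closure

/-- Upper semicontinuity of the fibre dimension along the section. -/
theorem upperSemicontinuous_dim (hirr : ∀ y, IsIrreducible (C f g y)) :
    UpperSemicontinuous fun y : Y => topologicalKrullDim ↥(C f g y) := by
  have hd : ∀ y, topologicalKrullDim ↥(C f g y) = FlatMor.fibreDimAt f (g y) := fun y => by
    obtain ⟨_, -, -, -, -, -, -, h⟩ := exists_generic f hg (hirr y)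
    rw [h, fibreDimAt_eq]
  intro y c hc
  have hO : IsOpen {z : Y | FlatMor.fibreDimAt f (g z) ≤ FlatMor.fibreDimAt f (g y)} :=
    (Groth.Agent.Lib.FibreDim.Semicont.isOpen_setOf_fibreDimAt_le f _).preimage g.continuous
  filter_upwards [hO.mem_nhds (show FlatMor.fibreDimAt f (g y) ≤ _ from le_rfl)] with z hz
  show topologicalKrullDim ↥(C f g z) < c
  change topologicalKrullDim ↥(C f g y) < c at hc
  rw [hd] at hc ⊢
  exact lt_of_le_of_lt hz hc

/-- Geometric irreducibility gives irreducibility. -/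
theorem irr_of_geom {y : Y}
    (h : ∀ (K : Type u) [Field K] [Algebra (IsLocalRing.ResidueField (Y.presheaf.stalk y)) K],
      IsIrreducible ((FBase.bcπ (f.fiberToSpecResidueField y) K ≫ f.fiberι y).base ⁻¹' C f g y)) :
    IsIrreducible (C f g y) := by
  let m := FBase.bcπ (k := Y.residueField y) (f.fiberToSpecResidueField y) (Y.residueField y) ≫ f.fiberι y
  have hsub : C f g y ⊆ Set.range m := by
    intro w hw
    obtain ⟨a, rfl⟩ : w ∈ Set.range (f.fiberι y) := by
      rw [Scheme.Hom.range_fiberι]; exact C_subset f g y hw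
    obtain ⟨b, hb, -⟩ := Scheme.Pullback.exists_preimage_pullback (f := f.fiberToSpecResidueField y)
      (g := Spec.map (CommRingCat.ofHom (algebraMap (Y.residueField y) (Y.residueField y))))
      a (IsLocalRing.closedPoint (Y.residueField y))
      (Subsingleton.elim (α := PrimeSpectrum (Y.residueField y)) _ _)
    exact ⟨b, congrArg (f.fiberι y) hb⟩
  have := (@h (Y.residueField y) _ (Algebra.id (Y.residueField y))).image m m.continuous.continuousOn
  exact (Set.image_preimage_eq_of_subset hsub) ▸ this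

/-- EGA IV 15.6.3: universal openness from constancy of the dimension. -/
theorem isUnivOpenAt [IsLocallyNoetherian Y]
    (hgi : ∀ (y : Y) (K : Type u) [Field K]
      [Algebra (IsLocalRing.ResidueField (Y.presheaf.stalk y)) K],
      IsIrreducible ((FBase.bcπ (f.fiberToSpecResidueField y) K ≫ f.fiberι y).base ⁻¹' C f g y))
    {y : Y} {V₀ : Set Y} (hV₀ : V₀ ∈ 𝓝 y)
    (hc : ∀ z ∈ V₀, topologicalKrullDim ↥(C f g z) = topologicalKrullDim ↥(C f g y))
    {x : X} (hx : x ∈ C f g y) : EGA43.IsUnivOpenAt f x := by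
  have hfx : f x = y := C_subset f g y hx
  have hfe : ∀ y', y' ⤳ y → fe f (g y') = fe f (g y) := fun y' h => by
    obtain ⟨_, -, -, -, -, -, -, h1⟩ := exists_generic f hg (irr_of_geom f hg (hgi y))
    obtain ⟨_, -, -, -, -, -, -, h2⟩ := exists_generic f hg (irr_of_geom f hg (hgi y'))
    have h3 := hc y' (mem_of_mem_nhds (h hV₀))
    rw [h1, h2] at h3
    exact_mod_cast h3
  haveI : LocallyOfFinitePresentation f := inferInstance
  refine Lift.isUnivOpenAt_of_valuationRing f x fun V _ _ _ v p hv hp hp' => ?_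
  let T := Spec (CommRingCat.of V)
  let a := pullback.fst f v
  let f' := pullback.snd f v
  have sq : IsPullback a f' f v := IsPullback.of_hasPullback f v
  haveI : LocallyOfFiniteType f' := inferInstanceAs (LocallyOfFiniteType (pullback.snd f v))
  let g' : T ⟶ pullback f v := pullback.lift (v ≫ g) (𝟙 _)
    (by rw [Category.assoc, hg, Category.comp_id, Category.id_comp])
  have hg' : g' ≫ f' = 𝟙 T := pullback.lift_snd _ _ _
  have hga : ∀ t, a (g' t) = g (v t) := fun t => by
    rw [← Scheme.Hom.comp_apply, pullback.lift_fst, Scheme.Hom.comp_apply]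
  have hfe' : ∀ t, fe f' (g' t) = fe f (g (v t)) := fun t => by
    have := H2.FibreDimPullback.fibreDimAt_of_isPullback sq (g' t)
    rw [fibreDimAt_eq, fibreDimAt_eq, hga] at this
    exact_mod_cast this
  let t₀ : T := IsLocalRing.closedPoint V
  let t₁ : T := genericPoint T
  have hvy : v t₀ = y := hv.trans hfx
  have ht : t₁ ⤳ t₀ := genericPoint_specializes _
  have heq : fe f' (g' t₁) = fe f' (g' t₀) := by
    rw [hfe', hfe', hvy]
    exact hfe _ (hvy ▸ ht.map v.continuous)
  obtain ⟨ξ, hξ1, hξ2, -, hξ4⟩ := exists_fe_eq f' (g' t₁)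
  obtain ⟨z, hz1, hz2, hz3, hz4⟩ := exists_specializes_trd_le f' (hξ2.trans (ht.map g'.continuous))
  rw [f_g f' hg'] at hz2
  have hzmax : IsMaxFib f' z := by
    refine isMaxFib_of_fibreDimAt_le f' ?_
    rw [fibreDimAt_eq, Nat.cast_le]
    have h1 : fe f' z ≤ fe f' (g' t₀) := by
      have := fibreDimAt_le_of_specializes f' hz3
      rw [fibreDimAt_eq, fibreDimAt_eq] at this
      exact_mod_cast this
    omega
  refine ⟨ξ, hz1.trans ?_, hξ1.trans (f_g f' hg' t₁)⟩
  -- `z` is generic in the preimage of `C` in the closed fibre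
  have hazC : a z ∈ C f g y := by
    refine (mem_C_of_specializes f hg (a := a z) (b := g y) ?_ ?_ (f_g f hg y)).2 (mem_C f hg y)
    · rw [← hvy, ← hga]; exact hz3.map a.continuous
    · rw [← Scheme.Hom.comp_apply, sq.w, Scheme.Hom.comp_apply, hz2, hvy]
  let Kv : Type u := T.residueField t₀
  let r : Spec (CommRingCat.of Kv) ⟶ T := T.fromSpecResidueField t₀
  obtain ⟨ρ, hρ⟩ := UnivOpenTrdeg.exists_residue_factor (r ≫ v) y (by
    rw [Scheme.Hom.comp_apply, Scheme.fromSpecResidueField_apply, hvy])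
  letI : Algebra (Y.residueField y) Kv := ρ.hom.toAlgebra
  let bs := FBase.bcStr (k := Y.residueField y) (f.fiberToSpecResidueField y) Kv
  let bp := FBase.bcπ (k := Y.residueField y) (f.fiberToSpecResidueField y) Kv ≫ f.fiberι y
  have sq₁ : IsPullback bp bs f (r ≫ v) := by
    have := (IsPullback.of_hasPullback (f.fiberToSpecResidueField y)
      (Spec.map (CommRingCat.ofHom (algebraMap (Y.residueField y) Kv)))).paste_horiz
      (IsPullback.of_hasPullback f (Y.fromSpecResidueField y))
    exact (congrArg (fun q => IsPullback bp bs f q) hρ).mp this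
  let m : FBase.bc (k := Y.residueField y) (f.fiberToSpecResidueField y) Kv ⟶ pullback f v :=
    pullback.lift bp (bs ≫ r) (by rw [Category.assoc]; exact sq₁.w)
  have hma : m ≫ a = bp := pullback.lift_fst _ _ _
  have hmf : m ≫ f' = bs ≫ r := pullback.lift_snd _ _ _
  have sq₂ : IsPullback m bs f' r := IsPullback.of_right (by rw [hma]; exact sq₁) hmf sq
  let S : Set ↥(pullback f v) := m '' (bp ⁻¹' C f g y)
  have hS : IsIrreducible S := (@hgi y Kv _ ρ.hom.toAlgebra).image m m.continuous.continuousOn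
  have hmem : ∀ w, f' w = t₀ → a w ∈ C f g y → w ∈ S := by
    intro w hw hwC
    obtain ⟨b, rfl⟩ : w ∈ Set.range m := by
      rw [← sq₂.isoPullback_hom_fst, Scheme.Hom.comp_base, TopCat.coe_comp,
        Set.range_comp, Set.range_eq_univ.2 sq₂.isoPullback.hom.surjective, Set.image_univ,
        Scheme.Pullback.range_fst, Scheme.range_fromSpecResidueField]
      exact hw
    exact ⟨b, (show bp b ∈ C f g y by rw [← hma, Scheme.Hom.comp_apply]; exact hwC), rfl⟩
  obtain ⟨θ, hθ⟩ := QuasiSober.sober hS.closure isClosed_closure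
  have hzS : z ∈ S := hmem z hz2 hazC
  have hθz : θ ⤳ z := hθ.specializes (subset_closure hzS)
  have hfθ : f' θ = f' z := by
    rw [hz2]
    have h1 : f' θ ⤳ t₀ := hz2 ▸ hθz.map f'.continuous
    have h2 : f' θ ∈ closure (f' '' S) := image_closure_subset_closure_image f'.continuous
      ⟨θ, hθ.mem, rfl⟩
    have h3 : t₀ ⤳ f' θ := specializes_iff_mem_closure.2 (closure_mono (by
      rintro _ ⟨_, ⟨b, -, rfl⟩, rfl⟩
      rw [← Scheme.Hom.comp_apply, hmf, Scheme.Hom.comp_apply]
      exact Scheme.fromSpecResidueField_apply _ _) h2)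
    exact (h1.antisymm h3).eq
  rw [← hzmax θ hfθ hθz]
  exact hθ.specializes (subset_closure (hmem p hp' (hp.symm ▸ hx)))

end Groth.Agent.H46.SectComp
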