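import Groth.Agent.H46.UnibranchCrit
import Groth.Agent.H46.FibreDimNhd
import Groth.Agent.H46.SubStalk

/-!
# Universal openness, openness and dimensions of fibres over unibranch points
-/

universe u

open CategoryTheory AlgebraicGeometry Limits Topology
open Groth.Agent.H46.FibreTrdeg Groth.Agent.Lib.Cyc Groth.Agent.H46.UnibranchCrit

namespace Groth.Agent.H46.UnibranchTFAE

variable {X Y : Scheme.{u}}

theorem isOpenAt_of_isUnivOpenAt {f : X ⟶ Y} {x : X} (h : EGA43.IsUnivOpenAt f x) :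
    EGA43.IsOpenAt f.base x :=
  OpenAt.isOpenAt_of_isPullback h (IsPullback.id_horiz f) x rfl

theorem localDim_ne_bot {α : Type*} [TopologicalSpace α] (a : α) : FlatMor.localDim α a ≠ ⊥ := by
  obtain ⟨U, ha, hU⟩ := Groth.Agent.Lib.FibreDim.Basic.exists_open_krullDim_eq a
  intro h
  haveI : Nonempty (U : Set α) := ⟨⟨a, ha⟩⟩
  exact topologicalKrullDim_ne_bot (α := (U : Set α)) (hU.trans h)

variable (f : X ⟶ Y) [LocallyOfFiniteType f]

/-- Maximal points near a point specialize to it. -/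
theorem exists_nhd_max [IsLocallyNoetherian X] (z : X) :
    ∃ U : X.Opens, z ∈ U ∧ ∀ ξ ∈ U, DimFun.IsMaxPt ξ → ξ ⤳ z := by
  obtain ⟨V, hV, hzV, hfin⟩ := DimFun.exists_open_finite_maxPts (X := X) isClosed_univ z
  let B : Set X := ⋃ η ∈ {η | η ∈ V ∧ DimFun.IsMaxPt η ∧ ¬ η ⤳ z}, closure {η}
  have hB : IsClosed B := Set.Finite.isClosed_biUnion
    (hfin.subset fun η hη => ⟨hη.1, trivial, fun y _ => hη.2.1 y⟩) fun η _ => isClosed_closure
  refine ⟨⟨V ∩ Bᶜ, hV.inter hB.isOpen_compl⟩, ⟨hzV, ?_⟩, fun ξ hξU hξ => ?_⟩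
  · simp only [B, Set.mem_compl_iff, Set.mem_iUnion, not_exists]
    exact fun η hη hc => hη.2.2 (specializes_iff_mem_closure.mpr hc)
  · by_contra hc
    exact hξU.2 (Set.mem_biUnion (t := fun a => closure ({a} : Set X))
      (⟨hξU.1, hξ, hc⟩ : ξ ∈ {η | η ∈ V ∧ DimFun.IsMaxPt η ∧ ¬ η ⤳ z}) (subset_closure rfl))

/-- From the generic fibres to a dominant component. -/
theorem exists_component_of_dim_le [IsLocallyNoetherian Y] {y η : Y} (hη : DimFun.IsMaxPt η)
    (h : ∀ U : X.Opens, topologicalKrullDim ↥((U : Set X) ∩ f.base ⁻¹' {y}) ≤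
      topologicalKrullDim ↥((U : Set X) ∩ f.base ⁻¹' {η})) (ζ : X) (hζ : f ζ = y) :
    ∃ ξ, DimFun.IsMaxPt ξ ∧ ξ ⤳ ζ ∧ f ξ = η ∧ trd f ζ ≤ trd f ξ := by
  haveI := LocallyOfFiniteType.isLocallyNoetherian f
  obtain ⟨U, hζU, hU⟩ := exists_nhd_max ζ
  obtain ⟨ξ', hξ'U, hfξ', hle⟩ := FibreDimNhd.exists_le_trd_of_le_dim f U η _
    ((FibreDimNhd.trd_le_dim_open_inter f U y ζ hζU hζ).trans (h U))
  obtain ⟨ξ, hξξ', hξ⟩ := DimFun.exists_isMaxPt_specializes ξ'
  have hfξ : f ξ = η := hη _ (hfξ' ▸ hξξ'.map f.continuous)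
  exact ⟨ξ, hξ, hU ξ (hξξ'.mem_open U.2 hξ'U) hξ, hfξ,
    hle.trans (trd_le f hξξ' (hfξ.trans hfξ'.symm))⟩

/-- Equality of the dimensions of the fibres of a component. -/
theorem localDim_eq_of_component {x ξ : X} (hξx : ξ ⤳ x)
    (hle : ∀ a, ξ ⤳ a → f a = f x → a ⤳ x → trd f a ≤ trd f ξ) :
    FlatMor.localDim ↥(closure ({ξ} : Set X) ∩ f.base ⁻¹' {f.base x})
        ⟨x, hξx.mem_closure, rfl⟩ =
      topologicalKrullDim ↥(closure ({ξ} : Set X) ∩ f.base ⁻¹' {f ξ}) := by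
  rw [dim_closure_inter]
  refine le_antisymm ?_ (Equidim.trd_le_localDim_closure_inter f x ξ hξx)
  exact (localDim_closed_inter_le_iff f isClosed_closure hξx.mem_closure _).2
    fun a ha hfa hax => hle a (specializes_iff_mem_closure.2 ha) hfa hax

/-- A component through `x` with equal dimensions of fibres gives universal openness. -/
theorem isUnivOpenAt_of_localDim [IsLocallyNoetherian Y] {x : X}
    (hy : CAlg2.IsGeomUnibranch (Y.presheaf.stalk (f x))) {η : Y} (hη : DimFun.IsMaxPt η)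
    {Z : Set X} (hZ : Z ∈ irreducibleComponents X) (hx : x ∈ Z)
    (hd : closure (f.base '' Z) = closure {η})
    (he : FlatMor.localDim ↥(Z ∩ f.base ⁻¹' {f.base x}) ⟨x, hx, rfl⟩ =
      topologicalKrullDim ↥(Z ∩ f.base ⁻¹' {η})) : EGA43.IsUnivOpenAt f x := by
  obtain ⟨ξ, hξ, rfl⟩ := Equidim.exists_generic_of_mem_irreducibleComponents hZ
  have hfξ : f ξ = η := by
    rw [Equidim.closure_image_closure'] at hd
    exact Equidim.closure_singleton_inj hd
  have hξx : ξ ⤳ x := specializes_iff_mem_closure.2 hx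
  rw [← hfξ] at he
  refine UnibranchSch.isUnivOpenAt_of_trd f hξx
    (nhd_of_noetherian hy.1 (hfξ ▸ hη) (hξx.map f.continuous)) hy fun a hξa hax hfa => ?_
  rw [dim_closure_inter] at he
  exact (localDim_closed_inter_le_iff f isClosed_closure hx _).1 he.le a hξa.mem_closure hfa hax

/-- Openness at the maximal points of the fibre gives a component with equal dimensions. -/
theorem exists_component_of_isUnivOpen [IsLocallyNoetherian Y] {x : X}
    (hopen : ∀ ζ, f ζ = f x → ζ ⤳ x → IsMaxFib f ζ → EGA43.IsOpenAt f.base ζ)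
    {η : Y} (hη : DimFun.IsMaxPt η) (hηy : η ⤳ f x) :
    ∃ ξ, DimFun.IsMaxPt ξ ∧ ξ ⤳ x ∧ f ξ = η ∧
      ∀ a, f a = f x → a ⤳ x → trd f a ≤ trd f ξ := by
  obtain ⟨ζ, hζ, hζx, hmax, he⟩ := exists_isMaxFib_trd_eq f x
  obtain ⟨ξ, hξ, -, hξx, hfξ, hle⟩ :=
    exists_component_of_isOpenAt f hζ hζx hmax (hopen ζ hζ hζx hmax) η hη hηy
  exact ⟨ξ, hξ, hξx, hfξ, fun a hfa hax =>
    ((fibreDimAt_le_iff f x _).1 he.le a hfa hax).trans hle⟩

/-- Universal openness on a fibre from openness at its maximal points. -/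
theorem isUnivOpenAt_of_open_maxFib [IsLocallyNoetherian Y] {x : X}
    (hy : CAlg2.IsGeomUnibranch (Y.presheaf.stalk (f x)))
    (hopen : ∀ ζ, f ζ = f x → ζ ⤳ x → IsMaxFib f ζ → EGA43.IsOpenAt f.base ζ) :
    EGA43.IsUnivOpenAt f x := by
  obtain ⟨η, hηy, hη⟩ := DimFun.exists_isMaxPt_specializes (f x)
  obtain ⟨ξ, hξ, hξx, hfξ, hle⟩ := exists_component_of_isUnivOpen f hopen hη hηy
  exact UnibranchSch.isUnivOpenAt_of_trd f hξx
    (nhd_of_noetherian hy.1 (hfξ ▸ hη) (hξx.map f.continuous)) hy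
    fun a _ hax hfa => hle a hfa hax

/-- Openness at the points closed in their fibre gives openness everywhere. -/
theorem isOpenAt_of_closedPoints {y : Y}
    (h : ∀ x : X, f.base x = y → (∀ x' : X, f.base x' = y → x ⤳ x' → x' = x) →
      EGA43.IsOpenAt f.base x) (x : X) (hx : f.base x = y) : EGA43.IsOpenAt f.base x := by
  intro U hU
  obtain ⟨O, hOU, hO, hxO⟩ := mem_nhds_iff.1 hU
  haveI : JacobsonSpace ↥(f.fiber y) :=
    LocallyOfFiniteType.jacobsonSpace (X := f.fiber y)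
      (Y := Spec (CommRingCat.of (Y.residueField y))) (f.fiberToSpecResidueField y)
  obtain ⟨z, hz⟩ := FieldDim.exists_fiberι_eq f x y hx
  obtain ⟨c, hcO, hc⟩ := nonempty_inter_closedPoints (Z := f.fiberι y ⁻¹' O)
    ⟨z, by show f.fiberι y z ∈ O; rw [hz]; exact hxO⟩
    (hO.preimage (f.fiberι y).continuous).isLocallyClosed
  have hfc : f (f.fiberι y c) = y := FieldDim.apply_fiberι f y c
  have := h _ hfc fun x' hx' hs => by
    obtain ⟨c', hc'⟩ := FieldDim.exists_fiberι_eq f x' y hx'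
    have hs' : c ⤳ c' := by
      rw [(f.fiberι y).isEmbedding.isInducing.specializes_iff.symm, hc']; exact hs
    rw [← hc', show c' = c from hs'.mem_closed hc rfl]
  have h2 := this O (hO.mem_nhds hcO)
  rw [show f.base (f.fiberι y c) = f.base x from hfc.trans hx.symm] at h2
  exact Filter.mem_of_superset h2 (Set.image_mono hOU)

/-- A quasi-section through a point closed in its fibre. -/
theorem exists_section [IrreducibleSpace Y] [IsLocallyNoetherian Y] {x ξ : X}
    (hcl : ∀ x' : X, f.base x' = f.base x → x ⤳ x' → x' = x) (hξx : ξ ⤳ x)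
    (hη : DimFun.IsMaxPt (f ξ)) (hb : ∀ a, f a = f x → a ⤳ x → trd f a ≤ trd f ξ) :
    ∃ (T : Scheme.{u}) (i : T ⟶ X), IsImmersion i ∧ IrreducibleSpace ↥T ∧ IsReduced T ∧
        x ∈ Set.range i.base ∧ LocallyOfFiniteType (i ≫ f) ∧ LocallyQuasiFinite (i ≫ f) ∧
        QuasiCompact (i ≫ f) ∧ IsDominant (i ≫ f) := by
  haveI := LocallyOfFiniteType.isLocallyNoetherian f
  have hx := SubStalk.trd_eq_zero_of_closed f x hcl
  obtain ⟨ξ', hξ'x, hfξ', hb⟩ := SubStalk.exists_quasiSection f x hx (trd f ξ) ξ hξx hη rfl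
    fun a _ hfa hax => hb a hfa hax
  let X₁ : TopologicalSpace.Closeds X := ⟨closure {ξ'}, isClosed_closure⟩
  let i := (Scheme.IdealSheafData.vanishingIdeal X₁).subschemeι
  have hr : Set.range i = closure {ξ'} := by
    rw [Scheme.IdealSheafData.range_subschemeι, Scheme.IdealSheafData.coe_support_vanishingIdeal]
    rfl
  obtain ⟨w, rfl⟩ : x ∈ Set.range i := by rw [hr]; exact hξ'x.mem_closure
  obtain ⟨w₀, hw₀⟩ : ξ' ∈ Set.range i := by rw [hr]; exact subset_closure rfl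
  have hgen : ∀ a, w₀ ⤳ a := fun a => by
    rw [← i.isEmbedding.isInducing.specializes_iff, hw₀, specializes_iff_mem_closure, ← hr]
    exact ⟨a, rfl⟩
  let O : (Scheme.IdealSheafData.vanishingIdeal X₁).subscheme.Opens := ⟨_,
    Groth.Agent.Lib.FibreDim.Semicont.isOpen_setOf_fibreDimAt_le (i ≫ f)
      ((0 : ℕ) : WithBot ℕ∞)⟩
  have hwO : w ∈ O := by
    obtain ⟨z, hz, hzw, -, he⟩ := DimData.exists_fe_eq (i ≫ f) w
    show FlatMor.fibreDimAt (i ≫ f) w ≤ _
    rw [DimData.fibreDimAt_eq, Nat.cast_le, ← he, trd_comp]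
    exact hb _ (hw₀ ▸ (hgen z).map i.continuous) hz (hzw.map i.continuous)
  obtain ⟨V, hV, hwV, hVO⟩ :=
    AlgebraicGeometry.exists_isAffineOpen_mem_and_subset (x := w) (U := O) hwO
  haveI : IsAffine (V : Scheme.{u}) := hV
  haveI : IrreducibleSpace ↥(Scheme.IdealSheafData.vanishingIdeal X₁).subscheme :=
    (irreducibleSpace_def _).2 (by
      show IsIrreducible (Set.univ : Set ↥(Scheme.IdealSheafData.vanishingIdeal X₁).subscheme)
      rw [show (Set.univ : Set ↥(Scheme.IdealSheafData.vanishingIdeal X₁).subscheme) =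
        closure {w₀} from (Set.eq_univ_of_forall fun a => (hgen a).mem_closure).symm]
      exact isIrreducible_singleton.closure)
  haveI : IsReduced (Scheme.IdealSheafData.vanishingIdeal X₁).subscheme :=
    H75.RedSub.isReduced_vanishingIdeal X₁
  have hlft : LocallyOfFiniteType (V.ι ≫ i ≫ f) := inferInstance
  refine ⟨V, V.ι ≫ i, inferInstance, ?_, inferInstance, ⟨⟨w, hwV⟩, rfl⟩, ?_, ?_, ?_, ?_⟩
  · exact (irreducibleSpace_def _).2
      ⟨⟨⟨w, hwV⟩, trivial⟩, (IrreducibleSpace.isIrreducible_univ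
        ↥(Scheme.IdealSheafData.vanishingIdeal X₁).subscheme).2.preimage V.ι.isOpenEmbedding⟩
  · simpa [Category.assoc] using hlft
  · rw [Category.assoc]
    haveI : LocallyOfFiniteType (V.ι ≫ i ≫ f) := hlft
    refine (Scheme.Hom.quasiFiniteLocus_eq_top_iff _).1 (top_le_iff.1 fun a _ => ?_)
    refine Groth.Agent.Lib.FibreDim.Semicont.quasiFiniteAt_of_incomparable _ a fun z hz hza => ?_
    have hb' : ∀ c : ↥(V : Scheme.{u}), trd (V.ι ≫ i ≫ f) c = 0 := by
      intro c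
      rw [trd_comp]
      have := (trd_le_fibreDimAt (i ≫ f) _).trans (hVO c.2)
      exact Nat.le_zero.1 (by exact_mod_cast this)
    rcases hza with h | h
    · exact eq_of_trd_le _ h hz (by rw [hb', hb'])
    · exact (eq_of_trd_le _ h hz.symm (by rw [hb', hb'])).symm
  · infer_instance
  · rw [Category.assoc, isDominant_iff, DenseRange, dense_iff_closure_eq, Set.eq_univ_iff_forall]
    intro y
    have hη' : f ξ' = genericPoint Y := by
      rw [hfξ']; exact (hη _ (genericPoint_specializes _)).symm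
    refine closure_mono (s := {f ξ'}) ?_ ?_
    · rintro _ rfl
      refine ⟨⟨w₀, (hgen w).mem_open V.2 hwV⟩, ?_⟩
      show f (i w₀) = f ξ'
      rw [hw₀]
    · rw [hη', genericPoint_closure]; trivial

/-- A quasi-finite quasi-section forces universal openness. -/
theorem isUnivOpenAt_of_section [IrreducibleSpace Y] [IsLocallyNoetherian Y] {T : Scheme.{u}}
    (i : T ⟶ X) [IrreducibleSpace ↥T] [LocallyQuasiFinite (i ≫ f)] [LocallyOfFiniteType (i ≫ f)]
    [IsDominant (i ≫ f)] {x : X} (hx : x ∈ Set.range i.base)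
    (hy : CAlg2.IsGeomUnibranch (Y.presheaf.stalk (f x))) : EGA43.IsUnivOpenAt f x := by
  obtain ⟨t, rfl⟩ := hx
  refine OpenAt.isUnivOpenAt_of_comp i f t
    (isUnivOpenAt_of_quasiFinite (i ≫ f) (genericPoint_specializes t) ?_ hy)
  have : (i ≫ f) (genericPoint T) = genericPoint Y := by
    refine ((genericPoint_spec Y).eq (isGenericPoint_def.2 (Set.eq_univ_of_univ_subset ?_))).symm
    intro y _
    refine (closure_minimal (fun z hz => ?_) isClosed_closure)
      ((i ≫ f).denseRange.closure_range.ge (Set.mem_univ y))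
    obtain ⟨a, rfl⟩ := hz
    exact ((genericPoint_specializes a).map (i ≫ f).continuous).mem_closure
  rw [this]
  exact isMaxPt_genericPoint

theorem dim_le_dim (U : X.Opens) (y η : Y)
    (h : ∀ ζ ∈ U, f ζ = y → ∃ ξ ∈ U, f ξ = η ∧ trd f ζ ≤ trd f ξ) :
    topologicalKrullDim ↥((U : Set X) ∩ f.base ⁻¹' {y}) ≤
      topologicalKrullDim ↥((U : Set X) ∩ f.base ⁻¹' {η}) := by
  rcases isEmpty_or_nonempty ↥((U : Set X) ∩ f.base ⁻¹' {y}) with he | ⟨⟨ζ, hζU, hζ⟩⟩
  · haveI : IsEmpty (TopologicalSpace.IrreducibleCloseds ↥((U : Set X) ∩ f.base ⁻¹' {y})) :=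
      ⟨fun C => he.false C.2.1.some⟩
    exact (Order.krullDim_eq_bot).le.trans bot_le
  obtain ⟨ξ, hξU, hξ, -⟩ := h ζ hζU hζ
  haveI : Nonempty ↥((U : Set X) ∩ f.base ⁻¹' {η}) := ⟨⟨ξ, hξU, hξ⟩⟩
  have hne := topologicalKrullDim_ne_bot (α := ↥((U : Set X) ∩ f.base ⁻¹' {η}))
  generalize hb : topologicalKrullDim ↥((U : Set X) ∩ f.base ⁻¹' {η}) = b at hne ⊢
  cases b with
  | bot => exact absurd rfl hne
  | coe c =>
    induction c using ENat.recTopCoe with
    | top => exact le_top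
    | coe k =>
      refine (dim_open_inter_le_iff f U y k).2 fun a ha hay => ?_
      obtain ⟨b, hbU, hbη, hle⟩ := h a ha hay
      exact hle.trans ((dim_open_inter_le_iff f U η k).1 hb.le b hbU hbη)

end Groth.Agent.H46.UnibranchTFAE
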