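import Groth.Agent.H46.SectComp
import Groth.Agent.H46.UnibranchTFAE
import Groth.Agent.S3409

/-!
# Constancy of the dimension of the component of a section
-/

universe u

open CategoryTheory AlgebraicGeometry Limits Topology
open Groth.Agent.H46.FibreTrdeg Groth.Agent.H46.DimData Groth.Agent.H46.SectComp
  Groth.Agent.Lib.Cyc

namespace Groth.Agent.H46.SectComp2

variable {X Y : Scheme.{u}} (f : X ⟶ Y) [LocallyOfFiniteType f] {g : Y ⟶ X} (hg : g ≫ f = 𝟙 Y)
include hg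

theorem fe_g_le {y y' : Y} (h : y' ⤳ y) : fe f (g y') ≤ fe f (g y) := by
  have := fibreDimAt_le_of_specializes f (h.map g.continuous)
  rw [fibreDimAt_eq, fibreDimAt_eq] at this
  exact_mod_cast this

/-- The dimension does not drop when the whole fibre has the dimension of the component. -/
theorem le_fe_of_dim {y₀ η : Y} (hη : η ⤳ y₀) (h₀ : IsIrreducible (C f g y₀))
    (h₁ : IsIrreducible (C f g η))
    (hdim : topologicalKrullDim ↥(f.fiber η) = topologicalKrullDim ↥(C f g η))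
    (hopen : ∀ ξ ∈ C f g y₀, C f g y₀ ⊆ closure {ξ} → EGA43.IsUnivOpenAt f ξ) :
    fe f (g y₀) ≤ fe f (g η) := by
  obtain ⟨θ, hθ, hfθ, -, -, hgen, hfe, -⟩ := exists_generic f hg h₀
  obtain ⟨-, -, -, -, -, -, -, hd⟩ := exists_generic f hg h₁
  obtain ⟨ξ, -, hfξ, hle⟩ := UnivOpenTrdeg.exists_trd_le f θ
    (hopen θ hθ fun w hw => (hgen w hw).mem_closure) η (hfθ.symm ▸ hη)
  have h2 := trd_le_dim_fiber f ξ η hfξ
  rw [hdim, hd, Nat.cast_le] at h2
  omega

/-- The dimension does not drop when the fibre is geometrically reduced at the section. -/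
theorem le_fe_of_reduced [IsLocallyNoetherian Y] {y₀ η : Y} (hη : η ⤳ y₀)
    (hmax : DimFun.IsMaxPt η) (h₀ : IsIrreducible (C f g y₀))
    (hopen : ∀ ξ ∈ C f g y₀, C f g y₀ ⊆ closure {ξ} → EGA43.IsUnivOpenAt f ξ)
    (hgr : _root_.FBase.IsGeomReducedAt (f.fiberToSpecResidueField (f (g y₀))) (f.asFiber (g y₀))) :
    fe f (g y₀) ≤ fe f (g η) := by
  haveI : IsLocallyNoetherian X := LocallyOfFiniteType.isLocallyNoetherian f
  obtain ⟨θ, hθ, hfθ, -, hθmax, hgen, hfe, -⟩ := exists_generic f hg h₀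
  have hfg : f (g y₀) = y₀ := f_g f hg y₀
  have huniq : ∀ ζ, f ζ = f (g y₀) → ζ ⤳ g y₀ → IsMaxFib f ζ → ζ = θ := by
    intro ζ h1 h2 h3
    have hζ : ζ ∈ C f g y₀ :=
      (mem_C_of_specializes f hg h2 (h1.trans hfg) hfg).2 (mem_C f hg y₀)
    exact (h3 θ (hfθ.trans (h1.trans hfg).symm) (hgen ζ hζ)).symm
  have heq : EGA43.IsEquidimAt f (g y₀) := by
    refine Groth.Agent.S3409.result f (g y₀) ((UnibranchEquidim.maxFib_iff f (g y₀)
      fun a => EGA43.IsUnivOpenAt f a).2 fun ζ h1 h2 h3 => ?_) hgr ⟨fe f (g y₀), fun Z hZ hxZ => ?_⟩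
    · rw [huniq ζ h1 h2 h3]
      exact hopen θ hθ fun w hw => (hgen w hw).mem_closure
    · obtain ⟨a, ha⟩ := QuasiSober.sober hZ.1 (isClosed_of_mem_irreducibleComponents Z hZ)
      have hs := (FieldDim.fiber_specializes_iff f _ a _).1 (ha.specializes hxZ)
      rw [f.fiberι_asFiber] at hs
      have hm : IsMaxFib f (f.fiberι (f (g y₀)) a) := (FieldDim.isMaxFib_iff f _ a).2 (by
        intro w hw
        have hsub : Z ⊆ closure {w} :=
          ha.def.symm.trans_subset (specializes_iff_closure_subset.1 hw)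
        exact ha.eq ((hsub.antisymm (hZ.2 isIrreducible_singleton.closure hsub)).symm) ▸ rfl)
      rw [← ha.def, FieldDim.topologicalKrullDim_closure (K := Y.residueField (f (g y₀)))
        (f.fiberToSpecResidueField (f (g y₀))) a, fdelta_fiber, Int.toNat_natCast,
        huniq _ (FieldDim.apply_fiberι f _ a) hs hm, hfe]
  obtain ⟨ξ, hξs, hξ⟩ := DimFun.exists_isMaxPt_specializes (g η)
  obtain ⟨hfξ, htrd⟩ := components_of_isEquidimAt f heq ξ hξ (hξs.trans (hη.map g.continuous))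
  have h : f ξ ⤳ η := f_g f hg η ▸ hξs.map f.continuous
  have he : f ξ = η := hmax _ h
  have h2 := trd_le_fe f hξs
  omega

omit hg in
/-- Near a point with all nearby maximal points under control the dimension is constant. -/
theorem const_nhd [IsLocallyNoetherian Y] (hg : g ≫ f = 𝟙 Y)
    (hirr : ∀ y, IsIrreducible (C f g y)) (y₀ : Y)
    (H : ∀ η, DimFun.IsMaxPt η → η ⤳ y₀ → fe f (g y₀) ≤ fe f (g η)) :
    ∃ V ∈ 𝓝 y₀, ∀ z ∈ V, topologicalKrullDim ↥(C f g z) = topologicalKrullDim ↥(C f g y₀) := by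
  obtain ⟨U, hy₀U, hU⟩ := UnibranchTFAE.exists_nhd_max (X := Y) y₀
  let O : Set Y := {z | FlatMor.fibreDimAt f (g z) ≤ FlatMor.fibreDimAt f (g y₀)}
  have hO : IsOpen O :=
    (Groth.Agent.Lib.FibreDim.Semicont.isOpen_setOf_fibreDimAt_le f _).preimage g.continuous
  refine ⟨(U : Set Y) ∩ O, Filter.inter_mem (U.2.mem_nhds hy₀U)
    (hO.mem_nhds (show FlatMor.fibreDimAt f (g y₀) ≤ _ from le_rfl)), fun z ⟨hzU, hzO⟩ => ?_⟩
  obtain ⟨η, hηz, hη⟩ := DimFun.exists_isMaxPt_specializes z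
  have h1 := H η hη (hU η (hηz.mem_open U.2 hzU) hη)
  have h2 := fe_g_le f hg hηz
  obtain ⟨-, -, -, -, -, -, -, e1⟩ := exists_generic f hg (hirr z)
  obtain ⟨-, -, -, -, -, -, -, e2⟩ := exists_generic f hg (hirr y₀)
  have h3 : fe f (g z) ≤ fe f (g y₀) := by
    change FlatMor.fibreDimAt f (g z) ≤ FlatMor.fibreDimAt f (g y₀) at hzO
    rw [fibreDimAt_eq, fibreDimAt_eq] at hzO
    exact_mod_cast hzO
  rw [e1, e2, show fe f (g z) = fe f (g y₀) by omega]

end Groth.Agent.H46.SectComp2
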