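import Groth.Agent.H46.SectComp2
import Groth.Agent.H46.FibreDimCons

/-!
# Base change of the component of a section along a preimmersion of bases
-/

universe u

open CategoryTheory AlgebraicGeometry Limits Topology
open Groth.Agent.H46.FibreTrdeg Groth.Agent.H46.DimData Groth.Agent.H46.SectComp
  Groth.Agent.Lib.Cyc

namespace Groth.Agent.H46.SectComp3

variable {X Y X' Y' : Scheme.{u}} {f : X ⟶ Y} {f' : X' ⟶ Y'} {a : X' ⟶ X} {s : Y' ⟶ Y}
  [IsPreimmersion s] {g : Y ⟶ X} {g' : Y' ⟶ X'}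

theorem image_C (sq : IsPullback a f' f s) (hg : g ≫ f = 𝟙 Y) (hg' : g' ≫ f' = 𝟙 Y')
    (hga : g' ≫ a = s ≫ g) (t : Y') : a '' C f' g' t = C f g (s t) := by
  haveI : IsPreimmersion a := MorphismProperty.of_isPullback sq.flip inferInstance
  have hgt : a (g' t) = g (s t) := by
    rw [← Scheme.Hom.comp_apply, hga, Scheme.Hom.comp_apply]
  have hfs : ∀ w, f (a w) = s (f' w) := fun w => by
    rw [← Scheme.Hom.comp_apply, sq.w, Scheme.Hom.comp_apply]
  apply Set.Subset.antisymm
  · refine ((isPreconnected_connectedComponentIn.image a a.continuous.continuousOn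
      ).subset_connectedComponentIn ⟨g' t, mem_C f' hg' t, hgt⟩ ?_)
    rintro _ ⟨w, hw, rfl⟩
    show f (a w) = s t
    rw [hfs, show f' w = t from C_subset f' g' t hw]
  · have hr : C f g (s t) ⊆ Set.range a := fun w hw => by
      obtain ⟨c, hc, -⟩ := Scheme.Pullback.exists_preimage_pullback (f := f) (g := s) w t
        (C_subset f g (s t) hw)
      exact ⟨sq.isoPullback.inv c, by
        rw [← Scheme.Hom.comp_apply, sq.isoPullback_inv_fst]; exact hc⟩
    have hpre : _root_.IsPreconnected (a ⁻¹' C f g (s t)) := by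
      rw [← a.isEmbedding.isInducing.isPreconnected_image, Set.image_preimage_eq_of_subset hr]
      exact isPreconnected_connectedComponentIn
    have hsub : a ⁻¹' C f g (s t) ⊆ C f' g' t := hpre.subset_connectedComponentIn
      (show g' t ∈ _ by rw [Set.mem_preimage, hgt]; exact mem_C f hg (s t))
      fun w hw => s.isEmbedding.injective ((hfs w).symm.trans (C_subset f g (s t) hw))
    exact (Set.image_preimage_eq_of_subset hr).symm.subset.trans (Set.image_mono hsub)

theorem isIrreducible_of_image {S : Set X'} (a : X' ⟶ X) [IsPreimmersion a]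
    (h : IsIrreducible (a '' S)) : IsIrreducible S := by
  refine ⟨h.1.of_image, fun u v hu hv hu' hv' => ?_⟩
  obtain ⟨U, hU, rfl⟩ := a.isEmbedding.isInducing.isOpen_iff.1 hu
  obtain ⟨V, hV, rfl⟩ := a.isEmbedding.isInducing.isOpen_iff.1 hv
  obtain ⟨p, hp, hpU⟩ := hu'
  obtain ⟨q, hq, hqV⟩ := hv'
  obtain ⟨_, ⟨w, hw, rfl⟩, hwU, hwV⟩ := h.2 U V hU hV ⟨a p, ⟨p, hp, rfl⟩, hpU⟩
    ⟨a q, ⟨q, hq, rfl⟩, hqV⟩
  exact ⟨w, hw, hwU, hwV⟩

/-- The dimension does not drop over a point with Noetherian local ring where the fibre is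
geometrically reduced. -/
theorem le_fe_of_reduced_stalk {X Y : Scheme.{u}} (f : X ⟶ Y) [LocallyOfFiniteType f]
    {g : Y ⟶ X} (hg : g ≫ f = 𝟙 Y) {y₀ η : Y} [IsNoetherianRing (Y.presheaf.stalk y₀)]
    (hη : η ⤳ y₀) (hmax : DimFun.IsMaxPt η) (h₀ : IsIrreducible (C f g y₀))
    (hopen : ∀ ξ ∈ C f g y₀, C f g y₀ ⊆ closure {ξ} → EGA43.IsUnivOpenAt f ξ)
    (hgr : _root_.FBase.IsGeomReducedAt (f.fiberToSpecResidueField (f (g y₀))) (f.asFiber (g y₀))) :
    fe f (g y₀) ≤ fe f (g η) := by
  let O := Spec (Y.presheaf.stalk y₀)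
  let s := Y.fromSpecStalk y₀
  let a := pullback.fst f s
  let f' := pullback.snd f s
  have sq : IsPullback a f' f s := IsPullback.of_hasPullback f s
  haveI : LocallyOfFiniteType f' := inferInstanceAs (LocallyOfFiniteType (pullback.snd f s))
  haveI : IsPreimmersion a := MorphismProperty.of_isPullback sq.flip inferInstance
  let g' : O ⟶ pullback f s := pullback.lift (s ≫ g) (𝟙 _)
    (by rw [Category.assoc, hg, Category.comp_id, Category.id_comp])
  have hg' : g' ≫ f' = 𝟙 O := pullback.lift_snd _ _ _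
  have hga : g' ≫ a = s ≫ g := pullback.lift_fst _ _ _
  let t₀ : O := IsLocalRing.closedPoint (Y.presheaf.stalk y₀)
  have hst : s t₀ = y₀ := Scheme.fromSpecStalk_closedPoint
  obtain ⟨t, ht⟩ : η ∈ Set.range s := by rw [Scheme.range_fromSpecStalk]; exact hη
  have htmax : DimFun.IsMaxPt t := fun v hv => s.isEmbedding.injective
    ((hmax _ (ht ▸ hv.map s.continuous)).trans ht.symm)
  have himg := image_C sq hg hg' hga t₀
  rw [hst] at himg
  have hagt : ∀ v, a (g' v) = g (s v) := fun v => by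
    rw [← Scheme.Hom.comp_apply, hga, Scheme.Hom.comp_apply]
  have hfe : ∀ v, fe f' (g' v) = fe f (g (s v)) := fun v => by
    have := H2.FibreDimPullback.fibreDimAt_of_isPullback sq (g' v)
    rw [fibreDimAt_eq, fibreDimAt_eq, hagt] at this
    exact_mod_cast this
  have h := SectComp2.le_fe_of_reduced f' hg'
    (s.isEmbedding.isInducing.specializes_iff.1 (by rw [ht, hst]; exact hη) : t ⤳ t₀) htmax
    (isIrreducible_of_image a (himg.symm ▸ h₀))
    (fun ξ hξ hcl => OpenAt.isUnivOpenAt_baseChange (hopen (a ξ) (himg ▸ ⟨ξ, hξ, rfl⟩) (by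
      rw [← himg]
      exact (Set.image_mono hcl).trans ((image_closure_subset_closure_image a.continuous).trans
        (by rw [Set.image_singleton]))))
      sq ξ rfl)
    ((GRAt.grAt_iff f' _).1 (GRAt.baseChange sq _ (by
      rw [hagt, hst]; exact (GRAt.grAt_iff f _).2 hgr)))
  rwa [hfe, hfe, ht, hst] at h

end Groth.Agent.H46.SectComp3
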