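import Groth.Agent.H46.FlatUnivOpen
import Groth.Agent.H46.FiberStalk
import Groth.Agent.Lib.FEt.DepthTwo
import Mathlib.RingTheory.DiscreteValuationRing.Basic
import Mathlib.RingTheory.Spectrum.Prime.Topology

/-!
# Generizations of a section component over a discrete valuation ring
-/

set_option autoImplicit false
set_option linter.style.haveILetI false

universe u

open CategoryTheory AlgebraicGeometry Limits Topology

namespace Groth.Agent.H46.SectOpenDvr

/-- If `π` is regular and `O/πO` is reduced, then `O[1/π]` has no nontrivial idempotent when `O` is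
local. -/
theorem idempotent_eq_zero_or_one {O : Type u} [CommRing O] [IsLocalRing O] (π : O)
    (hπ : IsSMulRegular O π) (hred : _root_.IsReduced (O ⧸ Ideal.span ({π} : Set O)))
    (e : Localization.Away π) (he : IsIdempotentElem e) : e = 0 ∨ e = 1 := by
  let L := Localization.Away π
  have hinj : Function.Injective (algebraMap O L) := IsLocalization.injective L
    (Submonoid.powers_le.2 (mem_nonZeroDivisors_iff_right.2 fun x hx => hπ (show π • x = π • 0 by
      rw [smul_eq_mul, smul_zero, mul_comm, hx])))
  have key : ∀ n : ℕ, ∀ a : O, e * algebraMap O L π ^ n = algebraMap O L a →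
      ∃ b : O, e = algebraMap O L b := by
    intro n
    induction n with
    | zero => intro a ha; exact ⟨a, by simpa using ha⟩
    | succ n ih =>
      intro a ha
      have h2 : a ^ 2 = π ^ (n + 1) * a := hinj (by
        rw [map_mul, map_pow, map_pow, ← ha]
        linear_combination (algebraMap O L π ^ (n + 1)) ^ 2 * he.eq)
      have hmem : a ∈ Ideal.span ({π} : Set O) := by
        rw [← Ideal.Quotient.eq_zero_iff_mem]
        refine hred.eq_zero _ ⟨2, ?_⟩
        rw [← map_pow, Ideal.Quotient.eq_zero_iff_mem, h2, pow_succ', mul_assoc]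
        exact Ideal.mul_mem_right _ _ (Ideal.mem_span_singleton_self π)
      obtain ⟨b, rfl⟩ := Ideal.mem_span_singleton.1 hmem
      refine ih b ?_
      have hu : IsUnit (algebraMap O L π) := IsLocalization.Away.algebraMap_isUnit π
      rw [map_mul, pow_succ] at ha
      exact hu.mul_left_cancel (by rw [← ha]; ring)
  obtain ⟨n, a, ha⟩ := IsLocalization.Away.surj π e
  obtain ⟨b, rfl⟩ := key n a ha
  have hb : IsIdempotentElem b := hinj (by rw [map_mul]; exact he.eq)
  have h01 : b * (1 - b) = 0 := by rw [mul_sub, mul_one, hb.eq, sub_self]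
  rcases IsLocalRing.isUnit_or_isUnit_one_sub_self b with h | h
  · refine Or.inr ?_
    rw [show b = 1 from (sub_eq_zero.1 (h.mul_right_eq_zero.1 h01)).symm, map_one]
  · refine Or.inl ?_
    rw [show b = 0 from h.mul_left_eq_zero.1 h01, map_zero]

variable {A : Type u} [CommRing A] [IsDomain A] [IsDiscreteValuationRing A] {X : Scheme.{u}}
  (f : X ⟶ Spec (CommRingCat.of A)) [LocallyOfFiniteType f]

/-- Over a discrete valuation ring the generizations in the generic fibre of a point with flat
local ring and reduced fibre lie on one side of every open partition of the generic fibre. -/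
theorem not_both_sides (z : X) (hz : f z = IsLocalRing.closedPoint A)
    (hflat : (f.stalkMap z).hom.Flat)
    (hred : _root_.IsReduced ((f.fiber (f z)).presheaf.stalk (f.asFiber z)))
    (C D : Set X) (hC : IsOpen C) (hD : IsOpen D) (hdis : Disjoint C D)
    (hcov : C ∪ D = f ⁻¹' {genericPoint (Spec (CommRingCat.of A))})
    {ξ₁ ξ₂ : X} (h₁ : ξ₁ ∈ C) (h₁' : ξ₁ ⤳ z) (h₂ : ξ₂ ∈ D) (h₂' : ξ₂ ⤳ z) : False := by
  obtain ⟨p, hp⟩ := IsDiscreteValuationRing.exists_irreducible A
  let Y := Spec (CommRingCat.of A)
  let S := Y.presheaf.stalk (f z)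
  let O := X.presheaf.stalk z
  let τ : A →+* S := (StructureSheaf.toStalk A (f z)).hom
  letI algAS : Algebra A S := StructureSheaf.stalkAlgebra _ _
  have hloc : IsLocalization.AtPrime S (PrimeSpectrum.asIdeal (f z)) :=
    StructureSheaf.IsLocalization.to_stalk _ _
  have hpt : PrimeSpectrum.asIdeal (f z) = IsLocalRing.maximalIdeal A := by rw [hz]; rfl
  have hm : IsLocalRing.maximalIdeal S = Ideal.span {algebraMap A S p} := by
    rw [← IsLocalization.AtPrime.map_eq_maximalIdeal (PrimeSpectrum.asIdeal (f z)) S, hpt,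
      (IsDiscreteValuationRing.irreducible_iff_uniformizer p).1 hp, Ideal.map_span,
      Set.image_singleton]
  let π : O := (f.stalkMap z).hom (algebraMap A S p)
  letI : Algebra S O := (f.stalkMap z).hom.toAlgebra
  haveI : Module.Flat S O := hflat
  have hregS : IsSMulRegular S (algebraMap A S p) := by
    have : Module.Flat A S := IsLocalization.flat S (PrimeSpectrum.asIdeal (f z)).primeCompl
    have h0 : IsSMulRegular A p := fun a b h => mul_left_cancel₀ hp.ne_zero h
    exact h0.of_flat
  have hreg : IsSMulRegular O π := hregS.of_flat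
  have hquot : _root_.IsReduced (O ⧸ Ideal.span ({π} : Set O)) := by
    have e1 : Ideal.span ({π} : Set O) =
        (IsLocalRing.maximalIdeal S).map (f.stalkMap z).hom := by
      rw [hm, Ideal.map_span, Set.image_singleton]
    rw [e1]
    exact isReduced_of_injective (FiberStalk.quotientEquiv f z).toRingHom
      (FiberStalk.quotientEquiv f z).injective
  -- the generic generizations of `z`
  let L := Localization.Away π
  let c : PrimeSpectrum L → X := fun P => X.fromSpecStalk z (P.comap (algebraMap O L))
  have hc : Continuous c :=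
    (X.fromSpecStalk z).continuous.comp (PrimeSpectrum.continuous_comap _)
  have hval : ∀ Q : PrimeSpectrum O, PrimeSpectrum.asIdeal (f (X.fromSpecStalk z Q)) =
      Q.asIdeal.comap ((f.stalkMap z).hom.comp (algebraMap A S)) := fun Q => by
    have e : X.fromSpecStalk z ≫ f = Spec.map (f.stalkMap z) ≫ Y.fromSpecStalk (f z) :=
      (Scheme.SpecMap_stalkMap_fromSpecStalk f).symm
    have := congrArg (fun g : Spec O ⟶ Y => g Q) e
    rw [show f (X.fromSpecStalk z Q) = Y.fromSpecStalk (f z) (Spec.map (f.stalkMap z) Q) from this,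
      Spec.fromSpecStalk_eq]
    rfl
  have hgen : ∀ Q : PrimeSpectrum O,
      X.fromSpecStalk z Q ∈ f ⁻¹' {genericPoint Y} ↔ π ∉ Q.asIdeal := fun Q => by
    have hη : PrimeSpectrum.asIdeal (genericPoint Y) = ⊥ := by
      rw [genericPoint_eq_bot_of_affine]
      rfl
    constructor
    · intro h hπ
      have : p ∈ PrimeSpectrum.asIdeal (f (X.fromSpecStalk z Q)) := by rw [hval]; exact hπ
      rw [show f (X.fromSpecStalk z Q) = genericPoint Y from h, hη, Ideal.mem_bot] at this
      exact hp.ne_zero this
    · intro hπ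
      refine PrimeSpectrum.ext ?_
      rw [hη, hval]
      by_contra hne
      have hprime : (Q.asIdeal.comap ((f.stalkMap z).hom.comp (algebraMap A S))).IsPrime :=
        Ideal.IsPrime.comap _
      exact hπ (show p ∈ Q.asIdeal.comap ((f.stalkMap z).hom.comp (algebraMap A S)) by
        rw [IsLocalRing.eq_maximalIdeal (hprime.isMaximal hne),
          (IsDiscreteValuationRing.irreducible_iff_uniformizer p).1 hp]
        exact Ideal.mem_span_singleton_self p)
  have hlift : ∀ ξ : X, f ξ = genericPoint Y → ξ ⤳ z → ∃ P, c P = ξ := fun ξ hξ hs => by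
    obtain ⟨Q, hQ⟩ : ξ ∈ Set.range (X.fromSpecStalk z) := by
      rw [Scheme.range_fromSpecStalk]; exact hs
    have hπQ : π ∉ PrimeSpectrum.asIdeal Q := (hgen Q).1 (by rw [hQ]; exact hξ)
    obtain ⟨P, hP⟩ : Q ∈ Set.range (PrimeSpectrum.comap (algebraMap O L)) := by
      rw [PrimeSpectrum.localization_away_comap_range L π]
      exact hπQ
    exact ⟨P, by rw [← hQ, ← hP]⟩
  have hcgen : ∀ P, c P ∈ C ∪ D := fun P => by
    rw [hcov]
    refine (hgen _).2 ?_
    have : P.comap (algebraMap O L) ∈ Set.range (PrimeSpectrum.comap (algebraMap O L)) := ⟨P, rfl⟩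
    rw [PrimeSpectrum.localization_away_comap_range L π] at this
    exact this
  have hclop : IsClopen (c ⁻¹' C) := by
    refine ⟨?_, hC.preimage hc⟩
    have : (c ⁻¹' C)ᶜ = c ⁻¹' D := by
      ext P
      exact ⟨fun h => (hcgen P).resolve_left h, fun h h' => Set.disjoint_left.1 hdis h' h⟩
    rw [← isOpen_compl_iff, this]
    exact hD.preimage hc
  obtain ⟨e, he, hCe⟩ := PrimeSpectrum.isClopen_iff.1 hclop
  obtain ⟨P₁, hP₁⟩ := hlift ξ₁ (hcov.subset (Or.inl h₁)) h₁'
  obtain ⟨P₂, hP₂⟩ := hlift ξ₂ (hcov.subset (Or.inr h₂)) h₂'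
  rcases idempotent_eq_zero_or_one π hreg hquot e he with rfl | rfl
  · have h : P₁ ∈ c ⁻¹' C := show c P₁ ∈ C by rw [hP₁]; exact h₁
    rw [hCe] at h
    exact h (zero_mem _)
  · have h : P₂ ∈ c ⁻¹' C := by
      rw [hCe]
      exact P₂.isPrime.one_notMem
    exact Set.disjoint_left.1 hdis h (show c P₂ ∈ D by rw [hP₂]; exact h₂)

/-- Over a discrete valuation ring, two generizations in the generic fibre of a point with flat
local ring and reduced fibre lie in the same component. -/
theorem mem_component_of_common_specialization (g : Spec (CommRingCat.of A) ⟶ X) (hg : g ≫ f = 𝟙 _)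
    (z : X) (hz : f z = IsLocalRing.closedPoint A) (hflat : (f.stalkMap z).hom.Flat)
    (hred : _root_.IsReduced ((f.fiber (f z)).presheaf.stalk (f.asFiber z))) {ξ x' : X}
    (hξ : ξ ∈ connectedComponentIn (f ⁻¹' {genericPoint (Spec (CommRingCat.of A))})
      (g (genericPoint (Spec (CommRingCat.of A))))) (hξz : ξ ⤳ z)
    (hx' : f x' = genericPoint (Spec (CommRingCat.of A))) (hs : x' ⤳ z) :
    x' ∈ connectedComponentIn (f ⁻¹' {genericPoint (Spec (CommRingCat.of A))})
      (g (genericPoint (Spec (CommRingCat.of A)))) := by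
  let Y := Spec (CommRingCat.of A)
  let η : Y := genericPoint Y
  let t₀ : Y := IsLocalRing.closedPoint A
  haveI : IsLocallyNoetherian X := LocallyOfFiniteType.isLocallyNoetherian f
  have hfg : ∀ t, f (g t) = t := fun t => congrArg (fun q : Y ⟶ Y => q t) hg
  have hηo : IsOpen ({η} : Set Y) := by
    have : ({η} : Set Y) = {t₀}ᶜ := by
      ext t
      simp only [Set.mem_singleton_iff, Set.mem_compl_iff]
      constructor
      · rintro rfl h
        have h1 : PrimeSpectrum.asIdeal (genericPoint Y) = ⊥ := by
          rw [genericPoint_eq_bot_of_affine]; rfl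
        rw [show genericPoint Y = t₀ from h] at h1
        exact IsDiscreteValuationRing.not_a_field A h1
      · intro h
        refine PrimeSpectrum.ext ?_
        show _ = PrimeSpectrum.asIdeal (genericPoint Y)
        rw [genericPoint_eq_bot_of_affine]
        by_contra hne
        exact h (PrimeSpectrum.ext (IsLocalRing.eq_maximalIdeal ((PrimeSpectrum.isPrime t).isMaximal hne)))
    rw [this]
    exact (PrimeSpectrum.isClosed_singleton_iff_isMaximal _).2
      (IsLocalRing.maximalIdeal.isMaximal A) |>.isOpen_compl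
  let F : Set X := f ⁻¹' {η}
  have hF : IsOpen F := hηo.preimage f.continuous
  let C := connectedComponentIn F (g η)
  have hCo : IsOpen C := by
    have hgF : g η ∈ F := hfg η
    rw [show C = (fun a : F => a.1) '' connectedComponent (⟨g η, hgF⟩ : F) from
      connectedComponentIn_eq_image hgF]
    haveI : QuasiSober F := hF.isOpenEmbedding_subtypeVal.quasiSober
    refine hF.isOpenEmbedding_subtypeVal.isOpenMap _
      (Lib.FEt.DepthTwo.isOpen_connectedComponent_of_locNoetherian
        (Lib.FEt.DepthTwo.LocNoetherian.subtype Lib.FEt.DepthTwo.locNoetherian_scheme F) _)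
  let D := F \ C
  have hDo : IsOpen D := by
    have : D = F ∩ (closure C)ᶜ := by
      ext z
      refine ⟨fun h => ⟨h.1, fun hcl => h.2 ?_⟩, fun h => ⟨h.1, fun hzC => h.2 (subset_closure hzC)⟩⟩
      refine (IsPreconnected.subset_connectedComponentIn ?_
        (Set.mem_insert_of_mem z (mem_connectedComponentIn (hfg η) : g η ∈ C))
        (Set.insert_subset h.1 (connectedComponentIn_subset F (g η)))) (Set.mem_insert z C)
      exact isPreconnected_connectedComponentIn.subset_closure (Set.subset_insert _ _)
        (Set.insert_subset hcl subset_closure)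
    rw [this]
    exact hF.inter isClosed_closure.isOpen_compl
  have hdis : Disjoint C D := Set.disjoint_left.2 fun z hz hzD => hzD.2 hz
  have hcov : C ∪ D = F := Set.union_sdiff_cancel (connectedComponentIn_subset _ _)
  by_contra hnot
  exact not_both_sides f z hz hflat hred C D hCo hDo hdis hcov hξ hξz ⟨hx', hnot⟩ hs

/-- Over a discrete valuation ring, the component of a section in the generic fibre contains the
generizations of the points of the component in the closed fibre where `X` is flat with reduced
fibre. -/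
theorem mem_generic_component (g : Spec (CommRingCat.of A) ⟶ X) (hg : g ≫ f = 𝟙 _)
    (hz : ∀ z ∈ connectedComponentIn (f ⁻¹' {IsLocalRing.closedPoint A}) (g (IsLocalRing.closedPoint A)),
      (f.stalkMap z).hom.Flat ∧
        _root_.IsReduced ((f.fiber (f z)).presheaf.stalk (f.asFiber z)))
    {x' x : X} (hx : x ∈ connectedComponentIn (f ⁻¹' {IsLocalRing.closedPoint A})
      (g (IsLocalRing.closedPoint A)))
    (hx' : f x' = genericPoint (Spec (CommRingCat.of A))) (hs : x' ⤳ x) :
    x' ∈ connectedComponentIn (f ⁻¹' {genericPoint (Spec (CommRingCat.of A))})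
      (g (genericPoint (Spec (CommRingCat.of A)))) := by
  let Y := Spec (CommRingCat.of A)
  let η : Y := genericPoint Y
  let t₀ : Y := IsLocalRing.closedPoint A
  haveI : IsLocallyNoetherian X := LocallyOfFiniteType.isLocallyNoetherian f
  have hfg : ∀ t, f (g t) = t := fun t => congrArg (fun q : Y ⟶ Y => q t) hg
  have hηo : IsOpen ({η} : Set Y) := by
    have : ({η} : Set Y) = {t₀}ᶜ := by
      ext t
      simp only [Set.mem_singleton_iff, Set.mem_compl_iff]
      constructor
      · rintro rfl h
        have h1 : PrimeSpectrum.asIdeal (genericPoint Y) = ⊥ := by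
          rw [genericPoint_eq_bot_of_affine]; rfl
        rw [show genericPoint Y = t₀ from h] at h1
        exact IsDiscreteValuationRing.not_a_field A h1
      · intro h
        refine PrimeSpectrum.ext ?_
        show _ = PrimeSpectrum.asIdeal (genericPoint Y)
        rw [genericPoint_eq_bot_of_affine]
        by_contra hne
        exact h (PrimeSpectrum.ext (IsLocalRing.eq_maximalIdeal ((PrimeSpectrum.isPrime t).isMaximal hne)))
    rw [this]
    exact (PrimeSpectrum.isClosed_singleton_iff_isMaximal _).2
      (IsLocalRing.maximalIdeal.isMaximal A) |>.isOpen_compl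
  let F : Set X := f ⁻¹' {η}
  have hF : IsOpen F := hηo.preimage f.continuous
  let C := connectedComponentIn F (g η)
  have hCo : IsOpen C := by
    have hgF : g η ∈ F := hfg η
    rw [show C = (fun a : F => a.1) '' connectedComponent (⟨g η, hgF⟩ : F) from
      connectedComponentIn_eq_image hgF]
    haveI : QuasiSober F := hF.isOpenEmbedding_subtypeVal.quasiSober
    refine hF.isOpenEmbedding_subtypeVal.isOpenMap _
      (Lib.FEt.DepthTwo.isOpen_connectedComponent_of_locNoetherian
        (Lib.FEt.DepthTwo.LocNoetherian.subtype Lib.FEt.DepthTwo.locNoetherian_scheme F) _)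
  let D := F \ C
  have hDo : IsOpen D := by
    have : D = F ∩ (closure C)ᶜ := by
      ext z
      refine ⟨fun h => ⟨h.1, fun hcl => h.2 ?_⟩, fun h => ⟨h.1, fun hzC => h.2 (subset_closure hzC)⟩⟩
      refine (IsPreconnected.subset_connectedComponentIn ?_
        (Set.mem_insert_of_mem z (mem_connectedComponentIn (hfg η) : g η ∈ C))
        (Set.insert_subset h.1 (connectedComponentIn_subset F (g η)))) (Set.mem_insert z C)
      exact isPreconnected_connectedComponentIn.subset_closure (Set.subset_insert _ _)
        (Set.insert_subset hcl subset_closure)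
    rw [this]
    exact hF.inter isClosed_closure.isOpen_compl
  have hdis : Disjoint C D := Set.disjoint_left.2 fun z hz hzD => hzD.2 hz
  have hcov : C ∪ D = F := Set.union_sdiff_cancel (connectedComponentIn_subset _ _)
  let C₀ := connectedComponentIn (f ⁻¹' {t₀}) (g t₀)
  have hside : ∀ z ∈ C₀, z ∈ closure C → z ∉ closure D := fun z hzC₀ h1 h2 => by
    obtain ⟨ξ₁, hξ₁, hs₁⟩ := Lib.FEt.DepthTwo.exists_specializes_of_mem_closure
      Lib.FEt.DepthTwo.locNoetherian_scheme hCo h1
    obtain ⟨ξ₂, hξ₂, hs₂⟩ := Lib.FEt.DepthTwo.exists_specializes_of_mem_closure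
      Lib.FEt.DepthTwo.locNoetherian_scheme hDo h2
    exact not_both_sides f z (connectedComponentIn_subset (f ⁻¹' {t₀}) (g t₀) hzC₀) (hz z hzC₀).1
      (hz z hzC₀).2 C D hCo hDo hdis hcov hξ₁ hs₁ hξ₂ hs₂
  have hgC : g t₀ ∈ closure C :=
    ((genericPoint_specializes t₀).map g.continuous).mem_closed isClosed_closure
      (subset_closure (mem_connectedComponentIn (hfg η)))
  have hall : ∀ z ∈ C₀, z ∈ closure C ∪ closure D := fun z hzC₀ => by
    obtain ⟨ξ, hξ, hξz⟩ : ∃ ξ, f ξ = η ∧ ξ ⤳ z := by
      letI : Algebra ↑(Y.presheaf.stalk (f z)) ↑(X.presheaf.stalk z) := (f.stalkMap z).hom.toAlgebra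
      haveI : Module.Flat ↑(Y.presheaf.stalk (f z)) ↑(X.presheaf.stalk z) := (hz z hzC₀).1
      haveI : IsLocalHom (algebraMap ↑(Y.presheaf.stalk (f z)) ↑(X.presheaf.stalk z)) :=
        inferInstanceAs (IsLocalHom (f.stalkMap z).hom)
      haveI : Module.FaithfullyFlat ↑(Y.presheaf.stalk (f z)) ↑(X.presheaf.stalk z) :=
        Module.FaithfullyFlat.of_flat_of_isLocalHom
      obtain ⟨q, hq⟩ : η ∈ Set.range (Y.fromSpecStalk (f z)) := by
        rw [Scheme.range_fromSpecStalk]; exact genericPoint_specializes _
      obtain ⟨Q, hQ⟩ := PrimeSpectrum.comap_surjective_of_faithfullyFlat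
        (A := ↑(Y.presheaf.stalk (f z))) (B := ↑(X.presheaf.stalk z)) q
      refine ⟨X.fromSpecStalk z Q, ?_, ?_⟩
      · have e : X.fromSpecStalk z ≫ f = Spec.map (f.stalkMap z) ≫ Y.fromSpecStalk (f z) :=
          (Scheme.SpecMap_stalkMap_fromSpecStalk f).symm
        rw [show f (X.fromSpecStalk z Q) = Y.fromSpecStalk (f z) (Spec.map (f.stalkMap z) Q) from
          congrArg (fun k : Spec (X.presheaf.stalk z) ⟶ Y => k Q) e, ← hq]
        exact congrArg _ hQ
      · have h : X.fromSpecStalk z Q ∈ Set.range (X.fromSpecStalk z) := ⟨Q, rfl⟩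
        rwa [Scheme.range_fromSpecStalk] at h
    rcases hcov.symm.subset (show ξ ∈ F from hξ) with h | h
    · exact Or.inl (hξz.mem_closed isClosed_closure (subset_closure h))
    · exact Or.inr (hξz.mem_closed isClosed_closure (subset_closure h))
  have hxC : x ∈ closure C := by
    refine (hall x hx).resolve_right fun hxD => ?_
    obtain ⟨z, hzC₀, hz1, hz2⟩ := isPreconnected_closed_iff.1 isPreconnected_connectedComponentIn
      (closure C) (closure D) isClosed_closure isClosed_closure hall
      ⟨g t₀, mem_connectedComponentIn (hfg t₀), hgC⟩ ⟨x, hx, hxD⟩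
    exact hside z hzC₀ hz1 hz2
  by_contra hnot
  exact hside x hx hxC (hs.mem_closed isClosed_closure (subset_closure ⟨hx', hnot⟩))

end Groth.Agent.H46.SectOpenDvr
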