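import Groth.Agent.H46.SectChain
import Groth.Agent.H46.SectOpenDvr
import Groth.Agent.H46.GRAt
import Groth.Agent.H46.OpenAt
import Groth.Agent.H46.DvrScheme

/-!
# Openness of the section components (EGA IV 15.6.5)
-/

set_option autoImplicit false
set_option linter.style.haveILetI false

universe u

open CategoryTheory AlgebraicGeometry Limits Topology

namespace Groth.Agent.H46.SectOpen

variable {X Y : Scheme.{u}} (f : X ⟶ Y) {g : Y ⟶ X} [LocallyOfFiniteType f]

/-- The section components contain the generizations of the points of a component along which `f`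
is universally open with geometrically reduced fibre. -/
theorem mem_of_specializes [IsLocallyNoetherian Y] (hg : g ≫ f = 𝟙 Y) {y : Y}
    (hC : ∀ z ∈ SectComp.C f g y, EGA43.IsUnivOpenAt f z ∧ GRAt.GRAt f z)
    {x' x : X} (hs : x' ⤳ x) (hx : x ∈ SectComp.C f g y) :
    x' ∈ MoreMor.sectionComponents f g := by
  have hfx : f x = y := SectComp.C_subset f g y hx
  by_cases hf : f x' = y
  · show x' ∈ SectComp.C f g (f x')
    rw [hf]
    exact (SectComp.mem_C_of_specializes f hg hs hf hfx).2 hx
  haveI : IsLocallyNoetherian X := LocallyOfFiniteType.isLocallyNoetherian f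
  obtain ⟨A, _, _, _, ψ, hψ0, hψ1⟩ := DvrScheme.exists_dvr_of_specializes hs
    (fun h => hf (h ▸ hfx))
  let T := Spec (CommRingCat.of A)
  let t₀ : T := IsLocalRing.closedPoint A
  let v : T ⟶ Y := ψ ≫ f
  let a := pullback.fst f v
  let f' := pullback.snd f v
  have sq : IsPullback a f' f v := IsPullback.of_hasPullback f v
  haveI : LocallyOfFiniteType f' := inferInstanceAs (LocallyOfFiniteType (pullback.snd f v))
  let g' : T ⟶ pullback f v := pullback.lift (v ≫ g) (𝟙 _)
    (by rw [Category.assoc, hg, Category.comp_id, Category.id_comp])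
  have hg' : g' ≫ f' = 𝟙 T := pullback.lift_snd _ _ _
  have hga : g' ≫ a = v ≫ g := pullback.lift_fst _ _ _
  let σ : T ⟶ pullback f v := pullback.lift ψ (𝟙 _) (Category.id_comp v).symm
  have hσa : ∀ t, a (σ t) = ψ t := fun t =>
    congrArg (fun q : T ⟶ X => q t) (pullback.lift_fst _ _ _ : σ ≫ a = ψ)
  have hσf : ∀ t, f' (σ t) = t := fun t =>
    congrArg (fun q : T ⟶ T => q t) (pullback.lift_snd _ _ _ : σ ≫ f' = 𝟙 T)
  have hiff := Groth.Agent.H54.SectionComp.result f g hg f' a v sq g' hg' hga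
  have hv : v t₀ = y := (congrArg f hψ0).trans hfx
  have hC' : ∀ z ∈ SectComp.C f' g' t₀,
      (∀ ζ, f' ζ = f' z → ζ ⤳ z → EGA43.IsUnivOpenAt f' ζ) ∧ GRAt.GRAt f' z := by
    intro z hz
    have hfz : f' z = t₀ := SectComp.C_subset f' g' t₀ hz
    have hmem : ∀ w, f' w = t₀ → w ∈ SectComp.C f' g' t₀ → a w ∈ SectComp.C f g y := by
      intro w hw hwC
      have h : w ∈ MoreMor.sectionComponents f' g' := show w ∈ SectComp.C f' g' (f' w) by
        rw [hw]; exact hwC
      rw [hiff] at h
      have hfa : f (a w) = y :=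
        (congrArg (fun q : pullback f v ⟶ Y => q w) sq.w).trans ((congrArg v hw).trans hv)
      exact hfa ▸ (h : a w ∈ SectComp.C f g (f (a w)))
    refine ⟨fun ζ hζ hζz => ?_, GRAt.baseChange sq z (hC _ (hmem z hfz hz)).2⟩
    exact OpenAt.isUnivOpenAt_baseChange (hC _ (hmem ζ (hζ.trans hfz)
      ((SectComp.mem_C_of_specializes f' hg' hζz (hζ.trans hfz) hfz).2 hz))).1 sq ζ rfl
  have hx₀ : σ t₀ ∈ SectComp.C f' g' t₀ := by
    have h : σ t₀ ∈ MoreMor.sectionComponents f' g' := by
      rw [hiff]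
      show a (σ t₀) ∈ MoreMor.sectionComponents f g
      rw [hσa, hψ0]
      show x ∈ SectComp.C f g (f x)
      rw [hfx]; exact hx
    have h' : σ t₀ ∈ SectComp.C f' g' (f' (σ t₀)) := h
    rwa [hσf] at h'
  have key := SectOpenDvr.mem_generic_component f' g' hg' (fun z hz => by
    obtain ⟨hopen, hgr⟩ := hC' z hz
    have hgr' := (GRAt.grAt_iff f' z).1 hgr
    refine ⟨(FlatUnivOpen.flat_stalkMap f' z (fun ζ h1 h2 _ => hopen ζ h1 h2) hgr'
      inferInstance).1, ?_⟩
    exact FlatUnivOpen.isReduced_stalk_of_geomRed (k := T.residueField (f' z)) _ _ hgr')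
    hx₀ (hσf _) ((genericPoint_specializes t₀).map σ.continuous)
  have h : σ (genericPoint T) ∈ MoreMor.sectionComponents f' g' := by
    show σ (genericPoint T) ∈ SectComp.C f' g' (f' (σ (genericPoint T)))
    rw [hσf]
    exact key
  rw [hiff] at h
  have h' : a (σ (genericPoint T)) ∈ MoreMor.sectionComponents f g := h
  rwa [hσa, hψ1] at h'

/-- EGA IV 15.6.5. -/
theorem subset_interior [IsLocallyNoetherian Y] (hg : g ≫ f = 𝟙 Y) (y : Y)
    (hC : ∀ z ∈ SectComp.C f g y, EGA43.IsUnivOpenAt f z ∧ GRAt.GRAt f z) :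
    SectComp.C f g y ⊆ interior (MoreMor.sectionComponents f g) := fun x hx =>
  mem_interior_iff_mem_nhds.2
    (SectChain.mem_nhds_of_generizations f hg x fun _ h => mem_of_specializes f hg hC h hx)

end Groth.Agent.H46.SectOpen
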