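import Groth.Agent.H46.GeomSpread.SectionCons
import Groth.Agent.H2.FlatDescend.Model
import Groth.Agent.H54.SectionComp
import Groth.Agent.H46.GRAt
import Groth.Agent.H46.SectComp
import Groth.Agent.Lib.LimTop.Descend
import Groth.Agent.H47.ConsPreimage

/-!
# Noetherian models of morphisms with a section
-/

set_option autoImplicit false
set_option linter.style.haveILetI false
noncomputable section

universe u

open CategoryTheory CategoryTheory.Limits AlgebraicGeometry TopologicalSpace Topology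

namespace Groth.Agent.H46.SectModel

/-- A Noetherian model of a morphism with a section. -/
structure Model {X Y : Scheme.{u}} (f : X ⟶ Y) (s : Y ⟶ X) where
  X₁ : Scheme.{u}
  Y₁ : Scheme.{u}
  f₁ : X₁ ⟶ Y₁
  s₁ : Y₁ ⟶ X₁
  p : X ⟶ X₁
  b : Y ⟶ Y₁
  sq : IsPullback p f f₁ b
  hs : s₁ ≫ f₁ = 𝟙 Y₁
  hsp : s ≫ p = b ≫ s₁
  isNoetherian_Y : IsNoetherian Y₁
  isNoetherian_X : IsNoetherian X₁
  lft : LocallyOfFiniteType f₁
  flat : Flat f → Flat f₁

/-- A model at a stage of an approximation of the base. -/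
structure Stage {X Y : Scheme.{u}} (AS : Lib.Lim.Approx.Basic.Approx Y) (f : X ⟶ Y) (s : Y ⟶ X) where
  j : AS.Iᵒᵖ
  X₁ : Scheme.{u}
  f₁ : X₁ ⟶ AS.D.obj j
  s₁ : AS.D.obj j ⟶ X₁
  p : X ⟶ X₁
  sq : IsPullback p f f₁ (AS.π.app j)
  hs : s₁ ≫ f₁ = 𝟙 _
  hsp : s ≫ p = AS.π.app j ≫ s₁
  compactX : CompactSpace X₁
  qsX : QuasiSeparatedSpace X₁
  lfp : LocallyOfFinitePresentation f₁

variable {X Y : Scheme.{u}} {f : X ⟶ Y} {s : Y ⟶ X}

/-- A stage as a model. -/
def Stage.toModel {AS : Lib.Lim.Approx.Basic.Approx Y} (S : Stage AS f s) (hfl : Flat f → Flat S.f₁) :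
    Model f s :=
  have : CompactSpace ↑(AS.D.obj S.j) := AS.compact _
  have := S.compactX
  have := S.lfp
  have : IsLocallyNoetherian S.X₁ := LocallyOfFiniteType.isLocallyNoetherian S.f₁
  { X₁ := S.X₁, Y₁ := AS.D.obj S.j, f₁ := S.f₁, s₁ := S.s₁, p := S.p, b := AS.π.app S.j
    sq := S.sq, hs := S.hs, hsp := S.hsp
    isNoetherian_Y := {}
    isNoetherian_X := {}
    lft := inferInstance
    flat := hfl }

/-- Moving to a finer stage. -/
def Stage.move {AS : Lib.Lim.Approx.Basic.Approx Y} (hs : s ≫ f = 𝟙 Y) (S : Stage AS f s) {k : AS.Iᵒᵖ}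
    (ψ : k ⟶ S.j) : Stage AS f s where
  j := k
  X₁ := pullback S.f₁ (AS.D.map ψ)
  f₁ := pullback.snd S.f₁ (AS.D.map ψ)
  s₁ := pullback.lift (AS.D.map ψ ≫ S.s₁) (𝟙 _)
    (by rw [Category.assoc, S.hs, Category.comp_id, Category.id_comp])
  p := pullback.lift S.p (f ≫ AS.π.app k) (by
    rw [Category.assoc, show AS.π.app k ≫ AS.D.map ψ = AS.π.app S.j from AS.cone.w ψ]
    exact S.sq.w)
  sq := Lib.Lim.FPDescend.move (c := AS.cone) S.sq ψ
  hs := pullback.lift_snd _ _ _
  hsp := by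
    apply pullback.hom_ext
    · rw [Category.assoc, pullback.lift_fst, Category.assoc, pullback.lift_fst, S.hsp,
        ← Category.assoc, show AS.π.app k ≫ AS.D.map ψ = AS.π.app S.j from AS.cone.w ψ]
    · rw [Category.assoc, pullback.lift_snd, Category.assoc, pullback.lift_snd,
        Category.comp_id, ← Category.assoc, hs, Category.id_comp]
  compactX := have := S.compactX; Lib.Lim.FPDescend.compactSpace_stage (D := AS.D) S.f₁ ψ
  qsX := have := S.qsX; Lib.Lim.FPDescend.quasiSeparatedSpace_stage (D := AS.D) S.f₁ ψ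
  lfp := MorphismProperty.pullback_snd _ _ S.lfp

theorem exists_stage [CompactSpace Y] [QuasiSeparatedSpace Y] (AS : Lib.Lim.Approx.Basic.Approx Y)
    (f : X ⟶ Y) (s : Y ⟶ X) (hs : s ≫ f = 𝟙 Y)
    [LocallyOfFinitePresentation f] [QuasiCompact f] [QuasiSeparated f] :
    Nonempty (Stage AS f s) := by
  have : CompactSpace X := QuasiCompact.compactSpace_of_compactSpace f
  have : QuasiSeparatedSpace X := quasiSeparatedSpace_of_quasiSeparated f
  obtain ⟨i, Xi, fi, g, hXi, hXi', hfi, hsq⟩ :=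
    Lib.Lim.FPDescend.exists_descent (c := AS.cone) AS.isLimit f
  have hsqi : IsPullback (AS.π.app i) (𝟙 Y) (𝟙 (AS.D.obj i)) (AS.π.app i) := IsPullback.id_vert _
  have : CompactSpace ↑(AS.D.obj i) := AS.compact _
  obtain ⟨j, φ, g', hg', hg'c⟩ := Lib.Lim.Basic.exists_bc_hom (D := AS.D) (c := AS.cone) (i₀ := i)
    (a := 𝟙 (AS.D.obj i)) AS.isLimit hsqi fi (𝟙 _) (s ≫ g) (by
      rw [Category.assoc, hsq.w, reassoc_of% hs, Category.comp_id])
  let f₁ := pullback.snd fi (AS.D.map φ)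
  let sj : AS.D.obj j ⟶ pullback fi (AS.D.map φ) :=
    pullback.lift (pullback.lift (AS.D.map φ) (𝟙 _) (by simp) ≫ g') (𝟙 _) (by
      simp only [Category.assoc, hg', Category.comp_id, pullback.lift_fst, Category.id_comp])
  have hsj : sj ≫ f₁ = 𝟙 _ := pullback.lift_snd _ _ _
  have hsq₁ := Lib.Lim.FPDescend.move (c := AS.cone) hsq φ
  let g₁ : X ⟶ pullback fi (AS.D.map φ) :=
    pullback.lift g (f ≫ AS.π.app j) (by
      rw [Category.assoc, show AS.π.app j ≫ AS.D.map φ = AS.π.app i from AS.cone.w φ, hsq.w])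
  have hσg : s ≫ g₁ = AS.π.app j ≫ sj := by
    apply pullback.hom_ext
    · rw [Category.assoc, pullback.lift_fst, Category.assoc, pullback.lift_fst, ← Category.assoc, ← hg'c]
      congr 1
      apply pullback.hom_ext
      · rw [pullback.lift_fst, Category.assoc, pullback.lift_fst]
        exact (AS.cone.w φ).symm
      · rw [pullback.lift_snd, Category.assoc, pullback.lift_snd, Category.comp_id]
        exact Category.id_comp _
    · rw [Category.assoc, pullback.lift_snd, Category.assoc, pullback.lift_snd, Category.comp_id,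
        ← Category.assoc, hs, Category.id_comp]
  have : CompactSpace ↑(AS.D.obj j) := AS.compact _
  have : CompactSpace ↑(pullback fi (AS.D.map φ)) := Lib.Lim.FPDescend.compactSpace_stage (D := AS.D) fi φ
  have : QuasiSeparatedSpace ↑(pullback fi (AS.D.map φ)) :=
    Lib.Lim.FPDescend.quasiSeparatedSpace_stage (D := AS.D) fi φ
  have : LocallyOfFinitePresentation f₁ := MorphismProperty.pullback_snd _ _ hfi
  exact ⟨⟨j, _, f₁, sj, g₁, hsq₁, hsj, hσg, inferInstance, inferInstance, inferInstance⟩⟩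

/-- Morphisms of finite presentation with a section over an affine base have Noetherian models. -/
theorem exists_model {X Y : Scheme.{u}} [IsAffine Y] (f : X ⟶ Y) (s : Y ⟶ X) (hs : s ≫ f = 𝟙 Y)
    [LocallyOfFinitePresentation f] [QuasiCompact f] [QuasiSeparated f] : Nonempty (Model f s) := by
  obtain ⟨AS⟩ := Lib.Lim.Approx.Main.exists_approx (S := Y)
  obtain ⟨S⟩ := exists_stage AS f s hs
  by_cases hfl : Flat f
  · have : CompactSpace ↑(AS.D.obj S.j) := AS.compact _
    have := S.lfp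
    obtain ⟨k, ψ, hk⟩ := H2.FlatDescend.flatFp_descends AS.D AS.cone AS.isLimit
      (fun _ _ _ => inferInstance) S.j inferInstance inferInstance S.f₁ S.compactX S.qsX
      inferInstance f S.p S.sq ⟨hfl, inferInstance⟩
    exact ⟨(S.move hs ψ).toModel fun _ => hk.1⟩
  · exact ⟨S.toModel fun h => absurd h hfl⟩

/-- Models with constant dimension of the fibres along the section. -/
theorem exists_model_const {X Y : Scheme.{u}} [IsAffine Y] (f : X ⟶ Y) (s : Y ⟶ X)
    (hs : s ≫ f = 𝟙 Y) [LocallyOfFinitePresentation f] [QuasiCompact f] [QuasiSeparated f] (n : ℕ)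
    (hn : ∀ y, DimData.fe f (s y) = n) :
    ∃ M : Model f s, ∀ z, haveI := M.lft; DimData.fe M.f₁ (M.s₁ z) = n := by
  obtain ⟨AS⟩ := Lib.Lim.Approx.Main.exists_approx (S := Y)
  obtain ⟨S⟩ := exists_stage AS f s hs
  have : CompactSpace ↑(AS.D.obj S.j) := AS.compact _
  have := S.lfp
  have : NoetherianSpace ↑(AS.D.obj S.j) := by
    have : IsNoetherian (AS.D.obj S.j) := {}
    infer_instance
  let O : ℕ → Set ↑(AS.D.obj S.j) := fun m =>
    {z | FlatMor.fibreDimAt S.f₁ (S.s₁ z) ≤ (m : WithBot ℕ∞)}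
  have hO : ∀ m, IsOpen (O m) := fun m =>
    (Groth.Agent.Lib.FibreDim.Semicont.isOpen_setOf_fibreDimAt_le S.f₁ _).preimage S.s₁.continuous
  let E : Set ↑(AS.D.obj S.j) := {z | DimData.fe S.f₁ (S.s₁ z) = n}
  have hmem : ∀ m z, z ∈ O m ↔ DimData.fe S.f₁ (S.s₁ z) ≤ m := fun m z => by
    show FlatMor.fibreDimAt S.f₁ (S.s₁ z) ≤ (m : WithBot ℕ∞) ↔ _
    rw [DimData.fibreDimAt_eq, Nat.cast_le]
  have hE : IsConstructible E := by
    have e : E = O n \ ⋃ m ∈ Set.Iio n, O m := by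
      ext z
      simp only [E, Set.mem_sdiff, Set.mem_iUnion, Set.mem_Iio, hmem, Set.mem_ofPred_eq]
      constructor
      · intro h
        exact ⟨h.le, fun ⟨m, hm, hle⟩ => by omega⟩
      · intro ⟨h1, h2⟩
        by_contra h
        exact h2 ⟨DimData.fe S.f₁ (S.s₁ z), by omega, le_rfl⟩
    rw [e]
    have hc : ∀ U : Set ↑(AS.D.obj S.j), IsOpen U → IsConstructible U := fun U hU =>
      (NoetherianSpace.isCompact U).isConstructible hU
    exact (hc _ (hO n)).sdiff (hc _ (isOpen_biUnion fun m _ => hO m))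
  have hpc : Lib.LimTop.PC.IsPC Eᶜ := fun U hU =>
    have : CompactSpace ↥(U : Scheme.{u}) := Lib.LimTop.PC.compactSpace_of_isAffineOpen hU
    have : IsAffine (U : Scheme.{u}) := hU
    (Lib.LimTop.PC.isClopen_cons_of_isConstructible
      (H47.ConsPreimage.isLocallyConstructible_preimage U.ι
        hE.compl.isLocallyConstructible).isConstructible).1
  have hall : ∀ y, AS.π.app S.j y ∈ E := fun y => by
    show DimData.fe S.f₁ (S.s₁ (AS.π.app S.j y)) = n
    have h := H2.FibreDimPullback.fibreDimAt_of_isPullback S.sq (s y)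
    have e : S.p (s y) = S.s₁ (AS.π.app S.j y) := congrArg (fun q : Y ⟶ S.X₁ => q y) S.hsp
    rw [DimData.fibreDimAt_eq, DimData.fibreDimAt_eq, e, hn] at h
    exact_mod_cast h.symm
  obtain ⟨k, ψ, hk⟩ := Lib.LimTop.Descend.exists_map_preimage_open_subset (c := AS.cone) AS.isLimit
    (⊤ : (AS.D.obj S.j).Opens) isCompact_univ hpc (fun y _ => hall y)
  have hkE : ∀ z, AS.D.map ψ z ∈ E := fun z => hk trivial
  have step : Nonempty {S' : Stage AS f s // ∀ z, haveI := S'.lfp; DimData.fe S'.f₁ (S'.s₁ z) = n} := by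
    refine ⟨⟨S.move hs ψ, fun z => ?_⟩⟩
    have := (S.move hs ψ).lfp
    have : CompactSpace ↑(AS.D.obj k) := AS.compact _
    have hz : DimData.fe S.f₁ (S.s₁ (AS.D.map ψ z)) = n := hkE z
    have h := H2.FibreDimPullback.fibreDimAt_of_isPullback
      (IsPullback.of_hasPullback S.f₁ (AS.D.map ψ)) ((S.move hs ψ).s₁ z)
    have e : pullback.fst S.f₁ (AS.D.map ψ) ((S.move hs ψ).s₁ z) = S.s₁ (AS.D.map ψ z) :=
      congrArg (fun q : AS.D.obj k ⟶ S.X₁ => q z) (pullback.lift_fst _ _ _)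
    rw [e, DimData.fibreDimAt_eq S.f₁, hz] at h
    have h' : FlatMor.fibreDimAt (S.move hs ψ).f₁ ((S.move hs ψ).s₁ z) = (n : WithBot ℕ∞) := h
    rw [DimData.fibreDimAt_eq] at h'
    exact_mod_cast h'
  obtain ⟨⟨S', hS'⟩⟩ := step
  by_cases hfl : Flat f
  · have : CompactSpace ↑(AS.D.obj S'.j) := AS.compact _
    have := S'.lfp
    obtain ⟨l, χ, hl⟩ := H2.FlatDescend.flatFp_descends AS.D AS.cone AS.isLimit
      (fun _ _ _ => inferInstance) S'.j inferInstance inferInstance S'.f₁ S'.compactX S'.qsX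
      inferInstance f S'.p S'.sq ⟨hfl, inferInstance⟩
    refine ⟨(S'.move hs χ).toModel fun _ => hl.1, fun z => ?_⟩
    have := (S'.move hs χ).lfp
    have h := H2.FibreDimPullback.fibreDimAt_of_isPullback
      (IsPullback.of_hasPullback S'.f₁ (AS.D.map χ)) ((S'.move hs χ).s₁ z)
    have e : pullback.fst S'.f₁ (AS.D.map χ) ((S'.move hs χ).s₁ z) = S'.s₁ (AS.D.map χ z) :=
      congrArg (fun q : AS.D.obj l ⟶ S'.X₁ => q z) (pullback.lift_fst _ _ _)
    rw [e, DimData.fibreDimAt_eq S'.f₁, hS'] at h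
    have h' : FlatMor.fibreDimAt (S'.move hs χ).f₁ ((S'.move hs χ).s₁ z) = (n : WithBot ℕ∞) := h
    rw [DimData.fibreDimAt_eq] at h'
    exact_mod_cast h'
  · exact ⟨S'.toModel fun h => absurd h hfl, hS'⟩

variable (hs : s ≫ f = 𝟙 Y) (M : Model f s)
include hs

theorem preimage_sectionComponents :
    MoreMor.sectionComponents f s = M.p ⁻¹' MoreMor.sectionComponents M.f₁ M.s₁ :=
  Groth.Agent.H54.SectionComp.result M.f₁ M.s₁ M.hs f M.p M.b M.sq s hs M.hsp

/-- Every point of the component downstairs comes from a point of the component upstairs. -/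
theorem exists_lift (y : Y) {z₁ : M.X₁}
    (hz : z₁ ∈ connectedComponentIn (M.f₁ ⁻¹' {M.b y}) (M.s₁ (M.b y))) :
    ∃ z ∈ connectedComponentIn (f ⁻¹' {y}) (s y), M.p z = z₁ := by
  have hfz : M.f₁ z₁ = M.b y :=
    connectedComponentIn_subset (M.f₁ ⁻¹' {M.b y}) (M.s₁ (M.b y)) hz
  obtain ⟨w, hw₁, hw₂⟩ := Scheme.Pullback.exists_preimage_pullback (f := M.f₁) (g := M.b) z₁ y hfz
  let z : X := M.sq.isoPullback.inv w
  have hz₁ : M.p z = z₁ :=
    (congrArg (fun q : pullback M.f₁ M.b ⟶ M.X₁ => q w) M.sq.isoPullback_inv_fst).trans hw₁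
  have hz₂ : f z = y :=
    (congrArg (fun q : pullback M.f₁ M.b ⟶ Y => q w) M.sq.isoPullback_inv_snd).trans hw₂
  have h : z ∈ MoreMor.sectionComponents f s := by
    rw [preimage_sectionComponents hs M]
    show M.p z ∈ connectedComponentIn (M.f₁ ⁻¹' {M.f₁ (M.p z)}) (M.s₁ (M.f₁ (M.p z)))
    rw [hz₁, hfz]
    exact hz
  refine ⟨z, ?_, hz₁⟩
  rw [← hz₂]
  exact h

end Groth.Agent.H46.SectModel
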