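import Groth.Agent.H46.SectModel
import Groth.Agent.H46.SectOpen

/-!
# Openness of the section components of flat morphisms of finite presentation
-/

set_option autoImplicit false
set_option linter.style.haveILetI false

universe u

open CategoryTheory AlgebraicGeometry Limits Topology

namespace Groth.Agent.H46.SectOpenFlat

/-- The affine case. -/
theorem subset_interior_of_isAffine {X Y : Scheme.{u}} [IsAffine Y] (f : X ⟶ Y) [Flat f]
    [LocallyOfFinitePresentation f] [QuasiCompact f] [QuasiSeparated f] (g : Y ⟶ X)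
    (hg : g ≫ f = 𝟙 Y) (y : Y) (hgr : ∀ z ∈ SectComp.C f g y, GRAt.GRAt f z) :
    SectComp.C f g y ⊆ interior (MoreMor.sectionComponents f g) := by
  obtain ⟨M⟩ := SectModel.exists_model f g hg
  haveI : Flat M.f₁ := M.flat inferInstance
  haveI : LocallyOfFiniteType M.f₁ := M.lft
  haveI : IsNoetherian M.Y₁ := M.isNoetherian_Y
  intro z hz
  have hfz : f z = y := SectComp.C_subset f g y hz
  have hz' : z ∈ MoreMor.sectionComponents f g := show z ∈ SectComp.C f g (f z) by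
    rw [hfz]; exact hz
  rw [SectModel.preimage_sectionComponents hg M] at hz' ⊢
  have hb : M.f₁ (M.p z) = M.b y :=
    (congrArg (fun q : X ⟶ M.Y₁ => q z) M.sq.w).trans (congrArg M.b hfz)
  refine preimage_interior_subset_interior_preimage M.p.continuous
    (SectOpen.subset_interior M.f₁ M.hs (M.b y) (fun z₁ hz₁ => ?_) ?_)
  · obtain ⟨w, hw, rfl⟩ := SectModel.exists_lift hg M y hz₁
    exact ⟨UnivOpen.isUnivOpenAt_of_universallyOpen M.f₁ _,
      GRAt.of_baseChange M.sq w (GRAt.baseChange (IsPullback.id_horiz f) w (hgr w hw))⟩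
  · have h : M.p z ∈ SectComp.C M.f₁ M.s₁ (M.f₁ (M.p z)) := hz'
    rwa [hb] at h

/-- EGA IV 15.6.7 / 15.6.5 for flat morphisms of finite presentation. -/
theorem subset_interior {X Y : Scheme.{u}} (f : X ⟶ Y) [Flat f]
    [LocallyOfFinitePresentation f] [QuasiCompact f] [QuasiSeparated f] (g : Y ⟶ X)
    (hg : g ≫ f = 𝟙 Y) (y : Y) (hgr : ∀ z ∈ SectComp.C f g y, GRAt.GRAt f z) :
    SectComp.C f g y ⊆ interior (MoreMor.sectionComponents f g) := by
  obtain ⟨U, hU, hyU, -⟩ := exists_isAffineOpen_mem_and_subset (X := Y) (x := y) (U := ⊤) trivial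
  haveI : IsAffine (U : Scheme.{u}) := hU
  let ι := (f ⁻¹ᵁ U).ι
  let σ : (U : Scheme.{u}) ⟶ (f ⁻¹ᵁ U : Scheme.{u}) :=
    IsOpenImmersion.lift ι (U.ι ≫ g) (by
      rintro _ ⟨v, rfl⟩
      rw [Scheme.Opens.range_ι]
      show (U.ι ≫ g ≫ f) v ∈ U
      rw [hg, Category.comp_id]
      exact v.2)
  have hσι : σ ≫ ι = U.ι ≫ g := IsOpenImmersion.lift_fac _ _ _
  have hσ : σ ≫ (f ∣_ U) = 𝟙 _ := by
    rw [← cancel_mono U.ι, Category.assoc, morphismRestrict_ι, reassoc_of% hσι, hg,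
      Category.comp_id, Category.id_comp]
  have sq : IsPullback ι (f ∣_ U) f U.ι := (isPullback_morphismRestrict f U).flip
  have e : MoreMor.sectionComponents (f ∣_ U) σ = ι ⁻¹' MoreMor.sectionComponents f g :=
    Groth.Agent.H54.SectionComp.result f g hg (f ∣_ U) ι U.ι sq σ hσ hσι
  have hfι : ∀ w, f (ι w) = U.ι ((f ∣_ U) w) := fun w =>
    congrArg (fun q : (f ⁻¹ᵁ U : Scheme.{u}) ⟶ Y => q w) sq.w
  have hmem : ∀ w, (f ∣_ U) w = ⟨y, hyU⟩ →
      (w ∈ SectComp.C (f ∣_ U) σ ⟨y, hyU⟩ ↔ ι w ∈ SectComp.C f g y) := fun w hw => by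
    have h := Set.ext_iff.1 e w
    change w ∈ SectComp.C (f ∣_ U) σ ((f ∣_ U) w) ↔ ι w ∈ SectComp.C f g (f (ι w)) at h
    rwa [hfι, hw] at h
  intro x hx
  obtain ⟨w, rfl⟩ : x ∈ Set.range ι := by
    rw [Scheme.Opens.range_ι]
    show f x ∈ U
    rw [show f x = y from SectComp.C_subset f g y hx]
    exact hyU
  have hw : (f ∣_ U) w = ⟨y, hyU⟩ :=
    U.ι.isEmbedding.injective ((hfι w).symm.trans (SectComp.C_subset f g y hx))
  have key := subset_interior_of_isAffine (f ∣_ U) σ hσ ⟨y, hyU⟩ (fun v hv =>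
    GRAt.baseChange sq v (hgr _ ((hmem v (SectComp.C_subset (f ∣_ U) σ _ hv)).1 hv)))
    ((hmem w hw).2 hx)
  rw [e, ← ι.isOpenEmbedding.isOpenMap.preimage_interior_eq_interior_preimage ι.continuous] at key
  exact key

end Groth.Agent.H46.SectOpenFlat
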