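import Groth.Agent.Lib.Unram.BranchHenselian
import Groth.Agent.Lib.Henselian.StrictHenselization
import Groth.Agent.H52.FBase.GeomPt
import Groth.Agent.H52.FBase.GeomRed
import Groth.Agent.S2691
import Mathlib.LinearAlgebra.TensorProduct.RightExactness

/-!
# Branches of a tensor product of henselian local algebras over an algebraically closed field

Above a pair of minimal primes `p ⊆ A`, `q ⊆ B` the normalization of `A/p ⊗ B/q` has a single
geometric point over the closed point.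
-/

set_option autoImplicit false

universe u

open IsLocalRing
open scoped TensorProduct

namespace Groth.Agent.H46.TensorBranch

/-- A geometric point of an integral domain extension of a henselian local algebra with residue
field the algebraically closed ground field is determined by its restriction. -/
theorem hom_ext_of_isIntegral {k A A' Ω : Type u} [Field k] [IsAlgClosed k] [CommRing A]
    [HenselianLocalRing A] [Algebra k A] (hA : Function.Bijective ((residue A).comp (algebraMap k A)))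
    [CommRing A'] [IsDomain A'] [Algebra A A'] [Algebra.IsIntegral A A'] [Field Ω]
    (f g : A' →+* Ω) (hfg : f.comp (algebraMap A A') = g.comp (algebraMap A A'))
    (hm : ∀ a ∈ maximalIdeal A, f (algebraMap A A' a) = 0) : f = g := by
  haveI : IsLocalRing A' := Lib.Henselian.Unibranch.isLocalRing_of_isDomain A A'
  have hker : ∀ h : A' →+* Ω, h.comp (algebraMap A A') = f.comp (algebraMap A A') →
      ∀ x ∈ maximalIdeal A', h x = 0 := fun h hh x hx => by
    have hmax : (RingHom.ker h).IsMaximal := by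
      haveI : (RingHom.ker h).IsPrime := RingHom.ker_isPrime _
      refine Ideal.isMaximal_of_isIntegral_of_isMaximal_comap (R := A) _ ?_
      have he : (RingHom.ker h).comap (algebraMap A A') = maximalIdeal A := by
        rw [RingHom.comap_ker, hh]
        exact ((maximalIdeal.isMaximal A).eq_of_le (RingHom.ker_ne_top _)
          (fun a ha => RingHom.mem_ker.mpr (hm a ha))).symm
      exact he ▸ maximalIdeal.isMaximal A
    exact (eq_maximalIdeal hmax).ge hx
  haveI : IsLocalHom (algebraMap A A') := by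
    refine ((local_hom_TFAE (algebraMap A A')).out 0 4).mpr ?_
    haveI := Ideal.isMaximal_comap_of_isIntegral_of_isMaximal (R := A) (maximalIdeal A')
    exact eq_maximalIdeal this
  letI : Algebra k (ResidueField A') :=
    ((residue A').comp ((algebraMap A A').comp (algebraMap k A))).toAlgebra
  haveI : Algebra.IsIntegral k (ResidueField A') := ⟨fun x => by
    obtain ⟨x, rfl⟩ := residue_surjective x
    obtain ⟨p, hp, hx⟩ := Algebra.IsIntegral.isIntegral (R := A) x
    let e : k ≃+* ResidueField A := RingEquiv.ofBijective _ hA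
    refine ⟨p.map (e.symm.toRingHom.comp (residue A)), hp.map _, ?_⟩
    have hcomp : (algebraMap k (ResidueField A')).comp (e.symm.toRingHom.comp (residue A)) =
        (residue A').comp (algebraMap A A') := RingHom.ext fun a => by
      show ResidueField.map (algebraMap A A') (e (e.symm (residue A a))) = _
      rw [e.apply_symm_apply]
      rfl
    rw [Polynomial.eval₂_map, hcomp, ← Polynomial.hom_eval₂, hx, map_zero]⟩
  refine RingHom.ext fun x => ?_
  obtain ⟨c, hc⟩ := (IsAlgClosed.algebraMap_bijective_of_isIntegral (k := k)).2 (residue A' x)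
  have hxc : x - algebraMap A A' (algebraMap k A c) ∈ maximalIdeal A' := by
    rw [← residue_eq_zero_iff, map_sub, ← hc]
    exact sub_self _
  have h1 := hker f rfl _ hxc
  have h2 := hker g hfg.symm _ hxc
  rw [map_sub, sub_eq_zero] at h1 h2
  rw [h1, h2]
  exact RingHom.congr_fun hfg _

variable {k A B : Type u} [Field k] [IsAlgClosed k] [CommRing A] [CommRing B] [Algebra k A] [Algebra k B]
  (p : Ideal A) [p.IsPrime] (q : Ideal B) [q.IsPrime]

/-- The reduction of `A ⊗ B` at a pair of primes. -/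
noncomputable def toQuot : A ⊗[k] B →ₐ[k] (A ⧸ p) ⊗[k] (B ⧸ q) :=
  Algebra.TensorProduct.map (Ideal.Quotient.mkₐ k p) (Ideal.Quotient.mkₐ k q)

/-- The prime of `A ⊗ B` attached to a pair of primes. -/
noncomputable abbrev pairPrime : Ideal (A ⊗[k] B) := RingHom.ker (toQuot (k := k) p q)

theorem isPrime_pairPrime : (pairPrime (k := k) p q).IsPrime :=
  haveI : IsDomain ((A ⧸ p) ⊗[k] (B ⧸ q)) := H52.FBase.GeomPt.isDomain_tensor_of_isAlgClosed
  RingHom.ker_isPrime _

theorem pairPrime_eq : pairPrime (k := k) p q =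
    p.map (Algebra.TensorProduct.includeLeft : A →ₐ[k] A ⊗[k] B) ⊔
      q.map (Algebra.TensorProduct.includeRight : B →ₐ[k] A ⊗[k] B) := by
  rw [pairPrime, toQuot, Algebra.TensorProduct.map_ker _ _ (Ideal.Quotient.mkₐ_surjective k p)
    (Ideal.Quotient.mkₐ_surjective k q)]
  erw [Ideal.Quotient.mkₐ_ker k p, Ideal.Quotient.mkₐ_ker k q]

theorem pairPrime_le (P : Ideal (A ⊗[k] B))
    (hp : p ≤ P.comap (Algebra.TensorProduct.includeLeft : A →ₐ[k] A ⊗[k] B))
    (hq : q ≤ P.comap (Algebra.TensorProduct.includeRight : B →ₐ[k] A ⊗[k] B)) :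
    pairPrime (k := k) p q ≤ P := by
  rw [pairPrime_eq]
  exact sup_le (Ideal.map_le_iff_le_comap.mpr hp) (Ideal.map_le_iff_le_comap.mpr hq)

theorem comap_left :
    (pairPrime (k := k) p q).comap (Algebra.TensorProduct.includeLeft : A →ₐ[k] A ⊗[k] B) = p := by
  have hinj : Function.Injective
      (Algebra.TensorProduct.includeLeft : A ⧸ p →ₐ[k] (A ⧸ p) ⊗[k] (B ⧸ q)) :=
    Algebra.TensorProduct.includeLeft_injective (FaithfulSMul.algebraMap_injective k (B ⧸ q))
  ext a
  rw [Ideal.mem_comap, RingHom.mem_ker]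
  show Algebra.TensorProduct.map (Ideal.Quotient.mkₐ k p) (Ideal.Quotient.mkₐ k q) (a ⊗ₜ[k] 1) = 0 ↔ _
  rw [Algebra.TensorProduct.map_tmul, map_one, ← Ideal.Quotient.eq_zero_iff_mem]
  exact ⟨fun h => hinj (h.trans (map_zero _).symm), fun h => by
    rw [Ideal.Quotient.mkₐ_eq_mk, h, TensorProduct.zero_tmul]⟩

theorem comap_right :
    (pairPrime (k := k) p q).comap (Algebra.TensorProduct.includeRight : B →ₐ[k] A ⊗[k] B) = q := by
  have hinj : Function.Injective
      (Algebra.TensorProduct.includeRight : B ⧸ q →ₐ[k] (A ⧸ p) ⊗[k] (B ⧸ q)) :=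
    Algebra.TensorProduct.includeRight_injective (FaithfulSMul.algebraMap_injective k (A ⧸ p))
  ext b
  rw [Ideal.mem_comap, RingHom.mem_ker]
  show Algebra.TensorProduct.map (Ideal.Quotient.mkₐ k p) (Ideal.Quotient.mkₐ k q) (1 ⊗ₜ[k] b) = 0 ↔ _
  rw [Algebra.TensorProduct.map_tmul, map_one, ← Ideal.Quotient.eq_zero_iff_mem]
  exact ⟨fun h => hinj (h.trans (map_zero _).symm), fun h => by
    rw [Ideal.Quotient.mkₐ_eq_mk, h, TensorProduct.tmul_zero]⟩

omit [IsAlgClosed k] in
theorem comap_right_mem_minimalPrimes {P : Ideal (A ⊗[k] B)} (hP : P ∈ minimalPrimes (A ⊗[k] B)) :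
    P.comap (Algebra.TensorProduct.includeRight : B →ₐ[k] A ⊗[k] B) ∈ minimalPrimes B := by
  haveI := hP.1.1
  let c := Algebra.TensorProduct.comm k B A
  have hP' : P.comap c ∈ minimalPrimes (B ⊗[k] A) := by
    refine ⟨⟨inferInstance, bot_le⟩, fun Q hQ hle y hy => ?_⟩
    haveI := hQ.1
    have h1 : P ≤ Q.comap c.symm := hP.2 ⟨inferInstance, bot_le⟩ fun z hz => by
      have h2 := hle (show c.symm z ∈ Q from hz)
      rwa [Ideal.mem_comap, AlgEquiv.apply_symm_apply] at h2
    have h3 := h1 (show c y ∈ P from hy)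
    rwa [Ideal.mem_comap, AlgEquiv.symm_apply_apply] at h3
  have h := Lib.Unram.BranchHenselian.comap_minimalPrime_mem B (B ⊗[k] A) hP'
  convert h using 1
  ext b
  simp only [Ideal.mem_comap]
  rfl

theorem isDomain_and_isIntegrallyClosed (k A' B' : Type u) [Field k] [IsAlgClosed k] [CommRing A']
    [CommRing B'] [IsDomain A'] [IsDomain B'] [IsIntegrallyClosed A'] [IsIntegrallyClosed B']
    [Algebra k A'] [Algebra k B'] :
    IsDomain (A' ⊗[k] B') ∧ IsIntegrallyClosed (A' ⊗[k] B') := by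
  haveI : Algebra.IsGeometricallyReduced k (FractionRing A') :=
    H52.FBase.GeomRed.isGeometricallyReduced_of_perfectField
  haveI : Algebra.IsGeometricallyReduced k (FractionRing B') :=
    H52.FBase.GeomRed.isGeometricallyReduced_of_perfectField
  have hnorm := Groth.Agent.S2691.result k A' B'
  haveI : IsDomain (A' ⊗[k] B') := H52.FBase.GeomPt.isDomain_tensor_of_isAlgClosed
  exact ⟨inferInstance, IsIntegrallyClosed.of_localization_maximal fun m _ _ => (hnorm m).2⟩

theorem isIntegral_tensorMap {k A A' B B' : Type u} [CommRing k] [CommRing A] [CommRing A'] [CommRing B]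
    [CommRing B'] [Algebra k A] [Algebra k A'] [Algebra k B] [Algebra k B'] (f : A →ₐ[k] A')
    (g : B →ₐ[k] B') (hf : f.toRingHom.IsIntegral) (hg : g.toRingHom.IsIntegral) :
    (Algebra.TensorProduct.map f g).toRingHom.IsIntegral := by
  intro z
  induction z using TensorProduct.induction_on with
  | zero => exact RingHom.isIntegralElem_zero _
  | add x y hx hy => exact hx.add _ hy
  | tmul a b =>
    rw [show a ⊗ₜ[k] b = (a ⊗ₜ[k] (1 : B')) * ((1 : A') ⊗ₜ[k] b) by
      rw [Algebra.TensorProduct.tmul_mul_tmul, one_mul, mul_one]]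
    refine RingHom.IsIntegralElem.mul _ ?_ ?_
    · obtain ⟨p, hp, hpa⟩ := hf a
      refine ⟨p.map (Algebra.TensorProduct.includeLeft : A →ₐ[k] A ⊗[k] B).toRingHom, hp.map _, ?_⟩
      rw [Polynomial.eval₂_map]
      have hcomp : (Algebra.TensorProduct.map f g).toRingHom.comp
          (Algebra.TensorProduct.includeLeft : A →ₐ[k] A ⊗[k] B).toRingHom =
          (Algebra.TensorProduct.includeLeft : A' →ₐ[k] A' ⊗[k] B').toRingHom.comp f.toRingHom :=
        RingHom.ext fun x => by simp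
      rw [hcomp]
      exact (Polynomial.hom_eval₂ p f.toRingHom
        (Algebra.TensorProduct.includeLeft : A' →ₐ[k] A' ⊗[k] B').toRingHom a).symm.trans
          (by rw [hpa, map_zero])
    · obtain ⟨p, hp, hpb⟩ := hg b
      refine ⟨p.map (Algebra.TensorProduct.includeRight : B →ₐ[k] A ⊗[k] B).toRingHom, hp.map _, ?_⟩
      rw [Polynomial.eval₂_map]
      have hcomp : (Algebra.TensorProduct.map f g).toRingHom.comp
          (Algebra.TensorProduct.includeRight : B →ₐ[k] A ⊗[k] B).toRingHom =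
          (Algebra.TensorProduct.includeRight : B' →ₐ[k] A' ⊗[k] B').toRingHom.comp g.toRingHom :=
        RingHom.ext fun x => by simp
      rw [hcomp]
      exact (Polynomial.hom_eval₂ p g.toRingHom
        (Algebra.TensorProduct.includeRight : B' →ₐ[k] A' ⊗[k] B').toRingHom b).symm.trans
          (by rw [hpb, map_zero])

/-- Geometric points agree on the elements integral over `A ⊗ B`, given normal models of the factors. -/
theorem eq_on_integral_aux {k A B A' B' K : Type u} [Field k] [IsAlgClosed k] [CommRing A] [CommRing B]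
    [HenselianLocalRing A] [HenselianLocalRing B] [Algebra k A] [Algebra k B] [Field K] [Algebra k K]
    (hA : Function.Bijective ((residue A).comp (algebraMap k A)))
    (hB : Function.Bijective ((residue B).comp (algebraMap k B)))
    [CommRing A'] [IsDomain A'] [IsIntegrallyClosed A'] [Algebra k A'] [Algebra A A'] [Algebra.IsIntegral A A']
    [CommRing B'] [IsDomain B'] [IsIntegrallyClosed B'] [Algebra k B'] [Algebra B B'] [Algebra.IsIntegral B B']
    [IsScalarTower k A A'] [IsScalarTower k B B']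
    (α : A' →ₐ[k] K) (β : B' →ₐ[k] K) (iT : A ⊗[k] B →ₐ[k] K)
    (hα : ∀ a, α (algebraMap A A' a) = iT (a ⊗ₜ[k] 1))
    (hβ : ∀ b, β (algebraMap B B' b) = iT (1 ⊗ₜ[k] b))
    (hker : ∀ t, iT t = 0 →
      Algebra.TensorProduct.map (IsScalarTower.toAlgHom k A A') (IsScalarTower.toAlgHom k B B') t = 0)
    (hgen : ∀ z : K, ∃ a b, z = iT a / iT b)
    (S : Subring K) (hS : ∀ z : K, iT.toRingHom.IsIntegralElem z → z ∈ S)
    {Ω : Type u} [Field Ω] (τ₁ τ₂ : S →+* Ω)
    (heq : ∀ (t : A ⊗[k] B) (h : iT t ∈ S), τ₁ ⟨iT t, h⟩ = τ₂ ⟨iT t, h⟩)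
    (hmA : ∀ a ∈ maximalIdeal A, ∀ (h : iT (a ⊗ₜ[k] 1) ∈ S), τ₁ ⟨_, h⟩ = 0)
    (hmB : ∀ b ∈ maximalIdeal B, ∀ (h : iT (1 ⊗ₜ[k] b) ∈ S), τ₁ ⟨_, h⟩ = 0)
    {z : K} (hz : iT.toRingHom.IsIntegralElem z) :
    τ₁ ⟨z, hS z hz⟩ = τ₂ ⟨z, hS z hz⟩ := by
  obtain ⟨hdom, hclosed⟩ := isDomain_and_isIntegrallyClosed k A' B'
  let γ : A' ⊗[k] B' →ₐ[k] K := Algebra.TensorProduct.productMap α β
  let φ : A ⊗[k] B →ₐ[k] A' ⊗[k] B' :=
    Algebra.TensorProduct.map (IsScalarTower.toAlgHom k A A') (IsScalarTower.toAlgHom k B B')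
  have hint : φ.toRingHom.IsIntegral := isIntegral_tensorMap _ _
    (Algebra.IsIntegral.isIntegral (R := A) (A := A')) (Algebra.IsIntegral.isIntegral (R := B) (A := B'))
  have hγφ : γ.comp φ = iT := by
    refine Algebra.TensorProduct.ext (AlgHom.ext fun a => ?_) (AlgHom.ext fun b => ?_)
    · show γ (algebraMap A A' a ⊗ₜ[k] (IsScalarTower.toAlgHom k B B') 1) = iT (a ⊗ₜ[k] 1)
      rw [map_one, Algebra.TensorProduct.productMap_apply_tmul, map_one, mul_one, hα]
    · show γ ((IsScalarTower.toAlgHom k A A') 1 ⊗ₜ[k] algebraMap B B' b) = iT (1 ⊗ₜ[k] b)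
      rw [map_one, Algebra.TensorProduct.productMap_apply_tmul, map_one, one_mul, hβ]
  letI : Algebra (A ⊗[k] B) (A' ⊗[k] B') := φ.toRingHom.toAlgebra
  letI : Algebra (A' ⊗[k] B') K := γ.toRingHom.toAlgebra
  letI : Algebra (A ⊗[k] B) K := iT.toRingHom.toAlgebra
  haveI : IsScalarTower (A ⊗[k] B) (A' ⊗[k] B') K :=
    IsScalarTower.of_algebraMap_eq fun t => (AlgHom.congr_fun hγφ t).symm
  haveI : Algebra.IsIntegral (A ⊗[k] B) (A' ⊗[k] B') := ⟨hint⟩
  have hγ : Function.Injective (algebraMap (A' ⊗[k] B') K) := by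
    rw [RingHom.injective_iff_ker_eq_bot]
    by_contra hne
    haveI := RingHom.ker_isPrime (algebraMap (A' ⊗[k] B') K)
    have hlt : (⊥ : Ideal (A' ⊗[k] B')).comap (algebraMap (A ⊗[k] B) (A' ⊗[k] B')) <
        (RingHom.ker (algebraMap (A' ⊗[k] B') K)).comap (algebraMap (A ⊗[k] B) (A' ⊗[k] B')) :=
      Ideal.IsIntegral.comap_lt_comap (bot_lt_iff_ne_bot.mpr hne)
    refine hlt.not_ge fun t ht => ?_
    rw [Ideal.mem_comap, RingHom.mem_ker, ← IsScalarTower.algebraMap_apply] at ht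
    exact Ideal.mem_bot.mpr (hker t ht)
  haveI : FaithfulSMul (A' ⊗[k] B') K := (faithfulSMul_iff_algebraMap_injective _ _).mpr hγ
  haveI : IsFractionRing (A' ⊗[k] B') K := IsFractionRing.of_field _ _ fun z => by
    obtain ⟨a, b, rfl⟩ := hgen z
    exact ⟨φ a, φ b, by rw [← hγφ]; rfl⟩
  have hmem : ∀ w, γ w ∈ S := fun w => hS _ (by
    obtain ⟨f, hf, hfw⟩ := hint w
    refine ⟨f, hf, ?_⟩
    rw [show iT.toRingHom = γ.toRingHom.comp φ.toRingHom from
      RingHom.ext fun t => (AlgHom.congr_fun hγφ t).symm]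
    exact (Polynomial.hom_eval₂ f φ.toRingHom γ.toRingHom w).symm.trans
      ((congrArg γ hfw).trans (map_zero _)))
  let γ' : A' ⊗[k] B' →+* S := γ.toRingHom.codRestrict S hmem
  have hγ'φ : ∀ t, ∃ h, γ' (φ t) = ⟨iT t, h⟩ := fun t =>
    ⟨(AlgHom.congr_fun hγφ t) ▸ hmem (φ t), Subtype.ext (AlgHom.congr_fun hγφ t)⟩
  have key : τ₁.comp γ' = τ₂.comp γ' := by
    have hl : ((τ₁.comp γ').comp (Algebra.TensorProduct.includeLeft : A' →ₐ[k] A' ⊗[k] B').toRingHom) =
        (τ₂.comp γ').comp (Algebra.TensorProduct.includeLeft : A' →ₐ[k] A' ⊗[k] B').toRingHom := by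
      have e : ∀ a : A, algebraMap A A' a ⊗ₜ[k] (1 : B') = φ (a ⊗ₜ[k] 1) := fun a => by
        rw [Algebra.TensorProduct.map_tmul, map_one]; rfl
      refine hom_ext_of_isIntegral (k := k) (A := A) hA _ _ (RingHom.ext fun a => ?_) fun a ha => ?_
      · show τ₁ (γ' (_ ⊗ₜ[k] 1)) = τ₂ (γ' (_ ⊗ₜ[k] 1))
        obtain ⟨h, he⟩ := hγ'φ (a ⊗ₜ[k] 1)
        rw [e, he]
        exact heq _ h
      · show τ₁ (γ' (_ ⊗ₜ[k] 1)) = 0
        obtain ⟨h, he⟩ := hγ'φ (a ⊗ₜ[k] 1)
        rw [e, he]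
        exact hmA a ha h
    have hr : ((τ₁.comp γ').comp (Algebra.TensorProduct.includeRight : B' →ₐ[k] A' ⊗[k] B').toRingHom) =
        (τ₂.comp γ').comp (Algebra.TensorProduct.includeRight : B' →ₐ[k] A' ⊗[k] B').toRingHom := by
      have e : ∀ b : B, (1 : A') ⊗ₜ[k] algebraMap B B' b = φ (1 ⊗ₜ[k] b) := fun b => by
        rw [Algebra.TensorProduct.map_tmul, map_one]; rfl
      refine hom_ext_of_isIntegral (k := k) (A := B) hB _ _ (RingHom.ext fun b => ?_) fun b hb => ?_
      · show τ₁ (γ' (1 ⊗ₜ[k] _)) = τ₂ (γ' (1 ⊗ₜ[k] _))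
        obtain ⟨h, he⟩ := hγ'φ (1 ⊗ₜ[k] b)
        rw [e, he]
        exact heq _ h
      · show τ₁ (γ' (1 ⊗ₜ[k] _)) = 0
        obtain ⟨h, he⟩ := hγ'φ (1 ⊗ₜ[k] b)
        rw [e, he]
        exact hmB b hb h
    refine RingHom.ext fun w => ?_
    induction w using TensorProduct.induction_on with
    | zero => rw [map_zero, map_zero]
    | add x y hx hy => rw [map_add, map_add, hx, hy]
    | tmul a b =>
      rw [show a ⊗ₜ[k] b = (a ⊗ₜ[k] (1 : B')) * ((1 : A') ⊗ₜ[k] b) by
        rw [Algebra.TensorProduct.tmul_mul_tmul, one_mul, mul_one], map_mul, map_mul]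
      exact congrArg₂ (· * ·) (RingHom.congr_fun hl a) (RingHom.congr_fun hr b)
  have hz' : IsIntegral (A ⊗[k] B) z := hz
  obtain ⟨w, hw⟩ := IsIntegrallyClosed.isIntegral_iff.mp (hz'.tower_top (A := A' ⊗[k] B'))
  have hwz : γ' w = ⟨z, hS z hz⟩ := Subtype.ext hw
  rw [← hwz]
  exact RingHom.congr_fun key w

set_option maxHeartbeats 800000 in
/-- Geometric points agree on the elements integral over `A ⊗ B`. -/
theorem eq_on_integral {k A B K : Type u} [Field k] [IsAlgClosed k] [CommRing A] [CommRing B]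
    [HenselianLocalRing A] [HenselianLocalRing B] [Algebra k A] [Algebra k B] [Field K] [Algebra k K]
    (hA : Function.Bijective ((residue A).comp (algebraMap k A)))
    (hB : Function.Bijective ((residue B).comp (algebraMap k B)))
    (p : Ideal A) [p.IsPrime] (q : Ideal B) [q.IsPrime]
    (iT : A ⊗[k] B →ₐ[k] K) (hker : RingHom.ker iT = pairPrime (k := k) p q)
    (hgen : ∀ z : K, ∃ a b, z = iT a / iT b)
    (S : Subring K) (hS : ∀ z : K, iT.toRingHom.IsIntegralElem z → z ∈ S)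
    {Ω : Type u} [Field Ω] (τ₁ τ₂ : S →+* Ω)
    (heq : ∀ (t : A ⊗[k] B) (h : iT t ∈ S), τ₁ ⟨iT t, h⟩ = τ₂ ⟨iT t, h⟩)
    (hmA : ∀ a ∈ maximalIdeal A, ∀ (h : iT (a ⊗ₜ[k] 1) ∈ S), τ₁ ⟨_, h⟩ = 0)
    (hmB : ∀ b ∈ maximalIdeal B, ∀ (h : iT (1 ⊗ₜ[k] b) ∈ S), τ₁ ⟨_, h⟩ = 0)
    {z : K} (hz : iT.toRingHom.IsIntegralElem z) :
    τ₁ ⟨z, hS z hz⟩ = τ₂ ⟨z, hS z hz⟩ := by
  have hker' : ∀ t, iT t = 0 ↔ t ∈ pairPrime (k := k) p q := fun t => by rw [← hker, RingHom.mem_ker]
  let iA : A ⧸ p →ₐ[k] K :=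
    Ideal.Quotient.liftₐ p (iT.comp Algebra.TensorProduct.includeLeft) fun a ha => by
      rw [← comap_left (k := k) p q] at ha
      exact (hker' _).mpr ha
  let iB : B ⧸ q →ₐ[k] K :=
    Ideal.Quotient.liftₐ q (iT.comp Algebra.TensorProduct.includeRight) fun b hb => by
      rw [← comap_right (k := k) p q] at hb
      exact (hker' _).mpr hb
  have hiA : Function.Injective iA := (injective_iff_map_eq_zero _).mpr fun a ha => by
    obtain ⟨a, rfl⟩ := Ideal.Quotient.mk_surjective a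
    rw [Ideal.Quotient.eq_zero_iff_mem, ← comap_left (k := k) p q]
    exact (hker' _).mp ha
  have hiB : Function.Injective iB := (injective_iff_map_eq_zero _).mpr fun b hb => by
    obtain ⟨b, rfl⟩ := Ideal.Quotient.mk_surjective b
    rw [Ideal.Quotient.eq_zero_iff_mem, ← comap_right (k := k) p q]
    exact (hker' _).mp hb
  let α : FractionRing (A ⧸ p) →ₐ[k] K := IsFractionRing.liftAlgHom (g := iA) hiA
  let β : FractionRing (B ⧸ q) →ₐ[k] K := IsFractionRing.liftAlgHom (g := iB) hiB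
  haveI : IsIntegrallyClosed (integralClosure (A ⧸ p) (FractionRing (A ⧸ p))) :=
    integralClosure.isIntegrallyClosedOfFiniteExtension (FractionRing (A ⧸ p))
  haveI : IsIntegrallyClosed (integralClosure (B ⧸ q) (FractionRing (B ⧸ q))) :=
    integralClosure.isIntegrallyClosedOfFiniteExtension (FractionRing (B ⧸ q))
  haveI : Algebra.IsIntegral A (integralClosure (A ⧸ p) (FractionRing (A ⧸ p))) := ⟨fun x => by
    have : Algebra.IsIntegral A (A ⧸ p) := inferInstance
    exact isIntegral_trans (A := A ⧸ p) x (integralClosure.isIntegral x)⟩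
  haveI : Algebra.IsIntegral B (integralClosure (B ⧸ q) (FractionRing (B ⧸ q))) := ⟨fun x => by
    have : Algebra.IsIntegral B (B ⧸ q) := inferInstance
    exact isIntegral_trans (A := B ⧸ q) x (integralClosure.isIntegral x)⟩
  refine eq_on_integral_aux (A' := integralClosure (A ⧸ p) (FractionRing (A ⧸ p)))
    (B' := integralClosure (B ⧸ q) (FractionRing (B ⧸ q))) hA hB
    (α.comp ((integralClosure (A ⧸ p) (FractionRing (A ⧸ p))).val.restrictScalars k))
    (β.comp ((integralClosure (B ⧸ q) (FractionRing (B ⧸ q))).val.restrictScalars k))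
    iT (fun a => IsLocalization.lift_eq _ (Ideal.Quotient.mk p a))
    (fun b => IsLocalization.lift_eq _ (Ideal.Quotient.mk q b)) (fun t ht => ?_) hgen S hS τ₁ τ₂
    heq hmA hmB hz
  have h0 : toQuot (k := k) p q t = 0 := (hker' t).mp ht
  have hsplit : Algebra.TensorProduct.map
      (IsScalarTower.toAlgHom k A (integralClosure (A ⧸ p) (FractionRing (A ⧸ p))))
      (IsScalarTower.toAlgHom k B (integralClosure (B ⧸ q) (FractionRing (B ⧸ q)))) =
      (Algebra.TensorProduct.map (IsScalarTower.toAlgHom k (A ⧸ p) _)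
        (IsScalarTower.toAlgHom k (B ⧸ q) _)).comp (toQuot p q) := by
    rw [toQuot, ← Algebra.TensorProduct.map_comp]
    rfl
  rw [hsplit, AlgHom.comp_apply, h0, map_zero]

/-- A localization turns integral elements into integral ones after a multiple. -/
theorem exists_multiple_integralElem {T R K : Type u} [CommRing T] [CommRing R] [CommRing K]
    [Algebra T R] (M : Submonoid T) [IsLocalization M R] (i : R →+* K) {x : K}
    (hx : i.IsIntegralElem x) :
    ∃ s : M, (i.comp (algebraMap T R)).IsIntegralElem (i (algebraMap T R s) * x) := by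
  letI : Algebra R K := i.toAlgebra
  letI : Algebra T K := (i.comp (algebraMap T R)).toAlgebra
  haveI : IsScalarTower T R K := IsScalarTower.of_algebraMap_eq fun _ => rfl
  obtain ⟨s, hs⟩ := IsIntegral.exists_multiple_integral_of_isLocalization M x hx
  rw [Submonoid.smul_def, Algebra.smul_def] at hs
  exact ⟨s, hs⟩

/-- A single geometric point of the normalization over the closed point. -/
theorem normRed_hom_ext {k A B : Type u} [Field k] [IsAlgClosed k] [CommRing A] [CommRing B]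
    [HenselianLocalRing A] [HenselianLocalRing B] [Algebra k A] [Algebra k B]
    (hA : Function.Bijective ((residue A).comp (algebraMap k A)))
    (hB : Function.Bijective ((residue B).comp (algebraMap k B)))
    (p : Ideal A) [p.IsPrime] (q : Ideal B) [q.IsPrime]
    (𝔪 : Ideal (A ⊗[k] B)) [𝔪.IsPrime]
    (hmA : ∀ a ∈ maximalIdeal A, (Algebra.TensorProduct.includeLeft : A →ₐ[k] A ⊗[k] B) a ∈ 𝔪)
    (hmB : ∀ b ∈ maximalIdeal B, (Algebra.TensorProduct.includeRight : B →ₐ[k] A ⊗[k] B) b ∈ 𝔪)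
    {R : Type u} [CommRing R] [IsLocalRing R] [Algebra (A ⊗[k] B) R] [IsLocalization.AtPrime R 𝔪]
    (PR : Ideal R) [PR.IsPrime]
    (hPR : PR.comap (algebraMap (A ⊗[k] B) R) = pairPrime (k := k) p q)
    {Ω : Type u} [Field Ω] (c : R →+* Ω) (hc : ∀ r ∈ maximalIdeal R, c r = 0)
    (τ₁ τ₂ : CAlg2.normRed (R ⧸ PR) →+* Ω)
    (h₁ : τ₁.comp ((Lib.Unram.BranchSum.toNorm (R ⧸ PR)).comp (Ideal.Quotient.mk PR)) = c)
    (h₂ : τ₂.comp ((Lib.Unram.BranchSum.toNorm (R ⧸ PR)).comp (Ideal.Quotient.mk PR)) = c) :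
    τ₁ = τ₂ := by
  have hnil : nilradical (R ⧸ PR) = ⊥ := nilradical_eq_zero _
  haveI : (nilradical (R ⧸ PR)).IsPrime := hnil ▸ Ideal.isPrime_bot
  haveI : IsDomain (CAlg2.red (R ⧸ PR)) := Ideal.Quotient.isDomain _
  let K := FractionRing (CAlg2.red (R ⧸ PR))
  let ρ : R →+* CAlg2.red (R ⧸ PR) := (Ideal.Quotient.mk _).comp (Ideal.Quotient.mk PR)
  have hρ : Function.Surjective ρ := Ideal.Quotient.mk_surjective.comp Ideal.Quotient.mk_surjective
  have hρ0 : ∀ r, ρ r = 0 ↔ r ∈ PR := fun r => by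
    rw [RingHom.comp_apply, Ideal.Quotient.eq_zero_iff_mem, hnil, Ideal.mem_bot,
      Ideal.Quotient.eq_zero_iff_mem]
  let iR : R →+* K := (algebraMap (CAlg2.red (R ⧸ PR)) K).comp ρ
  have hiR : ∀ r, iR r = 0 ↔ r ∈ PR := fun r => by
    rw [RingHom.comp_apply, map_eq_zero_iff _ (IsFractionRing.injective _ K), hρ0]
  letI : Algebra k K := ((iR.comp (algebraMap (A ⊗[k] B) R)).comp (algebraMap k (A ⊗[k] B))).toAlgebra
  let iT : A ⊗[k] B →ₐ[k] K := ⟨iR.comp (algebraMap (A ⊗[k] B) R), fun _ => rfl⟩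
  have hs : ∀ s : 𝔪.primeCompl, iR (algebraMap (A ⊗[k] B) R s) ≠ 0 := fun s h0 =>
    (Ideal.IsPrime.ne_top ‹PR.IsPrime›) (Ideal.eq_top_of_isUnit_mem _ ((hiR _).mp h0)
      (IsLocalization.map_units R s))
  have hgen : ∀ z : K, ∃ a b, z = iT a / iT b := fun z => by
    obtain ⟨x, y, hy, rfl⟩ := IsFractionRing.div_surjective (A := CAlg2.red (R ⧸ PR)) z
    obtain ⟨x, rfl⟩ := hρ x
    obtain ⟨y, rfl⟩ := hρ y
    obtain ⟨⟨a, s⟩, ha⟩ := IsLocalization.surj 𝔪.primeCompl x
    obtain ⟨⟨b, s'⟩, hb⟩ := IsLocalization.surj 𝔪.primeCompl y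
    refine ⟨a * s', b * s, ?_⟩
    have hy0 : iR y ≠ 0 := fun h0 => nonZeroDivisors.ne_zero hy ((hρ0 y).mpr ((hiR y).mp h0))
    show iR x / iR y = iR (algebraMap (A ⊗[k] B) R (a * s')) / iR (algebraMap (A ⊗[k] B) R (b * s))
    rw [map_mul, map_mul, map_mul, map_mul, ← ha, ← hb, map_mul, map_mul,
      div_eq_div_iff hy0 (mul_ne_zero (mul_ne_zero hy0 (hs s')) (hs s))]
    ring
  let S : Subring K := (integralClosure (CAlg2.red (R ⧸ PR)) K).toSubring
  have hS : ∀ z : K, iT.toRingHom.IsIntegralElem z → z ∈ S := fun z ⟨f, hf, hfz⟩ => by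
    refine ⟨f.map (ρ.comp (algebraMap (A ⊗[k] B) R)), hf.map _, ?_⟩
    rw [Polynomial.eval₂_map]
    exact hfz
  let σ₁ : S →+* Ω := τ₁
  let σ₂ : S →+* Ω := τ₂
  have hτ : ∀ (τ : CAlg2.normRed (R ⧸ PR) →+* Ω),
      τ.comp ((Lib.Unram.BranchSum.toNorm (R ⧸ PR)).comp (Ideal.Quotient.mk PR)) = c →
      ∀ (t : A ⊗[k] B) (h : iT t ∈ S), τ ⟨iT t, h⟩ = c (algebraMap (A ⊗[k] B) R t) :=
    fun τ hτ t h => RingHom.congr_fun hτ (algebraMap (A ⊗[k] B) R t)
  have hm0 : ∀ t ∈ 𝔪, c (algebraMap (A ⊗[k] B) R t) = 0 := fun t ht =>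
    hc _ (fun hu => (IsLocalization.AtPrime.isUnit_to_map_iff R 𝔪 t).mp hu ht)
  refine RingHom.ext fun x => ?_
  have hxR : iR.IsIntegralElem (x.1 : K) := by
    obtain ⟨f, hf, hfx⟩ := x.2
    obtain ⟨g, hg, -, hgm⟩ := Polynomial.lifts_and_natDegree_eq_and_monic
      (f := ρ) (p := f) ((Polynomial.mem_lifts _).mpr (Polynomial.map_surjective _ hρ f)) hf
    refine ⟨g, hgm, ?_⟩
    rw [← hfx, ← hg, Polynomial.eval₂_map]
  obtain ⟨s, hz⟩ := exists_multiple_integralElem 𝔪.primeCompl iR hxR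
  have h3 := eq_on_integral hA hB p q iT (by
      ext t
      rw [RingHom.mem_ker, ← hPR, Ideal.mem_comap]
      exact hiR _) hgen S hS σ₁ σ₂
    (fun t h => (hτ τ₁ h₁ t h).trans (hτ τ₂ h₂ t h).symm)
    (fun a ha h => (hτ τ₁ h₁ _ h).trans (hm0 _ (hmA a ha)))
    (fun b hb h => (hτ τ₁ h₁ _ h).trans (hm0 _ (hmB b hb))) hz
  let sN : CAlg2.normRed (R ⧸ PR) :=
    Lib.Unram.BranchSum.toNorm (R ⧸ PR) (Ideal.Quotient.mk PR (algebraMap (A ⊗[k] B) R s))
  have hprod : (⟨_, hS _ hz⟩ : S) = sN * x := Subtype.ext rfl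
  have h4 : τ₁ (sN * x) = τ₂ (sN * x) := by
    rw [← hprod]
    exact h3
  have e1 : τ₁ sN = c (algebraMap (A ⊗[k] B) R s) := RingHom.congr_fun h₁ _
  have e2 : τ₂ sN = c (algebraMap (A ⊗[k] B) R s) := RingHom.congr_fun h₂ _
  rw [map_mul, map_mul, e1, e2] at h4
  exact mul_left_cancel₀ (((IsLocalization.map_units R s).map c).ne_zero) h4

end Groth.Agent.H46.TensorBranch
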