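import Mathlib.RingTheory.Spectrum.Prime.Chevalley
import Mathlib.RingTheory.Spectrum.Prime.Topology
import Mathlib.RingTheory.Flat.Basic
import Mathlib.FieldTheory.Minpoly.IsIntegrallyClosed
import Mathlib.RingTheory.AdjoinRoot
import Mathlib.RingTheory.Ideal.GoingDown
import Mathlib.RingTheory.Localization.FractionRing
import Mathlib.RingTheory.ZariskisMainTheorem

/-!
# Unibranch points and openness of integral extensions (algebraic core)
-/

universe u v

namespace Groth.Agent.H46.UnibranchCore

open PrimeSpectrum Topology

/-- `p` is a unibranch point of `Spec R`: some normal, birational, integral extension of the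
domain `R` has at most one prime over `p`. -/
def UB (R : Type u) [CommRing R] (p : Ideal R) : Prop :=
  ∃ (R' : Type u) (_ : CommRing R') (_ : IsDomain R') (_ : Algebra R R'),
    Function.Injective (algebraMap R R') ∧ Algebra.IsIntegral R R' ∧ IsIntegrallyClosed R' ∧
    (∀ x : R', ∃ a b : R, b ≠ 0 ∧ algebraMap R R' b * x = algebraMap R R' a) ∧
    ∀ P Q : Ideal R', P.IsPrime → Q.IsPrime → P.comap (algebraMap R R') = p →
      Q.comap (algebraMap R R') = p → P = Q

variable {R B : Type u} [CommRing R] [CommRing B] [Algebra R B]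

/-- Spec `B → Spec R` is open at `n` for `R ⊆ B` an integral extension of domains with
`n.comap` a unibranch point. -/
theorem image_basicOpen_mem_nhds [IsDomain B] (hinj : Function.Injective (algebraMap R B))
    [Algebra.IsIntegral R B] (n : PrimeSpectrum B)
    (hub : UB R (n.asIdeal.comap (algebraMap R B))) (g : B) (hg : g ∉ n.asIdeal) :
    comap (algebraMap R B) '' (basicOpen g : Set (PrimeSpectrum B)) ∈
      𝓝 (comap (algebraMap R B) n) := by
  obtain ⟨R', _, _, _, hinj', _, _, hbir, huniq⟩ := hub
  haveI : IsDomain R := hinj.isDomain _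
  let M := FractionRing B
  let ι : R →+* M := (algebraMap B M).comp (algebraMap R B)
  have hι : Function.Injective ι := (IsFractionRing.injective B M).comp hinj
  -- `R'` sits between `R` and its fraction field, hence maps to `M`
  let L := FractionRing R'
  let jL : R →+* L := (algebraMap R' L).comp (algebraMap R R')
  letI : Algebra R L := jL.toAlgebra
  have hjL : Function.Injective jL := (IsFractionRing.injective R' L).comp hinj'
  haveI : IsFractionRing R L := by
    constructor
    constructor
    · rintro ⟨y, hy⟩
      exact isUnit_iff_ne_zero.2 ((map_ne_zero_iff jL hjL).2 (nonZeroDivisors.ne_zero hy))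
    · intro z
      obtain ⟨x, y, hy, rfl⟩ := IsFractionRing.div_surjective (A := R') z
      obtain ⟨a, b, hb, hab⟩ := hbir x
      obtain ⟨c, d, hd, hcd⟩ := hbir y
      have hy0 : y ≠ 0 := nonZeroDivisors.ne_zero hy
      have hc : c ≠ 0 := by
        rintro rfl
        rw [map_zero] at hcd
        rcases mul_eq_zero.1 hcd with h | h
        · exact hd (hinj' (h.trans (map_zero _).symm))
        · exact hy0 h
      refine ⟨(a * d, ⟨b * c, mem_nonZeroDivisors_of_ne_zero (mul_ne_zero hb hc)⟩), ?_⟩
      show algebraMap R' L x / algebraMap R' L y *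
          (algebraMap R' L) (algebraMap R R' (b * c)) = (algebraMap R' L) (algebraMap R R' (a * d))
      have hyL : algebraMap R' L y ≠ 0 :=
        (map_ne_zero_iff _ (IsFractionRing.injective R' L)).2 hy0
      rw [div_mul_eq_mul_div, div_eq_iff hyL]
      simp only [map_mul]
      rw [← hab, ← hcd]
      simp only [map_mul]
      ring
    · intro x y h
      exact ⟨1, by simpa using hjL h⟩
  let φ : R' →+* M := (IsFractionRing.lift (K := L) hι).comp (algebraMap R' L)
  have hφinj : Function.Injective φ :=
    ((IsFractionRing.lift (K := L) hι).injective).comp (IsFractionRing.injective R' L)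
  have hφ : φ.comp (algebraMap R R') = ι :=
    RingHom.ext fun r => IsFractionRing.lift_algebraMap (K := L) hι r
  letI : Algebra R' M := φ.toAlgebra
  haveI : FaithfulSMul R' M := (faithfulSMul_iff_algebraMap_injective R' M).2 hφinj
  let C : Subalgebra R' M := integralClosure R' M
  have hB : ∀ b : B, algebraMap B M b ∈ C := fun b => by
    obtain ⟨f, hf, hfb⟩ := Algebra.IsIntegral.isIntegral (R := R) b
    refine ⟨f.map (algebraMap R R'), hf.map _, ?_⟩
    rw [Polynomial.eval₂_map, show (algebraMap R' M).comp (algebraMap R R') = ι from hφ,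
      ← Polynomial.hom_eval₂, hfb, map_zero]
  let ιB : B →+* C := (algebraMap B M).codRestrict C.toSubring hB
  have hιB : Function.Injective ιB := fun a b h =>
    IsFractionRing.injective B M (congrArg Subtype.val h)
  have hCR : (ιB.comp (algebraMap R B)) = (algebraMap R' C).comp (algebraMap R R') :=
    RingHom.ext fun r => Subtype.ext (RingHom.congr_fun hφ r).symm
  have hCint : ιB.IsIntegral := by
    apply RingHom.IsIntegral.tower_top (algebraMap R B) ιB
    rw [hCR]
    exact RingHom.IsIntegral.trans _ _ (algebraMap_isIntegral_iff.2 inferInstance)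
      (algebraMap_isIntegral_iff.2 inferInstance)
  -- the element `g`
  let gC : C := ιB g
  have hgi : IsIntegral R' gC := Algebra.IsIntegral.isIntegral _
  haveI : FaithfulSMul R' C := (faithfulSMul_iff_algebraMap_injective R' C).2
    fun a b h => hφinj (congrArg Subtype.val h)
  haveI : Module.IsTorsionFree R' C := inferInstance
  let f := minpoly R' gC
  let G := AdjoinRoot f
  let ψ : G →ₐ[R'] C := (Algebra.adjoin R' ({gC} : Set C)).val.comp (minpoly.equivAdjoin hgi).toAlgHom
  have hψinj : Function.Injective ψ :=
    Subtype.val_injective.comp (minpoly.equivAdjoin hgi).injective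
  have hψroot : ψ (AdjoinRoot.root f) = gC := by
    show ((minpoly.equivAdjoin hgi) (AdjoinRoot.root f) : C) = gC
    rw [minpoly.coe_equivAdjoin]
    simp [f]
  have hψint : ψ.toRingHom.IsIntegral := by
    apply RingHom.IsIntegral.tower_top (algebraMap R' G) ψ.toRingHom
    rw [show ψ.toRingHom.comp (algebraMap R' G) = algebraMap R' C from ψ.comp_algebraMap]
    exact algebraMap_isIntegral_iff.2 inferInstance
  haveI : Module.Free R' G := (minpoly.monic hgi).free_adjoinRoot
  haveI : Algebra.HasGoingDown R' G := inferInstance
  have hV : IsOpen (comap (algebraMap R' G) '' (basicOpen (AdjoinRoot.root f) : Set (PrimeSpectrum G))) :=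
    PrimeSpectrum.isOpenMap_comap_of_hasGoingDown_of_finitePresentation _ (basicOpen _).isOpen
  set V := comap (algebraMap R' G) '' (basicOpen (AdjoinRoot.root f) : Set (PrimeSpectrum G))
  -- a prime of `C` over `n`
  obtain ⟨N, hN⟩ := hCint.comap_surjective hιB n
  have hkey : ∀ r : PrimeSpectrum R', r ∈ V → ∃ q ∈ (basicOpen g : Set (PrimeSpectrum B)),
      comap (algebraMap R B) q = comap (algebraMap R R') r := by
    rintro r ⟨s, hs, rfl⟩
    obtain ⟨t, rfl⟩ := hψint.comap_surjective hψinj s
    refine ⟨comap ιB t, ?_, ?_⟩
    · show g ∉ t.asIdeal.comap ιB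
      have h1 : ψ (AdjoinRoot.root f) ∉ t.asIdeal := hs
      rwa [hψroot] at h1
    · rw [← comap_comp_apply, hCR, comap_comp_apply]
      congr 1
      rw [← comap_comp_apply,
        show ψ.toRingHom.comp (algebraMap R' G) = algebraMap R' C from ψ.comp_algebraMap]
  have hπ : IsClosedMap (comap (algebraMap R R')) :=
    isClosedMap_comap_of_isIntegral _ (algebraMap_isIntegral_iff.2 inferInstance)
  refine Filter.mem_of_superset ((hπ _ hV.isClosed_compl).isOpen_compl.mem_nhds ?_) ?_
  · rintro ⟨r, hr, hrn⟩
    apply hr
    refine ⟨comap ψ.toRingHom N, ?_, ?_⟩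
    · show ψ (AdjoinRoot.root f) ∉ N.asIdeal
      rw [hψroot]
      have : (comap ιB N).asIdeal = n.asIdeal := by rw [hN]
      intro h
      exact hg (this ▸ h)
    · rw [← comap_comp_apply,
        show ψ.toRingHom.comp (algebraMap R' G) = algebraMap R' C from ψ.comp_algebraMap]
      apply PrimeSpectrum.ext
      refine huniq _ _ (comap (algebraMap R' C) N).2 r.2 ?_ (congrArg PrimeSpectrum.asIdeal hrn)
      have h := congrArg (fun x => (comap (algebraMap R B) x).asIdeal) hN
      simp only [← comap_comp_apply, hCR] at h
      simpa [Ideal.comap_comap] using h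
  · intro r hr
    haveI : FaithfulSMul R R' := (faithfulSMul_iff_algebraMap_injective R R').2 hinj'
    obtain ⟨r', rfl⟩ := Algebra.IsIntegral.comap_surjective R R' r
    exact hkey r' (of_not_not fun h => hr ⟨r', h, rfl⟩)

theorem isOpenAt_of_isIntegral [IsDomain B] (hinj : Function.Injective (algebraMap R B))
    [Algebra.IsIntegral R B] (n : PrimeSpectrum B)
    (hub : UB R (n.asIdeal.comap (algebraMap R B))) :
    ∀ U ∈ 𝓝 n, comap (algebraMap R B) '' U ∈ 𝓝 (comap (algebraMap R B) n) := by
  intro U hU
  obtain ⟨_, ⟨g, rfl⟩, hg, hsub⟩ := isTopologicalBasis_basic_opens.mem_nhds_iff.1 hU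
  exact Filter.mem_of_superset (image_basicOpen_mem_nhds hinj n hub g hg) (Set.image_mono hsub)

end Groth.Agent.H46.UnibranchCore
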