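import Groth.Agent.H46.UnibranchLocal
import Groth.Prelude.Def_EGA43

/-!
# Unibranch points of domains; going down
-/

universe u

namespace Groth.Agent.H46.UnibranchDomain

open PrimeSpectrum Topology

variable {R O : Type u} [CommRing R] [IsDomain R] [CommRing O] [IsLocalRing O] [Algebra R O]

theorem ub_of_isLocalization (p : Ideal R) [p.IsPrime] [IsLocalization.AtPrime O p]
    (hO : CAlg2.IsUnibranch O) : UnibranchCore.UB R p := by
  haveI : IsDomain O := IsLocalization.isDomain_of_le_nonZeroDivisors O p.primeCompl_le_nonZeroDivisors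
  let g : R →+* CAlg2.red O := (Ideal.Quotient.mk (nilradical O)).comp (algebraMap R O)
  have hnil : nilradical O = ⊥ := nilradical_eq_zero O
  haveI : IsLocalHom (Ideal.Quotient.mk (nilradical O)) := by
    haveI := hO.1
    exact IsLocalHom.of_surjective _ Ideal.Quotient.mk_surjective
  refine (UnibranchLocal.ub_gub_of_red p g ?_ ?_ ?_ hO).1
  · intro a b h
    have h' : algebraMap R O a - algebraMap R O b ∈ nilradical O := Ideal.Quotient.eq.1 h
    rw [hnil, Ideal.mem_bot, sub_eq_zero] at h'
    exact IsLocalization.injective O p.primeCompl_le_nonZeroDivisors h'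
  · intro s
    show _ ↔ IsUnit (Ideal.Quotient.mk (nilradical O) (algebraMap R O s))
    rw [isUnit_map_iff]
    exact (IsLocalization.AtPrime.isUnit_to_map_iff O p s).symm
  · intro z
    obtain ⟨o, rfl⟩ := Ideal.Quotient.mk_surjective z
    obtain ⟨⟨r, s⟩, h⟩ := IsLocalization.surj p.primeCompl o
    refine ⟨r, s.1, s.2, ?_⟩
    show Ideal.Quotient.mk _ (algebraMap R O s) * _ = Ideal.Quotient.mk _ (algebraMap R O r)
    rw [← map_mul, mul_comm]
    exact congrArg _ h

variable {B : Type u} [CommRing B] [Algebra R B]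

/-- Going down at a point of openness. -/
theorem exists_le_of_isOpenAt (n : PrimeSpectrum B)
    (h : EGA43.IsOpenAt (comap (algebraMap R B)) n) (p : PrimeSpectrum R)
    (hp : p ⤳ comap (algebraMap R B) n) :
    ∃ q : PrimeSpectrum B, q.asIdeal ≤ n.asIdeal ∧ comap (algebraMap R B) q = p := by
  let M : Submonoid B := (p.asIdeal.primeCompl.map (algebraMap R B)) ⊔ n.asIdeal.primeCompl
  have hdisj : Disjoint (↑(p.asIdeal.map (algebraMap R B)) : Set B) (M : Set B) := by
    rw [Set.disjoint_left]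
    intro z hz hzM
    obtain ⟨_, ⟨a, ha, rfl⟩, g, hg, rfl⟩ := Submonoid.mem_sup.1 hzM
    obtain ⟨q, hq, hqp⟩ := mem_of_mem_nhds
      (hp (h _ ((basicOpen g).isOpen.mem_nhds (show g ∉ n.asIdeal from hg))))
    have hqp' : q.asIdeal.comap (algebraMap R B) = p.asIdeal := congrArg PrimeSpectrum.asIdeal hqp
    have hle : p.asIdeal.map (algebraMap R B) ≤ q.asIdeal :=
      Ideal.map_le_iff_le_comap.2 hqp'.ge
    exact (q.2.mem_or_mem (hle hz)).elim (fun h' => ha (hqp' ▸ h')) hq
  obtain ⟨q, hq, hle, hqM⟩ := Ideal.exists_le_prime_disjoint _ M hdisj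
  rw [Set.disjoint_left] at hqM
  refine ⟨⟨q, hq⟩, fun z hz => by_contra fun hzn =>
    hqM hz (Submonoid.mem_sup_right hzn), PrimeSpectrum.ext ?_⟩
  refine le_antisymm (fun z hz => by_contra fun hzp => hqM hz
    (Submonoid.mem_sup_left ⟨z, hzp, rfl⟩)) (Ideal.map_le_iff_le_comap.1 hle)

end Groth.Agent.H46.UnibranchDomain
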