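import Groth.Agent.H46.UnibranchCore
import Groth.Agent.Lib.Excellent.GenericNormal
import Mathlib.RingTheory.TensorProduct.MvPolynomial
import Mathlib.RingTheory.TensorProduct.Finite
import Mathlib.RingTheory.FinitePresentation
import Mathlib.RingTheory.LocalRing.ResidueField.Ideal

/-!
# Geometrically unibranch points: universal openness of dominant maps of the right dimension
-/

universe u

namespace Groth.Agent.H46.UnibranchLift

open PrimeSpectrum Topology Groth.Agent.H46.UnibranchCore TensorProduct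

attribute [local instance] MvPolynomial.algebraMvPolynomial

/-- `p` is a geometrically unibranch point of `Spec R`. -/
def GUB (R : Type u) [CommRing R] (p : Ideal R) : Prop :=
  ∃ (R' : Type u) (_ : CommRing R') (_ : IsDomain R') (_ : Algebra R R'),
    Function.Injective (algebraMap R R') ∧ Algebra.IsIntegral R R' ∧ IsIntegrallyClosed R' ∧
    (∀ x : R', ∃ a b : R, b ≠ 0 ∧ algebraMap R R' b * x = algebraMap R R' a) ∧
    ∃ (m : Ideal R') (_ : m.IsPrime) (q : ℕ), ExpChar (R' ⧸ m) q ∧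
      m.comap (algebraMap R R') = p ∧
      (∀ P : Ideal R', P.IsPrime → P.comap (algebraMap R R') = p → P = m) ∧
      ∀ a : R', ∃ (j : ℕ) (r s : R), s ∉ p ∧
        algebraMap R R' s * a ^ q ^ j - algebraMap R R' r ∈ m

variable {R : Type u} [CommRing R] {p : Ideal R}

theorem GUB.ub (h : GUB R p) : UB R p := by
  obtain ⟨R', i1, i2, i3, hinj, hint, hic, hbir, m, hm, q, hq, hmp, huniq, -⟩ := h
  exact ⟨R', i1, i2, i3, hinj, hint, hic, hbir,
    fun P Q hP hQ h1 h2 => (huniq P hP h1).trans (huniq Q hQ h2).symm⟩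

theorem GUB.isDomain (h : GUB R p) : IsDomain R := by
  obtain ⟨R', _, _, _, hinj, -⟩ := h
  exact hinj.isDomain _

theorem GUB.isPrime (h : GUB R p) : p.IsPrime := by
  obtain ⟨R', _, _, _, -, -, -, -, m, hm, q, -, rfl, -⟩ := h
  exact Ideal.comap_isPrime _ _

/-- Geometric unibranchness passes to polynomial rings. -/
theorem GUB.poly (h : GUB R p) (n : ℕ) (P : Ideal (MvPolynomial (Fin n) R)) [P.IsPrime]
    (hP : P.comap MvPolynomial.C = p) : GUB (MvPolynomial (Fin n) R) P := by
  obtain ⟨R', _, _, _, hinj, _, _, hbir, m, hm, q, hq, hmp, huniq, hpi⟩ := h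
  haveI : IsDomain R := hinj.isDomain _
  haveI : FaithfulSMul R R' := (faithfulSMul_iff_algebraMap_injective R R').2 hinj
  let S := MvPolynomial (Fin n) R
  let T := MvPolynomial (Fin n) R'
  haveI hTint : Algebra.IsIntegral S T := inferInstance
  haveI : IsIntegrallyClosed T :=
    Groth.Agent.Lib.Excellent.GenericNormal.isIntegrallyClosed_mvPolynomial_fin n
  have hinjT : Function.Injective (algebraMap S T) := MvPolynomial.map_injective _ hinj
  have hC : ∀ r : R, algebraMap S T (MvPolynomial.C r) = MvPolynomial.C (algebraMap R R' r) :=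
    fun r => MvPolynomial.map_C _ r
  have hover : ∀ P' : Ideal T, P'.IsPrime → P'.comap (algebraMap S T) = P →
      P'.comap MvPolynomial.C = m := by
    intro P' hP' hP'P
    refine huniq _ (Ideal.comap_isPrime _ _) ?_
    rw [← hP, ← hP'P]
    ext r
    rw [Ideal.mem_comap, Ideal.mem_comap, Ideal.mem_comap, Ideal.mem_comap, hC]
  let φ : T →+* MvPolynomial (Fin n) (R' ⧸ m) := MvPolynomial.map (Ideal.Quotient.mk m)
  haveI : ExpChar (MvPolynomial (Fin n) (R' ⧸ m)) q :=
    expChar_of_injective_ringHom (MvPolynomial.C_injective (Fin n) (R' ⧸ m)) q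
  have hkey : ∀ f : T, ∃ (j : ℕ) (r : S) (s : R), s ∉ p ∧
      φ (algebraMap S T (MvPolynomial.C s)) * φ f ^ q ^ j = φ (algebraMap S T r) := by
    have hp1 : (1 : R) ∉ p := by
      rw [← hmp, Ideal.mem_comap, map_one]
      exact fun h => hm.ne_top ((Ideal.eq_top_iff_one _).2 h)
    have raise : ∀ (k j : ℕ) (r : S) (s : R) (f : T), s ∉ p →
        φ (algebraMap S T (MvPolynomial.C s)) * φ f ^ q ^ j = φ (algebraMap S T r) →
        φ (algebraMap S T (MvPolynomial.C (s ^ q ^ k))) * φ f ^ q ^ (j + k) =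
          φ (algebraMap S T (r ^ q ^ k)) := by
      intro k j r s f _ h
      simp only [map_pow]
      rw [← h, mul_pow, ← pow_mul, ← pow_add]
    have hppow : ∀ (s : R) (k : ℕ), s ∉ p → s ^ k ∉ p := by
      intro s k hs h
      haveI : p.IsPrime := hmp ▸ Ideal.comap_isPrime _ _
      exact hs (this.mem_of_pow_mem k h)
    haveI hpp : p.IsPrime := hmp ▸ Ideal.comap_isPrime _ _
    intro f
    induction f using MvPolynomial.induction_on with
    | C a =>
      obtain ⟨j, r, s, hs, hrs⟩ := hpi a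
      refine ⟨j, MvPolynomial.C r, s, hs, ?_⟩
      rw [← map_pow, ← map_mul, ← MvPolynomial.C_pow, hC, hC, ← MvPolynomial.C_mul]
      show MvPolynomial.map _ _ = MvPolynomial.map _ _
      rw [MvPolynomial.map_C, MvPolynomial.map_C, Ideal.Quotient.eq.2 hrs]
    | add f g hf hg =>
      obtain ⟨j₁, r₁, s₁, hs₁, h₁⟩ := hf
      obtain ⟨j₂, r₂, s₂, hs₂, h₂⟩ := hg
      refine ⟨j₁ + j₂, r₁ ^ q ^ j₂ * MvPolynomial.C (s₂ ^ q ^ j₁) +
        r₂ ^ q ^ j₁ * MvPolynomial.C (s₁ ^ q ^ j₂), s₁ ^ q ^ j₂ * s₂ ^ q ^ j₁,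
        fun h => (hpp.mem_or_mem h).elim (hppow _ _ hs₁) (hppow _ _ hs₂), ?_⟩
      have e₁ := raise j₂ j₁ r₁ s₁ f hs₁ h₁
      have e₂ := raise j₁ j₂ r₂ s₂ g hs₂ h₂
      rw [add_comm j₂ j₁] at e₂
      simp only [map_mul, map_add]
      rw [add_pow_expChar_pow, mul_add, ← e₁, ← e₂]
      ring
    | mul_X f i hf =>
      obtain ⟨j, r, s, hs, h⟩ := hf
      refine ⟨j, r * MvPolynomial.X i ^ q ^ j, s, hs, ?_⟩
      have hX : algebraMap S T (MvPolynomial.X i) = MvPolynomial.X i := MvPolynomial.map_X _ i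
      simp only [map_mul, map_pow, hX, mul_pow, ← h]
      ring
  have hker : ∀ P' : Ideal T, P'.IsPrime → P'.comap (algebraMap S T) = P →
      ∀ a b : T, φ a = φ b → a - b ∈ P' := by
    intro P' hP' hP'P a b hab
    have hmem : a - b ∈ Ideal.map (MvPolynomial.C : R' →+* T) m :=
      MvPolynomial.mem_map_C_iff.2 fun e => by
        have h : φ (a - b) = 0 := by rw [map_sub, hab, sub_self]
        have := congrArg (MvPolynomial.coeff e) h
        rw [MvPolynomial.coeff_zero] at this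
        rw [← Ideal.Quotient.eq_zero_iff_mem]
        exact (MvPolynomial.coeff_map _ _ _).symm.trans this
    exact Ideal.map_le_iff_le_comap.2 (hover P' hP' hP'P).ge hmem
  obtain ⟨M, hM⟩ := RingHom.IsIntegral.comap_surjective
    (algebraMap_isIntegral_iff.2 hTint) hinjT ⟨P, ‹_›⟩
  have hMP : M.asIdeal.comap (algebraMap S T) = P := congrArg PrimeSpectrum.asIdeal hM
  refine ⟨T, inferInstance, inferInstance, inferInstance, hinjT, hTint, inferInstance, ?_,
    M.asIdeal, M.2, q, ?_, hMP, ?_, ?_⟩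
  · intro f
    induction f using MvPolynomial.induction_on with
    | C a =>
      obtain ⟨x, b, hb, hxb⟩ := hbir a
      exact ⟨MvPolynomial.C x, MvPolynomial.C b, (MvPolynomial.C_injective _ _).ne_iff' (map_zero _) |>.2 hb,
        by rw [hC, hC, ← MvPolynomial.C_mul, hxb]⟩
    | add f g hf hg =>
      obtain ⟨a₁, b₁, hb₁, h₁⟩ := hf
      obtain ⟨a₂, b₂, hb₂, h₂⟩ := hg
      exact ⟨a₁ * b₂ + a₂ * b₁, b₁ * b₂, mul_ne_zero hb₁ hb₂, by
        simp only [map_mul, map_add, ← h₁, ← h₂]; ring⟩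
    | mul_X f i hf =>
      obtain ⟨a, b, hb, h⟩ := hf
      exact ⟨a * MvPolynomial.X i, b, hb, by
        rw [map_mul, ← h, show algebraMap S T (MvPolynomial.X i) = MvPolynomial.X i from
          MvPolynomial.map_X _ i, mul_assoc]⟩
  · have hle : m = M.asIdeal.comap MvPolynomial.C := (hover M.asIdeal M.2 hMP).symm
    exact expChar_of_injective_ringHom
      (Ideal.quotientMap_injective' (H := hle.le) (hle.symm.le)) q
  · intro P' hP' hP'P
    have key : ∀ A B : Ideal T, A.IsPrime → B.IsPrime → A.comap (algebraMap S T) = P →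
        B.comap (algebraMap S T) = P → A ≤ B := by
      intro A B hA hB hAP hBP f hf
      obtain ⟨j, r, s, hs, h⟩ := hkey f
      rw [← map_pow, ← map_mul] at h
      have h1 := hker A hA hAP _ _ h
      have hfj : f ^ q ^ j ∈ A := Ideal.pow_mem_of_mem _ hf _ (pow_pos (expChar_pos (R' ⧸ m) q) _)
      have hr : algebraMap S T r ∈ A := by simpa using A.sub_mem (A.mul_mem_left (algebraMap S T (MvPolynomial.C s)) hfj) h1
      have hrP : r ∈ P := hAP ▸ hr
      have hrB : algebraMap S T r ∈ B := by rw [← hBP] at hrP; exact hrP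
      have h2 := hker B hB hBP _ _ h
      have h3 : algebraMap S T (MvPolynomial.C s) * f ^ q ^ j ∈ B := by simpa using B.add_mem h2 hrB
      refine hB.mem_of_pow_mem (q ^ j) ((hB.mem_or_mem h3).resolve_left fun hsB => hs ?_)
      rw [← hP, ← hBP]
      exact hsB
    exact le_antisymm (key _ _ hP' M.2 hP'P hMP) (key _ _ M.2 hP' hMP hP'P)
  · intro f
    obtain ⟨j, r, s, hs, h⟩ := hkey f
    rw [← map_pow, ← map_mul] at h
    exact ⟨j, r, MvPolynomial.C s, fun hsP => hs (hP ▸ hsP), hker M.asIdeal M.2 hMP _ _ h⟩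

/-- A ring map which becomes bijective after inverting `r` is open on `D(r)`. -/
theorem image_mem_nhds_of_away {B A : Type u} [CommRing B] [CommRing A] (ι : B →+* A)
    (hι : Function.Injective ι) (r : B) (hr : ∀ a : A, ∃ (N : ℕ) (b : B), ι b = ι r ^ N * a)
    (Q : PrimeSpectrum A) (hrQ : ι r ∉ Q.asIdeal) :
    ∀ U ∈ 𝓝 Q, comap ι '' U ∈ 𝓝 (comap ι Q) := by
  intro U hU
  obtain ⟨_, ⟨h, rfl⟩, hh, hsub⟩ := isTopologicalBasis_basic_opens.mem_nhds_iff.1 hU
  obtain ⟨N, b, hb⟩ := hr h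
  refine Filter.mem_of_superset ((basicOpen (r * b)).isOpen.mem_nhds ?_) ?_
  · show r * b ∉ Q.asIdeal.comap ι
    rw [Ideal.mem_comap, map_mul, hb]
    exact fun hmem : ι r * (ι r ^ N * h) ∈ Q.asIdeal => (Q.2.mem_or_mem hmem).elim hrQ fun h' => (Q.2.mem_or_mem h').elim
      (fun h'' => hrQ (Q.2.mem_of_pow_mem _ h'')) hh
  · intro P hP
    have hrP : r ∉ P.asIdeal := fun h' => hP (P.asIdeal.mul_mem_right _ h')
    obtain ⟨P', hP', hP'P⟩ := (Ideal.comap_map_eq_self_iff_of_isPrime (f := ι) P.asIdeal).1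
      (le_antisymm (fun x hx => by
        rw [Ideal.mem_comap] at hx
        have : ∀ y ∈ P.asIdeal.map ι, ∃ (M : ℕ) (z : B), z ∈ P.asIdeal ∧ ι z = ι r ^ M * y := by
          intro y hy
          refine Submodule.span_induction ?_ ⟨0, 0, zero_mem _, by simp⟩ ?_ ?_ hy
          · rintro _ ⟨z, hz, rfl⟩
            exact ⟨0, z, hz, by simp⟩
          · rintro y₁ y₂ - - ⟨M₁, z₁, hz₁, e₁⟩ ⟨M₂, z₂, hz₂, e₂⟩
            exact ⟨M₁ + M₂, r ^ M₂ * z₁ + r ^ M₁ * z₂,
              add_mem (P.asIdeal.mul_mem_left _ hz₁) (P.asIdeal.mul_mem_left _ hz₂), by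
                simp only [map_add, map_mul, map_pow, e₁, e₂, pow_add]; ring⟩
          · rintro a y - ⟨M, z, hz, e⟩
            obtain ⟨K, c, hc⟩ := hr a
            exact ⟨K + M, c * z, P.asIdeal.mul_mem_left _ hz, by
              rw [map_mul, hc, e, smul_eq_mul, pow_add]; ring⟩
        obtain ⟨M, z, hz, e⟩ := this _ hx
        rw [← map_pow, ← map_mul] at e
        exact (P.2.mem_or_mem ((hι e) ▸ hz)).resolve_left fun h' =>
          hrP (P.2.mem_of_pow_mem _ h')) Ideal.le_comap_map)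
    refine ⟨⟨P', hP'⟩, hsub ?_, PrimeSpectrum.ext hP'P⟩
    intro (hh' : h ∈ P')
    apply hP
    show r * b ∈ P.asIdeal
    rw [← hP'P, Ideal.mem_comap, map_mul, hb]
    exact P'.mul_mem_left _ (P'.mul_mem_left _ hh')

theorem image_mem_nhds_comp {A B C : Type u} [CommRing A] [CommRing B] [CommRing C] {f : A →+* B}
    {g : B →+* C} {Q : PrimeSpectrum C}
    (hg : ∀ U ∈ 𝓝 Q, comap g '' U ∈ 𝓝 (comap g Q))
    (hf : ∀ U ∈ 𝓝 (comap g Q), comap f '' U ∈ 𝓝 (comap f (comap g Q))) :
    ∀ U ∈ 𝓝 Q, comap (g.comp f) '' U ∈ 𝓝 (comap (g.comp f) Q) := by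
  intro U hU
  simpa [← Set.image_comp, comap_comp] using hf _ (hg U hU)

section qf

variable {A : Type u} [CommRing A] [Algebra R A]

theorem exists_subalgebra [Algebra.FiniteType R A] (Q : Ideal A) [Q.IsPrime]
    [Algebra.WeaklyQuasiFiniteAt R Q] :
    ∃ (B : Subalgebra R A) (r : B), Algebra.IsIntegral R B ∧ (r : A) ∉ Q ∧
      ∀ a : A, ∃ (N : ℕ) (b : B), (b : A) = (r : A) ^ N * a := by
  obtain ⟨B, hB, r, hrQ, hbij⟩ :=
    Algebra.QuasiFiniteAt.exists_fg_and_exists_notMem_and_awayMap_bijective (R := R) Q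
  haveI : Module.Finite R B := ⟨(Submodule.fg_top _).mpr hB⟩
  refine ⟨B, r, inferInstance, hrQ, fun a => ?_⟩
  obtain ⟨z, hz⟩ := hbij.2 (algebraMap A _ a)
  obtain ⟨⟨b, ⟨_, k, rfl⟩⟩, e⟩ := IsLocalization.surj (Submonoid.powers r) z
  have h1 := congrArg (Localization.awayMap B.val.toRingHom r) e
  rw [map_mul, hz, Localization.awayMap, IsLocalization.Away.map,
    IsLocalization.map_eq, IsLocalization.map_eq] at h1
  rw [← map_mul] at h1
  obtain ⟨⟨_, l, rfl⟩, hl⟩ :=
    (IsLocalization.eq_iff_exists (Submonoid.powers (B.val.toRingHom r)) _).1 h1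
  refine ⟨l + k, r ^ l * b, ?_⟩
  simp only [AlgHom.toRingHom_eq_coe, RingHom.coe_coe, Subalgebra.coe_val, SubmonoidClass.coe_pow,
    map_pow] at hl
  rw [MulMemClass.coe_mul, SubmonoidClass.coe_pow, ← hl, pow_add]
  ring

/-- A quasi-finite point over a unibranch point is a point of openness. -/
theorem isOpenAt_of_quasiFiniteAt [IsDomain A] [Algebra.FiniteType R A]
    (hinj : Function.Injective (algebraMap R A)) (Q : PrimeSpectrum A)
    [Algebra.WeaklyQuasiFiniteAt R Q.asIdeal] (hub : UB R (Q.asIdeal.comap (algebraMap R A))) :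
    ∀ U ∈ 𝓝 Q, comap (algebraMap R A) '' U ∈ 𝓝 (comap (algebraMap R A) Q) := by
  obtain ⟨B, r, hint, hrQ, hr⟩ := exists_subalgebra (R := R) Q.asIdeal
  rw [show algebraMap R A = B.val.toRingHom.comp (algebraMap R B) from rfl] at hub ⊢
  refine image_mem_nhds_comp (image_mem_nhds_of_away _ Subtype.val_injective r hr Q hrQ) ?_
  exact UnibranchCore.isOpenAt_of_isIntegral (fun x y h => hinj (congrArg Subtype.val h)) _ hub

/-- The same after adjoining variables. -/
theorem isOpenAt_poly_of_quasiFiniteAt [IsDomain A] [Algebra.FiniteType R A]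
    (hinj : Function.Injective (algebraMap R A)) (Q : Ideal A) [Q.IsPrime]
    [Algebra.WeaklyQuasiFiniteAt R Q] {n : ℕ} (Q' : PrimeSpectrum (MvPolynomial (Fin n) A))
    (hQ' : Q'.asIdeal.comap MvPolynomial.C = Q)
    (hub : UB (MvPolynomial (Fin n) R) (Q'.asIdeal.comap (MvPolynomial.map (algebraMap R A)))) :
    ∀ U ∈ 𝓝 Q', comap (MvPolynomial.map (algebraMap R A)) '' U ∈
      𝓝 (comap (MvPolynomial.map (algebraMap R A)) Q') := by
  obtain ⟨B, r, hint, hrQ, hr⟩ := exists_subalgebra (R := R) Q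
  let ι : MvPolynomial (Fin n) B →+* MvPolynomial (Fin n) A := MvPolynomial.map B.val.toRingHom
  have hι : Function.Injective ι := MvPolynomial.map_injective _ Subtype.val_injective
  have hfac : MvPolynomial.map (algebraMap R A) =
      ι.comp (algebraMap (MvPolynomial (Fin n) R) (MvPolynomial (Fin n) B)) := by
    refine RingHom.ext fun f => ?_
    show _ = MvPolynomial.map B.val.toRingHom (MvPolynomial.map (algebraMap R B) f)
    rw [MvPolynomial.map_map]
    rfl
  have hrι : ι (MvPolynomial.C r) = MvPolynomial.C (r : A) := MvPolynomial.map_C _ r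
  rw [hfac] at hub ⊢
  refine image_mem_nhds_comp (image_mem_nhds_of_away ι hι (MvPolynomial.C r) ?_ Q' ?_) ?_
  · intro f
    induction f using MvPolynomial.induction_on with
    | C a =>
      obtain ⟨N, b, hb⟩ := hr a
      exact ⟨N, MvPolynomial.C b, by simp [ι, hb]⟩
    | add f g hf hg =>
      obtain ⟨N₁, b₁, h₁⟩ := hf
      obtain ⟨N₂, b₂, h₂⟩ := hg
      exact ⟨N₁ + N₂, MvPolynomial.C r ^ N₂ * b₁ + MvPolynomial.C r ^ N₁ * b₂, by
        simp only [map_add, map_mul, map_pow, h₁, h₂, pow_add]; ring⟩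
    | mul_X f i hf =>
      obtain ⟨N, b, h⟩ := hf
      exact ⟨N, b * MvPolynomial.X i, by
        rw [map_mul, h, show ι (MvPolynomial.X i) = MvPolynomial.X i from MvPolynomial.map_X _ i,
          mul_assoc]⟩
  · rw [hrι]
    exact fun h => hrQ (hQ' ▸ h)
  · refine UnibranchCore.isOpenAt_of_isIntegral ?_ _ hub
    exact MvPolynomial.map_injective _ fun x y h => hinj (congrArg Subtype.val h)

end qf

section baseChange

/-- Two field extensions have a common extension. -/
theorem exists_common_field {k K₁ K₂ : Type u} [Field k] [Field K₁] [Field K₂] (g₁ : k →+* K₁)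
    (g₂ : k →+* K₂) : ∃ (L : Type u) (_ : Field L) (j₁ : K₁ →+* L) (j₂ : K₂ →+* L),
    j₁.comp g₁ = j₂.comp g₂ := by
  letI := g₁.toAlgebra
  letI := g₂.toAlgebra
  obtain ⟨M, hM⟩ := Ideal.exists_maximal (K₁ ⊗[k] K₂)
  letI := Ideal.Quotient.field M
  refine ⟨_, inferInstance, (Ideal.Quotient.mk M).comp Algebra.TensorProduct.includeLeftRingHom,
    (Ideal.Quotient.mk M).comp
      (Algebra.TensorProduct.includeRight : K₂ →ₐ[k] K₁ ⊗[k] K₂).toRingHom, ?_⟩
  refine RingHom.ext fun x => congrArg (Ideal.Quotient.mk M) ?_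
  show algebraMap k K₁ x ⊗ₜ[k] (1 : K₂) = 1 ⊗ₜ[k] algebraMap k K₂ x
  rw [Algebra.algebraMap_eq_smul_one, Algebra.algebraMap_eq_smul_one, TensorProduct.smul_tmul]

theorem isOpenMap_map_algebraMap (R S : Type u) [CommRing R] [CommRing S] [Algebra R S]
    [Module.Flat R S] [Algebra.FinitePresentation R S] (n : ℕ) :
    IsOpenMap (comap (MvPolynomial.map (σ := Fin n) (algebraMap R S))) := by
  let e := Algebra.IsPushout.equiv R (MvPolynomial (Fin n) R) S (MvPolynomial (Fin n) S)
  haveI : Module.Flat (MvPolynomial (Fin n) R) (MvPolynomial (Fin n) S) :=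
    Module.Flat.of_linearEquiv e.symm.toLinearEquiv
  haveI : Algebra.FinitePresentation (MvPolynomial (Fin n) R) (MvPolynomial (Fin n) S) :=
    Algebra.FinitePresentation.equiv e
  exact PrimeSpectrum.isOpenMap_comap_of_hasGoingDown_of_finitePresentation
    (R := MvPolynomial (Fin n) R) (S := MvPolynomial (Fin n) S)

variable {A : Type u} [CommRing A] [Algebra R A] [IsDomain A] [Algebra.FiniteType R A]

/-- The morphism `Spec A[n] → Spec R[n]` is open over `Q`. -/
theorem isOpenAt_poly (Q : Ideal A) [Q.IsPrime] (hgub : GUB R (Q.comap (algebraMap R A)))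
    {e : ℕ} (a : Fin e → A)
    (hinj : Function.Injective (MvPolynomial.aeval a : MvPolynomial (Fin e) R →ₐ[R] A))
    (hqf : letI := (MvPolynomial.aeval a : MvPolynomial (Fin e) R →ₐ[R] A).toRingHom.toAlgebra
      Algebra.WeaklyQuasiFiniteAt (MvPolynomial (Fin e) R) Q)
    {n : ℕ} (Q' : PrimeSpectrum (MvPolynomial (Fin n) A))
    (hQ' : Q'.asIdeal.comap MvPolynomial.C = Q) :
    ∀ U ∈ 𝓝 Q', comap (MvPolynomial.map (algebraMap R A)) '' U ∈
      𝓝 (comap (MvPolynomial.map (algebraMap R A)) Q') := by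
  let S := MvPolynomial (Fin e) R
  letI : Algebra S A := (MvPolynomial.aeval a : MvPolynomial (Fin e) R →ₐ[R] A).toRingHom.toAlgebra
  haveI : IsScalarTower R S A :=
    IsScalarTower.of_algebraMap_eq' (MvPolynomial.aeval a).comp_algebraMap.symm
  haveI : Algebra.FiniteType S A := Algebra.FiniteType.of_restrictScalars_finiteType R S A
  haveI := hqf
  rw [show MvPolynomial.map (σ := Fin n) (algebraMap R A) =
      (MvPolynomial.map (algebraMap S A)).comp (MvPolynomial.map (algebraMap R S)) by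
    refine RingHom.ext fun f => ?_
    rw [RingHom.comp_apply, MvPolynomial.map_map, ← IsScalarTower.algebraMap_eq]]
  refine image_mem_nhds_comp (isOpenAt_poly_of_quasiFiniteAt hinj Q Q' hQ' ?_) ?_
  · refine (GUB.poly (GUB.poly hgub e (Q.comap (algebraMap S A)) ?_) n _ ?_).ub
    · rw [Ideal.comap_comap]
      congr 1
      exact (IsScalarTower.algebraMap_eq R S A).symm
    · subst hQ'
      rw [Ideal.comap_comap, Ideal.comap_comap]
      congr 1
      exact RingHom.ext fun x => MvPolynomial.map_C _ x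
  · exact fun U hU => (isOpenMap_map_algebraMap R S n).image_mem_nhds hU

/-- **Universal openness** at a point over a geometrically unibranch point: for every base
change, `Spec (C ⊗ A) → Spec C` is open at each point over `Q`. -/
theorem isOpenAt_baseChange (Q : Ideal A) [Q.IsPrime] (hgub : GUB R (Q.comap (algebraMap R A)))
    {e : ℕ} (a : Fin e → A)
    (hinj : Function.Injective (MvPolynomial.aeval a : MvPolynomial (Fin e) R →ₐ[R] A))
    (hqf : letI := (MvPolynomial.aeval a : MvPolynomial (Fin e) R →ₐ[R] A).toRingHom.toAlgebra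
      Algebra.WeaklyQuasiFiniteAt (MvPolynomial (Fin e) R) Q)
    {C : Type u} [CommRing C] [Algebra R C] (P : PrimeSpectrum (C ⊗[R] A))
    (hP : P.asIdeal.comap (Algebra.TensorProduct.includeRight : A →ₐ[R] C ⊗[R] A).toRingHom = Q) :
    ∀ U ∈ 𝓝 P, comap (algebraMap C (C ⊗[R] A)) '' U ∈
      𝓝 (comap (algebraMap C (C ⊗[R] A)) P) := by
  intro U hU
  obtain ⟨_, ⟨h, rfl⟩, hh, hsub⟩ := isTopologicalBasis_basic_opens.mem_nhds_iff.1 hU
  obtain ⟨s, hs⟩ := TensorProduct.exists_finset (R := R) h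
  let n := s.card
  let c : Fin n → C := fun i => (s.equivFin.symm i).1.1
  let b : Fin n → A := fun i => (s.equivFin.symm i).1.2
  let ir : A →+* C ⊗[R] A := (Algebra.TensorProduct.includeRight : A →ₐ[R] C ⊗[R] A).toRingHom
  let ψ : MvPolynomial (Fin n) A →+* C ⊗[R] A :=
    MvPolynomial.eval₂Hom ir fun i => c i ⊗ₜ 1
  let χ : MvPolynomial (Fin n) R →+* C := MvPolynomial.eval₂Hom (algebraMap R C) c
  let η : MvPolynomial (Fin n) R →+* MvPolynomial (Fin n) A := MvPolynomial.map (algebraMap R A)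
  have hcomm : ψ.comp η = (algebraMap C (C ⊗[R] A)).comp χ := by
    refine MvPolynomial.ringHom_ext (fun r => ?_) fun i => ?_
    · show ψ (η (MvPolynomial.C r)) = _
      simp [ψ, η, χ, ir]
    · show ψ (η (MvPolynomial.X i)) = _
      simp [ψ, η, χ, Algebra.TensorProduct.algebraMap_apply]
  let h₁ : MvPolynomial (Fin n) A := ∑ i, MvPolynomial.X i * MvPolynomial.C (b i)
  have hψ : ψ h₁ = h := by
    rw [hs, ← Finset.sum_coe_sort s]
    simp only [h₁, map_sum, map_mul]
    refine Fintype.sum_equiv s.equivFin.symm _ _ fun i => ?_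
    simp [ψ, ir, c, b]
  let Q₁ := comap ψ P
  have hQ₁ : Q₁.asIdeal.comap MvPolynomial.C = Q := by
    rw [← hP]
    show Ideal.comap _ (Ideal.comap ψ _) = _
    rw [Ideal.comap_comap]
    congr 1
    exact RingHom.ext fun x => MvPolynomial.eval₂Hom_C _ _ x
  have hV := isOpenAt_poly Q hgub a hinj hqf Q₁ hQ₁ (basicOpen h₁)
    ((basicOpen h₁).isOpen.mem_nhds (show h₁ ∉ P.asIdeal.comap ψ by
      rw [Ideal.mem_comap, hψ]; exact hh))
  have hx : comap χ (comap (algebraMap C (C ⊗[R] A)) P) = comap η Q₁ := by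
    rw [← comap_comp_apply, ← comap_comp_apply, hcomm]
  refine Filter.mem_of_superset
    ((PrimeSpectrum.continuous_comap χ).continuousAt.preimage_mem_nhds (by rw [hx]; exact hV)) ?_
  rintro x ⟨y, hy, hyx⟩
  have hI : (comap χ x).asIdeal = x.asIdeal.comap χ := rfl
  have hJ : (comap χ x).asIdeal = y.asIdeal.comap η := by rw [← hyx]; rfl
  obtain ⟨L, _, j₁, j₂, hj⟩ := exists_common_field
    (Ideal.ResidueField.map (comap χ x).asIdeal x.asIdeal χ hI)
    (Ideal.ResidueField.map (comap χ x).asIdeal y.asIdeal η hJ)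
  let f₁ : C →+* L := j₁.comp (algebraMap C x.asIdeal.ResidueField)
  let f₂ : MvPolynomial (Fin n) A →+* L := j₂.comp (algebraMap _ y.asIdeal.ResidueField)
  have hagree : ∀ z, f₁ (χ z) = f₂ (η z) := fun z => by
    have := RingHom.congr_fun hj (algebraMap _ (comap χ x).asIdeal.ResidueField z)
    rw [RingHom.comp_apply, RingHom.comp_apply, Ideal.ResidueField.map_algebraMap,
      Ideal.ResidueField.map_algebraMap] at this
    exact this
  letI : Algebra R L := (f₁.comp (algebraMap R C)).toAlgebra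
  let g₁ : C →ₐ[R] L := { f₁ with commutes' := fun r => rfl }
  let g₂ : A →ₐ[R] L :=
    { f₂.comp MvPolynomial.C with
      commutes' := fun r => by
        have := hagree (MvPolynomial.C r)
        simp only [χ, η, MvPolynomial.eval₂Hom_C, MvPolynomial.map_C] at this
        exact this.symm }
  let Φ : C ⊗[R] A →ₐ[R] L := Algebra.TensorProduct.lift g₁ g₂ fun _ _ => Commute.all _ _
  have hΦ : Φ.toRingHom.comp ψ = f₂ := by
    refine MvPolynomial.ringHom_ext (fun r => ?_) fun i => ?_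
    · simp [ψ, ir, Φ, g₂]
    · have := hagree (MvPolynomial.X i)
      simp only [χ, η, MvPolynomial.eval₂Hom_X', MvPolynomial.map_X] at this
      simp [ψ, Φ, g₁, this]
  refine ⟨⟨RingHom.ker Φ.toRingHom, RingHom.ker_isPrime _⟩, hsub ?_, ?_⟩
  · intro (hmem : h ∈ RingHom.ker Φ.toRingHom)
    rw [RingHom.mem_ker, ← hψ, ← RingHom.comp_apply, hΦ, RingHom.comp_apply,
      map_eq_zero] at hmem
    exact hy (Ideal.algebraMap_residueField_eq_zero.1 hmem)
  · refine PrimeSpectrum.ext (Ideal.ext fun z => ?_)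
    show Φ (algebraMap C (C ⊗[R] A) z) = 0 ↔ _
    simp [Φ, g₁, f₁, Algebra.TensorProduct.algebraMap_apply]

end baseChange

end Groth.Agent.H46.UnibranchLift
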