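import Groth.Agent.H46.UnibranchLocal
import Mathlib.RingTheory.Polynomial.Nilpotent

/-!
# Geometric unibranchness of polynomial rings
-/

universe u

namespace Groth.Agent.H46.UnibranchPoly

open Groth.Agent.H46.UnibranchLift

variable {R O : Type u} [CommRing R] [CommRing O] [IsLocalRing O] (p : Ideal R) [p.IsPrime]

/-- From geometrically unibranch points to geometrically unibranch local rings. -/
theorem isGeomUnibranch_of_gub (f : R →+* CAlg2.red O) (hf : Function.Injective f)
    (hp : ∀ s : R, s ∉ p ↔ IsUnit (f s))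
    (hsurj : ∀ z : CAlg2.red O, ∃ r s : R, s ∉ p ∧ f s * z = f r) (hG : GUB R p) :
    CAlg2.IsGeomUnibranch O := by
  obtain ⟨R', _, _, _, hinj', _, _, hbir, m, _, q, _, hmp, huniq, hpi⟩ := hG
  haveI : IsDomain R := hinj'.isDomain _
  let A := CAlg2.red O
  letI : Algebra R A := f.toAlgebra
  haveI : IsLocalization p.primeCompl A := by
    constructor
    constructor
    · exact fun y => (hp y.1).1 y.2
    · intro z
      obtain ⟨r, s, hs, h⟩ := hsurj z
      exact ⟨(r, ⟨s, hs⟩), by rw [mul_comm]; exact h⟩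
    · exact fun {x y} h => ⟨1, by rw [hf h]⟩
  haveI hdom : IsDomain A :=
    IsLocalization.isDomain_of_le_nonZeroDivisors A p.primeCompl_le_nonZeroDivisors
  haveI : IsLocalRing A := IsLocalization.AtPrime.isLocalRing A p
  let K := FractionRing A
  let N := CAlg2.normRed O
  let ι : R →+* K := (algebraMap A K).comp f
  have hι : Function.Injective ι := (IsFractionRing.injective A K).comp hf
  -- `R'` inside `K`
  let L := FractionRing R'
  let jL : R →+* L := (algebraMap R' L).comp (algebraMap R R')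
  letI : Algebra R L := jL.toAlgebra
  have hjL : Function.Injective jL := (IsFractionRing.injective R' L).comp hinj'
  haveI : IsFractionRing R L := by
    constructor
    constructor
    · rintro ⟨y, hy⟩
      exact isUnit_iff_ne_zero.2 ((map_ne_zero_iff jL hjL).2 (nonZeroDivisors.ne_zero hy))
    · intro z
      obtain ⟨x, y, hy, rfl⟩ := IsFractionRing.div_surjective (A := R') z
      obtain ⟨a, b, hb, hab⟩ := hbir x
      obtain ⟨c, d, hd, hcd⟩ := hbir y
      have hy0 : y ≠ 0 := nonZeroDivisors.ne_zero hy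
      have hc : c ≠ 0 := by
        rintro rfl
        rw [map_zero] at hcd
        rcases mul_eq_zero.1 hcd with h | h
        · exact hd (hinj' (h.trans (map_zero _).symm))
        · exact hy0 h
      refine ⟨(a * d, ⟨b * c, mem_nonZeroDivisors_of_ne_zero (mul_ne_zero hb hc)⟩), ?_⟩
      show algebraMap R' L x / algebraMap R' L y *
          (algebraMap R' L) (algebraMap R R' (b * c)) = (algebraMap R' L) (algebraMap R R' (a * d))
      have hyL : algebraMap R' L y ≠ 0 :=
        (map_ne_zero_iff _ (IsFractionRing.injective R' L)).2 hy0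
      rw [div_mul_eq_mul_div, div_eq_iff hyL]
      simp only [map_mul]
      rw [← hab, ← hcd]
      simp only [map_mul]
      ring
    · intro x y h
      exact ⟨1, by simpa using hjL h⟩
  let φ : R' →+* K := (IsFractionRing.lift (K := L) hι).comp (algebraMap R' L)
  have hφinj : Function.Injective φ :=
    ((IsFractionRing.lift (K := L) hι).injective).comp (IsFractionRing.injective R' L)
  have hφ : φ.comp (algebraMap R R') = ι :=
    RingHom.ext fun r => IsFractionRing.lift_algebraMap (K := L) hι r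
  have hφN : ∀ x : R', φ x ∈ integralClosure A K := fun x => by
    obtain ⟨g, hg, hgx⟩ := Algebra.IsIntegral.isIntegral (R := R) x
    refine ⟨g.map f, hg.map _, ?_⟩
    rw [Polynomial.eval₂_map]
    show Polynomial.eval₂ ι (φ x) g = 0
    rw [← hφ, ← Polynomial.hom_eval₂, hgx, map_zero]
  let φN : R' →+* N := φ.codRestrict (integralClosure A K).toSubring hφN
  have hclear : ∀ z : N, ∃ (s : R) (w : R'), s ∉ p ∧ φN w = algebraMap A N (f s) * z := fun z => by
    obtain ⟨⟨s, hs⟩, g, hg, hgz⟩ := IsIntegral.exists_multiple_integral_of_isLocalization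
      p.primeCompl (z : K) z.2
    -- `s z` is integral over `R'`, hence in `R'`
    letI : Algebra R' L := inferInstance
    let zL := (z : K)
    obtain ⟨a, b, hb, hab⟩ := IsFractionRing.div_surjective (A := A) zL
    obtain ⟨r, t, ht, hrt⟩ := hsurj a
    obtain ⟨r', t', ht', hrt'⟩ := hsurj b
    have hr' : r' ≠ 0 := by
      rintro rfl
      rw [map_zero] at hrt'
      exact nonZeroDivisors.ne_zero hb (((hp t').1 ht').mul_right_eq_zero.1 hrt')
    have ht0 : t ≠ 0 := fun h => ht (h ▸ p.zero_mem)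
    let zR : L := jL (s * r * t') / jL (r' * t)
    have hzR : IsFractionRing.lift (K := L) hι zR = ι s * (z : K) := by
      have hbK : algebraMap A K b ≠ 0 :=
        (map_ne_zero_iff _ (IsFractionRing.injective A K)).2 (nonZeroDivisors.ne_zero hb)
      rw [map_div₀, show ∀ x, IsFractionRing.lift (K := L) hι (jL x) = ι x from fun x =>
          IsFractionRing.lift_algebraMap (K := L) hι x,
        show ∀ x, IsFractionRing.lift (K := L) hι (jL x) = ι x from fun x =>
          IsFractionRing.lift_algebraMap (K := L) hι x,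
        div_eq_iff ((map_ne_zero_iff ι hι).2 (mul_ne_zero hr' ht0)),
        show (z : K) = algebraMap A K a / algebraMap A K b from hab.symm]
      show algebraMap A K (f (s * r * t')) = algebraMap A K (f s) *
        (algebraMap A K a / algebraMap A K b) * algebraMap A K (f (r' * t))
      rw [← mul_div_assoc, div_mul_eq_mul_div, eq_div_iff hbK]
      simp only [map_mul, ← hrt, ← hrt']
      ring
    have hint : IsIntegral R' zR := by
      refine ⟨g.map (algebraMap R R'), hg.map _, (IsFractionRing.lift (K := L) hι).injective ?_⟩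
      rw [Polynomial.eval₂_map, map_zero, Polynomial.hom_eval₂, hzR,
        show (IsFractionRing.lift (K := L) hι).comp ((algebraMap R' L).comp (algebraMap R R')) = ι
          from hφ]
      rw [IsScalarTower.algebraMap_eq R A K, Submonoid.smul_def, Algebra.smul_def] at hgz
      exact hgz
    obtain ⟨w, hw⟩ := IsIntegrallyClosed.isIntegral_iff.1 hint
    refine ⟨s, w, hs, Subtype.ext ?_⟩
    show IsFractionRing.lift (K := L) hι (algebraMap R' L w) = ι s * (z : K)
    rw [hw, hzR]
  have hover : ∀ M : Ideal N, M.IsMaximal →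
      (M.comap φN) = m ∧ ∀ s : R, s ∉ p → algebraMap A N (f s) ∉ M := by
    intro M hM
    have hMA : M.comap (algebraMap A N) = IsLocalRing.maximalIdeal A :=
      IsLocalRing.eq_maximalIdeal (Ideal.isMaximal_comap_of_isIntegral_of_isMaximal M)
    have hmem : ∀ s : R, algebraMap A N (f s) ∈ M ↔ s ∈ p := fun s => by
      rw [← Ideal.mem_comap, hMA, IsLocalRing.mem_maximalIdeal, mem_nonunits_iff, ← hp, not_not]
    refine ⟨huniq _ (Ideal.comap_isPrime _ _) (Ideal.ext fun s => ?_), fun s hs h => hs ((hmem s).1 h)⟩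
    rw [Ideal.mem_comap, Ideal.mem_comap, ← hmem s,
      show φN (algebraMap R R' s) = algebraMap A N (f s) from
        Subtype.ext (RingHom.congr_fun hφ s)]
  have huniqN : ∀ M₁ M₂ : Ideal N, M₁.IsMaximal → M₂.IsMaximal → M₁ ≤ M₂ := by
    intro M₁ M₂ h₁ h₂ z hz
    obtain ⟨s, w, hs, hw⟩ := hclear z
    have hw₁ : φN w ∈ M₁ := hw ▸ M₁.mul_mem_left _ hz
    rw [← Ideal.mem_comap, (hover M₁ h₁).1, ← (hover M₂ h₂).1, Ideal.mem_comap, hw] at hw₁
    exact (h₂.isPrime.mem_or_mem hw₁).resolve_left ((hover M₂ h₂).2 s hs)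
  haveI : Nontrivial N := inferInstance
  obtain ⟨M₀, hM₀⟩ := Ideal.exists_maximal N
  refine ⟨⟨hdom, IsLocalRing.of_unique_max_ideal ⟨M₀, hM₀,
    fun M hM => le_antisymm (huniqN M M₀ hM hM₀) (huniqN M₀ M hM₀ hM)⟩⟩, fun M hM x => ?_⟩
  obtain ⟨z, rfl⟩ := Ideal.Quotient.mk_surjective x
  obtain ⟨s, w, hs, hw⟩ := hclear z
  obtain ⟨j, r, s', hs', hr⟩ := hpi w
  have hκ : Function.Injective (Ideal.quotientMap M φN (hover M hM).1.ge) :=
    Ideal.quotientMap_injective' (hover M hM).1.le
  haveI : ExpChar (N ⧸ M) q := expChar_of_injective_ringHom hκ q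
  refine ⟨j, ?_⟩
  rw [ringExpChar.eq (N ⧸ M) q]
  obtain ⟨u, hu⟩ := ((hp s').1 hs').mul (((hp s).1 hs).pow (q ^ j))
  obtain ⟨o, ho⟩ := Ideal.Quotient.mk_surjective (show A from f r * (↑u⁻¹ : A))
  refine ⟨o, ?_⟩
  show Ideal.Quotient.mk M (algebraMap A N (Ideal.Quotient.mk (nilradical O) o)) = _
  rw [ho, ← map_pow, Ideal.Quotient.eq]
  have h1 : φN (algebraMap R R' s' * w ^ q ^ j - algebraMap R R' r) ∈ M := by
    rw [← Ideal.mem_comap, (hover M hM).1]; exact hr
  rw [map_sub, map_mul, map_pow, hw,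
    show φN (algebraMap R R' s') = algebraMap A N (f s') from Subtype.ext (RingHom.congr_fun hφ s'),
    show φN (algebraMap R R' r) = algebraMap A N (f r) from Subtype.ext (RingHom.congr_fun hφ r)]
    at h1
  have h2 := M.mul_mem_left (algebraMap A N (↑u⁻¹ : A)) h1
  have e1 : algebraMap A N (↑u⁻¹ : A) *
      (algebraMap A N (f s') * (algebraMap A N (f s) * z) ^ q ^ j - algebraMap A N (f r)) =
      z ^ q ^ j - algebraMap A N (f r * ↑u⁻¹) := by
    have hu1 : algebraMap A N (↑u⁻¹ : A) *
        (algebraMap A N (f s') * algebraMap A N (f s) ^ q ^ j) = 1 := by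
      rw [← map_pow, ← map_mul, ← map_mul, ← hu, Units.inv_mul, map_one]
    rw [mul_sub, map_mul, mul_pow, mul_comm (algebraMap A N (f r))]
    linear_combination z ^ q ^ j * hu1
  rw [e1] at h2
  have h3 := M.neg_mem h2
  rwa [neg_sub] at h3

variable {R₀ : Type u} [CommRing R₀]

/-- Polynomial rings over geometrically unibranch local rings. -/
theorem isGeomUnibranch_mvPolynomial [Algebra R₀ O] (p₀ : Ideal R₀) [p₀.IsPrime]
    [IsLocalization.AtPrime O p₀] (hO : CAlg2.IsGeomUnibranch O) (n : ℕ)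
    (P : Ideal (MvPolynomial (Fin n) R₀)) [P.IsPrime] (hP : P.comap MvPolynomial.C = p₀)
    {O' : Type u} [CommRing O'] [IsLocalRing O'] [Algebra (MvPolynomial (Fin n) R₀) O']
    [IsLocalization.AtPrime O' P] : CAlg2.IsGeomUnibranch O' := by
  obtain ⟨𝔮, h𝔮, h𝔮p, hmin, -, hgub⟩ := UnibranchLocal.ub_gub_of_isLocalization p₀ hO.1
  let S₀ := MvPolynomial (Fin n) R₀
  let S := MvPolynomial (Fin n) (R₀ ⧸ 𝔮)
  let π : S₀ →+* S := MvPolynomial.map (Ideal.Quotient.mk 𝔮)
  have hπ : Function.Surjective π := MvPolynomial.map_surjective _ Ideal.Quotient.mk_surjective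
  have hker : ∀ x, π x = 0 ↔ ∀ e, MvPolynomial.coeff e x ∈ 𝔮 := fun x => by
    rw [MvPolynomial.ext_iff]
    refine forall_congr' fun e => ?_
    rw [show MvPolynomial.coeff e (π x) = Ideal.Quotient.mk 𝔮 (MvPolynomial.coeff e x) from
      MvPolynomial.coeff_map _ _ _, MvPolynomial.coeff_zero, Ideal.Quotient.eq_zero_iff_mem]
  have hkerP : ∀ x, π x = 0 → x ∈ P := by
    intro x hx
    have : x ∈ Ideal.map MvPolynomial.C p₀ :=
      MvPolynomial.mem_map_C_iff.2 fun e => h𝔮p ((hker x).1 hx e)
    exact Ideal.map_le_iff_le_comap.2 hP.ge this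
  haveI hP' : (P.map π).IsPrime :=
    Ideal.map_isPrime_of_surjective hπ fun x hx => hkerP x hx
  have hmemP : ∀ x, π x ∈ P.map π ↔ x ∈ P := fun x => by
    rw [← Ideal.mem_comap, Ideal.comap_map_of_surjective' _ hπ,
      sup_eq_left.2 (fun a ha => hkerP a ha)]
  have hG := (hgub hO).poly n (P.map π) (by
    refine Ideal.comap_injective_of_surjective _ Ideal.Quotient.mk_surjective ?_
    rw [Ideal.comap_map_of_surjective' _ Ideal.Quotient.mk_surjective, Ideal.mk_ker,
      sup_eq_left.2 h𝔮p, Ideal.comap_comap]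
    ext r
    rw [Ideal.mem_comap, RingHom.comp_apply, ← hP, Ideal.mem_comap, ← hmemP,
      show π (MvPolynomial.C r) = MvPolynomial.C (Ideal.Quotient.mk 𝔮 r) from MvPolynomial.map_C _ r])
  let g : S₀ →+* CAlg2.red O' := (Ideal.Quotient.mk (nilradical O')).comp (algebraMap S₀ O')
  haveI : IsLocalHom (Ideal.Quotient.mk (nilradical O')) := by
    haveI : Nontrivial (O' ⧸ nilradical O') := Ideal.Quotient.nontrivial_iff.2 fun e => by
      have : (1 : O') ∈ nilradical O' := e ▸ trivial
      exact not_isNilpotent_one (mem_nilradical.1 this)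
    exact IsLocalHom.of_surjective _ Ideal.Quotient.mk_surjective
  have hg : ∀ x, g x = 0 ↔ π x = 0 := by
    intro x
    show Ideal.Quotient.mk _ (algebraMap S₀ O' x) = 0 ↔ _
    rw [Ideal.Quotient.eq_zero_iff_mem, mem_nilradical]
    constructor
    · rintro ⟨k, hk⟩
      rw [← map_pow, IsLocalization.map_eq_zero_iff P.primeCompl] at hk
      obtain ⟨⟨c, hc⟩, hcx⟩ := hk
      have h1 : π c * π x ^ k = 0 := by rw [← map_pow, ← map_mul]; exact hcx ▸ map_zero π
      exact eq_zero_of_pow_eq_zero
        ((mul_eq_zero.1 h1).resolve_left fun h => hc (hkerP c h))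
    · intro hx
      have hc : ∀ c ∈ 𝔮, ∃ s ∉ p₀, IsNilpotent (s * c) := by
        intro c hc
        have hcn : algebraMap R₀ O c ∈ nilradical O := by
          rw [nilradical_eq_sInf]
          refine Ideal.mem_sInf.2 fun Q (hQ : Q.IsPrime) => ?_
          exact Ideal.mem_comap.1 (hmin (Q.comap (algebraMap R₀ O)) (Ideal.comap_isPrime _ _)
            (fun r hr => (IsLocalization.AtPrime.to_map_mem_maximal_iff O p₀ r).1
              (IsLocalRing.le_maximalIdeal hQ.ne_top hr)) hc)
        obtain ⟨k, hk⟩ := mem_nilradical.1 hcn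
        rw [← map_pow, IsLocalization.map_eq_zero_iff p₀.primeCompl] at hk
        obtain ⟨⟨s, hs⟩, hsc⟩ := hk
        refine ⟨s, hs, k + 1, ?_⟩
        rw [mul_pow, pow_succ s, pow_succ c, show s ^ k * s * (c ^ k * c) = s ^ k * (s * c ^ k) * c
          by ring, hsc]
        ring
      choose s hs hsn using hc
      classical
      let σ : R₀ := ∏ e ∈ x.support.attach, s _ ((hker x).1 hx e.1)
      have hσ : σ ∉ p₀ := fun h => by
        obtain ⟨e, -, he⟩ := (Ideal.IsPrime.prod_mem_iff (p := p₀)).1 h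
        exact hs _ _ he
      have hnil : IsNilpotent (MvPolynomial.C σ * x) := by
        refine MvPolynomial.isNilpotent_iff.2 fun e => ?_
        rw [MvPolynomial.coeff_C_mul]
        by_cases he : e ∈ x.support
        · obtain ⟨c, hc⟩ := Finset.dvd_prod_of_mem (fun e : x.support => s _ ((hker x).1 hx e.1))
            (Finset.mem_attach x.support ⟨e, he⟩)
          rw [show σ = s _ ((hker x).1 hx e) * c from hc, mul_right_comm]
          exact (Commute.all _ _).isNilpotent_mul_right (hsn _ _)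
        · rw [MvPolynomial.notMem_support_iff.1 he, mul_zero]; exact IsNilpotent.zero
      have h2 := hnil.map (algebraMap S₀ O')
      rw [map_mul] at h2
      have hu : IsUnit (algebraMap S₀ O' (MvPolynomial.C σ)) :=
        IsLocalization.map_units O' (⟨MvPolynomial.C σ, fun h => hσ (hP ▸ h)⟩ : P.primeCompl)
      exact hu.isNilpotent_mul_unit_of_commute_iff (Commute.all _ _) |>.1 (by rwa [mul_comm])
  let f : S →+* CAlg2.red O' := π.liftOfSurjective hπ ⟨g, fun x hx => (hg x).2 hx⟩
  have hfπ : ∀ x, f (π x) = g x := fun x =>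
    RingHom.liftOfRightInverse_comp_apply π _ _ ⟨g, fun x hx => (hg x).2 hx⟩ x
  refine isGeomUnibranch_of_gub (P.map π) f ?_ ?_ ?_ hG
  · rw [injective_iff_map_eq_zero]
    intro z hz
    obtain ⟨x, rfl⟩ := hπ z
    rw [hfπ] at hz
    exact (hg x).1 hz
  · intro z
    obtain ⟨x, rfl⟩ := hπ z
    rw [hmemP, hfπ]
    show _ ↔ IsUnit (Ideal.Quotient.mk (nilradical O') (algebraMap S₀ O' x))
    rw [isUnit_map_iff]
    exact (IsLocalization.AtPrime.isUnit_to_map_iff O' P x).symm
  · intro z
    obtain ⟨o, rfl⟩ := Ideal.Quotient.mk_surjective z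
    obtain ⟨⟨r, s⟩, h⟩ := IsLocalization.surj P.primeCompl o
    refine ⟨π r, π s, fun hs => s.2 ((hmemP _).1 hs), ?_⟩
    rw [hfπ, hfπ]
    show Ideal.Quotient.mk _ (algebraMap S₀ O' s) * _ = Ideal.Quotient.mk _ (algebraMap S₀ O' r)
    rw [← map_mul, mul_comm]
    exact congrArg _ h

end Groth.Agent.H46.UnibranchPoly
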