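import Groth.Agent.H46.OpenAt
import Groth.Agent.H46.FibreTrdeg
import Mathlib.AlgebraicGeometry.Fiber
import Mathlib.AlgebraicGeometry.Morphisms.UniversallyOpen

/-!
# Universal openness passes to specializations in a fibre
-/

universe u

open CategoryTheory AlgebraicGeometry Limits Topology

namespace Groth.Agent.H46.UnivOpenSpec

variable {X Y : Scheme.{u}}

/-- Universal openness at a point implies universal openness at its specializations in the same
fibre. -/
theorem isUnivOpenAt_of_specializes (f : X ⟶ Y) {x ζ : X} (hf : f ζ = f x) (hs : ζ ⤳ x)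
    (h : EGA43.IsUnivOpenAt f ζ) : EGA43.IsUnivOpenAt f x := by
  intro T g p hp U hU
  let t := pullback.snd f g p
  have ht : f x = g t := by
    rw [← hp]
    show (pullback.fst f g ≫ f) p = (pullback.snd f g ≫ g) p
    rw [pullback.condition]
  let y := g t
  let s := Spec.map (g.residueFieldMap t)
  let l : pullback (f.fiberToSpecResidueField y) s ⟶ pullback f g :=
    pullback.lift (pullback.fst _ _ ≫ f.fiberι y) (pullback.snd _ _ ≫ T.fromSpecResidueField t) (by
      have c₁ : f.fiberι y ≫ f = f.fiberToSpecResidueField y ≫ Y.fromSpecResidueField y :=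
        pullback.condition
      rw [Category.assoc, Category.assoc, c₁,
        ← g.SpecMap_residueFieldMap_fromSpecResidueField t, pullback.condition_assoc])
  have sq : IsPullback l (pullback.snd (f.fiberToSpecResidueField y) s) (pullback.snd f g)
      (T.fromSpecResidueField t) := by
    refine IsPullback.of_right ?_ (pullback.lift_snd _ _ _) (IsPullback.of_hasPullback f g)
    have h₁ : IsPullback (f.fiberι y) (f.fiberToSpecResidueField y) f (Y.fromSpecResidueField y) :=
      IsPullback.of_hasPullback f _
    rw [pullback.lift_fst, ← g.SpecMap_residueFieldMap_fromSpecResidueField t]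
    exact (IsPullback.of_hasPullback _ _).paste_horiz h₁
  obtain ⟨v, hv⟩ : t ∈ Set.range (T.fromSpecResidueField t) := by
    rw [Scheme.range_fromSpecResidueField]; rfl
  obtain ⟨q, hq₁, hq₂⟩ :=
    Scheme.Pullback.exists_preimage_pullback (f := pullback.snd f g) (g := T.fromSpecResidueField t)
      p v hv.symm
  let p₂ := sq.isoPullback.inv q
  have hp₁ : l p₂ = p := by
    rw [← Scheme.Hom.comp_apply, sq.isoPullback_inv_fst]; exact hq₁
  have hp₂ : f.fiberι y (pullback.fst (f.fiberToSpecResidueField y) s p₂) = x := by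
    rw [← hp, ← hp₁]
    show (pullback.fst _ _ ≫ f.fiberι y) p₂ = (l ≫ pullback.fst f g) p₂
    rw [pullback.lift_fst]
  obtain ⟨z, hz⟩ : ζ ∈ Set.range (f.fiberι y) := by
    rw [Scheme.Hom.range_fiberι]; exact hf.trans ht
  obtain ⟨p'', hp'', hpz⟩ := Flat.generalizingMap (pullback.fst (f.fiberToSpecResidueField y) s)
    (show z ⤳ pullback.fst (f.fiberToSpecResidueField y) s p₂ by
      rw [← (f.fiberι y).isEmbedding.isInducing.specializes_iff, hz, hp₂]; exact hs)
  have h1 : pullback.fst f g (l p'') = ζ := by
    rw [← hz, ← hpz]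
    show (l ≫ pullback.fst f g) p'' = (pullback.fst _ _ ≫ f.fiberι y) p''
    rw [pullback.lift_fst]
  have h2 : pullback.snd f g (l p'') = t := by
    rw [← Scheme.Hom.comp_apply, sq.w, Scheme.Hom.comp_apply]
    exact (Scheme.range_fromSpecResidueField t).le ⟨_, rfl⟩
  obtain ⟨O, hOU, hO, hpO⟩ := mem_nhds_iff.1 hU
  have hpO' : l p'' ∈ O := (hp''.map l.continuous).mem_open hO (by rw [hp₁]; exact hpO)
  have := h T g (l p'') h1 O (hO.mem_nhds hpO')
  rw [h2] at this
  exact Filter.mem_of_superset this (Set.image_mono hOU)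

end Groth.Agent.H46.UnivOpenSpec
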