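import Groth.Agent.H46.DimData
import Mathlib.RingTheory.Ideal.KrullsHeightTheorem

/-!
# Equidimensionality of the zero locus of a section
-/

universe u

open CategoryTheory AlgebraicGeometry Topology IsLocalRing
open Groth.Agent.Lib.Cyc Groth.Agent.H46.FibreTrdeg Groth.Agent.H46.DimData

namespace Groth.Agent.H46.ZeroLocusEquidim

variable {X Y : Scheme.{u}}

theorem mem_zeroLocus_fromSpecStalk (g : Γ(X, ⊤)) (p : X) (P : PrimeSpectrum (X.presheaf.stalk p)) :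
    X.fromSpecStalk p P ∈ X.zeroLocus ({g} : Set Γ(X, ⊤)) ↔
      X.presheaf.germ ⊤ p trivial g ∈ P.asIdeal := by
  rw [Scheme.zeroLocus_singleton, Set.mem_compl_iff, SetLike.mem_coe,
    ← not_iff_not, not_not]
  show P ∈ X.fromSpecStalk p ⁻¹ᵁ X.basicOpen g ↔ _
  rw [Scheme.Hom.preimage_basicOpen, show (X.fromSpecStalk p).app ⊤ g =
    (Scheme.ΓSpecIso (X.presheaf.stalk p)).inv (X.presheaf.germ ⊤ p trivial g) from
      congrArg (fun φ : Γ(X, ⊤) ⟶ Γ(Spec (X.presheaf.stalk p), ⊤) => φ g)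
        (Scheme.fromSpecStalk_appTop)]
  erw [basicOpen_eq_of_affine]
  rfl

/-- Maximal points of a zero locus have local rings of dimension at most one. -/
theorem sd_le_one [IsLocallyNoetherian X] (g : Γ(X, ⊤)) {p : X}
    (hp : p ∈ X.zeroLocus ({g} : Set Γ(X, ⊤)))
    (hmax : ∀ w ∈ X.zeroLocus ({g} : Set Γ(X, ⊤)), w ⤳ p → w = p) : sd p ≤ 1 := by
  set a := X.presheaf.germ ⊤ p trivial g with ha
  have hcl : X.fromSpecStalk p (closedPoint _) = p := Scheme.fromSpecStalk_closedPoint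
  have hmem : maximalIdeal (X.presheaf.stalk p) ∈ (Ideal.span {a}).minimalPrimes := by
    refine ⟨⟨inferInstance, (Ideal.span_singleton_le_iff_mem _).2 ?_⟩, fun Q hQ _ => ?_⟩
    · exact (mem_zeroLocus_fromSpecStalk g p (closedPoint _)).1 (hcl.symm ▸ hp)
    · let Q' : PrimeSpectrum (X.presheaf.stalk p) := ⟨Q, hQ.1⟩
      have h := hmax _ ((mem_zeroLocus_fromSpecStalk g p Q').2
        ((Ideal.span_singleton_le_iff_mem _).1 hQ.2)) (DimFun.fromSpecStalk_specializes_self p Q')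
      have : Q' = closedPoint _ := DimFun.fromSpecStalk_injective p (h.trans hcl.symm)
      exact (congrArg PrimeSpectrum.asIdeal this).ge
  have h1 := Ideal.height_le_one_of_isPrincipal_of_mem_minimalPrimes _ _ hmem
  have h2 : ringKrullDim (X.presheaf.stalk p) ≤ ((1 : ℕ∞) : WithBot ℕ∞) := by
    rw [← IsLocalRing.maximalIdeal_height_eq_ringKrullDim]
    exact WithBot.coe_le_coe.2 h1
  rw [ringKrullDim_stalk] at h2
  exact_mod_cast h2

variable [IsLocallyNoetherian Y] (f : X ⟶ Y) [LocallyOfFiniteType f] (g : Γ(X, ⊤)) {x : X}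

omit [IsLocallyNoetherian Y] in
theorem trd_lt_fe
    (hmax : ∀ z : X, f z = f x → IsMaxFib f z → z ∉ X.zeroLocus ({g} : Set Γ(X, ⊤))) {ξ : X}
    (hξ : ξ ∈ X.zeroLocus ({g} : Set Γ(X, ⊤))) (hs : ξ ⤳ x) : trd f ξ < fe f x := by
  obtain ⟨z, hξz, hz, hzx, hle⟩ := exists_specializes_trd_le f hs
  refine lt_of_le_of_lt hle ?_
  by_contra hge
  push Not at hge
  refine hmax z hz (fun w hw hwz => ?_) (hξz.mem_closed (X.zeroLocus_isClosed _) hξ)
  exact eq_of_trd_le f hwz hw ((trd_le_fe f (hwz.trans hzx)).trans hge)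

theorem component_data (hf : EGA43.IsEquidimAt f x)
    (hmax : ∀ z : X, f z = f x → IsMaxFib f z → z ∉ X.zeroLocus ({g} : Set Γ(X, ⊤))) {p : X}
    (hp : p ∈ X.zeroLocus ({g} : Set Γ(X, ⊤)))
    (hpmax : ∀ w ∈ X.zeroLocus ({g} : Set Γ(X, ⊤)), w ⤳ p → w = p) (hs : p ⤳ x) :
    DimFun.IsMaxPt (f p) ∧ trd f p + 1 = fe f x ∧ sd p = 1 := by
  haveI := LocallyOfFiniteType.isLocallyNoetherian f
  obtain ⟨ξ, hξp, hξ⟩ := DimFun.exists_isMaxPt_specializes p
  obtain ⟨hfξ, htrd⟩ := components_of_isEquidimAt f hf ξ hξ (hξp.trans hs)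
  have hlt := trd_lt_fe f g hmax hp hs
  have hne : ξ ≠ p := fun e => by rw [e] at htrd; omega
  have hsd := sd_le_one g hp hpmax
  have hchain : ∀ z, ξ ⤳ z → z ⤳ p → z ≠ ξ → z = p := fun z h1 h2 hzξ => by
    by_contra hzp
    have q1 := qd_lt h2 hξp h1 (Ne.symm hzξ)
    have q2 := qd_lt (specializes_refl p) h2 h2 hzp
    have q3 := qd_le_sd hξp
    omega
  have hfp : f p = f ξ := by
    by_contra hfne
    obtain ⟨z, h1, h2, h3, h4⟩ := exists_specializes_trd_le f hξp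
    have := hchain z h1 h3 (fun e => hfne (by rw [← h2, e]))
    rw [this] at h4
    omega
  refine ⟨hfp ▸ hfξ, ?_, ?_⟩
  · obtain ⟨a, ha⟩ := FieldDim.exists_fiberι_eq f ξ (f p) hfp.symm
    obtain ⟨b, hb⟩ := FieldDim.exists_fiberι_eq f p (f p) rfl
    have hab : a ⤳ b := by rw [FieldDim.fiber_specializes_iff, ha, hb]; exact hξp
    obtain ⟨c, hac, hcb, hc⟩ := DimFun.exists_step_above
      (FieldDim.isDimFun_fdelta (K := Y.residueField (f p)) (f.fiberToSpecResidueField (f p))) hab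
      (fun e => hne (by rw [← ha, e, hb]))
    rw [fdelta_fiber, fdelta_fiber, hb] at hc
    rcases eq_or_ne (f.fiberι (f p) c) ξ with e | e
    · rw [e] at hc
      omega
    · have := hchain _ ((specializes_of_eq ha.symm).trans (hac.map (f.fiberι (f p)).continuous))
        ((hcb.map (f.fiberι (f p)).continuous).trans (specializes_of_eq hb)) e
      rw [this] at hc
      omega
  · refine le_antisymm hsd ?_
    have := qd_lt (specializes_refl p) hξp hξp hne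
    have := qd_le_sd hξp
    omega

theorem zeroLocus_equidim (hf : EGA43.IsEquidimAt f x) (hgx : x ∈ X.zeroLocus ({g} : Set Γ(X, ⊤)))
    (hmax : ∀ z : X, f z = f x → IsMaxFib f z → z ∉ X.zeroLocus ({g} : Set Γ(X, ⊤)))
    (w : ↥(Scheme.IdealSheafData.vanishingIdeal
      ⟨X.zeroLocus ({g} : Set Γ(X, ⊤)), X.zeroLocus_isClosed _⟩).subscheme)
    (hw : (Scheme.IdealSheafData.vanishingIdeal
      ⟨X.zeroLocus ({g} : Set Γ(X, ⊤)), X.zeroLocus_isClosed _⟩).subschemeι w = x) :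
    EGA43.IsEquidimAt ((Scheme.IdealSheafData.vanishingIdeal
      ⟨X.zeroLocus ({g} : Set Γ(X, ⊤)), X.zeroLocus_isClosed _⟩).subschemeι ≫ f) w ∧
      FlatMor.localDim ↥(X.zeroLocus ({g} : Set Γ(X, ⊤)) ∩ f ⁻¹' {f x}) ⟨x, hgx, rfl⟩ + 1 =
        FlatMor.fibreDimAt f x := by
  haveI := LocallyOfFiniteType.isLocallyNoetherian f
  let i := (Scheme.IdealSheafData.vanishingIdeal
    (⟨X.zeroLocus ({g} : Set Γ(X, ⊤)), X.zeroLocus_isClosed _⟩ :
      TopologicalSpace.Closeds X)).subschemeι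
  have hr : Set.range i = X.zeroLocus ({g} : Set Γ(X, ⊤)) := by
    rw [Scheme.IdealSheafData.range_subschemeι, Scheme.IdealSheafData.coe_support_vanishingIdeal]
    rfl
  haveI : LocallyOfFiniteType (i ≫ f) := inferInstance
  have key : ∀ v, DimFun.IsMaxPt v → v ⤳ w →
      DimFun.IsMaxPt ((i ≫ f) v) ∧ trd (i ≫ f) v + 1 = fe f x := fun v hv hvw => by
    have := component_data f g hf hmax (hr.le ⟨v, rfl⟩) (fun z hz hzv => by
      obtain ⟨z', rfl⟩ := hr.ge hz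
      rw [hv z' (i.isEmbedding.isInducing.specializes_iff.1 hzv)])
      (hw ▸ hvw.map i.continuous)
    rw [trd_comp]
    exact ⟨this.1, this.2.1⟩
  obtain ⟨v₀, hv₀w, hv₀⟩ := DimFun.exists_isMaxPt_specializes w
  have hv := (key v₀ hv₀ hv₀w).2
  have hfe : fe (i ≫ f) w + 1 = fe f x := by
    refine le_antisymm ?_ (hv ▸ Nat.succ_le_succ (trd_le_fe (i ≫ f) hv₀w))
    obtain ⟨ζ, -, hζw, -, he⟩ := exists_fe_eq (i ≫ f) w
    rw [← he, trd_comp]
    exact trd_lt_fe f g hmax (hr.le ⟨ζ, rfl⟩) (hw ▸ hζw.map i.continuous)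
  refine ⟨isEquidimAt_of_components (i ≫ f) w fun v hv hvw => ⟨(key v hv hvw).1, ?_⟩, ?_⟩
  · have := (key v hv hvw).2
    omega
  · subst hw
    have h := localDim_range_inter f i w
    have h' : FlatMor.localDim ↥(X.zeroLocus ({g} : Set Γ(X, ⊤)) ∩ f ⁻¹' {f (i w)})
        ⟨i w, hgx, rfl⟩ = FlatMor.fibreDimAt (i ≫ f) w :=
      (localDim_congr (congrArg (· ∩ f ⁻¹' {f (i w)}) hr) (i w) _ ⟨hgx, rfl⟩).symm.trans h
    rw [show FlatMor.localDim ↥(X.zeroLocus ({g} : Set Γ(X, ⊤)) ∩ f ⁻¹' {f (i w)})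
      ⟨i w, hgx, rfl⟩ = _ from h', fibreDimAt_eq, fibreDimAt_eq, ← hfe]
    push_cast
    rfl

theorem ringKrullDim_component (hf : EGA43.IsEquidimAt f x)
    (hgx : x ∈ X.zeroLocus ({g} : Set Γ(X, ⊤)))
    (hmax : ∀ z : X, f z = f x → IsMaxFib f z → z ∉ X.zeroLocus ({g} : Set Γ(X, ⊤)))
    {Z : Set ↥(X.zeroLocus ({g} : Set Γ(X, ⊤)))} (hZ : Z ∈ irreducibleComponents _)
    (hxZ : (⟨x, hgx⟩ : ↥(X.zeroLocus ({g} : Set Γ(X, ⊤)))) ∈ Z)
    (ξ : ↥(X.zeroLocus ({g} : Set Γ(X, ⊤)))) (hξ : closure {ξ} = Z) :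
    ringKrullDim (X.presheaf.stalk (ξ : X)) = 1 := by
  haveI := LocallyOfFiniteType.isLocallyNoetherian f
  have hmaxξ : ∀ y : ↥(X.zeroLocus ({g} : Set Γ(X, ⊤))), y ⤳ ξ → y = ξ := fun y hy => by
    subst hξ
    have hle : closure {ξ} ⊆ closure {y} := specializes_iff_closure_subset.1 hy
    have h1 : closure {y} ⊆ closure {ξ} := hZ.2 isIrreducible_singleton.closure hle
    exact (hy.antisymm (specializes_iff_closure_subset.2 h1)).eq
  have hs : (ξ : X) ⤳ x :=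
    ((specializes_iff_mem_closure.2 (hξ.symm ▸ hxZ) :
      ξ ⤳ (⟨x, hgx⟩ : ↥(X.zeroLocus ({g} : Set Γ(X, ⊤)))))).map continuous_subtype_val
  have := (component_data f g hf hmax ξ.2 (fun y hy hyξ =>
    congrArg Subtype.val (hmaxξ ⟨y, hy⟩ ((subtype_specializes_iff _ _).2 hyξ))) hs).2.2
  rw [ringKrullDim_stalk, this]
  rfl

end Groth.Agent.H46.ZeroLocusEquidim
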